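import Mathlib

/-!
Helper lemmas on étale / unramified local homomorphisms (helper48).
-/

set_option autoImplicit false
universe u

namespace Groth.Agent.H48

/-- A local homomorphism of local rings `A → B`, with `A` Noetherian, `B` essentially of finite type
and flat over `A`, `m_A B = m_B` and separable residue field extension, is formally étale. -/
theorem formallyEtale_of_etale_localHom (A B : Type u) [CommRing A] [CommRing B]
    [IsLocalRing A] [IsLocalRing B] [IsNoetherianRing A] [Algebra A B]
    [IsLocalHom (algebraMap A B)] [Algebra.EssFiniteType A B] [Module.Flat A B]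
    (hm : (IsLocalRing.maximalIdeal A).map (algebraMap A B) = IsLocalRing.maximalIdeal B)
    [Algebra.IsSeparable (IsLocalRing.ResidueField A) (IsLocalRing.ResidueField B)] :
    Algebra.FormallyEtale A B := by
  haveI : Algebra.FormallyUnramified A B := Algebra.FormallyUnramified.of_map_maximalIdeal hm
  haveI : Algebra.FinitePresentation A (Algebra.EssFiniteType.subalgebra A B) :=
    Algebra.FinitePresentation.of_finiteType.mp inferInstance
  haveI : Algebra.FormallyEtale (IsLocalRing.ResidueField A)
      (TensorProduct A (IsLocalRing.ResidueField A) B) :=
    .of_formallyUnramified_of_field _ _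
  haveI : Algebra.FormallySmooth A B :=
    Algebra.FormallySmooth.of_formallySmooth_residueField_tensor
      (R := A) (S := B) (P := Algebra.EssFiniteType.subalgebra A B)
      (Algebra.EssFiniteType.submonoid A B)
  exact Algebra.FormallyEtale.iff_formallyUnramified_and_formallySmooth.mpr
    ⟨inferInstance, inferInstance⟩

/-- If a local ring `B` is a localization of `C` at some submonoid, it is the localization of `C`
at the prime `m_B ∩ C`. -/
theorem isLocalization_atPrime_of_isLocalRing {C B : Type*} [CommRing C] [CommRing B]
    [Algebra C B] [IsLocalRing B] (M : Submonoid C) [IsLocalization M B] :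
    IsLocalization ((IsLocalRing.maximalIdeal B).comap (algebraMap C B)).primeCompl B := by
  refine IsLocalization.of_le M _ (fun r hr => ?_) (fun r hr => ?_)
  · intro h
    have h1 : algebraMap C B r ∈ IsLocalRing.maximalIdeal B := h
    exact (IsLocalRing.mem_maximalIdeal _).mp h1 (IsLocalization.map_units B ⟨r, hr⟩)
  · by_contra h
    exact hr ((IsLocalRing.mem_maximalIdeal _).mpr h)

end Groth.Agent.H48
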