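import Mathlib
import Groth.Agent.H48.EtLocal

/-!
Unramified / étale neighbourhoods of a point versus the stalk map (helper48).
-/

set_option autoImplicit false
universe u

open AlgebraicGeometry CategoryTheory

namespace Groth.Agent.H48

/-- A formally smooth algebra essentially of finite type over a Noetherian ring is flat. -/
theorem flat_of_formallySmooth_essFiniteType (R S : Type u) [CommRing R] [CommRing S] [Algebra R S]
    [IsNoetherianRing R] [Algebra.EssFiniteType R S] [Algebra.FormallySmooth R S] :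
    Module.Flat R S := by
  let B₀ := Algebra.EssFiniteType.subalgebra R S
  let M := Algebra.EssFiniteType.submonoid R S
  obtain ⟨n, f₀, hf₀⟩ := Algebra.FiniteType.iff_quotient_mvPolynomial''.mp
    (inferInstance : Algebra.FiniteType R B₀)
  let M' := M.comap f₀
  let P' := Localization M'
  let fP : P' →ₐ[R] S := IsLocalization.liftAlgHom (M := M')
      (f := (IsScalarTower.toAlgHom R B₀ S).comp f₀) fun x ↦
    IsLocalization.map_units (M := M) S ⟨f₀ x.1, x.2⟩
  have hf₁ : Function.Surjective fP := by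
    intro x
    obtain ⟨x, ⟨s, hs⟩, rfl⟩ := IsLocalization.exists_mk'_eq M x
    obtain ⟨x, rfl⟩ := hf₀ x
    obtain ⟨s, rfl⟩ := hf₀ s
    refine ⟨IsLocalization.mk' (M := M') _ x ⟨s, hs⟩, ?_⟩
    have h2 : ∀ y, fP (algebraMap _ P' y) = algebraMap B₀ S (f₀ y) := fun y => by
      simp only [fP, IsLocalization.liftAlgHom_apply, IsLocalization.lift_eq]
      rfl
    have h1 : fP (IsLocalization.mk' (M := M') P' x ⟨s, hs⟩) * fP (algebraMap _ P' s) =
        fP (algebraMap _ P' x) := by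
      rw [← map_mul, IsLocalization.mk'_spec]
    rw [h2, h2] at h1
    have hu : IsUnit (algebraMap B₀ S (f₀ s)) := IsLocalization.map_units (M := M) S ⟨f₀ s, hs⟩
    apply hu.mul_left_injective
    show fP _ * algebraMap B₀ S (f₀ s) =
      IsLocalization.mk' S (f₀ x) ⟨f₀ s, hs⟩ * algebraMap B₀ S (f₀ s)
    rw [h1, IsLocalization.mk'_spec]
  haveI : IsNoetherianRing P' := IsLocalization.isNoetherianRing M' P' inferInstance
  haveI : Module.Flat (MvPolynomial (Fin n) R) P' := IsLocalization.flat P' M'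
  haveI : Module.Flat R P' := Module.Flat.trans R (MvPolynomial (Fin n) R) P'
  exact Algebra.FormallySmooth.flat_of_algHom_of_isNoetherianRing fP hf₁

variable {X Y : Scheme.{u}}

lemma mem_basicOpen_iff_notMem_primeIdealOf {U : X.Opens} (hU : IsAffineOpen U) (x : X)
    (hx : x ∈ U) (r : Γ(X, U)) :
    x ∈ X.basicOpen r ↔ r ∉ (hU.primeIdealOf ⟨x, hx⟩).asIdeal := by
  have h1 : hU.fromSpec (hU.primeIdealOf ⟨x, hx⟩) = x := hU.fromSpec_primeIdealOf ⟨x, hx⟩
  have h2 := hU.fromSpec_preimage_basicOpen r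
  constructor
  · intro h
    have h3 : hU.primeIdealOf ⟨x, hx⟩ ∈ hU.fromSpec ⁻¹ᵁ X.basicOpen r := by
      show hU.fromSpec (hU.primeIdealOf ⟨x, hx⟩) ∈ X.basicOpen r
      rw [h1]; exact h
    rw [h2] at h3
    exact h3
  · intro h
    have h3 : hU.primeIdealOf ⟨x, hx⟩ ∈ hU.fromSpec ⁻¹ᵁ X.basicOpen r := by
      rw [h2]; exact h
    rw [← h1]
    exact h3

lemma formallyUnramified_stalkMap_iff {f : X ⟶ Y} {x : X} (U : Y.Opens)
      (hU : IsAffineOpen U) (V : X.Opens) (hV : IsAffineOpen V) (hVU : V ≤ f ⁻¹ᵁ U)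
      (hx : x ∈ V) :
    letI := (f.appLE U V hVU).hom.toAlgebra
    (f.stalkMap x).hom.FormallyUnramified ↔
      Algebra.IsUnramifiedAt Γ(Y, U) (hV.primeIdealOf ⟨x, hx⟩).asIdeal := by
  let := (f.appLE U V hVU).hom.toAlgebra
  let p := (hU.primeIdealOf ⟨f x, hVU hx⟩).asIdeal
  let q := (hV.primeIdealOf ⟨x, hx⟩).asIdeal
  have : q.LiesOver p :=
    ⟨congr($(IsAffineOpen.comap_primeIdealOf_appLE U hU V hV hVU hx).1).symm⟩
  let := Localization.AtPrime.algebraOfLiesOver p q
  trans Algebra.FormallyUnramified (Localization.AtPrime p) (Localization.AtPrime q)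
  · rw [← RingHom.formallyUnramified_algebraMap]
    exact RingHom.FormallyUnramified.respectsIso.arrow_mk_iso_iff
      (IsAffineOpen.arrowStalkMapIso f U hU V hV hVU hx)
  · exact ⟨fun _ => Algebra.FormallyUnramified.comp Γ(Y, U) (Localization.AtPrime p) _,
      fun _ => Algebra.FormallyUnramified.of_restrictScalars Γ(Y, U) _ _⟩

/-- sections over a basic open as an algebra over the base chart: scalar tower. -/
lemma isScalarTower_basicOpen (f : X ⟶ Y) (V : Y.Opens) (W : X.Opens) (hWV : W ≤ f ⁻¹ᵁ V)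
    (r : Γ(X, W)) :
    letI := (f.appLE V W hWV).hom.toAlgebra
    letI := (f.appLE V (X.basicOpen r) ((X.basicOpen_le r).trans hWV)).hom.toAlgebra
    IsScalarTower Γ(Y, V) Γ(X, W) Γ(X, X.basicOpen r) := by
  letI := (f.appLE V W hWV).hom.toAlgebra
  letI := (f.appLE V (X.basicOpen r) ((X.basicOpen_le r).trans hWV)).hom.toAlgebra
  refine .of_algebraMap_eq' ?_
  change (f.appLE V (X.basicOpen r) ((X.basicOpen_le r).trans hWV)).hom =
    (X.presheaf.map (homOfLE (X.basicOpen_le r)).op).hom.comp (f.appLE V W hWV).hom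
  rw [← CommRingCat.hom_comp, Scheme.Hom.appLE_map]

theorem unramified_nhd_iff_aux (f : X ⟶ Y) [LocallyOfFiniteType f] (x : X)
    (V : Y.Opens) (hV : IsAffineOpen V) (W : X.Opens) (hW : IsAffineOpen W)
    (hWV : W ≤ f ⁻¹ᵁ V) (hxW : x ∈ W) :
    (∃ U : X.Opens, x ∈ U ∧ FormallyUnramified (U.ι ≫ f)) ↔
      (f.stalkMap x).hom.FormallyUnramified := by
  have hft := f.finiteType_appLE hV hW hWV
  algebraize [(f.appLE V W hWV).hom]
  rw [formallyUnramified_stalkMap_iff V hV W hW hWV hxW]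
  haveI : IsAffine V.toScheme := hV
  have hresp : (RingHom.toMorphismProperty RingHom.FormallyUnramified).RespectsIso :=
    RingHom.toMorphismProperty_respectsIso_iff.mp RingHom.FormallyUnramified.respectsIso
  have key : ∀ (U : X.Opens) (hU : IsAffineOpen U) (e : U ≤ f ⁻¹ᵁ V),
      FormallyUnramified (f.resLE V U e) ↔ (f.appLE V U e).hom.FormallyUnramified := by
    intro U hU e
    haveI : IsAffine U.toScheme := hU
    rw [HasRingHomProperty.iff_of_isAffine (P := @FormallyUnramified)]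
    exact MorphismProperty.arrow_mk_iso_iff
      (RingHom.toMorphismProperty RingHom.FormallyUnramified) (arrowResLEAppIso f V U e)
  have tr : ∀ (r : Γ(X, W)),
      (f.appLE V (X.basicOpen r) ((X.basicOpen_le r).trans hWV)).hom.FormallyUnramified ↔
        Algebra.FormallyUnramified Γ(Y, V) (Localization.Away r) := by
    intro r
    have := hW.isLocalization_basicOpen r
    letI : Algebra Γ(Y, V) Γ(X, X.basicOpen r) :=
      (f.appLE V (X.basicOpen r) ((X.basicOpen_le r).trans hWV)).hom.toAlgebra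
    haveI : IsScalarTower Γ(Y, V) Γ(X, W) Γ(X, X.basicOpen r) :=
      isScalarTower_basicOpen f V W hWV r
    let e : Localization.Away r ≃ₐ[Γ(Y, V)] Γ(X, X.basicOpen r) :=
      (IsLocalization.algEquiv (.powers r) _ _).restrictScalars _
    change Algebra.FormallyUnramified Γ(Y, V) Γ(X, X.basicOpen r) ↔ _
    exact ⟨fun _ => .of_equiv e.symm, fun _ => .of_equiv e⟩
  constructor
  · rintro ⟨U, hxU, hU⟩
    obtain ⟨r, hrU, hxr⟩ := hW.exists_basicOpen_le (V := U) ⟨x, hxU⟩ hxW
    have e' : X.basicOpen r ≤ f ⁻¹ᵁ V := (X.basicOpen_le r).trans hWV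
    have h1 : FormallyUnramified ((X.basicOpen r).ι ≫ f) := by
      rw [← X.homOfLE_ι hrU, Category.assoc]
      exact MorphismProperty.comp_mem @FormallyUnramified _ _ inferInstance hU
    have h2 : FormallyUnramified (f.resLE V (X.basicOpen r) e') := by
      haveI : FormallyUnramified (f.resLE V (X.basicOpen r) e' ≫ V.ι) := by
        rw [Scheme.Hom.resLE_comp_ι]; exact h1
      exact FormallyUnramified.of_comp _ V.ι
    have h3 := (tr r).mp ((key _ (hW.basicOpen r) e').mp h2)
    have h4 := Algebra.basicOpen_subset_unramifiedLocus_iff.mpr h3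
    exact h4 ((PrimeSpectrum.mem_basicOpen _ _).mpr
      ((mem_basicOpen_iff_notMem_primeIdealOf hW x hxW r).mp hxr))
  · intro h
    haveI : Algebra.IsUnramifiedAt Γ(Y, V) (hW.primeIdealOf ⟨x, hxW⟩).asIdeal := h
    obtain ⟨r, hr, hfu⟩ := Algebra.exists_formallyUnramified_of_isUnramifiedAt (R := Γ(Y, V))
      (hW.primeIdealOf ⟨x, hxW⟩).asIdeal
    have e' : X.basicOpen r ≤ f ⁻¹ᵁ V := (X.basicOpen_le r).trans hWV
    refine ⟨X.basicOpen r, (mem_basicOpen_iff_notMem_primeIdealOf hW x hxW r).mpr hr, ?_⟩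
    have h2 : FormallyUnramified (f.resLE V (X.basicOpen r) e') :=
      (key _ (hW.basicOpen r) e').mpr ((tr r).mpr hfu)
    rw [← Scheme.Hom.resLE_comp_ι f e']
    exact MorphismProperty.comp_mem @FormallyUnramified _ _ h2 inferInstance

theorem unramified_nhd_iff (f : X ⟶ Y) [LocallyOfFiniteType f] (x : X) :
    (∃ U : X.Opens, x ∈ U ∧ FormallyUnramified (U.ι ≫ f)) ↔
      (f.stalkMap x).hom.FormallyUnramified := by
  obtain ⟨V, hV, hxV, -⟩ :=
    exists_isAffineOpen_mem_and_subset (x := f x) (U := (⊤ : Y.Opens)) trivial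
  obtain ⟨W, hW, hxW, hWV⟩ :=
    exists_isAffineOpen_mem_and_subset (x := x) (U := f ⁻¹ᵁ V) hxV
  exact unramified_nhd_iff_aux f x V hV W hW hWV hxW

theorem etale_nhd_iff_aux (f : X ⟶ Y) [LocallyOfFiniteType f] [IsLocallyNoetherian Y] (x : X)
    (V : Y.Opens) (hV : IsAffineOpen V) (W : X.Opens) (hW : IsAffineOpen W)
    (hWV : W ≤ f ⁻¹ᵁ V) (hxW : x ∈ W) :
    (∃ U : X.Opens, x ∈ U ∧ Etale (U.ι ≫ f)) ↔
      ((f.stalkMap x).hom.FormallyUnramified ∧ (f.stalkMap x).hom.FormallySmooth) := by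
  have hft := f.finiteType_appLE hV hW hWV
  algebraize [(f.appLE V W hWV).hom]
  haveI : IsNoetherianRing Γ(Y, V) := IsLocallyNoetherian.component_noetherian ⟨V, hV⟩
  haveI : Algebra.FinitePresentation Γ(Y, V) Γ(X, W) :=
    Algebra.FinitePresentation.of_finiteType.mp inferInstance
  rw [formallyUnramified_stalkMap_iff V hV W hW hWV hxW,
    formallySmooth_stalkMap_iff V hV W hW hWV hxW]
  change _ ↔ (Algebra.FormallyUnramified Γ(Y, V)
      (Localization.AtPrime (hW.primeIdealOf ⟨x, hxW⟩).asIdeal) ∧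
    Algebra.FormallySmooth Γ(Y, V) (Localization.AtPrime (hW.primeIdealOf ⟨x, hxW⟩).asIdeal))
  rw [← Algebra.FormallyEtale.iff_formallyUnramified_and_formallySmooth]
  haveI : IsAffine V.toScheme := hV
  have hresp : (RingHom.toMorphismProperty RingHom.Etale).RespectsIso :=
    RingHom.toMorphismProperty_respectsIso_iff.mp RingHom.Etale.respectsIso
  have key : ∀ (U : X.Opens) (hU : IsAffineOpen U) (e : U ≤ f ⁻¹ᵁ V),
      Etale (f.resLE V U e) ↔ (f.appLE V U e).hom.Etale := by
    intro U hU e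
    haveI : IsAffine U.toScheme := hU
    rw [HasRingHomProperty.iff_of_isAffine (P := @Etale)]
    exact MorphismProperty.arrow_mk_iso_iff
      (RingHom.toMorphismProperty RingHom.Etale) (arrowResLEAppIso f V U e)
  have tr : ∀ (r : Γ(X, W)),
      (f.appLE V (X.basicOpen r) ((X.basicOpen_le r).trans hWV)).hom.Etale ↔
        Algebra.Etale Γ(Y, V) (Localization.Away r) := by
    intro r
    have := hW.isLocalization_basicOpen r
    letI : Algebra Γ(Y, V) Γ(X, X.basicOpen r) :=
      (f.appLE V (X.basicOpen r) ((X.basicOpen_le r).trans hWV)).hom.toAlgebra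
    haveI : IsScalarTower Γ(Y, V) Γ(X, W) Γ(X, X.basicOpen r) :=
      isScalarTower_basicOpen f V W hWV r
    let e : Localization.Away r ≃ₐ[Γ(Y, V)] Γ(X, X.basicOpen r) :=
      (IsLocalization.algEquiv (.powers r) _ _).restrictScalars _
    change Algebra.Etale Γ(Y, V) Γ(X, X.basicOpen r) ↔ _
    exact ⟨fun _ => .of_equiv e.symm, fun _ => .of_equiv e⟩
  constructor
  · rintro ⟨U, hxU, hU⟩
    obtain ⟨r, hrU, hxr⟩ := hW.exists_basicOpen_le (V := U) ⟨x, hxU⟩ hxW
    have e' : X.basicOpen r ≤ f ⁻¹ᵁ V := (X.basicOpen_le r).trans hWV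
    have h1 : Etale ((X.basicOpen r).ι ≫ f) := by
      rw [← X.homOfLE_ι hrU, Category.assoc]
      infer_instance
    have h2 : Etale (f.resLE V (X.basicOpen r) e') := by
      haveI : Etale (f.resLE V (X.basicOpen r) e' ≫ V.ι) := by
        rw [Scheme.Hom.resLE_comp_ι]; exact h1
      exact Etale.of_comp _ V.ι
    have h3 := (tr r).mp ((key _ (hW.basicOpen r) e').mp h2)
    have h4 := Algebra.basicOpen_subset_etaleLocus_iff.mpr h3.formallyEtale
    exact h4 ((PrimeSpectrum.mem_basicOpen _ _).mpr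
      ((mem_basicOpen_iff_notMem_primeIdealOf hW x hxW r).mp hxr))
  · intro h
    haveI : Algebra.IsEtaleAt Γ(Y, V) (hW.primeIdealOf ⟨x, hxW⟩).asIdeal := h
    obtain ⟨r, hr, het⟩ := Algebra.exists_etale_of_isEtaleAt (R := Γ(Y, V))
      (hW.primeIdealOf ⟨x, hxW⟩).asIdeal
    have e' : X.basicOpen r ≤ f ⁻¹ᵁ V := (X.basicOpen_le r).trans hWV
    refine ⟨X.basicOpen r, (mem_basicOpen_iff_notMem_primeIdealOf hW x hxW r).mpr hr, ?_⟩
    have h2 : Etale (f.resLE V (X.basicOpen r) e') :=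
      (key _ (hW.basicOpen r) e').mpr ((tr r).mpr het)
    rw [← Scheme.Hom.resLE_comp_ι f e']
    infer_instance

theorem etale_nhd_iff (f : X ⟶ Y) [LocallyOfFiniteType f] [IsLocallyNoetherian Y] (x : X) :
    (∃ U : X.Opens, x ∈ U ∧ Etale (U.ι ≫ f)) ↔
      ((f.stalkMap x).hom.FormallyUnramified ∧ (f.stalkMap x).hom.FormallySmooth) := by
  obtain ⟨V, hV, hxV, -⟩ :=
    exists_isAffineOpen_mem_and_subset (x := f x) (U := (⊤ : Y.Opens)) trivial
  obtain ⟨W, hW, hxW, hWV⟩ :=
    exists_isAffineOpen_mem_and_subset (x := x) (U := f ⁻¹ᵁ V) hxV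
  exact etale_nhd_iff_aux f x V hV W hW hWV hxW

end Groth.Agent.H48
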