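import Mathlib
import Groth.Agent.H48.StalkLocal

/-!
Étale = flat + unramified at a point, for morphisms locally of finite presentation; descent of
unramified/flat along flat local homomorphisms (helper48).
-/

set_option autoImplicit false
universe u

open AlgebraicGeometry CategoryTheory

namespace Groth.Agent.H48

/-- Flatness descends along a faithfully flat ring map: if `T` is flat over `R` and faithfully flat
over `S`, then `S` is flat over `R`. -/
theorem flat_of_flat_comp_faithfullyFlat (R S T : Type*) [CommRing R] [CommRing S] [CommRing T]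
    [Algebra R S] [Algebra S T] [Algebra R T] [IsScalarTower R S T] [Module.Flat R T]
    [Module.FaithfullyFlat S T] : Module.Flat R S := by
  rw [Module.Flat.iff_lTensor_preserves_injective_linearMap]
  intro N P _ _ _ _ f hf
  have h1 : Function.Injective (f.lTensor T) :=
    Module.Flat.lTensor_preserves_injective_linearMap f hf
  have key : ∀ z, (TensorProduct.AlgebraTensorModule.cancelBaseChange R S S T P)
      ((f.baseChange S).lTensor T z) =
      (f.lTensor T) (TensorProduct.AlgebraTensorModule.cancelBaseChange R S S T N z) := by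
    intro z
    induction z using TensorProduct.induction_on with
    | zero => simp
    | tmul t y =>
      induction y using TensorProduct.induction_on with
      | zero => simp
      | tmul s n => simp [TensorProduct.AlgebraTensorModule.cancelBaseChange_tmul]
      | add a b ha hb => simp only [TensorProduct.tmul_add, map_add, ha, hb]
    | add a b ha hb => simp only [map_add, ha, hb]
  have h2 : Function.Injective ((f.baseChange S).lTensor T) := fun z z' h => by
    apply (TensorProduct.AlgebraTensorModule.cancelBaseChange R S S T N).injective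
    apply h1
    rw [← key, ← key, h]
  have h3 : Function.Injective (f.baseChange S) :=
    (Module.FaithfullyFlat.lTensor_injective_iff_injective S T _).mp h2
  exact h3

/-- Unramifiedness descends along a flat local homomorphism. -/
theorem formallyUnramified_of_comp_flat_local (R S T : Type*) [CommRing R] [CommRing S]
    [CommRing T] [IsLocalRing R] [IsLocalRing S] [IsLocalRing T]
    [Algebra R S] [Algebra S T] [Algebra R T] [IsScalarTower R S T]
    [IsLocalHom (algebraMap R S)] [IsLocalHom (algebraMap S T)] [IsLocalHom (algebraMap R T)]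
    [Module.Flat S T] [Algebra.FormallyUnramified R T] [Algebra.EssFiniteType R T]
    [Algebra.EssFiniteType R S] :
    Algebra.FormallyUnramified R S := by
  haveI : Module.FaithfullyFlat S T := Module.FaithfullyFlat.of_flat_of_isLocalHom
  have hmT : (IsLocalRing.maximalIdeal R).map (algebraMap R T) = IsLocalRing.maximalIdeal T :=
    Algebra.FormallyUnramified.map_maximalIdeal
  have hm : (IsLocalRing.maximalIdeal R).map (algebraMap R S) = IsLocalRing.maximalIdeal S := by
    have h1 := Ideal.comap_map_eq_self_of_faithfullyFlat (B := T)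
      ((IsLocalRing.maximalIdeal R).map (algebraMap R S))
    rw [Ideal.map_map, ← IsScalarTower.algebraMap_eq, hmT] at h1
    rw [← h1]
    exact ((IsLocalRing.local_hom_TFAE (algebraMap S T)).out 0 4 rfl rfl).mp inferInstance
  haveI : Algebra.IsSeparable (IsLocalRing.ResidueField R) (IsLocalRing.ResidueField S) :=
    Algebra.isSeparable_tower_bot_of_isSeparable (IsLocalRing.ResidueField R)
      (IsLocalRing.ResidueField S) (IsLocalRing.ResidueField T)
  exact Algebra.FormallyUnramified.of_map_maximalIdeal hm

/-- `B` f.p. over `A`, `q` over `p`: étale at `q` iff `A_p → B_q` flat and `B` unramified at `q`. -/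
theorem isEtaleAt_iff_flat_unramified (A B : Type u) [CommRing A] [CommRing B]
    [Algebra A B] [Algebra.FinitePresentation A B]
    (p : Ideal A) [p.IsPrime] (q : Ideal B) [q.IsPrime] [q.LiesOver p]
    [Algebra (Localization.AtPrime p) (Localization.AtPrime q)]
    [Localization.AtPrime.IsLiesOverAlgebra p q] :
    Algebra.IsEtaleAt A q ↔
      Module.Flat (Localization.AtPrime p) (Localization.AtPrime q) ∧
        Algebra.IsUnramifiedAt A q := by
  constructor
  · intro h
    haveI : Algebra.IsEtaleAt A q := h
    refine ⟨?_, (Algebra.FormallyEtale.iff_formallyUnramified_and_formallySmooth.mp h).1⟩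
    obtain ⟨g, hg, hEt⟩ := Algebra.exists_etale_of_isEtaleAt (R := A) q
    let f : Localization.Away g →ₐ[B] Localization.AtPrime q :=
      IsLocalization.liftAlgHom (M := Submonoid.powers g)
        (f := Algebra.ofId B (Localization.AtPrime q)) (by
          rintro ⟨_, n, rfl⟩
          exact IsLocalization.map_units (M := q.primeCompl) (Localization.AtPrime q)
            ⟨g ^ n, q.primeCompl.pow_mem hg n⟩)
    algebraize [f.toRingHom]
    have : IsScalarTower A (Localization.Away g) (Localization.AtPrime q) := .to₁₃₄ _ B _ _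
    have : IsLocalization (Algebra.algebraMapSubmonoid (Localization.Away g) q.primeCompl)
        (Localization.AtPrime q) :=
      .isLocalization_of_submonoid_le _ _ (Submonoid.powers g) _ (by
        rintro _ ⟨n, rfl⟩; exact q.primeCompl.pow_mem hg n)
    have : Module.Flat (Localization.Away g) (Localization.AtPrime q) :=
      IsLocalization.flat _ (Algebra.algebraMapSubmonoid (Localization.Away g) q.primeCompl)
    have : Module.Flat A (Localization.Away g) := inferInstance
    have : Module.Flat A (Localization.AtPrime q) :=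
      Module.Flat.trans A (Localization.Away g) (Localization.AtPrime q)
    exact (Module.flat_iff_of_isLocalization (Localization.AtPrime p) p.primeCompl _).mpr this
  · rintro ⟨hflat, hunr⟩
    haveI : Algebra.IsUnramifiedAt A q := hunr
    let Rp := Localization.AtPrime p
    let Sp := Localization (Algebra.algebraMapSubmonoid B p.primeCompl)
    let Sq := Localization.AtPrime q
    let f : Sp →ₐ[B] Sq := IsLocalization.liftAlgHom
      (M := Algebra.algebraMapSubmonoid B p.primeCompl)
        (f := Algebra.ofId _ _) (by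
      rintro ⟨_, x, hx, rfl⟩
      simpa using! IsLocalization.map_units (M := q.primeCompl) Sq ⟨algebraMap _ _ x,
        by simp_all [q.over_def p]⟩)
    algebraize [f.toRingHom]
    have : IsScalarTower A Sp Sq := .to₁₃₄ _ B _ _
    have : IsScalarTower Rp Sp Sq := .of_algebraMap_eq' <| by
      apply IsLocalization.ringHom_ext p.primeCompl
      simp only [RingHom.comp_assoc, ← IsScalarTower.algebraMap_eq]
    have : IsLocalization (Algebra.algebraMapSubmonoid Sp q.primeCompl) Sq :=
      .isLocalization_of_submonoid_le _ _ (Algebra.algebraMapSubmonoid B p.primeCompl) _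
      (by rintro _ ⟨x, hx, rfl⟩; simp_all [q.over_def p])
    have : Algebra.FinitePresentation Rp Sp := by
      have : Algebra.IsPushout A Rp B Sp :=
        .symm <| Algebra.isPushout_of_isLocalization p.primeCompl _ _ _
      exact .equiv (Algebra.IsPushout.equiv A Rp B Sp)
    have : IsLocalHom (algebraMap Rp Sq) := by
      rw [Localization.AtPrime.IsLiesOverAlgebra.algebraMap_eq]; infer_instance
    have : Algebra.EssFiniteType A Sq := .comp A B Sq
    have : Algebra.EssFiniteType Rp Sq := .of_comp A _ _
    have : Algebra.FormallyUnramified Rp Sq := .of_restrictScalars A _ _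
    have : Module.Flat Rp Sq := hflat
    have : Algebra.FormallyEtale (IsLocalRing.ResidueField Rp)
        (TensorProduct Rp (IsLocalRing.ResidueField Rp) Sq) :=
      .of_formallyUnramified_of_field _ _
    have : Algebra.FormallySmooth Rp Sq :=
      Algebra.FormallySmooth.of_formallySmooth_residueField_tensor
        (R := Rp) (S := Sq) (P := Sp) (Algebra.algebraMapSubmonoid _ q.primeCompl)
    have : Algebra.FormallySmooth A Sq := .comp A Rp Sq
    exact Algebra.FormallyEtale.iff_formallyUnramified_and_formallySmooth.mpr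
      ⟨inferInstance, this⟩

variable {X Y : Scheme.{u}}

lemma flat_stalkMap_iff {f : X ⟶ Y} {x : X} (U : Y.Opens)
      (hU : IsAffineOpen U) (V : X.Opens) (hV : IsAffineOpen V) (hVU : V ≤ f ⁻¹ᵁ U)
      (hx : x ∈ V) :
    letI := (f.appLE U V hVU).hom.toAlgebra
    haveI : (hV.primeIdealOf ⟨x, hx⟩).asIdeal.LiesOver (hU.primeIdealOf ⟨f x, hVU hx⟩).asIdeal :=
      ⟨congr($(IsAffineOpen.comap_primeIdealOf_appLE U hU V hV hVU hx).1).symm⟩
    letI := Localization.AtPrime.algebraOfLiesOver (hU.primeIdealOf ⟨f x, hVU hx⟩).asIdeal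
      (hV.primeIdealOf ⟨x, hx⟩).asIdeal
    (f.stalkMap x).hom.Flat ↔
      Module.Flat (Localization.AtPrime (hU.primeIdealOf ⟨f x, hVU hx⟩).asIdeal)
        (Localization.AtPrime (hV.primeIdealOf ⟨x, hx⟩).asIdeal) := by
  let := (f.appLE U V hVU).hom.toAlgebra
  let p := (hU.primeIdealOf ⟨f x, hVU hx⟩).asIdeal
  let q := (hV.primeIdealOf ⟨x, hx⟩).asIdeal
  have : q.LiesOver p :=
    ⟨congr($(IsAffineOpen.comap_primeIdealOf_appLE U hU V hV hVU hx).1).symm⟩
  let := Localization.AtPrime.algebraOfLiesOver p q
  rw [← RingHom.flat_algebraMap_iff]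
  exact RingHom.Flat.respectsIso.arrow_mk_iso_iff
    (IsAffineOpen.arrowStalkMapIso f U hU V hV hVU hx)

theorem etale_nhd_iff_isEtaleAt_aux (f : X ⟶ Y) (x : X)
    (V : Y.Opens) (hV : IsAffineOpen V) (W : X.Opens) (hW : IsAffineOpen W)
    (hWV : W ≤ f ⁻¹ᵁ V) (hxW : x ∈ W) (hfp : (f.appLE V W hWV).hom.FinitePresentation) :
    letI := (f.appLE V W hWV).hom.toAlgebra
    (∃ U : X.Opens, x ∈ U ∧ Etale (U.ι ≫ f)) ↔
      Algebra.IsEtaleAt Γ(Y, V) (hW.primeIdealOf ⟨x, hxW⟩).asIdeal := by
  algebraize [(f.appLE V W hWV).hom]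
  haveI : IsAffine V.toScheme := hV
  have hresp : (RingHom.toMorphismProperty RingHom.Etale).RespectsIso :=
    RingHom.toMorphismProperty_respectsIso_iff.mp RingHom.Etale.respectsIso
  have key : ∀ (U : X.Opens) (hU : IsAffineOpen U) (e : U ≤ f ⁻¹ᵁ V),
      Etale (f.resLE V U e) ↔ (f.appLE V U e).hom.Etale := by
    intro U hU e
    haveI : IsAffine U.toScheme := hU
    rw [HasRingHomProperty.iff_of_isAffine (P := @Etale)]
    exact MorphismProperty.arrow_mk_iso_iff
      (RingHom.toMorphismProperty RingHom.Etale) (arrowResLEAppIso f V U e)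
  have tr : ∀ (r : Γ(X, W)),
      (f.appLE V (X.basicOpen r) ((X.basicOpen_le r).trans hWV)).hom.Etale ↔
        Algebra.Etale Γ(Y, V) (Localization.Away r) := by
    intro r
    have := hW.isLocalization_basicOpen r
    letI : Algebra Γ(Y, V) Γ(X, X.basicOpen r) :=
      (f.appLE V (X.basicOpen r) ((X.basicOpen_le r).trans hWV)).hom.toAlgebra
    haveI : IsScalarTower Γ(Y, V) Γ(X, W) Γ(X, X.basicOpen r) :=
      isScalarTower_basicOpen f V W hWV r
    let e : Localization.Away r ≃ₐ[Γ(Y, V)] Γ(X, X.basicOpen r) :=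
      (IsLocalization.algEquiv (.powers r) _ _).restrictScalars _
    change Algebra.Etale Γ(Y, V) Γ(X, X.basicOpen r) ↔ _
    exact ⟨fun _ => .of_equiv e.symm, fun _ => .of_equiv e⟩
  constructor
  · rintro ⟨U, hxU, hU⟩
    obtain ⟨r, hrU, hxr⟩ := hW.exists_basicOpen_le (V := U) ⟨x, hxU⟩ hxW
    have e' : X.basicOpen r ≤ f ⁻¹ᵁ V := (X.basicOpen_le r).trans hWV
    have h1 : Etale ((X.basicOpen r).ι ≫ f) := by
      rw [← X.homOfLE_ι hrU, Category.assoc]
      infer_instance
    have h2 : Etale (f.resLE V (X.basicOpen r) e') := by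
      haveI : Etale (f.resLE V (X.basicOpen r) e' ≫ V.ι) := by
        rw [Scheme.Hom.resLE_comp_ι]; exact h1
      exact Etale.of_comp _ V.ι
    have h3 := (tr r).mp ((key _ (hW.basicOpen r) e').mp h2)
    have h4 := Algebra.basicOpen_subset_etaleLocus_iff.mpr h3.formallyEtale
    exact h4 ((PrimeSpectrum.mem_basicOpen _ _).mpr
      ((mem_basicOpen_iff_notMem_primeIdealOf hW x hxW r).mp hxr))
  · intro h
    haveI : Algebra.IsEtaleAt Γ(Y, V) (hW.primeIdealOf ⟨x, hxW⟩).asIdeal := h
    obtain ⟨r, hr, het⟩ := Algebra.exists_etale_of_isEtaleAt (R := Γ(Y, V))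
      (hW.primeIdealOf ⟨x, hxW⟩).asIdeal
    have e' : X.basicOpen r ≤ f ⁻¹ᵁ V := (X.basicOpen_le r).trans hWV
    refine ⟨X.basicOpen r, (mem_basicOpen_iff_notMem_primeIdealOf hW x hxW r).mpr hr, ?_⟩
    have h2 : Etale (f.resLE V (X.basicOpen r) e') :=
      (key _ (hW.basicOpen r) e').mpr ((tr r).mpr het)
    rw [← Scheme.Hom.resLE_comp_ι f e']
    infer_instance

/-- For `f` locally of finite presentation: étale near `x` iff unramified and flat at `x`. -/
theorem etale_nhd_iff_flat_unramified (f : X ⟶ Y) [LocallyOfFinitePresentation f] (x : X) :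
    (∃ U : X.Opens, x ∈ U ∧ Etale (U.ι ≫ f)) ↔
      ((f.stalkMap x).hom.FormallyUnramified ∧ (f.stalkMap x).hom.Flat) := by
  obtain ⟨V, hV, hxV, -⟩ :=
    exists_isAffineOpen_mem_and_subset (x := f x) (U := (⊤ : Y.Opens)) trivial
  obtain ⟨W, hW, hxW, hWV⟩ :=
    exists_isAffineOpen_mem_and_subset (x := x) (U := f ⁻¹ᵁ V) hxV
  have hfp := f.finitePresentation_appLE hV hW hWV
  rw [etale_nhd_iff_isEtaleAt_aux f x V hV W hW hWV hxW hfp,
    formallyUnramified_stalkMap_iff V hV W hW hWV hxW, flat_stalkMap_iff V hV W hW hWV hxW]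
  algebraize [(f.appLE V W hWV).hom]
  let p := (hV.primeIdealOf ⟨f x, hWV hxW⟩).asIdeal
  let q := (hW.primeIdealOf ⟨x, hxW⟩).asIdeal
  have : q.LiesOver p :=
    ⟨congr($(IsAffineOpen.comap_primeIdealOf_appLE V hV W hW hWV hxW).1).symm⟩
  let := Localization.AtPrime.algebraOfLiesOver p q
  rw [and_comm]
  exact isEtaleAt_iff_flat_unramified Γ(Y, V) Γ(X, W) p q

theorem ringHom_formallyUnramified_of_comp_flat_local {R S T : Type u} [CommRing R] [CommRing S]
    [CommRing T] [IsLocalRing R] [IsLocalRing S] [IsLocalRing T] (φ : R →+* S) (ψ : S →+* T)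
    [IsLocalHom φ] [IsLocalHom ψ] (hψ : ψ.Flat) (hu : (ψ.comp φ).FormallyUnramified)
    (he : (ψ.comp φ).EssFiniteType) (he' : φ.EssFiniteType) : φ.FormallyUnramified := by
  algebraize [φ, ψ, ψ.comp φ]
  haveI : IsLocalHom (algebraMap R S) := ‹IsLocalHom φ›
  haveI : IsLocalHom (algebraMap S T) := ‹IsLocalHom ψ›
  haveI : IsLocalHom (algebraMap R T) := inferInstanceAs (IsLocalHom (ψ.comp φ))
  exact formallyUnramified_of_comp_flat_local R S T

theorem ringHom_flat_of_comp_flat_local {R S T : Type u} [CommRing R] [CommRing S]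
    [CommRing T] [IsLocalRing S] [IsLocalRing T] (φ : R →+* S) (ψ : S →+* T)
    [IsLocalHom ψ] (hψ : ψ.Flat) (hfl : (ψ.comp φ).Flat) : φ.Flat := by
  algebraize [φ, ψ, ψ.comp φ]
  haveI : IsLocalHom (algebraMap S T) := ‹IsLocalHom ψ›
  haveI : Module.FaithfullyFlat S T := Module.FaithfullyFlat.of_flat_of_isLocalHom
  exact flat_of_flat_comp_faithfullyFlat R S T

end Groth.Agent.H48
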