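import Mathlib
import Groth.Agent.H48.StalkLocal2

/-!
The unramified locus commutes with arbitrary base change (helper48).
-/

set_option autoImplicit false
universe u

open AlgebraicGeometry CategoryTheory Limits TensorProduct

namespace Groth.Agent.H48

/-- For a finite module `M` over `A` and a field `K` over `A` with kernel `q`:
`K ⊗ M ≠ 0` iff `q ∈ Supp M`. -/
theorem nontrivial_tensor_field_iff {A : Type*} [CommRing A] (M : Type*) [AddCommGroup M]
    [Module A M] [Module.Finite A M] (K : Type*) [Field K] [Algebra A K] (q : PrimeSpectrum A)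
    (hq : q.asIdeal = RingHom.ker (algebraMap A K)) :
    Nontrivial (K ⊗[A] M) ↔ q ∈ Module.support A M := by
  rw [Module.mem_support_iff_nontrivial_residueField_tensorProduct]
  let φ : q.asIdeal.ResidueField →+* K :=
    Ideal.ResidueField.lift q.asIdeal (algebraMap A K) (by rw [hq]) (by
      intro x hx
      simp only [Submonoid.mem_comap, IsUnit.mem_submonoid_iff, isUnit_iff_ne_zero]
      intro h
      exact hx (by rw [hq]; exact h))
  letI : Algebra q.asIdeal.ResidueField K := φ.toAlgebra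
  haveI : IsScalarTower A q.asIdeal.ResidueField K := .of_algebraMap_eq fun x =>
    (Ideal.ResidueField.lift_algebraMap _ _ _ _ x).symm
  let e : K ⊗[q.asIdeal.ResidueField] (q.asIdeal.ResidueField ⊗[A] M) ≃ₗ[K] K ⊗[A] M :=
    AlgebraTensorModule.cancelBaseChange A q.asIdeal.ResidueField K K M
  rw [← e.nontrivial_congr]
  exact Module.FaithfullyFlat.nontrivial_tensorProduct_iff_right _ _

theorem mem_support_baseChange_iff {A B : Type*} [CommRing A] [CommRing B] [Algebra A B]
    (M : Type*) [AddCommGroup M] [Module A M] [Module.Finite A M] (q' : PrimeSpectrum B) :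
    q' ∈ Module.support B (B ⊗[A] M) ↔
      PrimeSpectrum.comap (algebraMap A B) q' ∈ Module.support A M := by
  rw [Module.mem_support_iff_nontrivial_residueField_tensorProduct]
  let e : q'.asIdeal.ResidueField ⊗[B] (B ⊗[A] M) ≃ₗ[q'.asIdeal.ResidueField]
      q'.asIdeal.ResidueField ⊗[A] M :=
    AlgebraTensorModule.cancelBaseChange A B q'.asIdeal.ResidueField q'.asIdeal.ResidueField M
  rw [e.nontrivial_congr]
  refine nontrivial_tensor_field_iff M q'.asIdeal.ResidueField _ ?_
  ext x
  simp only [PrimeSpectrum.comap_asIdeal, Ideal.mem_comap, RingHom.mem_ker]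
  rw [IsScalarTower.algebraMap_apply A B q'.asIdeal.ResidueField,
    Ideal.algebraMap_residueField_eq_zero]

theorem isUnramifiedAt_iff_of_isPushout (R S A B : Type u) [CommRing R] [CommRing S] [CommRing A]
    [CommRing B] [Algebra R S] [Algebra R A] [Algebra R B] [Algebra S B] [Algebra A B]
    [IsScalarTower R S B] [IsScalarTower R A B] [Algebra.IsPushout R S A B]
    [Algebra.FiniteType R A] (q' : PrimeSpectrum B) :
    Algebra.IsUnramifiedAt S q'.asIdeal ↔
      Algebra.IsUnramifiedAt R (PrimeSpectrum.comap (algebraMap A B) q').asIdeal := by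
  change q' ∈ Algebra.unramifiedLocus S B ↔
    PrimeSpectrum.comap (algebraMap A B) q' ∈ Algebra.unramifiedLocus R A
  rw [Algebra.unramifiedLocus_eq_compl_support, Algebra.unramifiedLocus_eq_compl_support,
    Set.mem_compl_iff, Set.mem_compl_iff, not_iff_not,
    ← (KaehlerDifferential.tensorKaehlerEquiv R S A B).support_eq, mem_support_baseChange_iff]

theorem unramified_stalk_baseChange_iff {X S S' : Scheme.{u}} (f : X ⟶ S)
    [LocallyOfFiniteType f] (g : S' ⟶ S) (x' : ↑(pullback f g)) :
    ((pullback.snd f g).stalkMap x').hom.FormallyUnramified ↔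
      (f.stalkMap ((pullback.fst f g).base x')).hom.FormallyUnramified := by
  have hcond : f.base ((pullback.fst f g).base x') = g.base ((pullback.snd f g).base x') := by
    rw [← Scheme.Hom.comp_apply, ← Scheme.Hom.comp_apply, pullback.condition]
  obtain ⟨V, hV, hsV, -⟩ := exists_isAffineOpen_mem_and_subset
    (x := f.base ((pullback.fst f g).base x')) (U := (⊤ : S.Opens)) trivial
  obtain ⟨W, hW, hxW, hWV⟩ := exists_isAffineOpen_mem_and_subset
    (x := (pullback.fst f g).base x') (U := f ⁻¹ᵁ V) hsV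
  have hs'V : (pullback.snd f g).base x' ∈ g ⁻¹ᵁ V := by
    show g.base _ ∈ V
    rw [← hcond]; exact hsV
  obtain ⟨V', hV', hs'V', hV'V⟩ := exists_isAffineOpen_mem_and_subset
    (x := (pullback.snd f g).base x') (U := g ⁻¹ᵁ V) hs'V
  have H := IsPullback.of_hasPullback f g
  let W' : (pullback f g).Opens := pullback.fst f g ⁻¹ᵁ W ⊓ pullback.snd f g ⁻¹ᵁ V'
  have hx'W' : x' ∈ W' := ⟨hxW, hs'V'⟩
  have hW'W : W' ≤ pullback.fst f g ⁻¹ᵁ W := inf_le_left
  have hW'V' : W' ≤ pullback.snd f g ⁻¹ᵁ V' := inf_le_right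
  have hW' : IsAffineOpen W' := by
    have : IsAffine V.toScheme := hV
    have : IsAffine V'.toScheme := hV'
    have : IsAffine W.toScheme := hW
    exact .of_isIso (Scheme.Hom.isPullback_resLE H hV'V hWV (rfl : W' = _)).isoPullback.hom
  have hpo := (isIso_pushoutSection_iff H hV'V hWV (rfl : W' = _)).mp
    (isIso_pushoutSection_of_isAffineOpen H hV'V hWV rfl hV hV' hW)
  rw [formallyUnramified_stalkMap_iff V' hV' W' hW' hW'V' hx'W',
    formallyUnramified_stalkMap_iff V hV W hW hWV hxW]
  letI : Algebra Γ(S, V) Γ(X, W) := (f.appLE V W hWV).hom.toAlgebra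
  letI : Algebra Γ(S, V) Γ(S', V') := (g.appLE V V' hV'V).hom.toAlgebra
  letI : Algebra Γ(X, W) Γ(pullback f g, W') :=
    ((pullback.fst f g).appLE W W' hW'W).hom.toAlgebra
  letI : Algebra Γ(S', V') Γ(pullback f g, W') :=
    ((pullback.snd f g).appLE V' W' hW'V').hom.toAlgebra
  letI : Algebra Γ(S, V) Γ(pullback f g, W') :=
    (((pullback.fst f g).appLE W W' hW'W).hom.comp (f.appLE V W hWV).hom).toAlgebra
  haveI : IsScalarTower Γ(S, V) Γ(X, W) Γ(pullback f g, W') := .of_algebraMap_eq' rfl
  haveI : IsScalarTower Γ(S, V) Γ(S', V') Γ(pullback f g, W') := .of_algebraMap_eq' (by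
    change ((pullback.fst f g).appLE W W' hW'W).hom.comp (f.appLE V W hWV).hom =
      ((pullback.snd f g).appLE V' W' hW'V').hom.comp (g.appLE V V' hV'V).hom
    rw [← CommRingCat.hom_comp, ← CommRingCat.hom_comp, hpo.w])
  haveI : Algebra.IsPushout Γ(S, V) Γ(X, W) Γ(S', V') Γ(pullback f g, W') :=
    CommRingCat.isPushout_iff_isPushout.mp hpo
  haveI : Algebra.IsPushout Γ(S, V) Γ(S', V') Γ(X, W) Γ(pullback f g, W') :=
    Algebra.IsPushout.symm inferInstance
  haveI : Algebra.FiniteType Γ(S, V) Γ(X, W) := f.finiteType_appLE hV hW hWV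
  have hq : PrimeSpectrum.comap (algebraMap Γ(X, W) Γ(pullback f g, W'))
      (hW'.primeIdealOf ⟨x', hx'W'⟩) = hW.primeIdealOf ⟨(pullback.fst f g).base x', hxW⟩ :=
    IsAffineOpen.comap_primeIdealOf_appLE W hW W' hW' hW'W hx'W'
  rw [isUnramifiedAt_iff_of_isPushout Γ(S, V) Γ(S', V') Γ(X, W) Γ(pullback f g, W')
    (hW'.primeIdealOf ⟨x', hx'W'⟩), hq]

end Groth.Agent.H48
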