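import Mathlib
import Groth.Agent.H48.StalkLocal2

/-!
# Regularity ascends and descends along flat unramified local homomorphisms
-/

set_option autoImplicit false
universe u

namespace Groth.Agent.H48

open IsLocalRing

section

variable {A B : Type u} [CommRing A] [CommRing B] [IsLocalRing A] [IsLocalRing B]
  [IsNoetherianRing A] [IsNoetherianRing B] [Algebra A B] [IsLocalHom (algebraMap A B)]
  [Module.Flat A B]

/-- For a flat local homomorphism with `m_A B = m_B`, `dim B = dim A`. -/
theorem ringKrullDim_eq_of_flat_of_map_maximalIdeal
    (hm : (maximalIdeal A).map (algebraMap A B) = maximalIdeal B) :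
    ringKrullDim B = ringKrullDim A := by
  have h := Ideal.height_eq_height_add_of_liesOver_of_hasGoingDown
    (maximalIdeal A) (maximalIdeal B)
  have h0 : ((maximalIdeal B).map
      (Ideal.Quotient.mk ((maximalIdeal A).map (algebraMap A B)))).height = 0 := by
    have hbot : (maximalIdeal B).map
        (Ideal.Quotient.mk ((maximalIdeal A).map (algebraMap A B))) = ⊥ := by
      rw [Ideal.map_eq_bot_iff_le_ker, Ideal.mk_ker, hm]
    rw [hbot]
    haveI : Nontrivial (B ⧸ (maximalIdeal A).map (algebraMap A B)) := by
      rw [hm]; infer_instance
    exact Ideal.height_bot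
  rw [h0, add_zero] at h
  rw [← IsLocalRing.maximalIdeal_height_eq_ringKrullDim,
    ← IsLocalRing.maximalIdeal_height_eq_ringKrullDim, h]

/-- For a flat local homomorphism with `m_A B = m_B`, the embedding dimension does not drop. -/
theorem finrank_cotangentSpace_le
    (hm : (maximalIdeal A).map (algebraMap A B) = maximalIdeal B) :
    Module.finrank (ResidueField A) (CotangentSpace A) ≤
      Module.finrank (ResidueField B) (CotangentSpace B) := by
  classical
  haveI : Module.FaithfullyFlat A B := Module.FaithfullyFlat.of_flat_of_isLocalHom
  let b := Module.finBasis (ResidueField A) (CotangentSpace A)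
  choose x hx using fun i => Ideal.toCotangent_surjective (maximalIdeal A) (b i)
  have hxB : ∀ i, algebraMap A B (x i) ∈ maximalIdeal B := fun i =>
    hm ▸ Ideal.mem_map_of_mem _ (x i).2
  let y : Fin (Module.finrank (ResidueField A) (CotangentSpace A)) → maximalIdeal B :=
    fun i => ⟨algebraMap A B (x i), hxB i⟩
  let w : Fin (Module.finrank (ResidueField A) (CotangentSpace A)) → CotangentSpace B :=
    fun i => (maximalIdeal B).toCotangent (y i)
  have hli : LinearIndependent (ResidueField B) w := by
    rw [Fintype.linearIndependent_iff]
    intro g hg j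
    by_contra hgj
    choose c hc using fun i => residue_surjective (g i)
    have hcj : IsUnit (c j) := by
      rw [← IsLocalRing.notMem_maximalIdeal]
      intro h
      exact hgj (by rw [← hc j]; exact (residue_eq_zero_iff _).mpr h)
    -- the combination lies in `m_B ^ 2`
    have hsum : (∑ i, c i * algebraMap A B (x i)) ∈ maximalIdeal B ^ 2 := by
      have h1 : (maximalIdeal B).toCotangent (∑ i, c i • y i) = 0 := by
        rw [map_sum, ← hg]
        refine Finset.sum_congr rfl fun i _ => ?_
        rw [map_smul, ← hc i]
        exact (algebraMap_smul (ResidueField B) (c i) (w i)).symm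
      have h2 := (Ideal.toCotangent_eq_zero _ _).mp h1
      have h3 : ((∑ i, c i • y i : maximalIdeal B) : B) = ∑ i, c i * algebraMap A B (x i) := by
        rw [Submodule.coe_sum]
        rfl
      rwa [h3] at h2
    -- hence `x j` lies in the ideal generated by the other `x i` and `m_A ^ 2`
    let I : Ideal A := Ideal.span (Set.range fun i : {i // i ≠ j} => ((x i.1 : maximalIdeal A) : A)) ⊔
      maximalIdeal A ^ 2
    have hIm : algebraMap A B (x j) ∈ I.map (algebraMap A B) := by
      rw [← Ideal.unit_mul_mem_iff_mem (I.map (algebraMap A B)) hcj]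
      have hsplit : c j * algebraMap A B (x j) =
          (∑ i, c i * algebraMap A B (x i)) -
            ∑ i ∈ Finset.univ.erase j, c i * algebraMap A B (x i) := by
        rw [eq_sub_iff_add_eq]
        exact Finset.add_sum_erase Finset.univ (fun i => c i * algebraMap A B (x i)) (Finset.mem_univ j)
      rw [hsplit]
      refine Ideal.sub_mem _ ?_ (Ideal.sum_mem _ fun i hi => ?_)
      · have : maximalIdeal B ^ 2 ≤ I.map (algebraMap A B) := by
          rw [← hm, ← Ideal.map_pow]
          exact Ideal.map_mono le_sup_right
        exact this hsum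
      · refine Ideal.mul_mem_left _ _ (Ideal.mem_map_of_mem _ ?_)
        exact le_sup_left (α := Ideal A)
          (Ideal.subset_span ⟨⟨i, (Finset.mem_erase.mp hi).1⟩, rfl⟩)
    have hxI : ((x j : maximalIdeal A) : A) ∈ I := by
      have := Ideal.comap_map_eq_self_of_faithfullyFlat (B := B) I
      rw [← this]
      exact hIm
    -- contradiction with linear independence of the basis
    obtain ⟨u, hu, z, hz, huz⟩ := Submodule.mem_sup.mp hxI
    obtain ⟨a, ha⟩ := (Ideal.mem_span_range_iff_exists_fun).mp hu
    let u' : maximalIdeal A := ∑ i : {i // i ≠ j}, a i • x i.1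
    have hu' : ((u' : maximalIdeal A) : A) = u := by
      rw [← ha, Submodule.coe_sum]
      rfl
    have hz' : (maximalIdeal A).toCotangent (x j - u') = 0 := by
      rw [Ideal.toCotangent_eq_zero]
      have : ((x j - u' : maximalIdeal A) : A) = z := by
        rw [Submodule.coe_sub, hu', ← huz]; ring
      rw [this]; exact hz
    have hbj : b j = ∑ i : {i // i ≠ j}, a i • b i.1 := by
      rw [map_sub, sub_eq_zero, hx j] at hz'
      rw [hz', map_sum]
      refine Finset.sum_congr rfl fun i _ => ?_
      rw [map_smul, hx i.1]
    have hmem : b j ∈ Submodule.span (ResidueField A) (b '' {i | i ≠ j}) := by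
      rw [hbj]
      refine Submodule.sum_mem _ fun i _ => ?_
      rw [← algebraMap_smul (ResidueField A) (a i) (b i.1)]
      exact Submodule.smul_mem _ _ (Submodule.subset_span ⟨i.1, i.2, rfl⟩)
    exact b.linearIndependent.notMem_span_image (s := {i | i ≠ j}) (x := j) (by simp) hmem
  simpa using hli.fintype_card_le_finrank

/-- Regularity ascends and descends along flat local homomorphisms with `m_A B = m_B`. -/
theorem isRegularLocalRing_iff_of_flat_of_map_maximalIdeal
    (hm : (maximalIdeal A).map (algebraMap A B) = maximalIdeal B) :
    IsRegularLocalRing B ↔ IsRegularLocalRing A := by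
  have hdim := ringKrullDim_eq_of_flat_of_map_maximalIdeal hm
  constructor
  · intro hB
    apply IsRegularLocalRing.of_spanFinrank_maximalIdeal_le
    rw [spanFinrank_maximalIdeal_eq_finrank_cotangentSpace]
    calc ((Module.finrank (ResidueField A) (CotangentSpace A) : ℕ) : WithBot ℕ∞)
        ≤ (Module.finrank (ResidueField B) (CotangentSpace B) : ℕ) := by
          exact_mod_cast finrank_cotangentSpace_le hm
      _ = ringKrullDim B := (IsRegularLocalRing.iff_finrank_cotangentSpace B).mp hB
      _ = ringKrullDim A := hdim
  · intro hA
    apply IsRegularLocalRing.of_spanFinrank_maximalIdeal_le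
    rw [← hm]
    calc (((maximalIdeal A).map (algebraMap A B)).spanFinrank : WithBot ℕ∞)
        ≤ ((maximalIdeal A).spanFinrank : ℕ) := by
          exact_mod_cast Ideal.spanFinrank_map_le_of_fg _ (maximalIdeal A).fg_of_isNoetherianRing
      _ = ringKrullDim A := hA.spanFinrank_maximalIdeal
      _ = ringKrullDim B := hdim.symm

end

end Groth.Agent.H48
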