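import Mathlib

/-!
# Flatness descends to a finite stage, part 1: general module lemmas

`R` a commutative ring, `I` an ideal, `π : F → M` a surjection with kernel `K`.

* `inf_smul_top_le_smul_of_flat`: `M` flat ⇒ `K ⊓ I F ≤ I K`.
* `rTensor_subtype_injective_of_inf_le`: `F` flat and `K ⊓ I F ≤ I K` ⇒ `I ⊗ M → R ⊗ M` injective.
* `lTensor_ker_baseChange_subtype_injective`: if `M / I M` is flat over `R / I`, the kernel of
  `π mod I` is universally injective in `F / I F` (as `R`-modules).
* `lTensor_mem_range_of_mem_smul_top`: if `M / I M` is flat over `R / I`, then for every `R`-module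
  `X`, an element of the image of `X ⊗ K` in `X ⊗ F` lying in `I (X ⊗ F)` comes from
  `X ⊗ (K ⊓ I F)` ("the formation of `K ⊓ I F` commutes with base change").
-/

open TensorProduct LinearMap

namespace Groth.Agent.H48.FlatLimit

section General

variable {R : Type*} [CommRing R] (I : Ideal R)

lemma mem_smul_top_of_one_tmul_eq_zero {Y : Type*} [AddCommGroup Y] [Module R Y] (y : Y)
    (h : (1 : R ⧸ I) ⊗ₜ[R] y = 0) : y ∈ I • (⊤ : Submodule R Y) := by
  have h2 := congrArg (TensorProduct.quotTensorEquivQuotSMul Y I) h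
  rwa [TensorProduct.quotTensorEquivQuotSMul_mk_one_tmul, map_zero,
    Submodule.Quotient.mk_eq_zero] at h2

lemma smul_eq_zero_of_mem {Y : Type*} [AddCommGroup Y] [Module R Y] [Module (R ⧸ I) Y]
    [IsScalarTower R (R ⧸ I) Y] {i : R} (hi : i ∈ I) (y : Y) : i • y = 0 := by
  rw [← algebraMap_smul (R ⧸ I) i y, Ideal.Quotient.algebraMap_eq,
    Ideal.Quotient.eq_zero_iff_mem.mpr hi, zero_smul]

lemma one_tmul_eq_zero_of_mem_smul_top {Y : Type*} [AddCommGroup Y] [Module R Y] (y : Y)
    (h : y ∈ I • (⊤ : Submodule R Y)) : (1 : R ⧸ I) ⊗ₜ[R] y = 0 := by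
  refine Submodule.smul_induction_on h (fun r hr n _ => ?_) (fun a b ha hb => ?_)
  · rw [← TensorProduct.smul_tmul, smul_eq_zero_of_mem I hr, zero_tmul]
  · rw [tmul_add, ha, hb, add_zero]

lemma exists_one_tmul {Y : Type*} [AddCommGroup Y] [Module R Y] (z : (R ⧸ I) ⊗[R] Y) :
    ∃ y : Y, z = (1 : R ⧸ I) ⊗ₜ[R] y := by
  induction z using TensorProduct.induction_on with
  | zero => exact ⟨0, (tmul_zero _ _).symm⟩
  | tmul a y =>
    obtain ⟨r, rfl⟩ := Ideal.Quotient.mk_surjective a
    refine ⟨r • y, ?_⟩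
    have : (Ideal.Quotient.mk I r) = r • (1 : R ⧸ I) := by
      rw [Algebra.smul_def, mul_one]; rfl
    rw [this, TensorProduct.smul_tmul]
  | add a b ha hb =>
    obtain ⟨ya, rfl⟩ := ha
    obtain ⟨yb, rfl⟩ := hb
    exact ⟨ya + yb, (tmul_add _ _ _).symm⟩

/-- If `M = F / K` is flat then `K ⊓ I F ≤ I K`. -/
lemma inf_smul_top_le_smul_of_flat {F M : Type*} [AddCommGroup F] [Module R F] [AddCommGroup M]
    [Module R M] (π : F →ₗ[R] M) (hπ : Function.Surjective π) [Module.Flat R M] :
    LinearMap.ker π ⊓ I • (⊤ : Submodule R F) ≤ I • LinearMap.ker π := by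
  rintro g ⟨hgK, hgI⟩
  have hinj : Function.Injective ((LinearMap.ker π).subtype.lTensor (R ⧸ I)) :=
    LinearMap.lTensor_injective_of_exact_of_flat π hπ (LinearMap.ker π).subtype
      (Submodule.injective_subtype _) (LinearMap.exact_subtype_ker_map π) (R ⧸ I)
  have h0 : (1 : R ⧸ I) ⊗ₜ[R] (⟨g, hgK⟩ : LinearMap.ker π) = 0 := by
    apply hinj
    rw [LinearMap.lTensor_tmul, map_zero]
    exact one_tmul_eq_zero_of_mem_smul_top I g hgI
  have h1 := mem_smul_top_of_one_tmul_eq_zero I (⟨g, hgK⟩ : LinearMap.ker π) h0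
  have h2 := Submodule.mem_map_of_mem (f := (LinearMap.ker π).subtype) h1
  rwa [Submodule.map_smul'', Submodule.map_top, Submodule.range_subtype] at h2

/-- If `F` is flat and `K ⊓ I F ≤ I K` then `I ⊗ M → R ⊗ M` is injective (`M = F / K`). -/
lemma rTensor_subtype_injective_of_inf_le {F M : Type*} [AddCommGroup F] [Module R F]
    [AddCommGroup M] [Module R M] [Module.Flat R F] (π : F →ₗ[R] M) (hπ : Function.Surjective π)
    (h : LinearMap.ker π ⊓ I • (⊤ : Submodule R F) ≤ I • LinearMap.ker π) :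
    Function.Injective (rTensor M I.subtype) := by
  set K := LinearMap.ker π with hK
  have key1 : ∀ z : I ⊗[R] F, TensorProduct.lid R F (rTensor F I.subtype z) ∈
      I • (⊤ : Submodule R F) := by
    intro z
    induction z using TensorProduct.induction_on with
    | zero => simp
    | tmul i f =>
      rw [rTensor_tmul, Submodule.subtype_apply, TensorProduct.lid_tmul]
      exact Submodule.smul_mem_smul i.2 Submodule.mem_top
    | add a b ha hb => rw [map_add, map_add]; exact add_mem ha hb
  have key2 : ∀ w ∈ I • K, ∃ z : I ⊗[R] K,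
      TensorProduct.lid R F (rTensor F I.subtype (lTensor I K.subtype z)) = w := by
    intro w hw
    refine Submodule.smul_induction_on hw
      (fun i hi κ hκ => ⟨(⟨i, hi⟩ : I) ⊗ₜ (⟨κ, hκ⟩ : K), ?_⟩)
      (fun a b ⟨za, ha⟩ ⟨zb, hb⟩ => ⟨za + zb, by rw [map_add, map_add, map_add, ha, hb]⟩)
    rw [lTensor_tmul, rTensor_tmul, Submodule.subtype_apply, Submodule.subtype_apply,
      TensorProduct.lid_tmul]
  have key3 : ∀ z : R ⊗[R] F,
      π (TensorProduct.lid R F z) = TensorProduct.lid R M (lTensor R π z) := by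
    intro z
    induction z using TensorProduct.induction_on with
    | zero => simp
    | tmul r f => simp
    | add a b ha hb => simp only [map_add, ha, hb]
  rw [injective_iff_map_eq_zero]
  intro x hx
  obtain ⟨y, rfl⟩ := LinearMap.lTensor_surjective I hπ x
  have hsq : (lTensor R π) (rTensor F I.subtype y) = rTensor M I.subtype (lTensor I π y) := by
    rw [← LinearMap.comp_apply, ← LinearMap.comp_apply, LinearMap.lTensor_comp_rTensor,
      LinearMap.rTensor_comp_lTensor]
  rw [hx] at hsq
  have hyK : TensorProduct.lid R F (rTensor F I.subtype y) ∈ K := by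
    rw [hK, LinearMap.mem_ker, key3, hsq, map_zero]
  obtain ⟨z, hz⟩ := key2 _ (h ⟨hyK, key1 y⟩)
  have h1 : rTensor F I.subtype (lTensor I K.subtype z) = rTensor F I.subtype y :=
    (TensorProduct.lid R F).injective hz
  have h2 : lTensor I K.subtype z = y :=
    Module.Flat.rTensor_preserves_injective_linearMap I.subtype (Submodule.injective_subtype _) h1
  rw [← h2, ← LinearMap.comp_apply, ← LinearMap.lTensor_comp]
  have : π ∘ₗ K.subtype = 0 := by rw [hK]; exact LinearMap.comp_ker_subtype π
  rw [this, LinearMap.lTensor_zero, LinearMap.zero_apply]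

section U

variable {A : Type*} [CommRing A] [Algebra R A]

lemma smul_eq_zero_of_mem_ker {Y : Type*} [AddCommGroup Y] [Module R Y] [Module A Y]
    [IsScalarTower R A Y] {i : R} (hi : i ∈ RingHom.ker (algebraMap R A)) (y : Y) : i • y = 0 := by
  rw [← algebraMap_smul A i y, (RingHom.mem_ker).mp hi, zero_smul]

lemma one_tmul_eq_zero_of_mem_ker_smul_top {Y : Type*} [AddCommGroup Y] [Module R Y] (y : Y)
    (h : y ∈ RingHom.ker (algebraMap R A) • (⊤ : Submodule R Y)) : (1 : A) ⊗ₜ[R] y = 0 := by
  refine Submodule.smul_induction_on h (fun r hr n _ => ?_) (fun a b ha hb => ?_)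
  · rw [← TensorProduct.smul_tmul, smul_eq_zero_of_mem_ker hr, zero_tmul]
  · rw [tmul_add, ha, hb, add_zero]

lemma mem_ker_smul_top_of_one_tmul_eq_zero (hA : Function.Surjective (algebraMap R A))
    {Y : Type*} [AddCommGroup Y] [Module R Y] (y : Y) (hy : (1 : A) ⊗ₜ[R] y = 0) :
    y ∈ RingHom.ker (algebraMap R A) • (⊤ : Submodule R Y) := by
  have hs' : Function.Surjective (Algebra.ofId R A) := hA
  let e : (R ⧸ RingHom.ker (Algebra.ofId R A)) ≃ₐ[R] A :=
    Ideal.quotientKerAlgEquivOfSurjective hs'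
  have h1 : (1 : R ⧸ RingHom.ker (Algebra.ofId R A)) ⊗ₜ[R] y = 0 := by
    have := congrArg (TensorProduct.congr e.symm.toLinearEquiv (LinearEquiv.refl R Y)) hy
    simpa using this
  have h2 := congrArg (TensorProduct.quotTensorEquivQuotSMul Y (RingHom.ker (Algebra.ofId R A))) h1
  rw [TensorProduct.quotTensorEquivQuotSMul_mk_one_tmul, map_zero,
    Submodule.Quotient.mk_eq_zero] at h2
  exact h2

lemma exists_one_tmul' (hA : Function.Surjective (algebraMap R A))
    {Y : Type*} [AddCommGroup Y] [Module R Y] (z : A ⊗[R] Y) :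
    ∃ y : Y, z = (1 : A) ⊗ₜ[R] y := by
  induction z using TensorProduct.induction_on with
  | zero => exact ⟨0, (tmul_zero _ _).symm⟩
  | tmul a y =>
    obtain ⟨r, rfl⟩ := hA a
    refine ⟨r • y, ?_⟩
    rw [Algebra.algebraMap_eq_smul_one, TensorProduct.smul_tmul]
  | add a b ha hb =>
    obtain ⟨ya, rfl⟩ := ha
    obtain ⟨yb, rfl⟩ := hb
    exact ⟨ya + yb, (tmul_add _ _ _).symm⟩

lemma ker_subtype_lTensor_injective {N Q : Type*} [AddCommGroup N] [Module A N]
    [AddCommGroup Q] [Module A Q] [Module.Flat A Q]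
    (f : N →ₗ[A] Q) (hf : Function.Surjective f) (Y : Type*) [AddCommGroup Y] [Module A Y] :
    Function.Injective ((LinearMap.ker f).subtype.lTensor Y) :=
  LinearMap.lTensor_injective_of_exact_of_flat f hf
    (LinearMap.ker f).subtype (Submodule.injective_subtype _)
    (LinearMap.exact_subtype_ker_map f) Y

section Abstract

variable {P M Pb Mb : Type*} [AddCommGroup P] [Module R P] [AddCommGroup M] [Module R M]
  [AddCommGroup Pb] [Module R Pb] [Module A Pb] [IsScalarTower R A Pb]
  [AddCommGroup Mb] [Module A Mb]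
  (π : P →ₗ[R] M) (πb : Pb →ₗ[A] Mb) (η : P →ₗ[R] Pb)

/-- If `Mb` is flat over `A`, then the kernel of `πb : Pb → Mb` is universally injective
(over `R`) in `Pb`. -/
lemma lTensor_ker_subtype_restrictScalars_injective (hπb : Function.Surjective πb)
    [Module.Flat A Mb] (X : Type*) [AddCommGroup X] [Module R X] :
    Function.Injective
      (lTensor X ((LinearMap.ker πb).subtype.restrictScalars R)) := by
  rw [LinearMap.lTensor_inj_iff_rTensor_inj]
  have hflat : Function.Injective ((LinearMap.ker πb).subtype.rTensor (A ⊗[R] X)) := by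
    rw [← LinearMap.lTensor_inj_iff_rTensor_inj]
    exact ker_subtype_lTensor_injective πb hπb (A ⊗[R] X)
  let eK := AlgebraTensorModule.cancelBaseChange R A A (LinearMap.ker πb) X
  let eP := AlgebraTensorModule.cancelBaseChange R A A Pb X
  have hsq : ∀ z, eP ((LinearMap.ker πb).subtype.rTensor (A ⊗[R] X) z) =
      rTensor X ((LinearMap.ker πb).subtype.restrictScalars R) (eK z) := by
    intro z
    induction z using TensorProduct.induction_on with
    | zero => simp
    | add a b ha hb => simp only [map_add, ha, hb]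
    | tmul k x =>
      induction x using TensorProduct.induction_on with
      | zero => simp
      | add a b ha hb => simp only [tmul_add, map_add, ha, hb]
      | tmul a x =>
        simp [eK, eP, AlgebraTensorModule.cancelBaseChange_tmul]
  intro z₁ z₂ hz
  obtain ⟨w₁, rfl⟩ := eK.surjective z₁
  obtain ⟨w₂, rfl⟩ := eK.surjective z₂
  rw [← hsq, ← hsq] at hz
  exact congrArg eK (hflat (eP.injective hz))

/-- The `R`-linear map from `K = ker π` to `K̄ = ker πb` induced by `η`. -/
noncomputable def kerToKer (h1 : ∀ κ ∈ LinearMap.ker π, η κ ∈ LinearMap.ker πb) :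
    LinearMap.ker π →ₗ[R] LinearMap.ker πb where
  toFun κ := ⟨η κ, h1 κ κ.2⟩
  map_add' a b := Subtype.ext (by
    change η ((a : P) + (b : P)) = η (a : P) + η (b : P)
    rw [map_add])
  map_smul' r a := Subtype.ext (by
    change η (r • (a : P)) = r • η (a : P)
    rw [map_smul])

lemma lTensor_eq_zero_of_mem_smul_top (X : Type*) [AddCommGroup X] [Module R X]
    (w : X ⊗[R] P) (hw : w ∈ RingHom.ker (algebraMap R A) • (⊤ : Submodule R (X ⊗[R] P))) :
    lTensor X η w = 0 := by
  refine Submodule.smul_induction_on hw (fun i hi t _ => ?_)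
    (fun a b ha hb => by rw [map_add, ha, hb, add_zero])
  rw [map_smul]
  generalize lTensor X η t = t'
  induction t' using TensorProduct.induction_on with
  | zero => simp
  | tmul x q => rw [← TensorProduct.tmul_smul, smul_eq_zero_of_mem_ker (A := A) hi q, tmul_zero]
  | add a b ha hb => rw [smul_add, ha, hb, add_zero]

/-- Abstract form of the base change of `K ⊓ I P`. -/
theorem lTensor_mem_range_of_mem_smul_top_aux (hπb : Function.Surjective πb)
    [Module.Flat A Mb]
    (h1 : ∀ κ ∈ LinearMap.ker π, η κ ∈ LinearMap.ker πb)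
    (h2 : ∀ p, η p = 0 → p ∈ RingHom.ker (algebraMap R A) • (⊤ : Submodule R P))
    (h3 : ∀ z ∈ LinearMap.ker πb, ∃ κ ∈ LinearMap.ker π, η κ = z)
    (𝒯 : Submodule R P)
    (h𝒯 : ∀ p, p ∈ LinearMap.ker π →
      p ∈ RingHom.ker (algebraMap R A) • (⊤ : Submodule R P) → p ∈ 𝒯)
    (X : Type*) [AddCommGroup X] [Module R X] (ζ : X ⊗[R] LinearMap.ker π)
    (hζ : lTensor X (LinearMap.ker π).subtype ζ ∈
      RingHom.ker (algebraMap R A) • (⊤ : Submodule R (X ⊗[R] P))) :
    lTensor X (LinearMap.ker π).subtype ζ ∈ LinearMap.range (lTensor X 𝒯.subtype) := by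
  have hcomp : ((LinearMap.ker πb).subtype.restrictScalars R) ∘ₗ
      kerToKer π πb η h1 = η ∘ₗ (LinearMap.ker π).subtype :=
    LinearMap.ext fun _ => rfl
  have h0 : lTensor X (kerToKer π πb η h1) ζ = 0 := by
    apply lTensor_ker_subtype_restrictScalars_injective πb hπb X
    rw [map_zero, ← LinearMap.comp_apply, ← lTensor_comp, hcomp, lTensor_comp,
      LinearMap.comp_apply]
    exact lTensor_eq_zero_of_mem_smul_top (A := A) η X _ hζ
  have hex : Function.Exact
      ((RingHom.ker (algebraMap R A) • (⊤ : Submodule R P)).comap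
        (LinearMap.ker π).subtype).subtype (kerToKer π πb η h1) := by
    intro κ
    constructor
    · intro h
      have h' : η (κ : P) = 0 := congrArg Subtype.val h
      exact ⟨⟨κ, h2 _ h'⟩, rfl⟩
    · rintro ⟨c, rfl⟩
      apply Subtype.ext
      change η ((c : LinearMap.ker π) : P) = 0
      have hc : ((c : LinearMap.ker π) : P) ∈
          RingHom.ker (algebraMap R A) • (⊤ : Submodule R P) := c.2
      refine Submodule.smul_induction_on hc (fun i hi t _ => ?_)
        (fun a b ha hb => by rw [map_add, ha, hb, add_zero])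
      rw [map_smul, smul_eq_zero_of_mem_ker (A := A) hi]
  have hsurj : Function.Surjective (kerToKer π πb η h1) := by
    rintro ⟨z, hz⟩
    obtain ⟨κ, hκ, rfl⟩ := h3 z hz
    exact ⟨⟨κ, hκ⟩, rfl⟩
  obtain ⟨ζ', hζ'⟩ := (lTensor_exact X hex hsurj ζ).mp h0
  have hmem : ∀ c : ((RingHom.ker (algebraMap R A) • (⊤ : Submodule R P)).comap
      (LinearMap.ker π).subtype), ((LinearMap.ker π).subtype ∘ₗ
        ((RingHom.ker (algebraMap R A) • (⊤ : Submodule R P)).comap
          (LinearMap.ker π).subtype).subtype) c ∈ 𝒯 := by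
    intro c
    exact h𝒯 _ c.1.2 c.2
  have hθ : 𝒯.subtype ∘ₗ (LinearMap.codRestrict 𝒯 _ hmem) = (LinearMap.ker π).subtype ∘ₗ
      ((RingHom.ker (algebraMap R A) • (⊤ : Submodule R P)).comap
        (LinearMap.ker π).subtype).subtype := LinearMap.ext fun _ => rfl
  refine ⟨lTensor X (LinearMap.codRestrict 𝒯 _ hmem) ζ', ?_⟩
  rw [← hζ', ← LinearMap.comp_apply, ← LinearMap.comp_apply, ← lTensor_comp, ← lTensor_comp, hθ]

end Abstract

variable {P M : Type*} [AddCommGroup P] [Module R P] [AddCommGroup M] [Module R M]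
  (π : P →ₗ[R] M) (hπ : Function.Surjective π)

include hπ in
/-- **Base change of `K ⊓ I P`.** Let `A = R / I`. If `A ⊗ M` is flat over `A` (`M = P / K`),
then for every `R`-module `X`, every element of the image of `X ⊗ K → X ⊗ P` which lies in
`I (X ⊗ P)` lies in the image of `X ⊗ 𝒯`, where `𝒯 ⊇ K ⊓ I P`. -/
theorem lTensor_mem_range_of_mem_smul_top (hA : Function.Surjective (algebraMap R A))
    [Module.Flat A (A ⊗[R] M)]
    (K 𝒯 : Submodule R P) (hK : K = LinearMap.ker π)
    (h𝒯 : ∀ p, p ∈ K → p ∈ RingHom.ker (algebraMap R A) • (⊤ : Submodule R P) → p ∈ 𝒯)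
    (X : Type*) [AddCommGroup X] [Module R X] (ζ : X ⊗[R] K)
    (hζ : lTensor X K.subtype ζ ∈
      RingHom.ker (algebraMap R A) • (⊤ : Submodule R (X ⊗[R] P))) :
    lTensor X K.subtype ζ ∈ LinearMap.range (lTensor X 𝒯.subtype) := by
  subst hK
  have hπb : Function.Surjective (π.baseChange A) := by
    intro z
    obtain ⟨w, hw⟩ := LinearMap.lTensor_surjective A hπ z
    exact ⟨w, hw⟩
  refine lTensor_mem_range_of_mem_smul_top_aux (A := A) π (π.baseChange A)
    (TensorProduct.mk R A P 1) hπb ?_ ?_ ?_ 𝒯 h𝒯 X ζ hζ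
  · intro κ hκ
    rw [LinearMap.mem_ker, TensorProduct.mk_apply, LinearMap.baseChange_tmul,
      LinearMap.mem_ker.mp hκ, tmul_zero]
  · intro p hp
    exact mem_ker_smul_top_of_one_tmul_eq_zero hA p hp
  · intro z hz
    have hz' : z ∈ LinearMap.ker (lTensor A π) := hz
    rw [(lTensor_exact A (LinearMap.exact_subtype_ker_map π) hπ).linearMap_ker_eq] at hz'
    obtain ⟨w, rfl⟩ := hz'
    obtain ⟨κ, rfl⟩ := exists_one_tmul' hA w
    exact ⟨κ, κ.2, rfl⟩

end U

end General

end Groth.Agent.H48.FlatLimit
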