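import Mathlib
import Groth.Agent.H48.FlatLimit1
import Groth.Agent.H57.LocalCrit

/-!
# Flatness descends to a finite stage, part 2

`R₀` Noetherian, `B₁` a finite type `R₀`-algebra, `I` an ideal of `R₀` with `B₁ / I B₁` flat over
`R₀ / I`, `T` an `R₀`-algebra with `T ⊗ B₁` flat over `T`.  Then for all sufficiently large finitely
generated subalgebras `S` of `T`, `S ⊗ B₁` is flat over `S` at all primes containing `I`
(`exists_fg_flat_localization_of_flat_mod`).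
-/

open TensorProduct LinearMap

namespace Groth.Agent.H48.FlatLimit

universe u

section AlgForm

variable {T A B : Type*} [CommRing T] [CommRing A] [CommRing B] [Algebra T A] [Algebra T B]
  (f : A →ₐ[T] B) (hf : Function.Surjective f) (𝔞 : Ideal T)

lemma ker_toLinearMap_eq :
    LinearMap.ker f.toLinearMap = (RingHom.ker f).restrictScalars T :=
  Submodule.ext fun x => by
    rw [LinearMap.mem_ker, Submodule.restrictScalars_mem, RingHom.mem_ker]; rfl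

lemma smul_ker_toLinearMap_eq :
    𝔞 • LinearMap.ker f.toLinearMap =
      (𝔞.map (algebraMap T A) * RingHom.ker f).restrictScalars T := by
  rw [ker_toLinearMap_eq, ← Ideal.smul_restrictScalars, smul_eq_mul]

include hf in
lemma ker_inf_map_le_of_flat [Module.Flat T B] :
    RingHom.ker f ⊓ 𝔞.map (algebraMap T A) ≤ 𝔞.map (algebraMap T A) * RingHom.ker f := by
  intro y hy
  have h := inf_smul_top_le_smul_of_flat 𝔞 f.toLinearMap hf
  have hy' : y ∈ LinearMap.ker f.toLinearMap ⊓ 𝔞 • (⊤ : Submodule T A) := by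
    refine ⟨?_, ?_⟩
    · rw [ker_toLinearMap_eq]; exact hy.1
    · rw [Ideal.smul_top_eq_map]; exact hy.2
  have h2 := h hy'
  rw [smul_ker_toLinearMap_eq] at h2
  exact h2

include hf in
lemma rTensor_subtype_injective_of_ker_inf_le [Module.Flat T A]
    (h : RingHom.ker f ⊓ 𝔞.map (algebraMap T A) ≤ 𝔞.map (algebraMap T A) * RingHom.ker f) :
    Function.Injective (rTensor B 𝔞.subtype) := by
  refine rTensor_subtype_injective_of_inf_le 𝔞 f.toLinearMap hf ?_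
  rintro y ⟨hy1, hy2⟩
  rw [smul_ker_toLinearMap_eq]
  rw [ker_toLinearMap_eq] at hy1
  rw [Ideal.smul_top_eq_map] at hy2
  exact h ⟨hy1, hy2⟩

end AlgForm

section Stage

variable {R₀ : Type u} [CommRing R₀] {P₀ B₁ : Type u} [CommRing P₀] [CommRing B₁]
  [Algebra R₀ P₀] [Algebra R₀ B₁] (π₀ : P₀ →ₐ[R₀] B₁) (hπ₀ : Function.Surjective π₀) (I : Ideal R₀)

variable (R₀) in
/-- Extension of an ideal of `P₀` to `T ⊗ P₀`. -/
abbrev ext (T : Type*) [CommRing T] [Algebra R₀ T] (𝔟 : Ideal P₀) : Ideal (T ⊗[R₀] P₀) :=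
  𝔟.map (Algebra.TensorProduct.includeRight : P₀ →ₐ[R₀] T ⊗[R₀] P₀)

section OneT

variable (T : Type*) [CommRing T] [Algebra R₀ T]

/-- The base change of `π₀` to `T`. -/
noncomputable abbrev πT : T ⊗[R₀] P₀ →ₐ[T] T ⊗[R₀] B₁ :=
  Algebra.TensorProduct.map (AlgHom.id T T) π₀

lemma ext_mul (𝔟 𝔠 : Ideal P₀) : ext R₀ T (𝔟 * 𝔠) = ext R₀ T 𝔟 * ext R₀ T 𝔠 :=
  Ideal.map_mul _ _ _

lemma ext_map_algebraMap :
    ext R₀ T (I.map (algebraMap R₀ P₀)) = I.map (algebraMap R₀ (T ⊗[R₀] P₀)) := by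
  change Ideal.map (Algebra.TensorProduct.includeRight : P₀ →ₐ[R₀] T ⊗[R₀] P₀).toRingHom _ = _
  rw [Ideal.map_map]
  congr 1
  exact RingHom.ext fun r => by simp

lemma map_map_algebraMap :
    (I.map (algebraMap R₀ T)).map (algebraMap T (T ⊗[R₀] P₀)) =
      I.map (algebraMap R₀ (T ⊗[R₀] P₀)) := by
  rw [Ideal.map_map, ← IsScalarTower.algebraMap_eq]

include hπ₀ in
lemma ker_map_id_eq :
    RingHom.ker (πT π₀ T) = ext R₀ T (RingHom.ker π₀) := by
  rw [ext, ← Algebra.TensorProduct.lTensor_ker (A := T) π₀ hπ₀]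
  ext x
  rw [RingHom.mem_ker, RingHom.mem_ker]
  rfl

lemma map_id_surjective (hπ₀ : Function.Surjective π₀) :
    Function.Surjective (πT π₀ T) := by
  intro z
  obtain ⟨w, hw⟩ := LinearMap.lTensor_surjective T (g := π₀.toLinearMap) hπ₀ z
  exact ⟨w, hw⟩

include hπ₀ in
/-- flatness of `T ⊗ B₁` over `T` gives `K_T ⊓ I N_T ≤ I N_T K_T`. -/
lemma ext_inf_le_of_flat [Module.Flat T (T ⊗[R₀] B₁)] :
    ext R₀ T (RingHom.ker π₀) ⊓ ext R₀ T (I.map (algebraMap R₀ P₀)) ≤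
      ext R₀ T (I.map (algebraMap R₀ P₀) * RingHom.ker π₀) := by
  have h := ker_inf_map_le_of_flat (πT π₀ T)
    (map_id_surjective π₀ T hπ₀) (I.map (algebraMap R₀ T))
  rw [ker_map_id_eq π₀ hπ₀ T, map_map_algebraMap, ← ext_map_algebraMap] at h
  rw [ext_mul]
  exact h

include hπ₀ in
/-- `K_T ⊓ I N_T ≤ I N_T K_T` gives injectivity of `I_T ⊗ (T ⊗ B₁) → T ⊗ B₁`. -/
lemma rTensor_injective_of_ext_inf_le [Module.Flat R₀ P₀]
    (h : ext R₀ T (RingHom.ker π₀) ⊓ ext R₀ T (I.map (algebraMap R₀ P₀)) ≤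
      ext R₀ T (I.map (algebraMap R₀ P₀) * RingHom.ker π₀)) :
    Function.Injective (rTensor (T ⊗[R₀] B₁) (I.map (algebraMap R₀ T)).subtype) := by
  refine rTensor_subtype_injective_of_ker_inf_le (πT π₀ T)
    (map_id_surjective π₀ T hπ₀) (I.map (algebraMap R₀ T)) ?_
  rw [ker_map_id_eq π₀ hπ₀ T, map_map_algebraMap, ← ext_map_algebraMap]
  rw [ext_mul] at h
  exact h

include hπ₀ in
/-- If `B₁ / I B₁` is flat over `R₀ / I`, the formation of `K ⊓ I P₀` commutes with base change. -/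
lemma ext_inf_le_ext_inf [Module.Flat (R₀ ⧸ I) ((R₀ ⧸ I) ⊗[R₀] B₁)] :
    ext R₀ T (RingHom.ker π₀) ⊓ ext R₀ T (I.map (algebraMap R₀ P₀)) ≤
      ext R₀ T (RingHom.ker π₀ ⊓ I.map (algebraMap R₀ P₀)) := by
  rintro y ⟨hy1, hy2⟩
  have hker : RingHom.ker (algebraMap R₀ (R₀ ⧸ I)) = I := by
    rw [Ideal.Quotient.algebraMap_eq]; exact Ideal.mk_ker
  have hy1' : y ∈ (ext R₀ T (RingHom.ker π₀)).restrictScalars R₀ := hy1
  rw [Ideal.map_includeRight_eq] at hy1'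
  obtain ⟨ζ, rfl⟩ := hy1'
  rw [ext_map_algebraMap] at hy2
  have hy2' : lTensor T ((RingHom.ker π₀).restrictScalars R₀).subtype ζ ∈
      RingHom.ker (algebraMap R₀ (R₀ ⧸ I)) • (⊤ : Submodule R₀ (T ⊗[R₀] P₀)) := by
    rw [hker, Ideal.smul_top_eq_map]; exact hy2
  have := lTensor_mem_range_of_mem_smul_top (A := R₀ ⧸ I) π₀.toLinearMap hπ₀
    Ideal.Quotient.mk_surjective ((RingHom.ker π₀).restrictScalars R₀)
    ((RingHom.ker π₀ ⊓ I.map (algebraMap R₀ P₀)).restrictScalars R₀)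
    (ker_toLinearMap_eq π₀).symm ?_ T ζ hy2'
  · have h3 : lTensor T ((RingHom.ker π₀).restrictScalars R₀).subtype ζ ∈
        (ext R₀ T (RingHom.ker π₀ ⊓ I.map (algebraMap R₀ P₀))).restrictScalars R₀ := by
      rw [Ideal.map_includeRight_eq]; exact this
    exact h3
  · intro p hp1 hp2
    rw [hker, Ideal.smul_top_eq_map] at hp2
    exact ⟨hp1, hp2⟩

end OneT

section Ev

variable (T : Type u) [CommRing T] [Algebra R₀ T]

/-- "For all sufficiently large finitely generated subalgebras". -/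
def Ev (p : Subalgebra R₀ T → Prop) : Prop :=
  ∃ S₀ : Subalgebra R₀ T, S₀.FG ∧ ∀ S : Subalgebra R₀ T, S₀ ≤ S → p S

variable {T}

lemma Ev.of_forall {p : Subalgebra R₀ T → Prop} (h : ∀ S, p S) : Ev T p :=
  ⟨⊥, Subalgebra.fg_bot, fun S _ => h S⟩

lemma Ev.and {p q : Subalgebra R₀ T → Prop} (hp : Ev T p) (hq : Ev T q) :
    Ev T (fun S => p S ∧ q S) := by
  obtain ⟨S₁, h₁, hp⟩ := hp
  obtain ⟨S₂, h₂, hq⟩ := hq
  exact ⟨S₁ ⊔ S₂, h₁.sup h₂, fun S hS => ⟨hp S (le_sup_left.trans hS), hq S (le_sup_right.trans hS)⟩⟩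

lemma Ev.mono {p q : Subalgebra R₀ T → Prop} (hp : Ev T p) (h : ∀ S, p S → q S) : Ev T q := by
  obtain ⟨S₁, h₁, hp⟩ := hp
  exact ⟨S₁, h₁, fun S hS => h S (hp S hS)⟩

lemma Ev.forall_finset {ι : Type*} (s : Finset ι) {p : ι → Subalgebra R₀ T → Prop}
    (h : ∀ i ∈ s, Ev T (p i)) : Ev T (fun S => ∀ i ∈ s, p i S) := by
  classical
  induction s using Finset.induction_on with
  | empty => exact Ev.of_forall fun S i hi => absurd hi (Finset.notMem_empty i)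
  | insert a s ha ih =>
    have h1 := h a (Finset.mem_insert_self a s)
    have h2 := ih fun i hi => h i (Finset.mem_insert_of_mem hi)
    refine (h1.and h2).mono fun S hS i hi => ?_
    rcases Finset.mem_insert.mp hi with rfl | hi
    · exact hS.1
    · exact hS.2 i hi

variable (P₀) in
/-- The comparison map `S ⊗ P₀ → T ⊗ P₀`. -/
noncomputable def φ (S : Subalgebra R₀ T) : ↥S ⊗[R₀] P₀ →ₐ[R₀] T ⊗[R₀] P₀ :=
  Algebra.TensorProduct.map S.val (AlgHom.id R₀ P₀)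

lemma φ_tmul (S : Subalgebra R₀ T) (s : S) (p : P₀) : φ P₀ S (s ⊗ₜ p) = (s : T) ⊗ₜ p := by
  simp [φ]

lemma φ_injective [Module.Flat R₀ P₀] (S : Subalgebra R₀ T) : Function.Injective (φ P₀ S) := by
  change Function.Injective (rTensor P₀ S.val.toLinearMap)
  exact Module.Flat.rTensor_preserves_injective_linearMap S.val.toLinearMap
    Subtype.val_injective

lemma ev_mem_range (z : T ⊗[R₀] P₀) :
    Ev T (fun S : Subalgebra R₀ T => z ∈ Set.range (φ P₀ S)) := by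
  induction z using TensorProduct.induction_on with
  | zero => exact Ev.of_forall fun S => ⟨0, map_zero _⟩
  | tmul t p =>
    refine ⟨Algebra.adjoin R₀ {t}, ⟨{t}, by simp⟩, fun S hS => ?_⟩
    have ht : t ∈ S := hS (Algebra.subset_adjoin (Set.mem_singleton t))
    exact ⟨(⟨t, ht⟩ : S) ⊗ₜ p, φ_tmul S _ p⟩
  | add a b ha hb =>
    refine (ha.and hb).mono fun S hS => ?_
    obtain ⟨⟨a', ha'⟩, ⟨b', hb'⟩⟩ := hS
    exact ⟨a' + b', by rw [map_add, ha', hb']⟩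

lemma ev_mem_ext (𝔟 : Ideal P₀) (x : T ⊗[R₀] P₀) (hx : x ∈ ext R₀ T 𝔟) :
    Ev T (fun S : Subalgebra R₀ T => ∃ x' ∈ ext R₀ (↥S) 𝔟, φ P₀ S x' = x) := by
  have hx' : x ∈ Ideal.span ((Algebra.TensorProduct.includeRight : P₀ →ₐ[R₀] T ⊗[R₀] P₀) '' 𝔟) :=
    hx
  refine Submodule.span_induction (p := fun x _ => Ev T (fun S : Subalgebra R₀ T =>
    ∃ x' ∈ ext R₀ (↥S) 𝔟, φ P₀ S x' = x)) ?_ ?_ ?_ ?_ hx'
  · rintro _ ⟨b, hb, rfl⟩
    refine Ev.of_forall fun S => ⟨Algebra.TensorProduct.includeRight b,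
      Ideal.mem_map_of_mem _ hb, ?_⟩
    simp [φ]
  · exact Ev.of_forall fun S => ⟨0, zero_mem _, map_zero _⟩
  · intro a b _ _ ha hb
    refine (ha.and hb).mono fun S hS => ?_
    obtain ⟨⟨a', ha1, ha2⟩, ⟨b', hb1, hb2⟩⟩ := hS
    exact ⟨a' + b', add_mem ha1 hb1, by rw [map_add, ha2, hb2]⟩
  · intro a b _ hb
    refine ((ev_mem_range a).and hb).mono fun S hS => ?_
    obtain ⟨⟨a', ha'⟩, ⟨b', hb1, hb2⟩⟩ := hS
    exact ⟨a' * b', Ideal.mul_mem_left _ _ hb1, by rw [map_mul, ha', hb2, smul_eq_mul]⟩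

lemma ev_includeRight_mem_ext [Module.Flat R₀ P₀] (𝔟 : Ideal P₀) (g : P₀)
    (hg : (Algebra.TensorProduct.includeRight g : T ⊗[R₀] P₀) ∈ ext R₀ T 𝔟) :
    Ev T (fun S : Subalgebra R₀ T =>
      (Algebra.TensorProduct.includeRight g : ↥S ⊗[R₀] P₀) ∈ ext R₀ (↥S) 𝔟) := by
  refine (ev_mem_ext 𝔟 _ hg).mono fun S hS => ?_
  obtain ⟨x', hx1, hx2⟩ := hS
  have : x' = (Algebra.TensorProduct.includeRight g : ↥S ⊗[R₀] P₀) := by
    apply φ_injective S
    rw [hx2]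
    simp [φ]
  rwa [← this]

end Ev

end Stage

end Groth.Agent.H48.FlatLimit
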