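import Mathlib
import Groth.Agent.H48.FlatLimit2

/-!
# Flatness descends to a finite stage, part 3: the local criterion at a finite stage
-/

open TensorProduct LinearMap

namespace Groth.Agent.H48.FlatLimit

universe u

/-- Local criterion of flatness at a prime containing `J`. -/
lemma flat_localization_atPrime {S B : Type u} [CommRing S] [IsNoetherianRing S] [CommRing B]
    [Algebra S B] [IsNoetherianRing B] (J : Ideal S)
    (h1 : Function.Injective (rTensor B J.subtype))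
    [Module.Flat (S ⧸ J) ((S ⧸ J) ⊗[S] B)]
    (𝔮 : Ideal B) [𝔮.IsPrime] (hJ : J.map (algebraMap S B) ≤ 𝔮) :
    Module.Flat S (Localization.AtPrime 𝔮) := by
  refine Groth.Agent.H57.flat_of_localCriterion (R := S) (S := Localization.AtPrime 𝔮)
    (M := Localization.AtPrime 𝔮) J ?_ ?_ ?_
  · -- `J L ⊆ jacobson`
    rw [IsLocalRing.jacobson_eq_maximalIdeal ⊥ bot_ne_top, Ideal.map_le_iff_le_comap]
    intro j hj
    rw [Ideal.mem_comap, IsScalarTower.algebraMap_apply S B (Localization.AtPrime 𝔮)]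
    exact (IsLocalization.AtPrime.to_map_mem_maximal_iff (Localization.AtPrime 𝔮) 𝔮 _).mpr
      (hJ (Ideal.mem_map_of_mem _ hj))
  · -- injectivity
    rw [← LinearMap.lTensor_inj_iff_rTensor_inj]
    have h1l : Function.Injective (lTensor B J.subtype) :=
      (J.subtype.lTensor_inj_iff_rTensor_inj B).mpr h1
    have h1l' : Function.Injective (AlgebraTensorModule.lTensor B B J.subtype) := by
      rw [AlgebraTensorModule.coe_lTensor]; exact h1l
    have hmap := IsLocalizedModule.map_lTensor (R := S) B 𝔮.primeCompl J.subtype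
      (Algebra.linearMap B (Localization.AtPrime 𝔮))
    have hinj := IsLocalizedModule.map_injective 𝔮.primeCompl
      (AlgebraTensorModule.rTensor S J (Algebra.linearMap B (Localization.AtPrime 𝔮)))
      (AlgebraTensorModule.rTensor S S (Algebra.linearMap B (Localization.AtPrime 𝔮)))
      (AlgebraTensorModule.lTensor B B J.subtype) h1l'
    rw [hmap, AlgebraTensorModule.coe_lTensor] at hinj
    exact hinj
  · -- flat mod `J`
    let e := IsLocalization.tensorProductEquivOfMapIncludeRight S (S ⧸ J) 𝔮.primeCompl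
      (Localization.AtPrime 𝔮)
      (Localization (𝔮.primeCompl.map
        (Algebra.TensorProduct.includeRight : B →ₐ[S] (S ⧸ J) ⊗[S] B)))
    exact Module.Flat.of_linearEquiv e.toLinearEquiv

/-- **Flatness along `V(I)` at a finite stage.** `R₀` Noetherian, `B₁` of finite type, `B₁/IB₁`
flat over `R₀/I`, and `T ⊗ B₁` flat over `T`: then for all large finitely generated subalgebras
`S` of `T`, `S ⊗ B₁` is flat over `S` at all primes containing `I`. -/
theorem exists_fg_flat_localization_of_flat_mod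
    {R₀ B₁ T : Type u} [CommRing R₀] [IsNoetherianRing R₀] [CommRing B₁] [Algebra R₀ B₁]
    [Algebra.FiniteType R₀ B₁] (I : Ideal R₀)
    [Module.Flat (R₀ ⧸ I) ((R₀ ⧸ I) ⊗[R₀] B₁)]
    [CommRing T] [Algebra R₀ T] [Module.Flat T (T ⊗[R₀] B₁)] :
    ∃ S₀ : Subalgebra R₀ T, S₀.FG ∧ ∀ S : Subalgebra R₀ T, S₀ ≤ S → S.FG →
      ∀ (𝔮 : Ideal (↥S ⊗[R₀] B₁)) [𝔮.IsPrime],
        I.map (algebraMap R₀ (↥S ⊗[R₀] B₁)) ≤ 𝔮 →
        Module.Flat ↥S (Localization.AtPrime 𝔮) := by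
  classical
  obtain ⟨n, π₀, hπ₀⟩ := Algebra.FiniteType.iff_quotient_mvPolynomial''.mp
    (inferInstance : Algebra.FiniteType R₀ B₁)
  obtain ⟨s, hs⟩ := (isNoetherianRing_iff_ideal_fg _).mp
    (inferInstance : IsNoetherianRing (MvPolynomial (Fin n) R₀))
    (RingHom.ker π₀ ⊓ I.map (algebraMap R₀ (MvPolynomial (Fin n) R₀)))
  -- at `T`
  have hT := ext_inf_le_of_flat π₀ hπ₀ I T
  have hev : ∀ g ∈ s, Ev T (fun S : Subalgebra R₀ T =>
      (Algebra.TensorProduct.includeRight g : ↥S ⊗[R₀] MvPolynomial (Fin n) R₀) ∈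
        ext R₀ ↥S (I.map (algebraMap R₀ (MvPolynomial (Fin n) R₀)) * RingHom.ker π₀)) := by
    intro g hg
    apply ev_includeRight_mem_ext
    apply hT
    have hg' : g ∈ RingHom.ker π₀ ⊓ I.map (algebraMap R₀ (MvPolynomial (Fin n) R₀)) := by
      rw [← hs]; exact Ideal.subset_span hg
    exact ⟨Ideal.mem_map_of_mem _ hg'.1, Ideal.mem_map_of_mem _ hg'.2⟩
  obtain ⟨S₀, hS₀, hS₀'⟩ := Ev.forall_finset s hev
  refine ⟨S₀, hS₀, fun S hS hSfg 𝔮 _ h𝔮 => ?_⟩
  haveI : Algebra.FiniteType R₀ ↥S := (Subalgebra.fg_iff_finiteType S).mp hSfg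
  haveI : IsNoetherianRing ↥S := Algebra.FiniteType.isNoetherianRing R₀ ↥S
  haveI : IsNoetherianRing (↥S ⊗[R₀] B₁) := Algebra.FiniteType.isNoetherianRing ↥S _
  -- (1) at `S`
  have h1 : ext R₀ ↥S (RingHom.ker π₀) ⊓
      ext R₀ ↥S (I.map (algebraMap R₀ (MvPolynomial (Fin n) R₀))) ≤
      ext R₀ ↥S (I.map (algebraMap R₀ (MvPolynomial (Fin n) R₀)) * RingHom.ker π₀) := by
    refine (ext_inf_le_ext_inf π₀ hπ₀ I ↥S).trans ?_
    rw [ext, ← hs, Ideal.map_span, Ideal.span_le]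
    rintro _ ⟨g, hg, rfl⟩
    exact hS₀' S hS g hg
  have hinj := rTensor_injective_of_ext_inf_le π₀ hπ₀ I ↥S h1
  -- flat mod `I` at `S`
  haveI : Module.Flat (↥S ⧸ I.map (algebraMap R₀ ↥S))
      ((↥S ⧸ I.map (algebraMap R₀ ↥S)) ⊗[↥S] (↥S ⊗[R₀] B₁)) := by
    let e₁ := Algebra.TensorProduct.cancelBaseChange R₀ ↥S (↥S ⧸ I.map (algebraMap R₀ ↥S))
      (↥S ⧸ I.map (algebraMap R₀ ↥S)) B₁
    let e₂ := Algebra.TensorProduct.cancelBaseChange R₀ (R₀ ⧸ I)
      (↥S ⧸ I.map (algebraMap R₀ ↥S)) (↥S ⧸ I.map (algebraMap R₀ ↥S)) B₁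
    exact Module.Flat.of_linearEquiv (e₁.toLinearEquiv ≪≫ₗ e₂.symm.toLinearEquiv)
  refine flat_localization_atPrime (I.map (algebraMap R₀ ↥S)) hinj 𝔮 ?_
  rw [Ideal.map_map, ← IsScalarTower.algebraMap_eq]
  exact h𝔮

end Groth.Agent.H48.FlatLimit
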