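import Mathlib
import Groth.Agent.H48.FlatLimit3
import Groth.Agent.S0389

/-!
# Flatness descends to a finite stage, part 4: Noetherian induction

`exists_fg_flat`: `R₀` Noetherian, `B₀` a finite type `R₀`-algebra, `T` an `R₀`-algebra with
`T ⊗ B₀` flat over `T`.  Then `S ⊗ B₀` is flat over `S` for all sufficiently large finitely
generated subalgebras `S ⊆ T`.
-/

open TensorProduct LinearMap

namespace Groth.Agent.H48.FlatLimit

universe u

section Away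

variable {R₀ S B₀ : Type u} [CommRing R₀] [CommRing S] [CommRing B₀] [Algebra R₀ S] [Algebra R₀ B₀]

/-- `S ⊗ B₀[1/b]` is flat over `S` if `S ⊗ B₀` is. -/
lemma flat_tensor_away (b : B₀) [Module.Flat S (S ⊗[R₀] B₀)] :
    Module.Flat S (S ⊗[R₀] Localization.Away b) := by
  let e := IsLocalization.tensorProductEquivOfMapIncludeRight R₀ S (Submonoid.powers b)
    (Localization.Away b)
    (Localization ((Submonoid.powers b).map
      (Algebra.TensorProduct.includeRight : B₀ →ₐ[R₀] S ⊗[R₀] B₀)))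
  exact Module.Flat.of_linearEquiv e.toLinearEquiv

/-- Transfer of primes and local flatness between `S ⊗ B₀` and `S ⊗ B₀[1/b]`. -/
lemma exists_prime_away (b : B₀) (𝔮 : Ideal (S ⊗[R₀] B₀)) [h𝔮 : 𝔮.IsPrime]
    (hb : (Algebra.TensorProduct.includeRight b : S ⊗[R₀] B₀) ∉ 𝔮) :
    ∃ (𝔮₁ : Ideal (S ⊗[R₀] Localization.Away b)) (_ : 𝔮₁.IsPrime),
      (∀ J : Ideal R₀, J.map (algebraMap R₀ (S ⊗[R₀] B₀)) ≤ 𝔮 →
        J.map (algebraMap R₀ (S ⊗[R₀] Localization.Away b)) ≤ 𝔮₁) ∧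
      (Module.Flat S (Localization.AtPrime 𝔮₁) → Module.Flat S (Localization.AtPrime 𝔮)) := by
  letI : Algebra (S ⊗[R₀] B₀) (S ⊗[R₀] Localization.Away b) :=
    (Algebra.TensorProduct.map (AlgHom.id R₀ S)
      (IsScalarTower.toAlgHom R₀ B₀ (Localization.Away b))).toAlgebra
  haveI : IsScalarTower S (S ⊗[R₀] B₀) (S ⊗[R₀] Localization.Away b) :=
    .of_algebraMap_eq <| by intro; simp [RingHom.algebraMap_toAlgebra]
  haveI : IsScalarTower R₀ (S ⊗[R₀] B₀) (S ⊗[R₀] Localization.Away b) :=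
    .of_algebraMap_eq <| by
      intro r
      simp [RingHom.algebraMap_toAlgebra, Algebra.TensorProduct.algebraMap_apply]
  haveI hloc : IsLocalization ((Submonoid.powers b).map
      (Algebra.TensorProduct.includeRight : B₀ →ₐ[R₀] S ⊗[R₀] B₀))
      (S ⊗[R₀] Localization.Away b) :=
    IsLocalization.tensorProduct_tensorProduct_right R₀ S (Submonoid.powers b)
      (Localization.Away b) (by ext; simp [RingHom.algebraMap_toAlgebra])
  have hdisj : Disjoint (((Submonoid.powers b).map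
      (Algebra.TensorProduct.includeRight : B₀ →ₐ[R₀] S ⊗[R₀] B₀) : Submonoid _) : Set _)
      (𝔮 : Set (S ⊗[R₀] B₀)) := by
    rw [Set.disjoint_left]
    rintro _ ⟨_, ⟨n, rfl⟩, rfl⟩ hmem
    rw [SetLike.mem_coe, map_pow] at hmem
    exact hb (h𝔮.mem_of_pow_mem n hmem)
  set M' := (Submonoid.powers b).map
      (Algebra.TensorProduct.includeRight : B₀ →ₐ[R₀] S ⊗[R₀] B₀) with hM'
  have hprime : (𝔮.map (algebraMap (S ⊗[R₀] B₀) (S ⊗[R₀] Localization.Away b))).IsPrime :=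
    IsLocalization.isPrime_of_isPrime_disjoint M' _ 𝔮 h𝔮 hdisj
  have hcomap : (𝔮.map (algebraMap (S ⊗[R₀] B₀) (S ⊗[R₀] Localization.Away b))).comap
      (algebraMap (S ⊗[R₀] B₀) (S ⊗[R₀] Localization.Away b)) = 𝔮 :=
    IsLocalization.under_map_of_isPrime_disjoint M' _ h𝔮 hdisj
  refine ⟨𝔮.map (algebraMap (S ⊗[R₀] B₀) (S ⊗[R₀] Localization.Away b)), hprime, ?_, ?_⟩
  · intro J hJ
    rw [IsScalarTower.algebraMap_eq R₀ (S ⊗[R₀] B₀) (S ⊗[R₀] Localization.Away b),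
      ← Ideal.map_map]
    exact Ideal.map_mono hJ
  · intro hflat
    haveI := hprime
    set 𝔮₁ := 𝔮.map (algebraMap (S ⊗[R₀] B₀) (S ⊗[R₀] Localization.Away b)) with h𝔮₁
    haveI h1 : IsLocalization.AtPrime (Localization.AtPrime 𝔮₁)
        (𝔮₁.comap (algebraMap (S ⊗[R₀] B₀) (S ⊗[R₀] Localization.Away b))) :=
      IsLocalization.isLocalization_isLocalization_atPrime_isLocalization M'
        (Localization.AtPrime 𝔮₁) 𝔮₁
    haveI h2 : IsLocalization.AtPrime (Localization.AtPrime 𝔮₁) 𝔮 := by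
      have key : ∀ (P : Ideal (S ⊗[R₀] B₀)) (hP : P.IsPrime), P = 𝔮 →
          @IsLocalization.AtPrime _ _ (Localization.AtPrime 𝔮₁) _ _ P hP →
          IsLocalization.AtPrime (Localization.AtPrime 𝔮₁) 𝔮 := by
        rintro P hP rfl h
        exact h
      exact key _ _ hcomap h1
    haveI : IsScalarTower S (S ⊗[R₀] B₀) (Localization.AtPrime 𝔮₁) :=
      .of_algebraMap_eq <| by
        intro s
        rw [IsScalarTower.algebraMap_apply S (S ⊗[R₀] Localization.Away b)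
          (Localization.AtPrime 𝔮₁),
          IsScalarTower.algebraMap_apply S (S ⊗[R₀] B₀) (S ⊗[R₀] Localization.Away b),
          ← IsScalarTower.algebraMap_apply (S ⊗[R₀] B₀) (S ⊗[R₀] Localization.Away b)
            (Localization.AtPrime 𝔮₁)]
    let e : Localization.AtPrime 𝔮 ≃ₐ[S ⊗[R₀] B₀] Localization.AtPrime 𝔮₁ :=
      IsLocalization.algEquiv 𝔮.primeCompl _ _
    exact Module.Flat.of_linearEquiv (e.toLinearEquiv.restrictScalars S)

end Away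

section GenericFlat

variable {R₀ B₀ : Type u} [CommRing R₀] [CommRing B₀] [Algebra R₀ B₀] [Algebra.FiniteType R₀ B₀]

/-- Generic flatness modulo a prime, in the form needed here. -/
lemma exists_flat_mod_prime_away (p : Ideal R₀) [p.IsPrime] :
    ∃ f : R₀, f ∉ p ∧ Module.Flat (R₀ ⧸ p)
      ((R₀ ⧸ p) ⊗[R₀] Localization.Away (algebraMap R₀ B₀ f)) := by
  obtain ⟨fb, hfb, -, hfree, -, -⟩ := Groth.Agent.S0389.result (R := R₀ ⧸ p)
    (S := (R₀ ⧸ p) ⊗[R₀] B₀) (M := (R₀ ⧸ p) ⊗[R₀] B₀)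
  obtain ⟨f, rfl⟩ := Ideal.Quotient.mk_surjective fb
  refine ⟨f, fun hf => hfb (Ideal.Quotient.eq_zero_iff_mem.mpr hf), ?_⟩
  haveI := hfree
  have h1 : Module.Flat (R₀ ⧸ p)
      (Localization.Away (Ideal.Quotient.mk p f) ⊗[R₀ ⧸ p] ((R₀ ⧸ p) ⊗[R₀] B₀)) :=
    Module.Flat.trans (R₀ ⧸ p) (Localization.Away (Ideal.Quotient.mk p f)) _
  have h2 : Module.Flat (R₀ ⧸ p)
      (((R₀ ⧸ p) ⊗[R₀] B₀) ⊗[R₀ ⧸ p] Localization.Away (Ideal.Quotient.mk p f)) :=
    Module.Flat.of_linearEquiv (TensorProduct.comm (R₀ ⧸ p) _ _)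
  have hM : (Submonoid.powers (algebraMap R₀ B₀ f)).map
      (Algebra.TensorProduct.includeRight : B₀ →ₐ[R₀] (R₀ ⧸ p) ⊗[R₀] B₀) =
      Algebra.algebraMapSubmonoid ((R₀ ⧸ p) ⊗[R₀] B₀)
        (Submonoid.powers (Ideal.Quotient.mk p f)) := by
    rw [Algebra.algebraMapSubmonoid, Submonoid.map_powers, Submonoid.map_powers]
    congr 1
    have h3 : (1 : R₀ ⧸ p) ⊗ₜ[R₀] (algebraMap R₀ B₀ f) =
        (Ideal.Quotient.mk p f) ⊗ₜ[R₀] (1 : B₀) := by
      rw [Algebra.algebraMap_eq_smul_one, ← TensorProduct.smul_tmul,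
        ← Ideal.Quotient.algebraMap_eq, Algebra.algebraMap_eq_smul_one]
    rw [Algebra.TensorProduct.includeRight_apply, Algebra.TensorProduct.algebraMap_apply,
      Algebra.algebraMap_self, RingHom.id_apply]
    exact h3
  haveI : IsLocalization ((Submonoid.powers (algebraMap R₀ B₀ f)).map
      (Algebra.TensorProduct.includeRight : B₀ →ₐ[R₀] (R₀ ⧸ p) ⊗[R₀] B₀))
      (((R₀ ⧸ p) ⊗[R₀] B₀) ⊗[R₀ ⧸ p] Localization.Away (Ideal.Quotient.mk p f)) := by
    rw [hM]; infer_instance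
  let e := IsLocalization.tensorProductEquivOfMapIncludeRight R₀ (R₀ ⧸ p)
    (Submonoid.powers (algebraMap R₀ B₀ f)) (Localization.Away (algebraMap R₀ B₀ f))
    (((R₀ ⧸ p) ⊗[R₀] B₀) ⊗[R₀ ⧸ p] Localization.Away (Ideal.Quotient.mk p f))
  exact Module.Flat.of_linearEquiv e.toLinearEquiv

end GenericFlat

section Induction

variable {R₀ B₀ T : Type u} [CommRing R₀] [IsNoetherianRing R₀] [CommRing B₀] [Algebra R₀ B₀]
  [Algebra.FiniteType R₀ B₀] [CommRing T] [Algebra R₀ T] [Module.Flat T (T ⊗[R₀] B₀)]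

lemma lt_sup_span_singleton {I : Ideal R₀} {a : R₀} (ha : a ∉ I) : I < I ⊔ Ideal.span {a} :=
  SetLike.lt_iff_le_and_exists.mpr
    ⟨le_sup_left, a, Ideal.mem_sup_right (Ideal.mem_span_singleton_self a), ha⟩

lemma map_sup_span_le {A : Type*} [CommRing A] [Algebra R₀ A] {I : Ideal R₀} {a : R₀}
    {𝔮 : Ideal A} (hI : I.map (algebraMap R₀ A) ≤ 𝔮) (ha : algebraMap R₀ A a ∈ 𝔮) :
    (I ⊔ Ideal.span {a}).map (algebraMap R₀ A) ≤ 𝔮 := by
  rw [Ideal.map_sup, Ideal.map_span, Set.image_singleton]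
  exact sup_le hI ((Ideal.span_singleton_le_iff_mem _).mpr ha)

variable (B₀ T) in
/-- Flatness at all primes over `V(I)` at a finite stage. -/
theorem exists_fg_flat_atPrime (I : Ideal R₀) :
    ∃ S₀ : Subalgebra R₀ T, S₀.FG ∧ ∀ S : Subalgebra R₀ T, S₀ ≤ S → S.FG →
      ∀ (𝔮 : Ideal (↥S ⊗[R₀] B₀)) [𝔮.IsPrime],
        I.map (algebraMap R₀ (↥S ⊗[R₀] B₀)) ≤ 𝔮 →
        Module.Flat ↥S (Localization.AtPrime 𝔮) := by
  refine IsNoetherian.induction (P := fun I : Ideal R₀ =>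
    ∃ S₀ : Subalgebra R₀ T, S₀.FG ∧ ∀ S : Subalgebra R₀ T, S₀ ≤ S → S.FG →
      ∀ (𝔮 : Ideal (↥S ⊗[R₀] B₀)) [𝔮.IsPrime],
        I.map (algebraMap R₀ (↥S ⊗[R₀] B₀)) ≤ 𝔮 →
        Module.Flat ↥S (Localization.AtPrime 𝔮)) ?_ I
  intro I IH
  by_cases hI : Ideal.IsPrime I
  · -- prime case: generic flatness
    haveI := hI
    obtain ⟨f, hf, hflat⟩ := exists_flat_mod_prime_away (B₀ := B₀) I
    haveI := hflat
    haveI : Algebra.FiniteType B₀ (Localization.Away (algebraMap R₀ B₀ f)) :=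
      have := IsLocalization.Away.finitePresentation (R := B₀)
        (S := Localization.Away (algebraMap R₀ B₀ f)) (algebraMap R₀ B₀ f)
      inferInstance
    haveI : Algebra.FiniteType R₀ (Localization.Away (algebraMap R₀ B₀ f)) :=
      Algebra.FiniteType.trans (inferInstance : Algebra.FiniteType R₀ B₀) inferInstance
    haveI : Module.Flat T (T ⊗[R₀] Localization.Away (algebraMap R₀ B₀ f)) :=
      flat_tensor_away _
    obtain ⟨S₁, hS₁, h₁⟩ := exists_fg_flat_localization_of_flat_mod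
      (B₁ := Localization.Away (algebraMap R₀ B₀ f)) (T := T) I
    obtain ⟨S₂, hS₂, h₂⟩ := IH _ (lt_sup_span_singleton hf)
    refine ⟨S₁ ⊔ S₂, hS₁.sup hS₂, fun S hS hSfg 𝔮 _ h𝔮 => ?_⟩
    by_cases hb : (Algebra.TensorProduct.includeRight (algebraMap R₀ B₀ f) : ↥S ⊗[R₀] B₀) ∈ 𝔮
    · refine h₂ S (le_sup_right.trans hS) hSfg 𝔮 (map_sup_span_le h𝔮 ?_)
      rwa [← AlgHom.commutes (Algebra.TensorProduct.includeRight : B₀ →ₐ[R₀] ↥S ⊗[R₀] B₀)]
    · obtain ⟨𝔮₁, h𝔮₁, hJ₁, hfl⟩ := exists_prime_away (algebraMap R₀ B₀ f) 𝔮 hb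
      exact hfl (h₁ S (le_sup_left.trans hS) hSfg 𝔮₁ (hJ₁ I h𝔮))
  · rw [Ideal.not_isPrime_iff] at hI
    rcases hI with rfl | ⟨a, ha, b, hb, hab⟩
    · refine ⟨⊥, Subalgebra.fg_bot, fun S _ _ 𝔮 h𝔮p h𝔮 => ?_⟩
      exfalso
      rw [Ideal.map_top] at h𝔮
      exact h𝔮p.ne_top (top_le_iff.mp h𝔮)
    · obtain ⟨S₁, hS₁, h₁⟩ := IH _ (lt_sup_span_singleton ha)
      obtain ⟨S₂, hS₂, h₂⟩ := IH _ (lt_sup_span_singleton hb)
      refine ⟨S₁ ⊔ S₂, hS₁.sup hS₂, fun S hS hSfg 𝔮 h𝔮p h𝔮 => ?_⟩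
      have hmem : algebraMap R₀ (↥S ⊗[R₀] B₀) (a * b) ∈ 𝔮 := h𝔮 (Ideal.mem_map_of_mem _ hab)
      rw [map_mul] at hmem
      rcases h𝔮p.mem_or_mem hmem with h | h
      · exact h₁ S (le_sup_left.trans hS) hSfg 𝔮 (map_sup_span_le h𝔮 h)
      · exact h₂ S (le_sup_right.trans hS) hSfg 𝔮 (map_sup_span_le h𝔮 h)

variable (B₀ T) in
/-- **Flatness descends to a finite stage** (EGA IV 11.2.6 for algebras, ring form).
`R₀` Noetherian, `B₀` of finite type over `R₀`, `T ⊗ B₀` flat over `T`: then `S ⊗ B₀` is flat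
over `S` for all sufficiently large finitely generated `R₀`-subalgebras `S` of `T`. -/
theorem exists_fg_flat :
    ∃ S₀ : Subalgebra R₀ T, S₀.FG ∧ ∀ S : Subalgebra R₀ T, S₀ ≤ S → S.FG →
      Module.Flat ↥S (↥S ⊗[R₀] B₀) := by
  obtain ⟨S₀, hS₀, h⟩ := exists_fg_flat_atPrime B₀ T (⊥ : Ideal R₀)
  refine ⟨S₀, hS₀, fun S hS hSfg => ?_⟩
  refine Module.flat_of_isLocalized_maximal (↥S ⊗[R₀] B₀) (↥S ⊗[R₀] B₀)
    (fun P _ => Localization.AtPrime P)
    (fun P _ => Algebra.linearMap (↥S ⊗[R₀] B₀) (Localization.AtPrime P)) (fun P _ => ?_)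
  exact h S hS hSfg P (by rw [Ideal.map_bot]; exact bot_le)

end Induction

end Groth.Agent.H48.FlatLimit
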