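import Mathlib
import Groth.Agent.H48.FlatLimit4

/-!
# Flatness of modules descends to a finite stage

Module version of `exists_fg_flat`, obtained from the algebra version applied to the trivial
square-zero extension `P₀ ⊕ M₀`.
-/

open TensorProduct

namespace Groth.Agent.H48.FlatLimit

universe u


/-- A product of two flat modules is flat. -/
lemma flat_prod {R M N : Type u} [CommRing R] [AddCommGroup M] [AddCommGroup N] [Module R M]
    [Module R N] [Module.Flat R M] [Module.Flat R N] : Module.Flat R (M × N) := by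
  rw [Module.Flat.iff_rTensor_preserves_injective_linearMap]
  intro A B _ _ _ _ f hf
  have key : (TensorProduct.prodRight R R B M N).toLinearMap ∘ₗ f.rTensor (M × N) =
      (LinearMap.prodMap (f.rTensor M) (f.rTensor N)) ∘ₗ
        (TensorProduct.prodRight R R A M N).toLinearMap := by
    apply TensorProduct.ext'
    intro a x
    simp
  have h2 : Function.Injective
      ((TensorProduct.prodRight R R B M N).toLinearMap ∘ₗ f.rTensor (M × N)) := by
    rw [key, LinearMap.coe_comp]
    refine Function.Injective.comp ?_ (TensorProduct.prodRight R R A M N).injective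
    exact Prod.map_injective.mpr ⟨Module.Flat.rTensor_preserves_injective_linearMap f hf,
      Module.Flat.rTensor_preserves_injective_linearMap f hf⟩
  rw [LinearMap.coe_comp] at h2
  exact Function.Injective.of_comp h2

section Tsze

variable {R₀ P₀ M₀ : Type u} [CommRing R₀] [CommRing P₀] [Algebra R₀ P₀]
  [AddCommGroup M₀] [Module P₀ M₀] [Module R₀ M₀] [IsScalarTower R₀ P₀ M₀]

/-- The opposite action on a module over a commutative ring. -/
@[reducible] def opModule : Module P₀ᵐᵒᵖ M₀ :=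
  Module.compHom M₀ ((RingHom.id P₀).fromOpposite mul_comm)

attribute [local instance] opModule

instance isCentralScalar_opModule : IsCentralScalar P₀ M₀ := ⟨fun _ _ => rfl⟩

variable (R₀ P₀ M₀) in
/-- The trivial square-zero extension is of finite type. -/
lemma finiteType_tsze [Algebra.FiniteType R₀ P₀] [Module.Finite P₀ M₀] :
    Algebra.FiniteType R₀ (TrivSqZeroExt P₀ M₀) := by
  haveI : Module.Finite P₀ (TrivSqZeroExt P₀ M₀) :=
    inferInstanceAs (Module.Finite P₀ (P₀ × M₀))
  haveI : Algebra.FiniteType P₀ (TrivSqZeroExt P₀ M₀) := inferInstance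
  exact Algebra.FiniteType.trans (inferInstance : Algebra.FiniteType R₀ P₀) inferInstance

variable (R₀ P₀ M₀) in
/-- Base change of the trivial square-zero extension, as a module. -/
noncomputable def tszeEquiv (T : Type u) [CommRing T] [Algebra R₀ T] :
    T ⊗[R₀] (TrivSqZeroExt P₀ M₀) ≃ₗ[T] (T ⊗[R₀] P₀) × (T ⊗[R₀] M₀) :=
  TensorProduct.prodRight R₀ T T P₀ M₀

variable (R₀ P₀ M₀) in
/-- **Flatness of modules descends to a finite stage** (EGA IV 11.2.6, module form).  `R₀`
Noetherian, `P₀` a flat finite type `R₀`-algebra, `M₀` a finite `P₀`-module, `T` an `R₀`-algebra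
with `T ⊗ M₀` flat over `T`: then `S ⊗ M₀` is flat over `S` for all sufficiently large finitely
generated subalgebras `S ⊆ T`. -/
theorem exists_fg_flat_module [IsNoetherianRing R₀] [Algebra.FiniteType R₀ P₀] [Module.Flat R₀ P₀]
    [Module.Finite P₀ M₀] (T : Type u) [CommRing T] [Algebra R₀ T]
    [Module.Flat T (T ⊗[R₀] M₀)] :
    ∃ S₀ : Subalgebra R₀ T, S₀.FG ∧ ∀ S : Subalgebra R₀ T, S₀ ≤ S → S.FG →
      Module.Flat ↥S (↥S ⊗[R₀] M₀) := by
  haveI := finiteType_tsze R₀ P₀ M₀
  haveI : Module.Flat T ((T ⊗[R₀] P₀) × (T ⊗[R₀] M₀)) := flat_prod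
  haveI : Module.Flat T (T ⊗[R₀] (TrivSqZeroExt P₀ M₀)) :=
    Module.Flat.of_linearEquiv (tszeEquiv R₀ P₀ M₀ T)
  obtain ⟨S₀, hS₀, h⟩ := exists_fg_flat (R₀ := R₀) (TrivSqZeroExt P₀ M₀) T
  refine ⟨S₀, hS₀, fun S hS hSfg => ?_⟩
  haveI := h S hS hSfg
  let e := tszeEquiv R₀ P₀ M₀ ↥S
  refine Module.Flat.of_retract (M := ↥S ⊗[R₀] (TrivSqZeroExt P₀ M₀))
    (e.symm.toLinearMap ∘ₗ LinearMap.inr ↥S (↥S ⊗[R₀] P₀) (↥S ⊗[R₀] M₀))
    (LinearMap.snd ↥S (↥S ⊗[R₀] P₀) (↥S ⊗[R₀] M₀) ∘ₗ e.toLinearMap) ?_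
  ext x
  simp

end Tsze

end Groth.Agent.H48.FlatLimit
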