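import Mathlib
import Groth.Agent.H48.FlatLimit4

/-!
# Flatness descends to a finite stage, part 5: faithful flatness and models

* `mem_range_comap_tensor`: pointwise base change of surjectivity on prime spectra.
* `exists_fg_faithfullyFlat`: `R₀` Noetherian, `B₀` of finite type over `R₀`, `T ⊗ B₀` faithfully
  flat over `T`; then `S ⊗ B₀` is faithfully flat over `S` for all large f.g. subalgebras `S ⊆ T`.
* `exists_model`, `exists_model_over`: a faithfully flat finitely presented algebra descends to a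
  finitely presented base, keeping faithful flatness.
* `finiteType_of_model`, `finitePresentation_of_model`: descent of finite type / finite
  presentation along a faithfully flat finitely presented algebra.
-/

open TensorProduct

namespace Groth.Agent.H48.FlatLimit

universe u

section BC

/-- Pointwise base change of surjectivity on spectra. -/
lemma mem_range_comap_tensor {S S' C : Type*} [CommRing S] [CommRing S'] [CommRing C]
    [Algebra S S'] [Algebra S C] (p' : PrimeSpectrum S')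
    (h : PrimeSpectrum.comap (algebraMap S S') p' ∈
      Set.range (PrimeSpectrum.comap (algebraMap S C))) :
    p' ∈ Set.range (PrimeSpectrum.comap (algebraMap S' (S' ⊗[S] C))) := by
  rw [← PrimeSpectrum.nontrivial_iff_mem_rangeComap] at h ⊢
  let φ : (PrimeSpectrum.comap (algebraMap S S') p').asIdeal.ResidueField →ₐ[S]
      p'.asIdeal.ResidueField :=
    Ideal.ResidueField.mapₐ _ _ (Algebra.ofId S S') rfl
  letI : Algebra (PrimeSpectrum.comap (algebraMap S S') p').asIdeal.ResidueField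
      p'.asIdeal.ResidueField := φ.toRingHom.toAlgebra
  haveI : IsScalarTower S (PrimeSpectrum.comap (algebraMap S S') p').asIdeal.ResidueField
      p'.asIdeal.ResidueField := .of_algebraMap_eq fun x => (φ.commutes x).symm
  haveI : Nontrivial ((PrimeSpectrum.comap (algebraMap S S') p').asIdeal.ResidueField ⊗[S] C) := h
  haveI : Nontrivial (p'.asIdeal.ResidueField ⊗[(PrimeSpectrum.comap
      (algebraMap S S') p').asIdeal.ResidueField]
      ((PrimeSpectrum.comap (algebraMap S S') p').asIdeal.ResidueField ⊗[S] C)) := inferInstance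
  let e1 := Algebra.TensorProduct.cancelBaseChange S
    (PrimeSpectrum.comap (algebraMap S S') p').asIdeal.ResidueField
    p'.asIdeal.ResidueField p'.asIdeal.ResidueField C
  let e2 := Algebra.TensorProduct.cancelBaseChange S S'
    p'.asIdeal.ResidueField p'.asIdeal.ResidueField C
  exact (e2.toEquiv.trans e1.symm.toEquiv).nontrivial

end BC

section FF

variable {R₀ B₀ T : Type u} [CommRing R₀] [IsNoetherianRing R₀] [CommRing B₀] [Algebra R₀ B₀]
  [Algebra.FiniteType R₀ B₀] [CommRing T] [Algebra R₀ T] [Module.FaithfullyFlat T (T ⊗[R₀] B₀)]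

variable (B₀ T) in
/-- **Faithful flatness descends to a finite stage.** -/
theorem exists_fg_faithfullyFlat :
    ∃ S₀ : Subalgebra R₀ T, S₀.FG ∧ ∀ S : Subalgebra R₀ T, S₀ ≤ S → S.FG →
      Module.FaithfullyFlat ↥S (↥S ⊗[R₀] B₀) := by
  obtain ⟨S₁, hS₁, hflat⟩ := exists_fg_flat (R₀ := R₀) B₀ T
  haveI : Module.Flat ↥S₁ (↥S₁ ⊗[R₀] B₀) := hflat S₁ le_rfl hS₁
  haveI : Algebra.FiniteType R₀ ↥S₁ := (Subalgebra.fg_iff_finiteType S₁).mp hS₁
  haveI : IsNoetherianRing ↥S₁ := Algebra.FiniteType.isNoetherianRing R₀ ↥S₁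
  haveI : Algebra.FinitePresentation ↥S₁ (↥S₁ ⊗[R₀] B₀) :=
    Algebra.FinitePresentation.of_finiteType.mp inferInstance
  have hopen : IsOpenMap (PrimeSpectrum.comap (algebraMap ↥S₁ (↥S₁ ⊗[R₀] B₀))) :=
    PrimeSpectrum.isOpenMap_comap_of_hasGoingDown_of_finitePresentation
  have hUo : IsOpen (Set.range (PrimeSpectrum.comap (algebraMap ↥S₁ (↥S₁ ⊗[R₀] B₀)))) :=
    hopen.isOpen_range
  have hz : PrimeSpectrum.zeroLocus ((PrimeSpectrum.vanishingIdeal
      (Set.range (PrimeSpectrum.comap (algebraMap ↥S₁ (↥S₁ ⊗[R₀] B₀))))ᶜ : Ideal ↥S₁) : Set ↥S₁) =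
      (Set.range (PrimeSpectrum.comap (algebraMap ↥S₁ (↥S₁ ⊗[R₀] B₀))))ᶜ := by
    rw [PrimeSpectrum.zeroLocus_vanishingIdeal_eq_closure, hUo.isClosed_compl.closure_eq]
  generalize hU : Set.range (PrimeSpectrum.comap (algebraMap ↥S₁ (↥S₁ ⊗[R₀] B₀))) = U at hz hUo
  generalize h𝔞 : PrimeSpectrum.vanishingIdeal Uᶜ = 𝔞 at hz
  -- the ideal `𝔞` generates the unit ideal in `T`
  have htop : 𝔞.map (algebraMap ↥S₁ T) = ⊤ := by
    by_contra hne
    obtain ⟨M, hM, hle⟩ := Ideal.exists_le_maximal _ hne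
    obtain ⟨Q, hQ⟩ := PrimeSpectrum.comap_surjective_of_faithfullyFlat (A := T)
      (B := T ⊗[R₀] B₀) ⟨M, hM.isPrime⟩
    let g : ↥S₁ ⊗[R₀] B₀ →ₐ[R₀] T ⊗[R₀] B₀ :=
      Algebra.TensorProduct.map S₁.val (AlgHom.id R₀ B₀)
    have hcomm : g.toRingHom.comp (algebraMap ↥S₁ (↥S₁ ⊗[R₀] B₀)) =
        (algebraMap T (T ⊗[R₀] B₀)).comp (algebraMap ↥S₁ T) := by
      ext s
      simp [g, Algebra.TensorProduct.algebraMap_apply]
    have hmem : PrimeSpectrum.comap (algebraMap ↥S₁ T) ⟨M, hM.isPrime⟩ ∈ U := by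
      rw [← hU]
      refine ⟨PrimeSpectrum.comap g.toRingHom Q, ?_⟩
      rw [← PrimeSpectrum.comap_comp_apply, hcomm, PrimeSpectrum.comap_comp_apply, hQ]
    have hmem' : PrimeSpectrum.comap (algebraMap ↥S₁ T) ⟨M, hM.isPrime⟩ ∈ Uᶜ := by
      rw [← hz, PrimeSpectrum.mem_zeroLocus]
      exact fun a ha => hle (Ideal.mem_map_of_mem _ ha)
    exact hmem' hmem
  have h1 : (1 : T) ∈ Submodule.span T (⇑(algebraMap ↥S₁ T) '' (𝔞 : Set ↥S₁)) := by
    have : (1 : T) ∈ Ideal.map (algebraMap ↥S₁ T) 𝔞 := htop ▸ Submodule.mem_top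
    exact this
  obtain ⟨l, hl, hl1⟩ := (Finsupp.mem_span_image_iff_linearCombination T).mp h1
  rw [Finsupp.linearCombination_apply, Finsupp.sum] at hl1
  classical
  refine ⟨S₁ ⊔ Algebra.adjoin R₀ ((l.support.image l : Finset T) : Set T),
    hS₁.sup (Subalgebra.fg_adjoin_finset _), fun S hS hSfg => ?_⟩
  have hS₁S : S₁ ≤ S := le_sup_left.trans hS
  haveI : Module.Flat ↥S (↥S ⊗[R₀] B₀) := hflat S hS₁S hSfg
  letI : Algebra ↥S₁ ↥S := (Subalgebra.inclusion hS₁S).toRingHom.toAlgebra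
  haveI : IsScalarTower R₀ ↥S₁ ↥S :=
    .of_algebraMap_eq fun r => ((Subalgebra.inclusion hS₁S).commutes r).symm
  have key : ∀ p : PrimeSpectrum ↥S, p ∈ Set.range
      (PrimeSpectrum.comap (algebraMap ↥S (↥S ⊗[↥S₁] (↥S₁ ⊗[R₀] B₀)))) := by
    intro p
    apply mem_range_comap_tensor
    rw [hU]
    by_contra hnot
    have hp : PrimeSpectrum.comap (algebraMap ↥S₁ ↥S) p ∈
        PrimeSpectrum.zeroLocus (𝔞 : Set ↥S₁) := by
      rw [hz]; exact hnot
    rw [PrimeSpectrum.mem_zeroLocus] at hp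
    have h1mem : (1 : T) ∈ Submodule.map (S.val.toLinearMap)
        (p.asIdeal.restrictScalars R₀) := by
      rw [← hl1]
      refine Submodule.sum_mem _ fun a ha => ?_
      have haa : a ∈ (𝔞 : Set ↥S₁) := hl (Finset.mem_coe.mpr ha)
      have hla : l a ∈ S := hS ((le_sup_right : _ ≤ S₁ ⊔ _) (Algebra.subset_adjoin
        (Finset.mem_coe.mpr (Finset.mem_image_of_mem l ha))))
      refine ⟨⟨l a, hla⟩ * algebraMap ↥S₁ ↥S a, ?_, ?_⟩
      · show _ ∈ p.asIdeal
        exact Ideal.mul_mem_left _ _ (hp haa)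
      · show ((⟨l a, hla⟩ * algebraMap ↥S₁ ↥S a : ↥S) : T) = l a • algebraMap ↥S₁ T a
        rw [smul_eq_mul]
        rfl
    obtain ⟨x, hx, hx1⟩ := h1mem
    have hx' : x = 1 := Subtype.ext hx1
    exact p.isPrime.ne_top ((Ideal.eq_top_iff_one _).mpr (hx' ▸ hx))
  refine Module.FaithfullyFlat.of_comap_surjective fun p => ?_
  obtain ⟨q, hq⟩ := key p
  let e := Algebra.TensorProduct.cancelBaseChange R₀ ↥S₁ ↥S ↥S B₀
  refine ⟨PrimeSpectrum.comap e.symm.toAlgHom.toRingHom q, ?_⟩
  rw [← PrimeSpectrum.comap_comp_apply, ← hq]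
  congr 1

end FF

section Model

/-- A faithfully flat finitely presented algebra descends to a finite type `ℤ`-algebra, keeping
faithful flatness. -/
theorem exists_model (A B : Type u) [CommRing A] [CommRing B] [Algebra A B]
    [Algebra.FinitePresentation A B] [Module.FaithfullyFlat A B] :
    ∃ (A₀ B₀ : Type u) (_ : CommRing A₀) (_ : CommRing B₀) (_ : Algebra A₀ A) (_ : Algebra A₀ B₀),
      Algebra.FiniteType ℤ A₀ ∧ Algebra.FinitePresentation A₀ B₀ ∧ Module.FaithfullyFlat A₀ B₀ ∧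
      Nonempty (B ≃ₐ[A] A ⊗[A₀] B₀) := by
  let P := Algebra.Presentation.ofFinitePresentation A B
  let e₀ : A ⊗[P.Core] P.ModelOfHasCoeffs P.Core ≃ₐ[A] B := P.tensorModelOfHasCoeffsEquiv P.Core
  haveI : IsNoetherianRing P.Core := Algebra.FiniteType.isNoetherianRing ℤ P.Core
  haveI : Module.FaithfullyFlat A (A ⊗[P.Core] P.ModelOfHasCoeffs P.Core) :=
    Module.FaithfullyFlat.of_linearEquiv A B e₀.toLinearEquiv
  obtain ⟨S₀, hS₀, h⟩ := exists_fg_faithfullyFlat (R₀ := P.Core) (P.ModelOfHasCoeffs P.Core) A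
  haveI := h S₀ le_rfl hS₀
  haveI : Algebra.FiniteType P.Core ↥S₀ := (Subalgebra.fg_iff_finiteType S₀).mp hS₀
  refine ⟨↥S₀, ↥S₀ ⊗[P.Core] P.ModelOfHasCoeffs P.Core, inferInstance, inferInstance,
    inferInstance, inferInstance,
    Algebra.FiniteType.trans (inferInstance : Algebra.FiniteType ℤ P.Core) inferInstance,
    inferInstance, inferInstance, ⟨?_⟩⟩
  exact e₀.symm.trans
    (Algebra.TensorProduct.cancelBaseChange P.Core ↥S₀ A A (P.ModelOfHasCoeffs P.Core)).symm

/-- A faithfully flat finitely presented algebra `B` over an `R`-algebra `A` descends to a finitely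
presented `R`-algebra `A₀`, keeping faithful flatness. -/
theorem exists_model_over (R A B : Type u) [CommRing R] [CommRing A] [CommRing B] [Algebra R A]
    [Algebra A B] [Algebra.FinitePresentation A B] [Module.FaithfullyFlat A B] :
    ∃ (A₀ B₀ : Type u) (_ : CommRing A₀) (_ : CommRing B₀) (_ : Algebra R A₀) (_ : Algebra A₀ A)
      (_ : IsScalarTower R A₀ A) (_ : Algebra A₀ B₀), Algebra.FinitePresentation R A₀ ∧
      Algebra.FinitePresentation A₀ B₀ ∧ Module.FaithfullyFlat A₀ B₀ ∧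
      Nonempty (B ≃ₐ[A] A ⊗[A₀] B₀) := by
  obtain ⟨A₀, B₀, _, _, _, _, hft, hfp, hff, ⟨e⟩⟩ := exists_model A B
  haveI := hft
  haveI := hfp
  haveI := hff
  haveI : Algebra.FinitePresentation ℤ A₀ := Algebra.FinitePresentation.of_finiteType.mp hft
  letI : Algebra A₀ (R ⊗[ℤ] A₀) := Algebra.TensorProduct.rightAlgebra
  let φ : R ⊗[ℤ] A₀ →ₐ[R] A := Algebra.TensorProduct.lift (Algebra.ofId R A)
    ((algebraMap A₀ A).toIntAlgHom) (fun _ _ => Commute.all _ _)
  letI : Algebra (R ⊗[ℤ] A₀) A := φ.toRingHom.toAlgebra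
  haveI : IsScalarTower R (R ⊗[ℤ] A₀) A := .of_algebraMap_eq fun r => (φ.commutes r).symm
  haveI : IsScalarTower A₀ (R ⊗[ℤ] A₀) A := .of_algebraMap_eq fun a => by
    show algebraMap A₀ A a = φ (1 ⊗ₜ a)
    simp [φ]
  exact ⟨R ⊗[ℤ] A₀, (R ⊗[ℤ] A₀) ⊗[A₀] B₀, inferInstance, inferInstance, inferInstance,
    inferInstance, inferInstance, inferInstance, inferInstance, inferInstance, inferInstance,
    ⟨e.trans (Algebra.TensorProduct.cancelBaseChange A₀ (R ⊗[ℤ] A₀) A A B₀).symm⟩⟩

variable (R : Type u) {A B A₀ B₀ : Type u} [CommRing R] [CommRing A] [CommRing B]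
  [CommRing A₀] [CommRing B₀] [Algebra R A] [Algebra A B] [Algebra R B] [IsScalarTower R A B]
  [Algebra R A₀] [Algebra A₀ A] [IsScalarTower R A₀ A] [Algebra A₀ B₀]
  [Module.FaithfullyFlat A₀ B₀]

/-- If `B = A ⊗[A₀] B₀` is of finite type over `R` with `B₀` faithfully flat over `A₀`, then `A`
is of finite type over `A₀`. -/
theorem finiteType_of_model [Algebra.FiniteType R B] (e : B ≃ₐ[A] A ⊗[A₀] B₀) :
    Algebra.FiniteType A₀ A := by
  classical
  obtain ⟨s, hs⟩ := (Algebra.FiniteType.out : (⊤ : Subalgebra R B).FG)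
  choose F hF using fun b : B => TensorProduct.exists_finset (e b)
  let t : Finset A := s.biUnion fun b => (F b).image Prod.fst
  let A' : Subalgebra A₀ A := Algebra.adjoin A₀ (t : Set A)
  let ψ : ↥A' ⊗[A₀] B₀ →ₐ[A₀] A ⊗[A₀] B₀ := Algebra.TensorProduct.map A'.val (AlgHom.id A₀ B₀)
  have hmem : ∀ b ∈ s, e b ∈ ψ.range := by
    intro b hb
    rw [hF b]
    refine Subalgebra.sum_mem _ fun i hi => ?_
    have hi' : i.1 ∈ A' := Algebra.subset_adjoin (Finset.mem_coe.mpr
      (Finset.mem_biUnion.mpr ⟨b, hb, Finset.mem_image_of_mem _ hi⟩))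
    exact ψ.mem_range.mpr ⟨(⟨i.1, hi'⟩ : ↥A') ⊗ₜ i.2, by simp [ψ]⟩
  have hall : ∀ b : B, e b ∈ ψ.range := by
    intro b
    have hb : b ∈ Algebra.adjoin R (s : Set B) := by rw [hs]; trivial
    induction hb using Algebra.adjoin_induction with
    | mem x hx => exact hmem x hx
    | algebraMap r =>
      have : e (algebraMap R B r) = algebraMap A₀ (A ⊗[A₀] B₀) (algebraMap R A₀ r) := by
        rw [IsScalarTower.algebraMap_apply R A B, e.commutes,
          IsScalarTower.algebraMap_apply R A₀ A]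
        simp [Algebra.TensorProduct.algebraMap_apply]
      rw [this]
      exact Subalgebra.algebraMap_mem _ _
    | add x y _ _ hx hy => rw [map_add]; exact add_mem hx hy
    | mul x y _ _ hx hy => rw [map_mul]; exact mul_mem hx hy
  have hψ : Function.Surjective ψ := fun x => by
    obtain ⟨y, hy⟩ := ψ.mem_range.mp (hall (e.symm x))
    exact ⟨y, by rw [hy, AlgEquiv.apply_symm_apply]⟩
  have hlin : (A'.val.toLinearMap.rTensor B₀ : ↥A' ⊗[A₀] B₀ →ₗ[A₀] A ⊗[A₀] B₀) =
      ψ.toLinearMap := by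
    apply TensorProduct.ext'
    intro a b
    simp [ψ]
  have h2 : Function.Surjective (A'.val.toLinearMap.lTensor B₀) := by
    rw [LinearMap.lTensor_surj_iff_rTensor_surj, hlin]
    exact hψ
  have hval : Function.Surjective A'.val.toLinearMap :=
    (Module.FaithfullyFlat.lTensor_surjective_iff_surjective A₀ B₀ _).mp h2
  have htop : A' = ⊤ := by
    rw [eq_top_iff]
    intro a _
    obtain ⟨x, rfl⟩ := hval a
    exact x.2
  exact ⟨by rw [← htop]; exact Subalgebra.fg_adjoin_finset t⟩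

/-- If `B = A ⊗[A₀] B₀` is finitely presented over `R`, with `A₀` finitely presented over `R` and
`B₀` faithfully flat and finitely presented over `A₀`, then `A` is finitely presented over `R`. -/
theorem finitePresentation_of_model [Algebra.FinitePresentation R B]
    [Algebra.FinitePresentation R A₀] [Algebra.FinitePresentation A₀ B₀]
    (e : B ≃ₐ[A] A ⊗[A₀] B₀) : Algebra.FinitePresentation R A := by
  haveI : Algebra.FiniteType A₀ A := finiteType_of_model R e
  obtain ⟨n, f, hf⟩ := Algebra.FiniteType.iff_quotient_mvPolynomial''.mp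
    (inferInstance : Algebra.FiniteType A₀ A)
  haveI : Algebra.FinitePresentation R (MvPolynomial (Fin n) A₀) :=
    Algebra.FinitePresentation.trans R A₀ (MvPolynomial (Fin n) A₀)
  refine Algebra.FinitePresentation.of_surjective (f := f.restrictScalars R) hf ?_
  refine Ideal.FG.of_FG_map_of_faithfullyFlat (S := MvPolynomial (Fin n) A₀ ⊗[A₀] B₀) ?_
  let ψ : MvPolynomial (Fin n) A₀ ⊗[A₀] B₀ →ₐ[A₀] A ⊗[A₀] B₀ :=
    Algebra.TensorProduct.map f (AlgHom.id A₀ B₀)
  have hψ : Function.Surjective ψ := Algebra.TensorProduct.map_surjective f (AlgHom.id A₀ B₀) hf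
    Function.surjective_id
  have hker : RingHom.ker ψ = (RingHom.ker f).map
      (Algebra.TensorProduct.includeLeft : MvPolynomial (Fin n) A₀ →ₐ[A₀] _) :=
    Algebra.TensorProduct.rTensor_ker f hf
  haveI : Algebra.FinitePresentation R (MvPolynomial (Fin n) A₀ ⊗[A₀] B₀) :=
    Algebra.FinitePresentation.trans R (MvPolynomial (Fin n) A₀) _
  let g : MvPolynomial (Fin n) A₀ ⊗[A₀] B₀ →ₐ[R] B :=
    (e.symm.restrictScalars R).toAlgHom.comp (ψ.restrictScalars R)
  have hg : Function.Surjective g := e.symm.surjective.comp hψ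
  have hgker : RingHom.ker g.toRingHom = RingHom.ker ψ := by
    ext x
    simp only [RingHom.mem_ker]
    exact (map_eq_zero_iff e.symm e.symm.injective)
  have hfg := Algebra.FinitePresentation.ker_fG_of_surjective g hg
  rw [hgker, hker] at hfg
  exact hfg

end Model

end Groth.Agent.H48.FlatLimit
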