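import Mathlib
import Groth.Agent.H48.FlatLimit5

/-!
# Noetherian approximation of flat finitely presented algebras
-/

open TensorProduct

namespace Groth.Agent.H48.FlatLimit

universe u

/-- A flat finitely presented algebra descends to a finite type `ℤ`-algebra, keeping flatness. -/
theorem exists_model_flat (A B : Type u) [CommRing A] [CommRing B] [Algebra A B]
    [Algebra.FinitePresentation A B] [Module.Flat A B] :
    ∃ (A₀ B₀ : Type u) (_ : CommRing A₀) (_ : CommRing B₀) (_ : Algebra A₀ A) (_ : Algebra A₀ B₀),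
      Algebra.FiniteType ℤ A₀ ∧ Algebra.FinitePresentation A₀ B₀ ∧ Module.Flat A₀ B₀ ∧
      Nonempty (B ≃ₐ[A] A ⊗[A₀] B₀) := by
  let P := Algebra.Presentation.ofFinitePresentation A B
  let e₀ : A ⊗[P.Core] P.ModelOfHasCoeffs P.Core ≃ₐ[A] B := P.tensorModelOfHasCoeffsEquiv P.Core
  haveI : IsNoetherianRing P.Core := Algebra.FiniteType.isNoetherianRing ℤ P.Core
  haveI : Module.Flat A (A ⊗[P.Core] P.ModelOfHasCoeffs P.Core) :=
    Module.Flat.of_linearEquiv e₀.toLinearEquiv
  obtain ⟨S₀, hS₀, h⟩ := exists_fg_flat (R₀ := P.Core) (P.ModelOfHasCoeffs P.Core) A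
  haveI := h S₀ le_rfl hS₀
  haveI : Algebra.FiniteType P.Core ↥S₀ := (Subalgebra.fg_iff_finiteType S₀).mp hS₀
  refine ⟨↥S₀, ↥S₀ ⊗[P.Core] P.ModelOfHasCoeffs P.Core, inferInstance, inferInstance,
    inferInstance, inferInstance,
    Algebra.FiniteType.trans (inferInstance : Algebra.FiniteType ℤ P.Core) inferInstance,
    inferInstance, inferInstance, ⟨?_⟩⟩
  exact e₀.symm.trans
    (Algebra.TensorProduct.cancelBaseChange P.Core ↥S₀ A A (P.ModelOfHasCoeffs P.Core)).symm

end Groth.Agent.H48.FlatLimit
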