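import Mathlib
import Groth.Agent.H48.FlatLimitMod

/-!
# Descent of a flat finitely presented module to a finite type `ℤ`-algebra
-/

open TensorProduct

namespace Groth.Agent.H48.FlatLimit

universe u

section ModDescent

variable {S₀ S M : Type u} [CommRing S₀] [CommRing S] [Algebra S₀ S] [AddCommGroup M] [Module S M]
  [Module S₀ M] [IsScalarTower S₀ S M] {n m : ℕ}

/-- The model of a cokernel over a smaller ring. -/
abbrev ModelMod (A₀ : Matrix (Fin n) (Fin m) S₀) : Type u :=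
  (Fin n → S₀) ⧸ LinearMap.range (Matrix.toLin' A₀)

lemma compLeft_toLin' (A₀ : Matrix (Fin n) (Fin m) S₀)
    (g : (Fin m → S) →ₗ[S] (Fin n → S))
    (hA : A₀.map (algebraMap S₀ S) = LinearMap.toMatrix' g) (v : Fin m → S₀) :
    ((Algebra.linearMap S₀ S).compLeft (Fin n)) (Matrix.toLin' A₀ v) =
      g (((Algebra.linearMap S₀ S).compLeft (Fin m)) v) := by
  conv_rhs => rw [← Matrix.toLin'_toMatrix' g, ← hA]
  ext i
  simp only [LinearMap.compLeft_apply, Matrix.toLin'_apply, Function.comp_apply,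
    Algebra.linearMap_apply]
  exact RingHom.map_mulVec (algebraMap S₀ S) A₀ v i

variable (f : (Fin n → S) →ₗ[S] M) (g : (Fin m → S) →ₗ[S] (Fin n → S))
  (hfg : Function.Exact g f) (A₀ : Matrix (Fin n) (Fin m) S₀)
  (hA : A₀.map (algebraMap S₀ S) = LinearMap.toMatrix' g)

/-- The comparison map from the model. -/
noncomputable def modelMap : ModelMod A₀ →ₗ[S₀] M :=
  Submodule.liftQ _ ((f.restrictScalars S₀) ∘ₗ ((Algebra.linearMap S₀ S).compLeft (Fin n))) (by
    rintro _ ⟨v, rfl⟩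
    rw [LinearMap.mem_ker, LinearMap.comp_apply, compLeft_toLin' A₀ g hA v]
    exact hfg.apply_apply_eq_zero _)

include hfg hA in
lemma isBaseChange_modelMap (hf : Function.Surjective f) :
    IsBaseChange S (modelMap f g hfg A₀ hA) := by
  refine IsBaseChange.of_right_exact S ((Algebra.linearMap S₀ S).compLeft (Fin m))
    ((Algebra.linearMap S₀ S).compLeft (Fin n)) (modelMap f g hfg A₀ hA)
    (f := Matrix.toLin' A₀) (g := (LinearMap.range (Matrix.toLin' A₀)).mkQ) (f' := g) (g' := f)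
    ?_ ?_ ?_ ?_ ?_ ?_ hfg hf
  · apply LinearMap.ext
    intro v
    exact compLeft_toLin' A₀ g hA v
  · apply LinearMap.ext
    intro v
    rfl
  · exact IsBaseChange.finitePow (Fin m) (IsBaseChange.linearMap S₀ S)
  · exact IsBaseChange.finitePow (Fin n) (IsBaseChange.linearMap S₀ S)
  · exact LinearMap.exact_map_mkQ_range _
  · exact Submodule.mkQ_surjective _

end ModDescent

section Assemble

attribute [local instance] Algebra.TensorProduct.rightAlgebra

theorem assemble_aux (C R S S₀ M M₀ : Type u) [CommRing C] [CommRing R] [Algebra C R] [CommRing S]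
    [Algebra R S] [CommRing S₀] [Algebra C S₀] [Algebra S₀ S] [Algebra C S] [IsScalarTower C R S]
    [IsScalarTower C S₀ S] [AddCommGroup M] [Module S M] [Module R M] [IsScalarTower R S M]
    [AddCommGroup M₀] [Module S₀ M₀] [Module C M₀] [IsScalarTower C S₀ M₀] [Module S₀ M]
    [IsScalarTower S₀ S M] (h : M₀ →ₗ[S₀] M) [Algebra.IsPushout C R S₀ S] (hbc : IsBaseChange S h)
    [Algebra.FiniteType ℤ C] [Algebra.FiniteType C S₀] [Module.Finite S₀ M₀]
    (R₁ : Subalgebra C R) (hR₁ : R₁.FG) [Module.Flat R₁ (R₁ ⊗[C] M₀)] :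
    ∃ (R₀ : Type u) (_ : CommRing R₀) (_ : Algebra R₀ R) (S₀' : Type u) (_ : CommRing S₀')
      (_ : Algebra R₀ S₀') (_ : Algebra S₀' S) (_ : Algebra R₀ S) (_ : IsScalarTower R₀ R S)
      (_ : IsScalarTower R₀ S₀' S) (M₀' : Type u) (_ : AddCommGroup M₀') (_ : Module S₀' M₀')
      (_ : Module R₀ M₀') (_ : IsScalarTower R₀ S₀' M₀') (_ : Module S₀' M)
      (_ : IsScalarTower S₀' S M) (f : M₀' →ₗ[S₀'] M),
      Algebra.FiniteType ℤ R₀ ∧ Algebra.FiniteType R₀ S₀' ∧ Module.Finite S₀' M₀' ∧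
        Module.Flat R₀ M₀' ∧ Algebra.IsPushout R₀ R S₀' S ∧ IsBaseChange S f := by
  let φ : (R₁ ⊗[C] S₀) →ₐ[C] S :=
    Algebra.TensorProduct.lift ((IsScalarTower.toAlgHom C R S).comp R₁.val)
      (IsScalarTower.toAlgHom C S₀ S) (fun _ _ => Commute.all _ _)
  letI algS₁S : Algebra (R₁ ⊗[C] S₀) S := φ.toRingHom.toAlgebra
  have hφ : ∀ x, algebraMap (R₁ ⊗[C] S₀) S x = φ x := fun _ => rfl
  have e1 : ∀ x : R₁, algebraMap R₁ S x = algebraMap (R₁ ⊗[C] S₀) S (algebraMap R₁ (R₁ ⊗[C] S₀) x) := by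
    intro x
    rw [hφ, Algebra.TensorProduct.algebraMap_apply]
    simp [φ]
    rfl
  haveI t1 : IsScalarTower R₁ (R₁ ⊗[C] S₀) S := IsScalarTower.of_algebraMap_eq e1
  have e2 : ∀ x : S₀, algebraMap S₀ S x = algebraMap (R₁ ⊗[C] S₀) S (algebraMap S₀ (R₁ ⊗[C] S₀) x) := by
    intro x
    rw [hφ]
    simp [φ, Algebra.TensorProduct.right_algebraMap_apply]
  haveI t2 : IsScalarTower S₀ (R₁ ⊗[C] S₀) S := IsScalarTower.of_algebraMap_eq e2
  have e3 : ∀ x : C, algebraMap C S x = algebraMap (R₁ ⊗[C] S₀) S (algebraMap C (R₁ ⊗[C] S₀) x) := by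
    intro x
    rw [hφ, AlgHom.commutes]
  haveI t3 : IsScalarTower C (R₁ ⊗[C] S₀) S := IsScalarTower.of_algebraMap_eq e3
  haveI po1 : Algebra.IsPushout R₁ R (R₁ ⊗[C] S₀) S :=
    (Algebra.IsPushout.comp_iff C R₁ S₀ (S' := R₁ ⊗[C] S₀) (T := R) (T' := S)).mp inferInstance
  letI modS₁M : Module (R₁ ⊗[C] S₀) M := Module.compHom M (algebraMap (R₁ ⊗[C] S₀) S)
  haveI t4 : IsScalarTower (R₁ ⊗[C] S₀) S M := ⟨fun a b m => by
    rw [Algebra.smul_def, mul_smul]; rfl⟩
  haveI t5 : IsScalarTower S₀ (R₁ ⊗[C] S₀) M := ⟨fun a b m => by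
    change algebraMap _ S (a • b) • m = a • (algebraMap _ S b • m)
    rw [Algebra.smul_def, map_mul, mul_smul, ← IsScalarTower.algebraMap_apply,
      algebraMap_smul]⟩
  let f₁ : (R₁ ⊗[C] S₀) ⊗[S₀] M₀ →ₗ[R₁ ⊗[C] S₀] M :=
    (TensorProduct.isBaseChange S₀ M₀ (R₁ ⊗[C] S₀)).lift h
  have hf₁ : (f₁.restrictScalars S₀) ∘ₗ (TensorProduct.mk S₀ (R₁ ⊗[C] S₀) M₀ 1) = h :=
    (TensorProduct.isBaseChange S₀ M₀ (R₁ ⊗[C] S₀)).lift_comp h
  have bc : IsBaseChange S f₁ := by
    refine IsBaseChange.of_comp (TensorProduct.isBaseChange S₀ M₀ (R₁ ⊗[C] S₀)) ?_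
    rw [hf₁]
    exact hbc
  haveI : Algebra.FiniteType C R₁ := R₁.fg_iff_finiteType.mp hR₁
  have ft : Algebra.FiniteType ℤ R₁ := Algebra.FiniteType.trans (S := C) inferInstance inferInstance
  have fl : Module.Flat R₁ ((R₁ ⊗[C] S₀) ⊗[S₀] M₀) :=
    Module.Flat.of_linearEquiv (Algebra.IsPushout.cancelBaseChange C R₁ S₀ (R₁ ⊗[C] S₀) M₀)
  exact ⟨R₁, inferInstance, inferInstance, R₁ ⊗[C] S₀, inferInstance, inferInstance, algS₁S,
    inferInstance, inferInstance, t1, (R₁ ⊗[C] S₀) ⊗[S₀] M₀, inferInstance, inferInstance,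
    inferInstance, inferInstance, modS₁M, t4, f₁, ft, inferInstance, inferInstance, fl, po1, bc⟩

theorem assemble (C R S S₀ M M₀ : Type u) [CommRing C] [CommRing R] [Algebra C R] [CommRing S]
    [Algebra R S] [CommRing S₀] [Algebra C S₀] [Algebra S₀ S] [Algebra C S] [IsScalarTower C R S]
    [IsScalarTower C S₀ S] [AddCommGroup M] [Module S M] [Module R M] [IsScalarTower R S M]
    [AddCommGroup M₀] [Module S₀ M₀] [Module C M₀] [IsScalarTower C S₀ M₀] [Module S₀ M]
    [IsScalarTower S₀ S M] (h : M₀ →ₗ[S₀] M) [Algebra.IsPushout C R S₀ S] (hbc : IsBaseChange S h)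
    [Algebra.FiniteType ℤ C] [Algebra.FiniteType C S₀] [Module.Finite S₀ M₀] [Module.Flat R M] :
    ∃ (R₀ : Type u) (_ : CommRing R₀) (_ : Algebra R₀ R) (S₀' : Type u) (_ : CommRing S₀')
      (_ : Algebra R₀ S₀') (_ : Algebra S₀' S) (_ : Algebra R₀ S) (_ : IsScalarTower R₀ R S)
      (_ : IsScalarTower R₀ S₀' S) (M₀' : Type u) (_ : AddCommGroup M₀') (_ : Module S₀' M₀')
      (_ : Module R₀ M₀') (_ : IsScalarTower R₀ S₀' M₀') (_ : Module S₀' M)
      (_ : IsScalarTower S₀' S M) (f : M₀' →ₗ[S₀'] M),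
      Algebra.FiniteType ℤ R₀ ∧ Algebra.FiniteType R₀ S₀' ∧ Module.Finite S₀' M₀' ∧
        Module.Flat R₀ M₀' ∧ Algebra.IsPushout R₀ R S₀' S ∧ IsBaseChange S f := by
  haveI : IsNoetherianRing C := Algebra.FiniteType.isNoetherianRing ℤ C
  haveI : Module.Flat R (R ⊗[C] M₀) := Module.Flat.of_linearEquiv
    ((Algebra.IsPushout.cancelBaseChange C R S₀ S M₀).symm ≪≫ₗ (hbc.equiv.restrictScalars R))
  obtain ⟨n, f, hf⟩ := Algebra.FiniteType.iff_quotient_mvPolynomial''.mp
    (inferInstance : Algebra.FiniteType C S₀)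
  letI algP : Algebra (MvPolynomial (Fin n) C) S₀ := f.toRingHom.toAlgebra
  have hfa : ∀ x, algebraMap (MvPolynomial (Fin n) C) S₀ x = f x := fun _ => rfl
  have e1 : ∀ x : C, algebraMap C S₀ x =
      algebraMap (MvPolynomial (Fin n) C) S₀ (algebraMap C (MvPolynomial (Fin n) C) x) := by
    intro x
    rw [hfa, AlgHom.commutes]
  haveI t1 : IsScalarTower C (MvPolynomial (Fin n) C) S₀ := IsScalarTower.of_algebraMap_eq e1
  letI modP : Module (MvPolynomial (Fin n) C) M₀ :=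
    Module.compHom M₀ (algebraMap (MvPolynomial (Fin n) C) S₀)
  haveI t2 : IsScalarTower (MvPolynomial (Fin n) C) S₀ M₀ := ⟨fun a b m => by
    rw [Algebra.smul_def, mul_smul]; rfl⟩
  haveI t3 : IsScalarTower C (MvPolynomial (Fin n) C) M₀ := ⟨fun a b m => by
    change algebraMap _ S₀ (a • b) • m = a • (algebraMap _ S₀ b • m)
    rw [Algebra.smul_def, map_mul, mul_smul, ← IsScalarTower.algebraMap_apply,
      algebraMap_smul]⟩
  haveI : Module.Finite (MvPolynomial (Fin n) C) S₀ :=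
    Module.Finite.of_surjective (Algebra.linearMap (MvPolynomial (Fin n) C) S₀) hf
  haveI : Module.Finite (MvPolynomial (Fin n) C) M₀ :=
    Module.Finite.trans S₀ M₀
  obtain ⟨R₁, hR₁, hflat⟩ := exists_fg_flat_module C (MvPolynomial (Fin n) C) M₀ R
  haveI := hflat R₁ le_rfl hR₁
  exact assemble_aux C R S S₀ M M₀ h hbc R₁ hR₁

theorem model_data_aux (R S M : Type u) [CommRing R] [CommRing S] [Algebra R S]
    [AddCommGroup M] [Module S M] {a b : ℕ} (P : Algebra.Presentation R S (Fin a) (Fin b))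
    (C : Type u) [CommRing C] [Algebra C R] [Algebra C S] [IsScalarTower C R S] [P.HasCoeffs C]
    [Algebra.FiniteType ℤ C] {n m : ℕ} (f : (Fin n → S) →ₗ[S] M)
    (g : (Fin m → S) →ₗ[S] (Fin n → S)) (hf : Function.Surjective f) (hfg : Function.Exact g f)
    (q : Fin n → Fin m → MvPolynomial (Fin a) C)
    (hq : ∀ i j, MvPolynomial.aeval P.val (q i j) = LinearMap.toMatrix' g i j) :
    ∃ (C : Type u) (_ : CommRing C) (_ : Algebra C R) (_ : Algebra.FiniteType ℤ C)
      (S₀ : Type u) (_ : CommRing S₀) (_ : Algebra C S₀) (_ : Algebra S₀ S) (_ : Algebra C S)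
      (_ : IsScalarTower C R S) (_ : IsScalarTower C S₀ S) (_ : Algebra.FiniteType C S₀)
      (_ : Algebra.IsPushout C R S₀ S) (M₀ : Type u) (_ : AddCommGroup M₀) (_ : Module S₀ M₀)
      (_ : Module C M₀) (_ : IsScalarTower C S₀ M₀) (_ : Module S₀ M) (_ : IsScalarTower S₀ S M)
      (_ : Module.Finite S₀ M₀) (h : M₀ →ₗ[S₀] M), IsBaseChange S h := by
  classical
  let A₀ : Matrix (Fin n) (Fin m) (P.ModelOfHasCoeffs C) := fun i j => Ideal.Quotient.mk _ (q i j)
  let ψ : P.ModelOfHasCoeffs C →ₐ[C] S :=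
    ((P.tensorModelOfHasCoeffsEquiv C).toAlgHom.restrictScalars C).comp
      Algebra.TensorProduct.includeRight
  letI algS₀S : Algebra (P.ModelOfHasCoeffs C) S := ψ.toRingHom.toAlgebra
  have hψ : ∀ x, algebraMap (P.ModelOfHasCoeffs C) S x = ψ x := fun _ => rfl
  have e1 : ∀ x : C, algebraMap C S x =
      algebraMap (P.ModelOfHasCoeffs C) S (algebraMap C (P.ModelOfHasCoeffs C) x) := by
    intro x
    rw [hψ, AlgHom.commutes]
  haveI t1 : IsScalarTower C (P.ModelOfHasCoeffs C) S := IsScalarTower.of_algebraMap_eq e1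
  haveI po : Algebra.IsPushout C R (P.ModelOfHasCoeffs C) S :=
    Algebra.IsPushout.of_equiv (h := (TensorProduct.isPushout :
      Algebra.IsPushout C R (P.ModelOfHasCoeffs C) (R ⊗[C] P.ModelOfHasCoeffs C)))
      (P.tensorModelOfHasCoeffsEquiv C) (RingHom.ext fun x => rfl)
  have hA : A₀.map (algebraMap (P.ModelOfHasCoeffs C) S) = LinearMap.toMatrix' g := by
    ext i j
    rw [Matrix.map_apply, hψ, ← hq i j]
    simp only [ψ, A₀, AlgHom.comp_apply, Algebra.TensorProduct.includeRight_apply]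
    change (P.tensorModelOfHasCoeffsEquiv C) (1 ⊗ₜ (Ideal.Quotient.mk _ (q i j))) = _
    rw [Algebra.Presentation.tensorModelOfHasCoeffsEquiv_tmul, map_one, one_mul]
  letI modS₀M : Module (P.ModelOfHasCoeffs C) M :=
    Module.compHom M (algebraMap (P.ModelOfHasCoeffs C) S)
  haveI t2 : IsScalarTower (P.ModelOfHasCoeffs C) S M := ⟨fun a b m => by
    rw [Algebra.smul_def, mul_smul]; rfl⟩
  exact ⟨C, inferInstance, inferInstance, inferInstance, P.ModelOfHasCoeffs C, inferInstance,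
    inferInstance, algS₀S, inferInstance, inferInstance, t1, inferInstance, po, ModelMod A₀,
    inferInstance, inferInstance, inferInstance, inferInstance, modS₀M, t2, inferInstance,
    modelMap f g hfg A₀ hA, isBaseChange_modelMap f g hfg A₀ hA hf⟩

theorem exists_model_data (R S M : Type u) [CommRing R] [CommRing S] [Algebra R S]
    [Algebra.FinitePresentation R S] [AddCommGroup M] [Module S M]
    [Module.FinitePresentation S M] :
    ∃ (C : Type u) (_ : CommRing C) (_ : Algebra C R) (_ : Algebra.FiniteType ℤ C)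
      (S₀ : Type u) (_ : CommRing S₀) (_ : Algebra C S₀) (_ : Algebra S₀ S) (_ : Algebra C S)
      (_ : IsScalarTower C R S) (_ : IsScalarTower C S₀ S) (_ : Algebra.FiniteType C S₀)
      (_ : Algebra.IsPushout C R S₀ S) (M₀ : Type u) (_ : AddCommGroup M₀) (_ : Module S₀ M₀)
      (_ : Module C M₀) (_ : IsScalarTower C S₀ M₀) (_ : Module S₀ M) (_ : IsScalarTower S₀ S M)
      (_ : Module.Finite S₀ M₀) (h : M₀ →ₗ[S₀] M), IsBaseChange S h := by
  classical
  let P := Algebra.Presentation.ofFinitePresentation R S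
  obtain ⟨n, m, f, g, hf, hfg⟩ := Module.FinitePresentation.exists_fin' S M
  have hsurj : Function.Surjective (algebraMap P.Ring S) := P.algebraMap_surjective
  choose p hp using fun i j => hsurj (LinearMap.toMatrix' g i j)
  let s : Set R := ⋃ i, ⋃ j, ((p i j).coeffs : Set R)
  have hs : s.Finite := Set.finite_iUnion fun i => Set.finite_iUnion fun j => Finset.finite_toSet _
  haveI : Algebra.FiniteType P.Core (Algebra.adjoin P.Core s) :=
    Algebra.FiniteType.adjoin_of_finite hs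
  haveI ftC : Algebra.FiniteType ℤ (Algebra.adjoin P.Core s) :=
    Algebra.FiniteType.trans (S := P.Core) inferInstance inferInstance
  have hq : ∀ i j, p i j ∈ Set.range
      (MvPolynomial.map (algebraMap (Algebra.adjoin P.Core s) R)) := by
    intro i j
    rw [MvPolynomial.mem_range_map_iff_coeffs_subset]
    intro x hx
    have hxs : x ∈ s := Set.mem_iUnion.mpr ⟨i, Set.mem_iUnion.mpr ⟨j, hx⟩⟩
    exact ⟨⟨x, Algebra.subset_adjoin hxs⟩, rfl⟩
  choose q hq using hq
  refine model_data_aux R S M P (Algebra.adjoin P.Core s) f g hf hfg q ?_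
  intro i j
  rw [← hp i j, ← hq i j, Algebra.Generators.algebraMap_apply, MvPolynomial.aeval_map_algebraMap]


/-- **Descent of a flat finitely presented module to a finite type `ℤ`-algebra.** -/
theorem exists_int_model_flat_module (R : Type u) [CommRing R]
    (S : Type u) [CommRing S] [Algebra R S] [Algebra.FinitePresentation R S] (M : Type u)
    [AddCommGroup M] [Module S M] [Module R M] [IsScalarTower R S M]
    [Module.FinitePresentation S M] [Module.Flat R M] :
    ∃ (R₀ : Type u) (_ : CommRing R₀) (_ : Algebra R₀ R) (S₀ : Type u) (_ : CommRing S₀)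
      (_ : Algebra R₀ S₀) (_ : Algebra S₀ S) (_ : Algebra R₀ S) (_ : IsScalarTower R₀ R S)
      (_ : IsScalarTower R₀ S₀ S) (M₀ : Type u) (_ : AddCommGroup M₀) (_ : Module S₀ M₀)
      (_ : Module R₀ M₀) (_ : IsScalarTower R₀ S₀ M₀) (_ : Module S₀ M) (_ : IsScalarTower S₀ S M)
      (f : M₀ →ₗ[S₀] M),
      Algebra.FiniteType ℤ R₀ ∧ Algebra.FiniteType R₀ S₀ ∧ Module.Finite S₀ M₀ ∧ Module.Flat R₀ M₀ ∧
        Algebra.IsPushout R₀ R S₀ S ∧ IsBaseChange S f := by
  obtain ⟨C, _, _, _, S₀, _, _, _, _, _, _, _, _, M₀, _, _, _, _, _, _, _, h, hbc⟩ :=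
    exists_model_data R S M
  exact assemble C R S S₀ M M₀ h hbc

end Assemble

end Groth.Agent.H48.FlatLimit
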