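import Mathlib
import Groth.Agent.H48.FlatLimitMod2
import Groth.Prelude.Def_FlatCA

/-!
# Flatness descends to a stage of a directed colimit (EGA IV 11.2.6, ring form)
-/

open TensorProduct

namespace Groth.Agent.H48.FlatLimit

universe u

/-- Module version of `exists_fg_flat` without flatness hypothesis on the algebra. -/
theorem exists_fg_flat_module' (C S₀ M₀ T : Type u) [CommRing C] [IsNoetherianRing C]
    [CommRing S₀] [Algebra C S₀] [Algebra.FiniteType C S₀] [AddCommGroup M₀] [Module S₀ M₀]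
    [Module C M₀] [IsScalarTower C S₀ M₀] [Module.Finite S₀ M₀] [CommRing T] [Algebra C T]
    [Module.Flat T (T ⊗[C] M₀)] :
    ∃ S₁ : Subalgebra C T, S₁.FG ∧ ∀ S : Subalgebra C T, S₁ ≤ S → S.FG →
      Module.Flat ↥S (↥S ⊗[C] M₀) := by
  obtain ⟨n, f, hf⟩ := Algebra.FiniteType.iff_quotient_mvPolynomial''.mp
    (inferInstance : Algebra.FiniteType C S₀)
  letI algP : Algebra (MvPolynomial (Fin n) C) S₀ := f.toRingHom.toAlgebra
  have hfa : ∀ x, algebraMap (MvPolynomial (Fin n) C) S₀ x = f x := fun _ => rfl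
  have e1 : ∀ x : C, algebraMap C S₀ x =
      algebraMap (MvPolynomial (Fin n) C) S₀ (algebraMap C (MvPolynomial (Fin n) C) x) := by
    intro x
    rw [hfa, AlgHom.commutes]
  haveI t1 : IsScalarTower C (MvPolynomial (Fin n) C) S₀ := IsScalarTower.of_algebraMap_eq e1
  letI modP : Module (MvPolynomial (Fin n) C) M₀ :=
    Module.compHom M₀ (algebraMap (MvPolynomial (Fin n) C) S₀)
  haveI t2 : IsScalarTower (MvPolynomial (Fin n) C) S₀ M₀ := ⟨fun a b m => by
    rw [Algebra.smul_def, mul_smul]; rfl⟩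
  haveI t3 : IsScalarTower C (MvPolynomial (Fin n) C) M₀ := ⟨fun a b m => by
    change algebraMap _ S₀ (a • b) • m = a • (algebraMap _ S₀ b • m)
    rw [Algebra.smul_def, map_mul, mul_smul, ← IsScalarTower.algebraMap_apply,
      algebraMap_smul]⟩
  haveI : Module.Finite (MvPolynomial (Fin n) C) S₀ :=
    Module.Finite.of_surjective (Algebra.linearMap (MvPolynomial (Fin n) C) S₀) hf
  haveI : Module.Finite (MvPolynomial (Fin n) C) M₀ :=
    Module.Finite.trans S₀ M₀
  exact exists_fg_flat_module C (MvPolynomial (Fin n) C) M₀ T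

/-- Transport of flatness of a base change along a model. -/
lemma flat_tensor_iff_of_model {C A₀ T M₀ M₀' : Type u} [CommRing C] [CommRing A₀] [Algebra C A₀]
    [CommRing T] [Algebra A₀ T] [Algebra C T] [IsScalarTower C A₀ T] [AddCommGroup M₀]
    [Module A₀ M₀] [AddCommGroup M₀'] [Module C M₀'] (e₀ : M₀ ≃ₗ[A₀] A₀ ⊗[C] M₀') :
    Module.Flat T (T ⊗[A₀] M₀) ↔ Module.Flat T (T ⊗[C] M₀') := by
  let e : T ⊗[A₀] M₀ ≃ₗ[T] T ⊗[C] M₀' :=
    (TensorProduct.AlgebraTensorModule.congr (LinearEquiv.refl T T) e₀) ≪≫ₗ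
      TensorProduct.AlgebraTensorModule.cancelBaseChange C A₀ T T M₀'
  exact ⟨fun h => Module.Flat.of_linearEquiv e.symm, fun h => Module.Flat.of_linearEquiv e⟩

/-- A finitely presented algebra mapping to a directed colimit maps to some stage. -/
theorem exists_algHom_stage {ι : Type u} [Preorder ι] (G : ι → Type u) [∀ i, CommRing (G i)]
    (g : ∀ i j, i ≤ j → G i →+* G j) (A : Type u) [CommRing A] [∀ i, Algebra (G i) A]
    (hcolim : FlatCA.IsDirectedColimitRing G g A)
    (C : Type u) [CommRing C] [∀ i, Algebra C (G i)] [Algebra C A] [∀ i, IsScalarTower C (G i) A]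
    (hg : ∀ i j (h : i ≤ j), (g i j h).comp (algebraMap C (G i)) = algebraMap C (G j))
    (S₁ : Type u) [CommRing S₁] [Algebra C S₁] [Algebra.FinitePresentation C S₁]
    (φ : S₁ →ₐ[C] A) : ∃ j, Nonempty (S₁ →ₐ[C] G j) := by
  classical
  obtain ⟨hdir, hne, hid, hcomp, hcompat, hsurj, hinj⟩ := hcolim
  obtain ⟨n, f, hf, hker⟩ := Algebra.FinitePresentation.out (R := C) (A := S₁)
  obtain ⟨s, hs⟩ := hker
  -- lifts of generators
  choose ik bk hbk using fun k : Fin n => hsurj (φ (f (MvPolynomial.X k)))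
  obtain ⟨i, hi⟩ := Finite.exists_le ik
  let b' : Fin n → G i := fun k => g (ik k) i (hi k) (bk k)
  let θ : MvPolynomial (Fin n) C →ₐ[C] G i := MvPolynomial.aeval b'
  have hθ : ∀ p, algebraMap (G i) A (θ p) = φ (f p) := by
    intro p
    have : ((IsScalarTower.toAlgHom C (G i) A).comp θ) = φ.comp f := by
      apply MvPolynomial.algHom_ext
      intro k
      simp only [AlgHom.comp_apply, θ, MvPolynomial.aeval_X, IsScalarTower.coe_toAlgHom', b']
      rw [← hbk k, ← hcompat (ik k) i (hi k)]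
      rfl
    exact DFunLike.congr_fun this p
  -- relations vanish at a later stage
  have hrel : ∀ h : (s : Set (MvPolynomial (Fin n) C)), ∃ j, ∃ hij : i ≤ j, g i j hij (θ h) = 0 := by
    intro h
    apply hinj
    rw [hθ]
    have : (h : MvPolynomial (Fin n) C) ∈ RingHom.ker f.toRingHom := by
      rw [← hs]; exact Ideal.subset_span h.2
    rw [show f (h : MvPolynomial (Fin n) C) = 0 from this, map_zero]
  choose jh hjh hzero using hrel
  obtain ⟨j, hj⟩ := Finite.exists_le (fun o : Option (s : Set (MvPolynomial (Fin n) C)) =>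
    o.elim i jh)
  have hij : i ≤ j := hj none
  let gij : G i →ₐ[C] G j :=
    { toRingHom := g i j hij
      commutes' := fun c => DFunLike.congr_fun (hg i j hij) c }
  let θj : MvPolynomial (Fin n) C →ₐ[C] G j := gij.comp θ
  have hkerle : RingHom.ker f.toRingHom ≤ RingHom.ker θj.toRingHom := by
    rw [← hs, Ideal.span_le]
    intro h hh
    have h1 := hzero ⟨h, hh⟩
    have h2 : jh ⟨h, hh⟩ ≤ j := hj (some ⟨h, hh⟩)
    change θj h = 0
    change g i j hij (θ h) = 0
    rw [← hcomp i (jh ⟨h, hh⟩) j (hjh ⟨h, hh⟩) h2, RingHom.comp_apply, h1, map_zero]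
  refine ⟨j, ⟨?_⟩⟩
  exact (Ideal.Quotient.liftₐ (RingHom.ker f.toRingHom) θj (fun a ha => hkerle ha)).comp
    (Ideal.quotientKerAlgEquivOfSurjective hf).symm.toAlgHom

/-- **EGA IV 11.2.6, ring form**: flatness of a base change of a finitely presented module to a
directed colimit is attained at a stage. -/
theorem flat_colimit_iff_exists_stage {A₀ : Type u} [CommRing A₀]
    {ι : Type u} [Preorder ι] (G : ι → Type u) [∀ i, CommRing (G i)] [∀ i, Algebra A₀ (G i)]
    (g : ∀ i j, i ≤ j → G i →ₐ[A₀] G j)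
    (A : Type u) [CommRing A] [Algebra A₀ A] [∀ i, Algebra (G i) A] [∀ i, IsScalarTower A₀ (G i) A]
    (hcolim : FlatCA.IsDirectedColimitRing G (fun i j h => (g i j h).toRingHom) A)
    {B₀ : Type u} [CommRing B₀] [Algebra A₀ B₀] [Algebra.FinitePresentation A₀ B₀]
    (M₀ : Type u) [AddCommGroup M₀] [Module B₀ M₀] [Module A₀ M₀] [IsScalarTower A₀ B₀ M₀]
    [Module.FinitePresentation B₀ M₀] :
    Module.Flat A (A ⊗[A₀] M₀) ↔ ∃ i : ι, Module.Flat (G i) (G i ⊗[A₀] M₀) := by
  constructor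
  · intro hflat
    obtain ⟨C, _, _, _, S₀, _, _, _, _, _, _, _, _, M₀', _, _, _, _, _, _, _, h, hbc⟩ :=
      exists_model_data A₀ B₀ M₀
    haveI : IsNoetherianRing C := Algebra.FiniteType.isNoetherianRing ℤ C
    -- the model iso
    let e₀ : M₀ ≃ₗ[A₀] A₀ ⊗[C] M₀' :=
      (hbc.equiv.restrictScalars A₀).symm ≪≫ₗ Algebra.IsPushout.cancelBaseChange C A₀ S₀ B₀ M₀'
    -- C-algebra structures
    letI algCA : Algebra C A := ((algebraMap A₀ A).comp (algebraMap C A₀)).toAlgebra
    haveI : IsScalarTower C A₀ A := IsScalarTower.of_algebraMap_eq (fun _ => rfl)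
    letI algCG : ∀ i, Algebra C (G i) := fun i =>
      ((algebraMap A₀ (G i)).comp (algebraMap C A₀)).toAlgebra
    haveI : ∀ i, IsScalarTower C A₀ (G i) := fun i => IsScalarTower.of_algebraMap_eq (fun _ => rfl)
    haveI : ∀ i, IsScalarTower C (G i) A := fun i => IsScalarTower.of_algebraMap_eq (fun c => by
      change algebraMap A₀ A (algebraMap C A₀ c) = algebraMap (G i) A (algebraMap A₀ (G i) _)
      rw [← IsScalarTower.algebraMap_apply A₀ (G i) A])
    haveI hflatC : Module.Flat A (A ⊗[C] M₀') := (flat_tensor_iff_of_model e₀).mp hflat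
    obtain ⟨S₁, hS₁, hS₁flat⟩ := exists_fg_flat_module' C S₀ M₀' A
    haveI := hS₁flat S₁ le_rfl hS₁
    haveI : Algebra.FiniteType C S₁ := S₁.fg_iff_finiteType.mp hS₁
    haveI : Algebra.FinitePresentation C S₁ := Algebra.FinitePresentation.of_finiteType.mp inferInstance
    obtain ⟨j, ⟨ψ⟩⟩ := exists_algHom_stage G (fun i j h => (g i j h).toRingHom) A hcolim C
      (fun i j h => by
        ext c
        change g i j h (algebraMap A₀ (G i) (algebraMap C A₀ c)) = algebraMap A₀ (G j) _
        rw [AlgHom.commutes]) S₁ S₁.val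
    refine ⟨j, ?_⟩
    rw [flat_tensor_iff_of_model e₀]
    letI algS₁G : Algebra S₁ (G j) := ψ.toRingHom.toAlgebra
    haveI : IsScalarTower C S₁ (G j) := IsScalarTower.of_algebraMap_eq (fun c => (ψ.commutes c).symm)
    exact Module.Flat.of_linearEquiv
      (TensorProduct.AlgebraTensorModule.cancelBaseChange C S₁ (G j) (G j) M₀').symm
  · rintro ⟨i, hi⟩
    exact Module.Flat.of_linearEquiv
      (TensorProduct.AlgebraTensorModule.cancelBaseChange A₀ (G i) A A M₀).symm

end Groth.Agent.H48.FlatLimit
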