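import Mathlib
import Groth.Agent.H48.UnramBC

/-!
Flatness at a point and base change (helper48).
-/

set_option autoImplicit false
universe u

open AlgebraicGeometry CategoryTheory Limits TensorProduct

namespace Groth.Agent.H48

/-- Pushout square `A → A'`, `A → B`, `B' = B ⊗_A A'`; `q'` a prime of `B'` over `p'` of `A'`.
If `A'_{p'}` is flat over `A`, then `B'_{q'}` is flat over `B`. -/
theorem flat_localization_of_isPushout (A A' B B' : Type u) [CommRing A] [CommRing A']
    [CommRing B] [CommRing B']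
    [Algebra A A'] [Algebra A B] [Algebra A' B'] [Algebra B B'] [Algebra A B']
    [IsScalarTower A A' B'] [IsScalarTower A B B'] [Algebra.IsPushout A A' B B']
    (p' : Ideal A') [p'.IsPrime] (q' : Ideal B') [q'.IsPrime] [q'.LiesOver p']
    (hfl : Module.Flat A (Localization.AtPrime p')) :
    Module.Flat B (Localization.AtPrime q') := by
  let Rp := Localization.AtPrime p'
  let Sp := Localization (Algebra.algebraMapSubmonoid B' p'.primeCompl)
  let Sq := Localization.AtPrime q'
  let f : Sp →ₐ[B'] Sq := IsLocalization.liftAlgHom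
    (M := Algebra.algebraMapSubmonoid B' p'.primeCompl)
      (f := Algebra.ofId _ _) (by
    rintro ⟨_, x, hx, rfl⟩
    simpa using! IsLocalization.map_units (M := q'.primeCompl) Sq ⟨algebraMap _ _ x,
      by simp_all [q'.over_def p']⟩)
  algebraize [f.toRingHom]
  have : IsScalarTower B Sp Sq := .to₁₃₄ _ B' _ _
  have : IsLocalization (Algebra.algebraMapSubmonoid Sp q'.primeCompl) Sq :=
    .isLocalization_of_submonoid_le _ _ (Algebra.algebraMapSubmonoid B' p'.primeCompl) _
    (by rintro _ ⟨x, hx, rfl⟩; simp_all [q'.over_def p'])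
  have : Module.Flat Sp Sq :=
    IsLocalization.flat _ (Algebra.algebraMapSubmonoid Sp q'.primeCompl)
  have : IsScalarTower A A' Sp := .to₁₂₄ A A' B' Sp
  have : IsScalarTower A B Sp := .to₁₂₄ A B B' Sp
  have : IsScalarTower A Rp Sp := .to₁₃₄ A A' Rp Sp
  have hpo1 : Algebra.IsPushout A' Rp B' Sp :=
    .symm <| Algebra.isPushout_of_isLocalization p'.primeCompl _ _ _
  have h1 : IsBaseChange A' (IsScalarTower.toAlgHom A B B').toLinearMap :=
    (inferInstance : Algebra.IsPushout A A' B B').out
  have h2 : IsBaseChange Rp (IsScalarTower.toAlgHom A' B' Sp).toLinearMap := hpo1.out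
  have h3 := IsBaseChange.comp h1 h2
  have hpo2 : Algebra.IsPushout A Rp B Sp := ⟨by
    convert h3 using 1
    · rfl
    · refine LinearMap.ext fun b => ?_
      exact IsScalarTower.algebraMap_apply B B' Sp b⟩
  have hpo3 : Algebra.IsPushout A B Rp Sp := hpo2.symm
  have : Module.Flat B Sp := Module.Flat.isBaseChange (R := A) (S := B) (M := Rp) Sp hpo3.out
  exact Module.Flat.trans B Sp Sq

/-- Descent of flatness at a point along a base change which is flat at the point. -/
theorem flat_localization_descent (A A' B B' : Type u) [CommRing A] [CommRing A']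
    [CommRing B] [CommRing B']
    [Algebra A A'] [Algebra A B] [Algebra A' B'] [Algebra B B'] [Algebra A B']
    [IsScalarTower A A' B'] [IsScalarTower A B B'] [Algebra.IsPushout A A' B B']
    (p' : Ideal A') [p'.IsPrime] (q' : Ideal B') [q'.IsPrime] [q'.LiesOver p']
    (q : Ideal B) [q.IsPrime] [q'.LiesOver q]
    [Algebra (Localization.AtPrime p') (Localization.AtPrime q')]
    [Localization.AtPrime.IsLiesOverAlgebra p' q']
    (hfl : Module.Flat A (Localization.AtPrime p'))
    (hfl' : Module.Flat (Localization.AtPrime p') (Localization.AtPrime q')) :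
    Module.Flat A (Localization.AtPrime q) := by
  have h1 : Module.Flat A (Localization.AtPrime q') :=
    Module.Flat.trans A (Localization.AtPrime p') (Localization.AtPrime q')
  have h2 : Module.Flat B (Localization.AtPrime q') :=
    flat_localization_of_isPushout A A' B B' p' q' hfl
  let := Localization.AtPrime.algebraOfLiesOver q q'
  have h3 : Module.Flat (Localization.AtPrime q) (Localization.AtPrime q') :=
    (Module.flat_iff_of_isLocalization (Localization.AtPrime q) q.primeCompl _).mpr h2
  have : IsLocalHom (algebraMap (Localization.AtPrime q) (Localization.AtPrime q')) := by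
    rw [Localization.AtPrime.IsLiesOverAlgebra.algebraMap_eq]; infer_instance
  haveI : Module.FaithfullyFlat (Localization.AtPrime q) (Localization.AtPrime q') :=
    Module.FaithfullyFlat.of_flat_of_isLocalHom
  exact flat_of_flat_comp_faithfullyFlat A (Localization.AtPrime q) (Localization.AtPrime q')

theorem flat_stalk_of_baseChange {X S S' : Scheme.{u}} (f : X ⟶ S) (g : S' ⟶ S)
    (x' : ↑(pullback f g))
    (hg : (g.stalkMap ((pullback.snd f g).base x')).hom.Flat)
    (hf' : ((pullback.snd f g).stalkMap x').hom.Flat) :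
    (f.stalkMap ((pullback.fst f g).base x')).hom.Flat := by
  have hcond : f.base ((pullback.fst f g).base x') = g.base ((pullback.snd f g).base x') := by
    rw [← Scheme.Hom.comp_apply, ← Scheme.Hom.comp_apply, pullback.condition]
  obtain ⟨V, hV, hsV, -⟩ := exists_isAffineOpen_mem_and_subset
    (x := f.base ((pullback.fst f g).base x')) (U := (⊤ : S.Opens)) trivial
  obtain ⟨W, hW, hxW, hWV⟩ := exists_isAffineOpen_mem_and_subset
    (x := (pullback.fst f g).base x') (U := f ⁻¹ᵁ V) hsV
  have hs'V : (pullback.snd f g).base x' ∈ g ⁻¹ᵁ V := by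
    show g.base _ ∈ V
    rw [← hcond]; exact hsV
  obtain ⟨V', hV', hs'V', hV'V⟩ := exists_isAffineOpen_mem_and_subset
    (x := (pullback.snd f g).base x') (U := g ⁻¹ᵁ V) hs'V
  have H := IsPullback.of_hasPullback f g
  let W' : (pullback f g).Opens := pullback.fst f g ⁻¹ᵁ W ⊓ pullback.snd f g ⁻¹ᵁ V'
  have hx'W' : x' ∈ W' := ⟨hxW, hs'V'⟩
  have hW'W : W' ≤ pullback.fst f g ⁻¹ᵁ W := inf_le_left
  have hW'V' : W' ≤ pullback.snd f g ⁻¹ᵁ V' := inf_le_right
  have hW' : IsAffineOpen W' := by
    have : IsAffine V.toScheme := hV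
    have : IsAffine V'.toScheme := hV'
    have : IsAffine W.toScheme := hW
    exact .of_isIso (Scheme.Hom.isPullback_resLE H hV'V hWV (rfl : W' = _)).isoPullback.hom
  have hpo := (isIso_pushoutSection_iff H hV'V hWV (rfl : W' = _)).mp
    (isIso_pushoutSection_of_isAffineOpen H hV'V hWV rfl hV hV' hW)
  rw [flat_stalkMap_iff V hV V' hV' hV'V hs'V'] at hg
  rw [flat_stalkMap_iff V' hV' W' hW' hW'V' hx'W'] at hf'
  rw [flat_stalkMap_iff V hV W hW hWV hxW]
  letI : Algebra Γ(S, V) Γ(X, W) := (f.appLE V W hWV).hom.toAlgebra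
  letI : Algebra Γ(S, V) Γ(S', V') := (g.appLE V V' hV'V).hom.toAlgebra
  letI : Algebra Γ(X, W) Γ(pullback f g, W') :=
    ((pullback.fst f g).appLE W W' hW'W).hom.toAlgebra
  letI : Algebra Γ(S', V') Γ(pullback f g, W') :=
    ((pullback.snd f g).appLE V' W' hW'V').hom.toAlgebra
  letI : Algebra Γ(S, V) Γ(pullback f g, W') :=
    (((pullback.fst f g).appLE W W' hW'W).hom.comp (f.appLE V W hWV).hom).toAlgebra
  haveI : IsScalarTower Γ(S, V) Γ(X, W) Γ(pullback f g, W') := .of_algebraMap_eq' rfl
  haveI : IsScalarTower Γ(S, V) Γ(S', V') Γ(pullback f g, W') := .of_algebraMap_eq' (by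
    change ((pullback.fst f g).appLE W W' hW'W).hom.comp (f.appLE V W hWV).hom =
      ((pullback.snd f g).appLE V' W' hW'V').hom.comp (g.appLE V V' hV'V).hom
    rw [← CommRingCat.hom_comp, ← CommRingCat.hom_comp, hpo.w])
  haveI : Algebra.IsPushout Γ(S, V) Γ(X, W) Γ(S', V') Γ(pullback f g, W') :=
    CommRingCat.isPushout_iff_isPushout.mp hpo
  haveI : Algebra.IsPushout Γ(S, V) Γ(S', V') Γ(X, W) Γ(pullback f g, W') :=
    Algebra.IsPushout.symm inferInstance
  -- the primes
  let p₂ := (hV.primeIdealOf ⟨g.base ((pullback.snd f g).base x'), hV'V hs'V'⟩).asIdeal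
  let p' := (hV'.primeIdealOf ⟨(pullback.snd f g).base x', hs'V'⟩).asIdeal
  let q' := (hW'.primeIdealOf ⟨x', hx'W'⟩).asIdeal
  let q := (hW.primeIdealOf ⟨(pullback.fst f g).base x', hxW⟩).asIdeal
  let p := (hV.primeIdealOf ⟨f.base ((pullback.fst f g).base x'), hWV hxW⟩).asIdeal
  haveI : p'.LiesOver p₂ :=
    ⟨congr($(IsAffineOpen.comap_primeIdealOf_appLE V hV V' hV' hV'V hs'V').1).symm⟩
  haveI : q'.LiesOver p' :=
    ⟨congr($(IsAffineOpen.comap_primeIdealOf_appLE V' hV' W' hW' hW'V' hx'W').1).symm⟩
  haveI : q'.LiesOver q :=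
    ⟨congr($(IsAffineOpen.comap_primeIdealOf_appLE W hW W' hW' hW'W hx'W').1).symm⟩
  haveI : q.LiesOver p :=
    ⟨congr($(IsAffineOpen.comap_primeIdealOf_appLE V hV W hW hWV hxW).1).symm⟩
  letI := Localization.AtPrime.algebraOfLiesOver p₂ p'
  letI := Localization.AtPrime.algebraOfLiesOver p' q'
  letI := Localization.AtPrime.algebraOfLiesOver p q
  have hA : Module.Flat Γ(S, V) (Localization.AtPrime p') :=
    (Module.flat_iff_of_isLocalization (Localization.AtPrime p₂) p₂.primeCompl _).mp hg
  have hB : Module.Flat Γ(S, V) (Localization.AtPrime q) :=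
    flat_localization_descent Γ(S, V) Γ(S', V') Γ(X, W) Γ(pullback f g, W') p' q' q hA hf'
  exact (Module.flat_iff_of_isLocalization (Localization.AtPrime p) p.primeCompl _).mpr hB

end Groth.Agent.H48
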