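import Mathlib
import Groth.Agent.H48.FlatLimit4

/-!
# Openness of the flat locus (Noetherian case, algebra form)
-/

open TensorProduct LinearMap

namespace Groth.Agent.H48.FlatOpen

universe u

/-- A localized map is injective as soon as the kernel is torsion for the submonoid. -/
lemma localized_map_injective_of_ker_torsion {R M N M' N' : Type*} [CommRing R]
    (S : Submonoid R) [AddCommGroup M] [AddCommGroup N] [AddCommGroup M'] [AddCommGroup N']
    [Module R M] [Module R N] [Module R M'] [Module R N'] (f : M →ₗ[R] M') (g : N →ₗ[R] N')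
    [IsLocalizedModule S f] [IsLocalizedModule S g] (h : M →ₗ[R] N)
    (hker : ∀ x, h x = 0 → ∃ c ∈ S, c • x = 0) :
    Function.Injective (IsLocalizedModule.map S f g h) := by
  rw [injective_iff_map_eq_zero]
  intro x hx
  obtain ⟨⟨x, s⟩, rfl⟩ := IsLocalizedModule.mk'_surjective S f x
  simp only [Function.uncurry_apply_pair, IsLocalizedModule.map_mk'] at hx
  rw [IsLocalizedModule.mk'_eq_zero'] at hx
  obtain ⟨c, hc⟩ := hx
  have h0 : h ((c : R) • x) = 0 := by rw [map_smul]; exact hc
  obtain ⟨c', hc', h1⟩ := hker _ h0
  simp only [Function.uncurry_apply_pair]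
  rw [IsLocalizedModule.mk'_eq_zero']
  exact ⟨⟨c', hc'⟩ * c, by rw [mul_smul]; exact h1⟩

/-- Local criterion of flatness at a prime containing `J`, when the kernel of `B ⊗ J → B ⊗ S` is
killed by an element outside the prime. -/
lemma flat_localization_atPrime' {S B : Type u} [CommRing S] [IsNoetherianRing S] [CommRing B]
    [Algebra S B] [IsNoetherianRing B] (J : Ideal S)
    (𝔮 : Ideal B) [𝔮.IsPrime] (hJ : J.map (algebraMap S B) ≤ 𝔮)
    (h1 : ∀ x : B ⊗[S] J, lTensor B J.subtype x = 0 → ∃ c : B, c ∉ 𝔮 ∧ c • x = 0)
    [Module.Flat (S ⧸ J) ((S ⧸ J) ⊗[S] B)] :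
    Module.Flat S (Localization.AtPrime 𝔮) := by
  refine Groth.Agent.H57.flat_of_localCriterion (R := S) (S := Localization.AtPrime 𝔮)
    (M := Localization.AtPrime 𝔮) J ?_ ?_ ?_
  · rw [IsLocalRing.jacobson_eq_maximalIdeal ⊥ bot_ne_top, Ideal.map_le_iff_le_comap]
    intro j hj
    rw [Ideal.mem_comap, IsScalarTower.algebraMap_apply S B (Localization.AtPrime 𝔮)]
    exact (IsLocalization.AtPrime.to_map_mem_maximal_iff (Localization.AtPrime 𝔮) 𝔮 _).mpr
      (hJ (Ideal.mem_map_of_mem _ hj))
  · rw [← LinearMap.lTensor_inj_iff_rTensor_inj]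
    have hmap := IsLocalizedModule.map_lTensor (R := S) B 𝔮.primeCompl J.subtype
      (Algebra.linearMap B (Localization.AtPrime 𝔮))
    have hinj := localized_map_injective_of_ker_torsion 𝔮.primeCompl
      (AlgebraTensorModule.rTensor S J (Algebra.linearMap B (Localization.AtPrime 𝔮)))
      (AlgebraTensorModule.rTensor S S (Algebra.linearMap B (Localization.AtPrime 𝔮)))
      (AlgebraTensorModule.lTensor B B J.subtype) (fun x hx => by
        obtain ⟨c, hc, hcx⟩ := h1 x (by rwa [AlgebraTensorModule.coe_lTensor] at hx)
        exact ⟨c, hc, hcx⟩)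
    rw [hmap, AlgebraTensorModule.coe_lTensor] at hinj
    exact hinj
  · let e := IsLocalization.tensorProductEquivOfMapIncludeRight S (S ⧸ J) 𝔮.primeCompl
      (Localization.AtPrime 𝔮)
      (Localization (𝔮.primeCompl.map
        (Algebra.TensorProduct.includeRight : B →ₐ[S] (S ⧸ J) ⊗[S] B)))
    exact Module.Flat.of_linearEquiv e.toLinearEquiv

/-- If `B_P` is flat over `S`, the kernel of `B ⊗ J → B ⊗ S` is killed by an element outside `P`. -/
lemma exists_kills_ker {S B : Type u} [CommRing S] [IsNoetherianRing S] [CommRing B]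
    [Algebra S B] [IsNoetherianRing B] (J : Ideal S) (P : Ideal B) [P.IsPrime]
    [Module.Flat S (Localization.AtPrime P)] :
    ∃ b : B, b ∉ P ∧ ∀ x : B ⊗[S] J, lTensor B J.subtype x = 0 → b • x = 0 := by
  classical
  let K : Submodule B (B ⊗[S] J) := LinearMap.ker (AlgebraTensorModule.lTensor B B J.subtype)
  haveI : Module.Finite S J := Module.Finite.of_fg (IsNoetherian.noetherian J)
  haveI : IsNoetherian B (B ⊗[S] J) := isNoetherian_of_isNoetherianRing_of_finite B _
  obtain ⟨s, hs⟩ := (IsNoetherian.noetherian K : K.FG)
  have hmap := IsLocalizedModule.map_lTensor (R := S) B P.primeCompl J.subtype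
    (Algebra.linearMap B (Localization.AtPrime P))
  have hkill : ∀ x ∈ K, ∃ c : B, c ∉ P ∧ c • x = 0 := by
    intro x hx
    have h0 : (AlgebraTensorModule.rTensor S J (Algebra.linearMap B (Localization.AtPrime P))) x
        = 0 := by
      have hinj : Function.Injective (lTensor (Localization.AtPrime P) J.subtype) :=
        Module.Flat.lTensor_preserves_injective_linearMap _ (Submodule.injective_subtype J)
      have h2 := IsLocalizedModule.map_apply P.primeCompl
        (AlgebraTensorModule.rTensor S J (Algebra.linearMap B (Localization.AtPrime P)))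
        (AlgebraTensorModule.rTensor S S (Algebra.linearMap B (Localization.AtPrime P)))
        (AlgebraTensorModule.lTensor B B J.subtype) x
      rw [hmap] at h2
      apply hinj
      rw [map_zero]
      refine Eq.trans ?_ (h2.trans ?_)
      · rfl
      · rw [show (AlgebraTensorModule.lTensor B B J.subtype) x = 0 from hx, map_zero]
    obtain ⟨c, hc⟩ := (IsLocalizedModule.eq_zero_iff P.primeCompl _).mp h0
    exact ⟨c.1, c.2, hc⟩
  choose! c hc1 hc2 using hkill
  refine ⟨∏ x ∈ s, c x, ?_, ?_⟩
  · intro hmem
    obtain ⟨x, hx, hcx⟩ := (Ideal.IsPrime.prod_mem_iff).mp hmem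
    exact hc1 x (hs ▸ Submodule.subset_span hx) hcx
  · intro x hx
    have hxK : x ∈ K := by
      change (AlgebraTensorModule.lTensor B B J.subtype) x = 0
      rw [← AlgebraTensorModule.coe_lTensor (A := B)] at hx
      exact hx
    rw [← hs] at hxK
    refine Submodule.span_induction (p := fun x _ => (∏ y ∈ s, c y) • x = 0) ?_ ?_ ?_ ?_ hxK
    · intro y hy
      rw [← Finset.mul_prod_erase s c hy, mul_comm, mul_smul,
        hc2 y (hs ▸ Submodule.subset_span hy), smul_zero]
    · exact smul_zero _
    · intro a b _ _ ha hb
      rw [smul_add, ha, hb, add_zero]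
    · intro a b _ hb
      rw [smul_comm, hb, smul_zero]

section Away

variable {R B : Type u} [CommRing R] [CommRing B] [Algebra R B] (a : B) (q : Ideal B)
  [hq : q.IsPrime]

lemma disjoint_powers (ha : a ∉ q) :
    Disjoint ((Submonoid.powers a : Submonoid B) : Set B) (q : Set B) := by
  rw [Set.disjoint_left]
  rintro _ ⟨n, rfl⟩ hmem
  exact ha (hq.mem_of_pow_mem n hmem)

lemma isPrime_map_away (ha : a ∉ q) :
    (q.map (algebraMap B (Localization.Away a))).IsPrime :=
  IsLocalization.isPrime_of_isPrime_disjoint (Submonoid.powers a) _ q hq (disjoint_powers a q ha)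

lemma comap_map_away (ha : a ∉ q) :
    (q.map (algebraMap B (Localization.Away a))).comap (algebraMap B (Localization.Away a)) = q :=
  IsLocalization.under_map_of_isPrime_disjoint (Submonoid.powers a) _ hq (disjoint_powers a q ha)

/-- The local ring of `B[1/a]` at `q B[1/a]` is the local ring of `B` at `q`. -/
noncomputable def atPrimeAwayEquiv (ha : a ∉ q)
    [h' : (q.map (algebraMap B (Localization.Away a))).IsPrime] :
    Localization.AtPrime q ≃ₐ[B]
      Localization.AtPrime (q.map (algebraMap B (Localization.Away a))) := by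
  set q₁ := q.map (algebraMap B (Localization.Away a)) with hq₁
  haveI h1 : IsLocalization.AtPrime (Localization.AtPrime q₁)
      (q₁.comap (algebraMap B (Localization.Away a))) :=
    IsLocalization.isLocalization_isLocalization_atPrime_isLocalization (Submonoid.powers a)
      (Localization.AtPrime q₁) q₁
  haveI h2 : IsLocalization.AtPrime (Localization.AtPrime q₁) q := by
    have key : ∀ (P : Ideal B) (hP : P.IsPrime), P = q →
        @IsLocalization.AtPrime _ _ (Localization.AtPrime q₁) _ _ P hP →
        IsLocalization.AtPrime (Localization.AtPrime q₁) q := by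
      rintro P hP rfl h
      exact h
    exact key _ _ (comap_map_away a q ha) h1
  exact IsLocalization.algEquiv q.primeCompl _ _

lemma flat_atPrime_map_away_iff (ha : a ∉ q)
    [h' : (q.map (algebraMap B (Localization.Away a))).IsPrime] :
    Module.Flat R (Localization.AtPrime (q.map (algebraMap B (Localization.Away a)))) ↔
      Module.Flat R (Localization.AtPrime q) := by
  haveI : IsScalarTower R B (Localization.AtPrime (q.map (algebraMap B (Localization.Away a)))) :=
    .of_algebraMap_eq <| by
      intro s
      rw [IsScalarTower.algebraMap_apply R (Localization.Away a)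
        (Localization.AtPrime (q.map (algebraMap B (Localization.Away a)))),
        IsScalarTower.algebraMap_apply R B (Localization.Away a),
        ← IsScalarTower.algebraMap_apply B (Localization.Away a)
          (Localization.AtPrime (q.map (algebraMap B (Localization.Away a))))]
  let e := (atPrimeAwayEquiv a q ha).toLinearEquiv.restrictScalars R
  exact ⟨fun h => Module.Flat.of_linearEquiv e, fun h => Module.Flat.of_linearEquiv e.symm⟩

end Away

section Nhd

variable {R B : Type u} [CommRing R] [IsNoetherianRing R] [CommRing B] [Algebra R B]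

lemma exists_flat_nhd_of_flat_mod [IsNoetherianRing B] (J : Ideal R) (P : Ideal B) [P.IsPrime]
    (hJP : J.map (algebraMap R B) ≤ P) [Module.Flat R (Localization.AtPrime P)]
    [Module.Flat (R ⧸ J) ((R ⧸ J) ⊗[R] B)] :
    ∃ b : B, b ∉ P ∧ ∀ (q : Ideal B) [q.IsPrime], P ≤ q → b ∉ q →
      Module.Flat R (Localization.AtPrime q) := by
  obtain ⟨b, hb, hkill⟩ := exists_kills_ker J P
  exact ⟨b, hb, fun q _ hPq hbq => flat_localization_atPrime' J q (hJP.trans hPq)
    (fun x hx => ⟨b, hbq, hkill x hx⟩)⟩

/-- Around a prime `P` at which `B` is flat, flatness holds on a nonempty open of `V(P)`. -/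
lemma exists_flat_nhd [Algebra.FiniteType R B] (P : Ideal B) [P.IsPrime]
    [Module.Flat R (Localization.AtPrime P)] :
    ∃ g : B, g ∉ P ∧ ∀ (q : Ideal B) [q.IsPrime], P ≤ q → g ∉ q →
      Module.Flat R (Localization.AtPrime q) := by
  haveI : IsNoetherianRing B := Algebra.FiniteType.isNoetherianRing R B
  obtain ⟨f, hf, hflat⟩ := Groth.Agent.H48.FlatLimit.exists_flat_mod_prime_away (B₀ := B)
    (P.under R)
  haveI := hflat
  set a := algebraMap R B f with ha_def
  have ha : a ∉ P := fun h => hf h
  haveI : Algebra.FiniteType B (Localization.Away a) :=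
    have := IsLocalization.Away.finitePresentation (R := B) (S := Localization.Away a) a
    inferInstance
  haveI : Algebra.FiniteType R (Localization.Away a) :=
    Algebra.FiniteType.trans (inferInstance : Algebra.FiniteType R B) inferInstance
  haveI : IsNoetherianRing (Localization.Away a) := Algebra.FiniteType.isNoetherianRing R _
  haveI hP' := isPrime_map_away a P ha
  haveI : Module.Flat R (Localization.AtPrime (P.map (algebraMap B (Localization.Away a)))) :=
    (flat_atPrime_map_away_iff a P ha).mpr inferInstance
  have hJP : (P.under R).map (algebraMap R (Localization.Away a)) ≤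
      P.map (algebraMap B (Localization.Away a)) := by
    rw [IsScalarTower.algebraMap_eq R B (Localization.Away a), ← Ideal.map_map]
    exact Ideal.map_mono Ideal.map_comap_le
  obtain ⟨b', hb', h⟩ := exists_flat_nhd_of_flat_mod (P.under R)
    (P.map (algebraMap B (Localization.Away a))) hJP
  obtain ⟨⟨b₀, s⟩, hb₀⟩ := IsLocalization.surj (Submonoid.powers a) b'
  simp only at hb₀
  have hunit : IsUnit (algebraMap B (Localization.Away a) s) :=
    IsLocalization.map_units _ s
  refine ⟨a * b₀, ?_, ?_⟩
  · intro hmem
    rcases Ideal.IsPrime.mem_or_mem inferInstance hmem with h1 | h1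
    · exact ha h1
    · apply hb'
      have : b' * algebraMap B (Localization.Away a) s ∈
          P.map (algebraMap B (Localization.Away a)) := by
        rw [hb₀]; exact Ideal.mem_map_of_mem _ h1
      exact (Ideal.unit_mul_mem_iff_mem _ hunit).mp (by rwa [mul_comm] at this)
  · intro q _ hPq hgq
    have haq : a ∉ q := fun h1 => hgq (Ideal.mul_mem_right _ _ h1)
    have hbq : b₀ ∉ q := fun h1 => hgq (Ideal.mul_mem_left _ _ h1)
    haveI hq' := isPrime_map_away a q haq
    rw [← flat_atPrime_map_away_iff a q haq]
    refine h _ (Ideal.map_mono hPq) ?_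
    intro hmem
    apply hbq
    have h2 : algebraMap B (Localization.Away a) b₀ ∈
        q.map (algebraMap B (Localization.Away a)) := by
      rw [← hb₀]; exact Ideal.mul_mem_right _ _ hmem
    have h3 := Ideal.mem_comap.mpr h2
    rwa [comap_map_away a q haq] at h3

end Nhd

section Open

variable {R B : Type u} [CommRing R] [CommRing B] [Algebra R B]

/-- Flatness of the local rings generizes. -/
lemma flat_atPrime_of_le {q q' : Ideal B} [q.IsPrime] [q'.IsPrime] (h : q ≤ q')
    [Module.Flat R (Localization.AtPrime q')] : Module.Flat R (Localization.AtPrime q) := by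
  have hle : q'.primeCompl ≤ q.primeCompl := fun x hx hxq => hx (h hxq)
  letI := IsLocalization.localizationAlgebraOfSubmonoidLe (Localization.AtPrime q')
    (Localization.AtPrime q) q'.primeCompl q.primeCompl hle
  haveI := IsLocalization.localization_isScalarTower_of_submonoid_le (Localization.AtPrime q')
    (Localization.AtPrime q) q'.primeCompl q.primeCompl hle
  haveI := IsLocalization.isLocalization_of_submonoid_le (Localization.AtPrime q')
    (Localization.AtPrime q) q'.primeCompl q.primeCompl hle
  haveI : IsScalarTower R (Localization.AtPrime q') (Localization.AtPrime q) :=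
    .of_algebraMap_eq <| by
      intro r
      rw [IsScalarTower.algebraMap_apply R B (Localization.AtPrime q),
        IsScalarTower.algebraMap_apply B (Localization.AtPrime q') (Localization.AtPrime q),
        ← IsScalarTower.algebraMap_apply R B (Localization.AtPrime q')]
  haveI : Module.Flat (Localization.AtPrime q') (Localization.AtPrime q) :=
    IsLocalization.flat _ (q.primeCompl.map (algebraMap B (Localization.AtPrime q')))
  exact Module.Flat.trans R (Localization.AtPrime q') (Localization.AtPrime q)

variable (R B) in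
/-- **Openness of the flat locus**, Noetherian algebra form. -/
theorem isOpen_flatLocus [IsNoetherianRing R] [Algebra.FiniteType R B] :
    IsOpen {q : PrimeSpectrum B | Module.Flat R (Localization.AtPrime q.asIdeal)} := by
  haveI : IsNoetherianRing B := Algebra.FiniteType.isNoetherianRing R B
  rw [← isClosed_compl_iff]
  suffices H : ∀ J : Ideal B, IsClosed {q : PrimeSpectrum B | J ≤ q.asIdeal ∧
      ¬ Module.Flat R (Localization.AtPrime q.asIdeal)} by
    have := H ⊥
    convert this using 1
    ext q
    simp
  intro J
  refine IsNoetherian.induction (P := fun J : Ideal B => IsClosed {q : PrimeSpectrum B |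
    J ≤ q.asIdeal ∧ ¬ Module.Flat R (Localization.AtPrime q.asIdeal)}) ?_ J
  intro (J : Ideal B) IH
  by_cases hJ : Ideal.IsPrime J
  · haveI := hJ
    by_cases hfl : Module.Flat R (Localization.AtPrime J)
    · obtain ⟨g, hg, h⟩ := exists_flat_nhd (R := R) J
      have hlt : J < J ⊔ Ideal.span {g} :=
        Groth.Agent.H48.FlatLimit.lt_sup_span_singleton hg
      convert IH _ hlt using 1
      ext q
      simp only [Set.mem_ofPred_eq, sup_le_iff, Ideal.span_singleton_le_iff_mem]
      constructor
      · rintro ⟨h1, h2⟩
        refine ⟨⟨h1, ?_⟩, h2⟩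
        by_contra hgq
        exact h2 (h q.asIdeal h1 hgq)
      · rintro ⟨⟨h1, _⟩, h2⟩
        exact ⟨h1, h2⟩
    · have : {q : PrimeSpectrum B | J ≤ q.asIdeal ∧
          ¬ Module.Flat R (Localization.AtPrime q.asIdeal)} = PrimeSpectrum.zeroLocus J := by
        ext q
        simp only [Set.mem_ofPred_eq, PrimeSpectrum.mem_zeroLocus, SetLike.coe_subset_coe]
        constructor
        · exact fun h => h.1
        · intro h
          refine ⟨h, fun hq => hfl ?_⟩
          haveI := hq
          exact flat_atPrime_of_le h
      rw [this]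
      exact PrimeSpectrum.isClosed_zeroLocus _
  · rw [Ideal.not_isPrime_iff] at hJ
    rcases hJ with rfl | ⟨a, ha, b, hb, hab⟩
    · convert isClosed_empty using 1
      ext q
      simp only [Set.mem_ofPred_eq, Set.mem_empty_iff_false, iff_false, not_and, top_le_iff]
      intro h
      exact absurd h q.isPrime.ne_top
    · have h1 := IH _ (Groth.Agent.H48.FlatLimit.lt_sup_span_singleton ha)
      have h2 := IH _ (Groth.Agent.H48.FlatLimit.lt_sup_span_singleton hb)
      convert h1.union h2 using 1
      ext q
      simp only [Set.mem_ofPred_eq, Set.mem_union, sup_le_iff, Ideal.span_singleton_le_iff_mem]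
      constructor
      · rintro ⟨h3, h4⟩
        rcases q.isPrime.mem_or_mem (h3 hab) with h5 | h5
        · exact Or.inl ⟨⟨h3, h5⟩, h4⟩
        · exact Or.inr ⟨⟨h3, h5⟩, h4⟩
      · rintro (⟨⟨h3, _⟩, h4⟩ | ⟨⟨h3, _⟩, h4⟩) <;> exact ⟨h3, h4⟩

end Open

end Groth.Agent.H48.FlatOpen
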