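import Mathlib
import Groth.Agent.H57.FlatInj
import Groth.Agent.H57.FlatAtBC
import Groth.Agent.H48.FlatLimit1

/-!
# Pointwise universal injectivity (helper48)
-/

open TensorProduct

namespace Groth.Agent.H48.PtFlat
universe u

section Defs

variable (R : Type u) {S : Type u} [CommRing R] [CommRing S] [Algebra R S]
  {M N : Type u} [AddCommGroup M] [AddCommGroup N] [Module S M] [Module S N] [Module R M]
  [Module R N] [IsScalarTower R S M] [IsScalarTower R S N]

/-- `u ⊗ X` is injective "at `T`": elements of `M ⊗ X` killed by `u ⊗ X`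
are killed by an element of `T`. -/
def InjAtFor (T : Submonoid S) (u : M →ₗ[S] N) (X : Type u) [AddCommGroup X] [Module R X] : Prop :=
  ∀ y : M ⊗[R] X, AlgebraTensorModule.rTensor R X u y = 0 → ∃ t ∈ T, t • y = 0

/-- `u` is universally injective over `R` "at `T`". -/
def UnivInjAt (T : Submonoid S) (u : M →ₗ[S] N) : Prop :=
  ∀ (X : Type u) [AddCommGroup X] [Module R X], InjAtFor R T u X

variable {R}

/-- injectivity modulo `I` at `T`. -/
def IdealInjAt (I : Ideal R) (T : Submonoid S) (u : M →ₗ[S] N) : Prop :=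
  ∀ x : M, u x ∈ I • (⊤ : Submodule R N) → ∃ t ∈ T, t • x ∈ I • (⊤ : Submodule R M)

lemma tmul_one_eq_zero_iff (I : Ideal R) {Y : Type u} [AddCommGroup Y] [Module R Y] (y : Y) :
    y ⊗ₜ[R] (1 : R ⧸ I) = 0 ↔ y ∈ I • (⊤ : Submodule R Y) := by
  constructor
  · intro h
    apply FlatLimit.mem_smul_top_of_one_tmul_eq_zero I
    have h2 := congrArg (TensorProduct.comm R Y (R ⧸ I)) h
    rwa [TensorProduct.comm_tmul, map_zero] at h2
  · intro h
    have h1 := FlatLimit.one_tmul_eq_zero_of_mem_smul_top I y h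
    have h2 := congrArg (TensorProduct.comm R (R ⧸ I) Y) h1
    rwa [TensorProduct.comm_tmul, map_zero] at h2

lemma exists_tmul_one (I : Ideal R) {Y : Type u} [AddCommGroup Y] [Module R Y]
    (z : Y ⊗[R] (R ⧸ I)) : ∃ y : Y, z = y ⊗ₜ[R] (1 : R ⧸ I) := by
  obtain ⟨y, hy⟩ := FlatLimit.exists_one_tmul I (TensorProduct.comm R Y (R ⧸ I) z)
  refine ⟨y, ?_⟩
  apply (TensorProduct.comm R Y (R ⧸ I)).injective
  rw [hy, TensorProduct.comm_tmul]

lemma idealInjAt_iff_injAtFor (I : Ideal R) (T : Submonoid S) (u : M →ₗ[S] N) :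
    IdealInjAt I T u ↔ InjAtFor R T u (R ⧸ I) := by
  constructor
  · intro h y hy
    obtain ⟨x, rfl⟩ := exists_tmul_one I y
    rw [AlgebraTensorModule.rTensor_tmul, tmul_one_eq_zero_iff] at hy
    obtain ⟨t, ht, htx⟩ := h x hy
    refine ⟨t, ht, ?_⟩
    rw [TensorProduct.smul_tmul']
    exact (tmul_one_eq_zero_iff I (t • x)).mpr htx
  · intro h x hx
    have h0 : AlgebraTensorModule.rTensor R (R ⧸ I) u (x ⊗ₜ[R] (1 : R ⧸ I)) = 0 := by
      rw [AlgebraTensorModule.rTensor_tmul]
      exact (tmul_one_eq_zero_iff I (u x)).mpr hx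
    obtain ⟨t, ht, hty⟩ := h _ h0
    refine ⟨t, ht, ?_⟩
    rw [TensorProduct.smul_tmul'] at hty
    exact (tmul_one_eq_zero_iff I (t • x)).mp hty

lemma UnivInjAt.idealInjAt {T : Submonoid S} {u : M →ₗ[S] N} (h : UnivInjAt R T u)
    (I : Ideal R) : IdealInjAt I T u :=
  (idealInjAt_iff_injAtFor I T u).mpr (h (R ⧸ I))

end Defs

section Localized

variable {R S : Type u} [CommRing R] [CommRing S] [Algebra R S]
  {M N M' N' : Type u} [AddCommGroup M] [AddCommGroup N] [Module S M] [Module S N] [Module R M]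
  [Module R N] [IsScalarTower R S M] [IsScalarTower R S N]
  [AddCommGroup M'] [AddCommGroup N'] [Module S M'] [Module S N'] [Module R M']
  [Module R N'] [IsScalarTower R S M'] [IsScalarTower R S N']

/-- the localized map of a map injective at `T` is injective. -/
theorem InjAtFor.rTensor_injective {T : Submonoid S} {u : M →ₗ[S] N}
    {X : Type u} [AddCommGroup X] [Module R X] (h : InjAtFor R T u X)
    (f : M →ₗ[S] M') (g : N →ₗ[S] N') [IsLocalizedModule T f] [IsLocalizedModule T g]
    (u' : M' →ₗ[S] N') (huu : ∀ x, u' (f x) = g (u x)) :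
    Function.Injective (AlgebraTensorModule.rTensor R X u') := by
  have hnat : ∀ x : M ⊗[R] X, AlgebraTensorModule.rTensor R X u'
      (AlgebraTensorModule.rTensor R X f x) =
      AlgebraTensorModule.rTensor R X g (AlgebraTensorModule.rTensor R X u x) := by
    intro x
    induction x using TensorProduct.induction_on with
    | zero => simp
    | tmul m p => simp [huu]
    | add a b ha hb => simp only [map_add, ha, hb]
  rw [injective_iff_map_eq_zero]
  intro z hz
  obtain ⟨⟨x, t⟩, hxt⟩ := IsLocalizedModule.surj T (AlgebraTensorModule.rTensor R X f) z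
  have h1 : AlgebraTensorModule.rTensor R X g (AlgebraTensorModule.rTensor R X u x) = 0 := by
    rw [← hnat, ← hxt, Submonoid.smul_def, map_smul, hz, smul_zero]
  obtain ⟨c, hc⟩ := (IsLocalizedModule.eq_zero_iff T (AlgebraTensorModule.rTensor R X g)).mp h1
  have h2 : AlgebraTensorModule.rTensor R X u (c • x) = 0 := by
    rw [Submonoid.smul_def, map_smul, ← Submonoid.smul_def]; exact hc
  obtain ⟨t', ht', ht'x⟩ := h (c • x) h2
  have h3 : AlgebraTensorModule.rTensor R X f x = 0 :=
    (IsLocalizedModule.eq_zero_iff T (AlgebraTensorModule.rTensor R X f)).mpr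
      ⟨⟨t', ht'⟩ * c, by rw [mul_smul]; exact ht'x⟩
  rw [h3] at hxt
  exact IsLocalizedModule.smul_injective (AlgebraTensorModule.rTensor R X f) t
    (hxt.trans (smul_zero t).symm)

/-- conversely. -/
theorem injAtFor_of_rTensor_injective {T : Submonoid S} {u : M →ₗ[S] N}
    {X : Type u} [AddCommGroup X] [Module R X]
    (f : M →ₗ[S] M') (g : N →ₗ[S] N') [IsLocalizedModule T f] [IsLocalizedModule T g]
    (u' : M' →ₗ[S] N') (huu : ∀ x, u' (f x) = g (u x))
    (h : Function.Injective (AlgebraTensorModule.rTensor R X u')) : InjAtFor R T u X := by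
  have hnat : ∀ x : M ⊗[R] X, AlgebraTensorModule.rTensor R X u'
      (AlgebraTensorModule.rTensor R X f x) =
      AlgebraTensorModule.rTensor R X g (AlgebraTensorModule.rTensor R X u x) := by
    intro x
    induction x using TensorProduct.induction_on with
    | zero => simp
    | tmul m p => simp [huu]
    | add a b ha hb => simp only [map_add, ha, hb]
  intro y hy
  have h1 : AlgebraTensorModule.rTensor R X f y = 0 := by
    apply h
    rw [hnat, hy, map_zero, map_zero]
  obtain ⟨c, hc⟩ := (IsLocalizedModule.eq_zero_iff T (AlgebraTensorModule.rTensor R X f)).mp h1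
  exact ⟨c, c.2, hc⟩

end Localized

section UF

variable {R : Type u} [CommRing R] {M N : Type u} [AddCommGroup M] [AddCommGroup N] [Module R M]
  [Module R N]

open LinearMap Groth.Agent.H57 in
/-- a universally injective map into a flat module is injective with flat cokernel. -/
theorem injective_and_flat_coker_of_rTensor_injective [Module.Flat R N] (u : M →ₗ[R] N)
    (h : ∀ I : Ideal R, Function.Injective (u.rTensor (R ⧸ I))) :
    Function.Injective u ∧ Module.Flat R (N ⧸ LinearMap.range u) := by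
  have key : ∀ (𝔞 : Ideal R) (x : M), u x ∈ 𝔞 • (⊤ : Submodule R N) →
      x ∈ 𝔞 • (⊤ : Submodule R M) := by
    intro 𝔞 x hx
    rw [← tmul_one_eq_zero_iff]
    apply h 𝔞
    rw [rTensor_tmul, map_zero]
    exact (tmul_one_eq_zero_iff 𝔞 (u x)).mpr hx
  have hinj : Function.Injective u := by
    rw [injective_iff_map_eq_zero]
    intro x hx
    have h1 := key ⊥ x (by rw [hx]; exact zero_mem _)
    rwa [Submodule.bot_smul, Submodule.mem_bot] at h1
  refine ⟨hinj, ?_⟩
  rw [Module.Flat.iff_rTensor_injective']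
  intro 𝔞
  rw [injective_iff_map_eq_zero]
  intro z hz
  obtain ⟨y, rfl⟩ := LinearMap.lTensor_surjective 𝔞 (Submodule.mkQ_surjective (range u)) z
  have h1 : (range u).mkQ (mulMap 𝔞 N y) = 0 := by
    have e : (range u).mkQ (mulMap 𝔞 N y) = mulMap 𝔞 (N ⧸ range u) (lTensor 𝔞 (range u).mkQ y) :=
      (mulMap_lTensor 𝔞 (range u).mkQ y).symm
    rw [e, mulMap, LinearMap.comp_apply, hz, map_zero]
  have h2 : mulMap 𝔞 N y ∈ range u := by
    rwa [Submodule.mkQ_apply, Submodule.Quotient.mk_eq_zero] at h1
  obtain ⟨n, hn⟩ := h2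
  have h3 : n ∈ 𝔞 • (⊤ : Submodule R M) :=
    key 𝔞 n (by rw [hn]; exact (mem_smul_top_iff 𝔞 _).mpr ⟨y, rfl⟩)
  obtain ⟨w, rfl⟩ := (mem_smul_top_iff 𝔞 _).mp h3
  have h4 : y = lTensor 𝔞 u w := by
    apply mulMap_injective_of_flat 𝔞 N
    rw [mulMap_lTensor, hn]
  rw [h4, ← LinearMap.comp_apply, ← lTensor_comp, LinearMap.range_mkQ_comp, lTensor_zero,
    LinearMap.zero_apply]

end UF

section Ascent

variable {R S R' S' : Type u} [CommRing R] [CommRing S] [CommRing R'] [CommRing S']
  [Algebra R S] [Algebra R R'] [Algebra S S'] [Algebra R' S'] [Algebra R S'] [IsScalarTower R S S']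
  [IsScalarTower R R' S'] [Algebra.IsPushout R S R' S']
  {M M' N N' : Type u} [AddCommGroup M] [Module S M] [Module R M] [IsScalarTower R S M]
  [AddCommGroup M'] [Module S' M'] [Module R' M'] [IsScalarTower R' S' M'] [Module S M']
  [IsScalarTower S S' M'] [Module R M'] [IsScalarTower R R' M'] [IsScalarTower R S M']
  [AddCommGroup N] [Module S N] [Module R N] [IsScalarTower R S N]
  [AddCommGroup N'] [Module S' N'] [Module R' N'] [IsScalarTower R' S' N'] [Module S N']
  [IsScalarTower S S' N'] [Module R N'] [IsScalarTower R R' N'] [IsScalarTower R S N']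

open Groth.Agent.H57 in
/-- pointwise universal injectivity ascends along base change. -/
theorem UnivInjAt.baseChange {T : Submonoid S} {u : M →ₗ[S] N} (h : UnivInjAt R T u)
    (f : M →ₗ[S] M') (hf : IsBaseChange S' f) (g : N →ₗ[S] N') (hg : IsBaseChange S' g)
    (u' : M' →ₗ[S'] N') (huu : ∀ x, u' (f x) = g (u x))
    (T' : Submonoid S') (hT : ∀ t ∈ T, algebraMap S S' t ∈ T') :
    UnivInjAt R' T' u' := by
  intro X _ _ y' hy'
  letI : Module R X := Module.compHom X (algebraMap R R')
  haveI : IsScalarTower R R' X := IsScalarTower.of_algebraMap_smul (fun r p => rfl)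
  have hfR : IsBaseChange R' (f.restrictScalars R) := isBaseChange_restrictScalars f hf
  have hgR : IsBaseChange R' (g.restrictScalars R) := isBaseChange_restrictScalars g hg
  have hnat : ∀ x : M ⊗[R] X, (phi hgR X).symm (AlgebraTensorModule.rTensor R X u x) =
      AlgebraTensorModule.rTensor R' X u' ((phi hfR X).symm x) := by
    intro x
    induction x using TensorProduct.induction_on with
    | zero => simp
    | tmul m p =>
      rw [AlgebraTensorModule.rTensor_tmul, phi_symm_tmul, phi_symm_tmul,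
        AlgebraTensorModule.rTensor_tmul]
      simp only [LinearMap.restrictScalars_apply, huu]
    | add a b ha hb => simp only [map_add, ha, hb]
  have h1 : AlgebraTensorModule.rTensor R X u (phi hfR X y') = 0 := by
    apply (phi hgR X).symm.injective
    rw [hnat, AddEquiv.symm_apply_apply, hy', map_zero]
  obtain ⟨t, ht, hty⟩ := h X _ h1
  refine ⟨algebraMap S S' t, hT t ht, ?_⟩
  have h2 := phi_symm_smul (S' := S') f hfR X t (phi hfR X y')
  rw [hty, map_zero, AddEquiv.symm_apply_apply] at h2
  exact h2.symm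

end Ascent

end Groth.Agent.H48.PtFlat
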