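import Mathlib
import Groth.Agent.H48.PtFlat1

/-!
# Pointwise universal injectivity: the Noetherian core (helper48)
-/

open TensorProduct

namespace Groth.Agent.H48.PtFlat
universe u

lemma mem_map_smul_top_iff {R A Y : Type*} [CommRing R] [CommRing A] [Algebra R A]
    [AddCommGroup Y] [Module A Y] [Module R Y] [IsScalarTower R A Y] (I : Ideal R) (y : Y) :
    y ∈ (I.map (algebraMap R A)) • (⊤ : Submodule A Y) ↔ y ∈ I • (⊤ : Submodule R Y) := by
  constructor
  · intro hy
    refine Submodule.smul_induction_on hy (fun r hr n _ => ?_) (fun a b ha hb => add_mem ha hb)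
    have key : ∀ r ∈ I.map (algebraMap R A), ∀ n : Y, r • n ∈ I • (⊤ : Submodule R Y) := by
      intro r hr
      refine Submodule.span_induction (p := fun r _ => ∀ n : Y, r • n ∈ I • (⊤ : Submodule R Y))
        ?_ ?_ ?_ ?_ hr
      · rintro _ ⟨i, hi, rfl⟩ n
        rw [algebraMap_smul]
        exact Submodule.smul_mem_smul hi Submodule.mem_top
      · intro n
        rw [zero_smul]
        exact zero_mem _
      · intro a b _ _ ha hb n
        rw [add_smul]
        exact add_mem (ha n) (hb n)
      · intro a b _ hb n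
        rw [smul_eq_mul, mul_comm, mul_smul]
        exact hb (a • n)
    exact key r hr n
  · intro hy
    refine Submodule.smul_induction_on hy (fun r hr n _ => ?_) (fun a b ha hb => add_mem ha hb)
    rw [← algebraMap_smul A r n]
    exact Submodule.smul_mem_smul (Ideal.mem_map_of_mem _ hr) Submodule.mem_top

lemma rTensor_quot_injective_iff {R M N : Type u} [CommRing R] [AddCommGroup M] [AddCommGroup N]
    [Module R M] [Module R N] (I : Ideal R) (u : M →ₗ[R] N) :
    Function.Injective (u.rTensor (R ⧸ I)) ↔
      ∀ x, u x ∈ I • (⊤ : Submodule R N) → x ∈ I • (⊤ : Submodule R M) := by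
  constructor
  · intro h x hx
    rw [← tmul_one_eq_zero_iff]
    apply h
    rw [LinearMap.rTensor_tmul, map_zero]
    exact (tmul_one_eq_zero_iff I (u x)).mpr hx
  · intro h
    rw [injective_iff_map_eq_zero]
    intro z hz
    obtain ⟨x, rfl⟩ := exists_tmul_one I z
    rw [LinearMap.rTensor_tmul, tmul_one_eq_zero_iff] at hz
    exact (tmul_one_eq_zero_iff I x).mpr (h x hz)

/-- H57's / Matsumura 22.5 in universally injective form. -/
theorem rTensor_injective_of_local {A B M' N' : Type u} [CommRing A] [CommRing B] [IsLocalRing A]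
    [IsLocalRing B] [IsNoetherianRing B] [Algebra A B] [IsLocalHom (algebraMap A B)]
    [AddCommGroup M'] [Module B M'] [Module A M'] [IsScalarTower A B M'] [Module.Finite B M']
    [AddCommGroup N'] [Module A N'] [Module.Flat A N'] (u' : M' →ₗ[A] N')
    (h : ∀ x, u' x ∈ IsLocalRing.maximalIdeal A • (⊤ : Submodule A N') →
      x ∈ IsLocalRing.maximalIdeal A • (⊤ : Submodule A M'))
    (X : Type u) [AddCommGroup X] [Module A X] : Function.Injective (u'.rTensor X) := by
  have hres : Function.Injective (LinearMap.lTensor (IsLocalRing.ResidueField A) u') := by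
    rw [LinearMap.lTensor_inj_iff_rTensor_inj]
    exact (rTensor_quot_injective_iff (IsLocalRing.maximalIdeal A) u').mpr h
  obtain ⟨hinj, hflat⟩ := Groth.Agent.H57.injective_and_flat_coker B u' hres
  rw [← LinearMap.lTensor_inj_iff_rTensor_inj]
  exact LinearMap.lTensor_injective_of_exact_of_flat (LinearMap.range u').mkQ
    (Submodule.mkQ_surjective _) u' hinj (LinearMap.exact_map_mkQ_range u') X

/-- **Noetherian core.** -/
theorem univInjAt_of_isNoetherianRing {C S₁ M₁ N₁ : Type u} [CommRing C] [CommRing S₁]
    [Algebra C S₁] [IsNoetherianRing S₁]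
    [AddCommGroup M₁] [Module S₁ M₁] [Module C M₁] [IsScalarTower C S₁ M₁] [Module.Finite S₁ M₁]
    [AddCommGroup N₁] [Module S₁ N₁] [Module C N₁] [IsScalarTower C S₁ N₁]
    (q₁ : Ideal S₁) [q₁.IsPrime] [Module.Flat C (LocalizedModule q₁.primeCompl N₁)]
    (u₁ : M₁ →ₗ[S₁] N₁)
    (hfib : IdealInjAt (q₁.comap (algebraMap C S₁)) q₁.primeCompl u₁) :
    UnivInjAt C q₁.primeCompl u₁ := by
  set p₁ : Ideal C := q₁.comap (algebraMap C S₁) with hp₁
  let A := Localization.AtPrime p₁
  let B := Localization.AtPrime q₁
  let M' := LocalizedModule q₁.primeCompl M₁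
  let N' := LocalizedModule q₁.primeCompl N₁
  letI algAB : Algebra A B := (Localization.localRingHom p₁ q₁ (algebraMap C S₁) rfl).toAlgebra
  haveI : IsLocalHom (algebraMap A B) :=
    Localization.isLocalHom_localRingHom p₁ q₁ (algebraMap C S₁) rfl
  haveI tCAB : IsScalarTower C A B := .of_algebraMap_eq fun c => by
    rw [RingHom.algebraMap_toAlgebra, Localization.localRingHom_to_map,
      ← IsScalarTower.algebraMap_apply]
  letI modAM : Module A M' := Module.compHom M' (algebraMap A B)
  letI modAN : Module A N' := Module.compHom N' (algebraMap A B)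
  haveI tABM : IsScalarTower A B M' := ⟨fun a b m => by
    rw [Algebra.smul_def, mul_smul]; rfl⟩
  haveI tABN : IsScalarTower A B N' := ⟨fun a b m => by
    rw [Algebra.smul_def, mul_smul]; rfl⟩
  haveI tCAM : IsScalarTower C A M' := ⟨fun c a m => by
    change algebraMap A B (c • a) • m = c • (algebraMap A B a • m)
    rw [Algebra.smul_def, map_mul, mul_smul, ← IsScalarTower.algebraMap_apply, algebraMap_smul]⟩
  haveI tCAN : IsScalarTower C A N' := ⟨fun c a m => by
    change algebraMap A B (c • a) • m = c • (algebraMap A B a • m)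
    rw [Algebra.smul_def, map_mul, mul_smul, ← IsScalarTower.algebraMap_apply, algebraMap_smul]⟩
  haveI flatA : Module.Flat A N' :=
    (Module.flat_iff_of_isLocalization A p₁.primeCompl N').mpr inferInstance
  let uB : M' →ₗ[B] N' := IsLocalizedModule.mapExtendScalars q₁.primeCompl
    (LocalizedModule.mkLinearMap q₁.primeCompl M₁) (LocalizedModule.mkLinearMap q₁.primeCompl N₁)
    B u₁
  let uS : M' →ₗ[S₁] N' := uB.restrictScalars S₁
  let uA : M' →ₗ[A] N' := uB.restrictScalars A
  have huu : ∀ x, uS (LocalizedModule.mkLinearMap q₁.primeCompl M₁ x) =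
      LocalizedModule.mkLinearMap q₁.primeCompl N₁ (u₁ x) := by
    intro x
    change (IsLocalizedModule.map q₁.primeCompl (LocalizedModule.mkLinearMap q₁.primeCompl M₁)
      (LocalizedModule.mkLinearMap q₁.primeCompl N₁) u₁)
      (LocalizedModule.mkLinearMap q₁.primeCompl M₁ x) = _
    rw [IsLocalizedModule.map_apply]
  -- fibre hypothesis for the localized map
  have h1 : Function.Injective (AlgebraTensorModule.rTensor C (C ⧸ p₁) uS) :=
    ((idealInjAt_iff_injAtFor p₁ q₁.primeCompl u₁).mp hfib).rTensor_injective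
      (LocalizedModule.mkLinearMap q₁.primeCompl M₁)
      (LocalizedModule.mkLinearMap q₁.primeCompl N₁) uS huu
  have h2 : ∀ x : M', uA x ∈ IsLocalRing.maximalIdeal A • (⊤ : Submodule A N') →
      x ∈ IsLocalRing.maximalIdeal A • (⊤ : Submodule A M') := by
    intro x hx
    have hm : IsLocalRing.maximalIdeal A = p₁.map (algebraMap C A) :=
      Localization.AtPrime.map_eq_maximalIdeal.symm
    rw [hm, mem_map_smul_top_iff] at hx ⊢
    rw [← tmul_one_eq_zero_iff]
    apply h1
    rw [AlgebraTensorModule.rTensor_tmul, map_zero]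
    exact (tmul_one_eq_zero_iff p₁ _).mpr hx
  intro X _ _
  have h3 := rTensor_injective_of_local (B := B) uA h2 (A ⊗[C] X)
  rw [Groth.Agent.H57.rTensor_baseChange_injective_iff] at h3
  refine injAtFor_of_rTensor_injective (LocalizedModule.mkLinearMap q₁.primeCompl M₁)
      (LocalizedModule.mkLinearMap q₁.primeCompl N₁) uS huu ?_
  intro a b hab
  apply h3
  have key : ∀ z : M' ⊗[C] X, (uA.restrictScalars C).rTensor X z =
      AlgebraTensorModule.rTensor C X uS z := by
    intro z
    induction z using TensorProduct.induction_on with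
    | zero => simp
    | tmul m p => rfl
    | add a b ha hb => simp only [map_add, ha, hb]
  rw [key, key, hab]

end Groth.Agent.H48.PtFlat
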