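import Mathlib
import Groth.Agent.H57.FlatAbove2
import Groth.Agent.H48.PtFlat1

open TensorProduct

namespace Groth.Agent.H48.PtFlat
universe u

/-- a field containing a domain is flat over it. -/
lemma flat_of_field_of_faithfulSMul (D k : Type u) [CommRing D] [Field k] [Algebra D k]
    [FaithfulSMul D k] : Module.Flat D k := by
  letI := FractionRing.liftAlgebra D k
  haveI := FractionRing.isScalarTower_liftAlgebra D k
  haveI : IsDomain D := IsDomain.of_faithfulSMul D k
  exact Module.Flat.trans D (FractionRing D) k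

lemma isBaseChange_mkQ {A X : Type u} [CommRing A] [AddCommGroup X] [Module A X] (I : Ideal A) :
    IsBaseChange (A ⧸ I) ((I • ⊤ : Submodule A X).mkQ) := by
  refine IsBaseChange.of_equiv
    ((TensorProduct.quotTensorEquivQuotSMul X I).extendScalarsOfSurjective
      Ideal.Quotient.mk_surjective) (fun x => ?_)
  exact TensorProduct.quotTensorEquivQuotSMul_mk_one_tmul I x

theorem isBaseChange_mapQ {A A' X X' : Type u} [CommRing A] [CommRing A'] [Algebra A A']
    [AddCommGroup X] [Module A X] [AddCommGroup X'] [Module A' X'] [Module A X']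
    [IsScalarTower A A' X'] (I : Ideal A) (I' : Ideal A') [Algebra (A ⧸ I) (A' ⧸ I')]
    [IsScalarTower A (A ⧸ I) (A' ⧸ I')]
    [Module (A ⧸ I) (X' ⧸ I' • (⊤ : Submodule A' X'))]
    [IsScalarTower (A ⧸ I) (A' ⧸ I') (X' ⧸ I' • (⊤ : Submodule A' X'))]
    [IsScalarTower A (A ⧸ I) (X' ⧸ I' • (⊤ : Submodule A' X'))]
    [IsScalarTower A (A' ⧸ I') (X' ⧸ I' • (⊤ : Submodule A' X'))]
    (f : X →ₗ[A] X') (hf : IsBaseChange A' f)
    (h : (X ⧸ I • (⊤ : Submodule A X)) →ₗ[A ⧸ I] (X' ⧸ I' • (⊤ : Submodule A' X')))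
    (hh : ∀ x, h (Submodule.Quotient.mk x) = Submodule.Quotient.mk (f x)) :
    IsBaseChange (A' ⧸ I') h := by
  refine IsBaseChange.of_comp (isBaseChange_mkQ I) ?_
  have e : (h.restrictScalars A) ∘ₗ (I • ⊤ : Submodule A X).mkQ =
      ((I' • ⊤ : Submodule A' X').mkQ.restrictScalars A) ∘ₗ f := by
    apply LinearMap.ext
    intro x
    exact hh x
  rw [e]
  exact IsBaseChange.comp hf (isBaseChange_mkQ I')

/-- **Descent of "killed near `q`" modulo a maximal ideal** along a base change. -/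
theorem exists_smul_mem_of_smul_mem {A A' B₁ B' X₁ X' : Type u}
    [CommRing A] [CommRing A'] [Algebra A A'] [CommRing B₁] [CommRing B'] [Algebra A B₁]
    [Algebra A' B'] [Algebra B₁ B'] [Algebra A B'] [IsScalarTower A B₁ B'] [IsScalarTower A A' B']
    [Algebra.IsPushout A A' B₁ B']
    [AddCommGroup X₁] [Module B₁ X₁] [Module A X₁] [IsScalarTower A B₁ X₁]
    [AddCommGroup X'] [Module B' X'] [Module A' X'] [IsScalarTower A' B' X'] [Module B₁ X']
    [IsScalarTower B₁ B' X'] [Module A X'] [IsScalarTower A A' X'] [IsScalarTower A B₁ X']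
    (I' : Ideal A') [I'.IsMaximal] (f : X₁ →ₗ[B₁] X')
    (hf : IsBaseChange A' (f.restrictScalars A))
    (q : Ideal B') [q.IsPrime] (hq : I'.map (algebraMap A' B') ≤ q)
    (x₁ : X₁) (s : B') (hs : s ∉ q) (hsx : s • f x₁ ∈ I' • (⊤ : Submodule A' X')) :
    ∃ s₁ : B₁, algebraMap B₁ B' s₁ ∉ q ∧
      s₁ • x₁ ∈ (I'.comap (algebraMap A A')) • (⊤ : Submodule A X₁) := by
  classical
  by_contra hcon
  push_neg at hcon
  set I : Ideal A := I'.comap (algebraMap A A') with hI
  letI : Field (A' ⧸ I') := Ideal.Quotient.field I'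
  haveI : FaithfulSMul (A ⧸ I) (A' ⧸ I') :=
    (faithfulSMul_iff_algebraMap_injective (A ⧸ I) (A' ⧸ I')).mpr
      Ideal.algebraMap_quotient_injective
  haveI : Module.Flat (A ⧸ I) (A' ⧸ I') := flat_of_field_of_faithfulSMul (A ⧸ I) (A' ⧸ I')
  have hsurjD : Function.Surjective (algebraMap A (A ⧸ I)) := Ideal.Quotient.mk_surjective
  have hsurjk : Function.Surjective (algebraMap A' (A' ⧸ I')) := Ideal.Quotient.mk_surjective
  -- module structures over `D = A ⧸ I` on the `A'`-quotients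
  letI modDZ : Module (A ⧸ I) (B' ⧸ I' • (⊤ : Submodule A' B')) :=
    Module.compHom _ (algebraMap (A ⧸ I) (A' ⧸ I'))
  letI modDV : Module (A ⧸ I) (X' ⧸ I' • (⊤ : Submodule A' X')) :=
    Module.compHom _ (algebraMap (A ⧸ I) (A' ⧸ I'))
  haveI tDkZ : IsScalarTower (A ⧸ I) (A' ⧸ I') (B' ⧸ I' • (⊤ : Submodule A' B')) :=
    ⟨fun d c z => by
      change (d • c) • z = algebraMap (A ⧸ I) (A' ⧸ I') d • (c • z)
      rw [Algebra.smul_def d c, mul_smul]⟩
  haveI tDkV : IsScalarTower (A ⧸ I) (A' ⧸ I') (X' ⧸ I' • (⊤ : Submodule A' X')) :=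
    ⟨fun d c z => by
      change (d • c) • z = algebraMap (A ⧸ I) (A' ⧸ I') d • (c • z)
      rw [Algebra.smul_def d c, mul_smul]⟩
  haveI tADZ : IsScalarTower A (A ⧸ I) (B' ⧸ I' • (⊤ : Submodule A' B')) :=
    ⟨fun a d z => by
      change algebraMap (A ⧸ I) (A' ⧸ I') (a • d) • z = a • (algebraMap (A ⧸ I) (A' ⧸ I') d • z)
      rw [Algebra.smul_def a d, map_mul, mul_smul, ← IsScalarTower.algebraMap_apply,
        algebraMap_smul]⟩
  haveI tADV : IsScalarTower A (A ⧸ I) (X' ⧸ I' • (⊤ : Submodule A' X')) :=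
    ⟨fun a d z => by
      change algebraMap (A ⧸ I) (A' ⧸ I') (a • d) • z = a • (algebraMap (A ⧸ I) (A' ⧸ I') d • z)
      rw [Algebra.smul_def a d, map_mul, mul_smul, ← IsScalarTower.algebraMap_apply,
        algebraMap_smul]⟩
  -- the maps
  let gZ₀ : B₁ →ₗ[A] B' := (IsScalarTower.toAlgHom A B₁ B').toLinearMap
  have hgZ₀ : IsBaseChange A' gZ₀ := Algebra.IsPushout.out
  have hmapI : ∀ {Y Y' : Type u} [AddCommGroup Y] [Module A Y] [AddCommGroup Y'] [Module A' Y']
      [Module A Y'] [IsScalarTower A A' Y'] (ψ : Y →ₗ[A] Y'),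
      I • (⊤ : Submodule A Y) ≤ LinearMap.ker
        (((I' • ⊤ : Submodule A' Y').mkQ.restrictScalars A) ∘ₗ ψ) := by
    intro Y Y' _ _ _ _ _ _ ψ y hy
    rw [LinearMap.mem_ker]
    refine Submodule.smul_induction_on hy (fun a ha n _ => ?_) (fun a b ha hb => ?_)
    · have : algebraMap A A' a ∈ I' := ha
      change (I' • ⊤ : Submodule A' Y').mkQ (ψ (a • n)) = 0
      rw [map_smul, Submodule.mkQ_apply, Submodule.Quotient.mk_eq_zero,
        ← algebraMap_smul A' a (ψ n)]
      exact Submodule.smul_mem_smul this Submodule.mem_top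
    · rw [map_add, ha, hb, add_zero]
  let gZ : (B₁ ⧸ I • (⊤ : Submodule A B₁)) →ₗ[A ⧸ I] (B' ⧸ I' • (⊤ : Submodule A' B')) :=
    ((I • ⊤ : Submodule A B₁).liftQ _ (hmapI gZ₀)).extendScalarsOfSurjective hsurjD
  let hV : (X₁ ⧸ I • (⊤ : Submodule A X₁)) →ₗ[A ⧸ I] (X' ⧸ I' • (⊤ : Submodule A' X')) :=
    ((I • ⊤ : Submodule A X₁).liftQ _ (hmapI (f.restrictScalars A))).extendScalarsOfSurjective
      hsurjD
  have hgZ : IsBaseChange (A' ⧸ I') gZ := isBaseChange_mapQ I I' gZ₀ hgZ₀ gZ (fun b => rfl)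
  have hhV : IsBaseChange (A' ⧸ I') hV :=
    isBaseChange_mapQ I I' (f.restrictScalars A) hf hV (fun b => rfl)
  -- orbit maps
  let φ₁ : B₁ →ₗ[A] X₁ := (LinearMap.toSpanSingleton B₁ X₁ x₁).restrictScalars A
  let φ : B' →ₗ[A'] X' := (LinearMap.toSpanSingleton B' X' (f x₁)).restrictScalars A'
  let θ₁ : (B₁ ⧸ I • (⊤ : Submodule A B₁)) →ₗ[A ⧸ I] (X₁ ⧸ I • (⊤ : Submodule A X₁)) :=
    (Submodule.mapQ _ _ φ₁ (Submodule.smul_top_le_comap_smul_top I φ₁)).extendScalarsOfSurjective
      hsurjD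
  let θ : (B' ⧸ I' • (⊤ : Submodule A' B')) →ₗ[A' ⧸ I'] (X' ⧸ I' • (⊤ : Submodule A' X')) :=
    (Submodule.mapQ _ _ φ (Submodule.smul_top_le_comap_smul_top I' φ)).extendScalarsOfSurjective
      hsurjk
  have hθ : ∀ z, θ (gZ z) = hV (θ₁ z) := by
    intro z
    obtain ⟨b, rfl⟩ := Submodule.Quotient.mk_surjective _ z
    change Submodule.Quotient.mk (algebraMap B₁ B' b • f x₁) =
      Submodule.Quotient.mk (f (b • x₁))
    rw [map_smul, algebraMap_smul]
  have hz' : θ (Submodule.Quotient.mk s) = 0 := by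
    change Submodule.Quotient.mk (s • f x₁) = (0 : X' ⧸ I' • (⊤ : Submodule A' X'))
    rw [Submodule.Quotient.mk_eq_zero]
    exact hsx
  have hspan := Groth.Agent.H57.mem_span_image_ker_of_flat hgZ hhV θ₁ θ hθ _ hz'
  -- the image of `q` in `Z`
  let Q' : Submodule A' (B' ⧸ I' • (⊤ : Submodule A' B')) :=
    Submodule.map (I' • ⊤ : Submodule A' B').mkQ (q.restrictScalars A')
  have hspan' : (Submodule.Quotient.mk s : B' ⧸ I' • (⊤ : Submodule A' B')) ∈
      Submodule.span A' (gZ '' (LinearMap.ker θ₁ : Set _)) := by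
    rw [← Submodule.restrictScalars_span A' (A' ⧸ I') hsurjk]
    exact hspan
  have hsub : Submodule.span A' (gZ '' (LinearMap.ker θ₁ : Set _)) ≤ Q' := by
    rw [Submodule.span_le]
    rintro _ ⟨z, hz, rfl⟩
    obtain ⟨b, rfl⟩ := Submodule.Quotient.mk_surjective _ z
    have hb : b • x₁ ∈ I • (⊤ : Submodule A X₁) := by
      have h0 : (Submodule.Quotient.mk (b • x₁) : X₁ ⧸ I • (⊤ : Submodule A X₁)) = 0 :=
        LinearMap.mem_ker.mp hz
      exact (Submodule.Quotient.mk_eq_zero _).mp h0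
    have hbq : algebraMap B₁ B' b ∈ q := by
      by_contra hbq
      exact hcon b hbq hb
    exact ⟨algebraMap B₁ B' b, hbq, rfl⟩
  obtain ⟨s', hs'q, hs's⟩ := hsub hspan'
  have hdiff : s' - s ∈ I' • (⊤ : Submodule A' B') := by
    rw [← Submodule.Quotient.mk_eq_zero, Submodule.Quotient.mk_sub, sub_eq_zero]
    exact hs's
  have hIq : ∀ y ∈ I' • (⊤ : Submodule A' B'), y ∈ q := by
    intro y hy
    refine Submodule.smul_induction_on hy (fun a ha n _ => ?_) (fun a b ha hb => q.add_mem ha hb)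
    rw [Algebra.smul_def a n]
    exact q.mul_mem_right _ (hq (Ideal.mem_map_of_mem _ ha))
  apply hs
  have : s = s' - (s' - s) := by ring
  rw [this]
  exact q.sub_mem hs'q (hIq _ hdiff)


section Descend

variable {R S R' S' : Type u} [CommRing R] [CommRing S] [CommRing R'] [CommRing S']
  [Algebra R S] [Algebra R R'] [Algebra S S'] [Algebra R' S'] [Algebra R S'] [IsScalarTower R S S']
  [IsScalarTower R R' S'] [Algebra.IsPushout R S R' S']
  {M M' N N' : Type u} [AddCommGroup M] [Module S M] [Module R M] [IsScalarTower R S M]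
  [AddCommGroup M'] [Module S' M'] [Module R' M'] [IsScalarTower R' S' M'] [Module S M']
  [IsScalarTower S S' M'] [Module R M'] [IsScalarTower R R' M'] [IsScalarTower R S M']
  [AddCommGroup N] [Module S N] [Module R N] [IsScalarTower R S N]
  [AddCommGroup N'] [Module S' N'] [Module R' N'] [IsScalarTower R' S' N'] [Module S N']
  [IsScalarTower S S' N'] [Module R N'] [IsScalarTower R R' N'] [IsScalarTower R S N']

/-- **Step C**: injectivity modulo a maximal ideal at a prime descends to a model. -/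
theorem IdealInjAt.descend (I' : Ideal R') [I'.IsMaximal] (q : Ideal S') [q.IsPrime]
    (hq : I'.map (algebraMap R' S') ≤ q)
    (f : M →ₗ[S] M') (hf : IsBaseChange S' f) (g : N →ₗ[S] N')
    (u : M →ₗ[S] N) (u' : M' →ₗ[S'] N') (huu : ∀ x, u' (f x) = g (u x))
    (h : IdealInjAt I' q.primeCompl u') :
    IdealInjAt (I'.comap (algebraMap R R')) (q.comap (algebraMap S S')).primeCompl u := by
  intro x hx
  have h1 : u' (f x) ∈ I' • (⊤ : Submodule R' N') := by
    rw [huu]
    refine Submodule.smul_induction_on hx (fun a ha n _ => ?_) (fun a b ha hb => ?_)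
    · rw [← algebraMap_smul S a n, map_smul, algebraMap_smul, ← algebraMap_smul R' a (g n)]
      exact Submodule.smul_mem_smul ha Submodule.mem_top
    · rw [map_add]; exact add_mem ha hb
  obtain ⟨s, hs, hsx⟩ := h (f x) h1
  haveI : Algebra.IsPushout R R' S S' := Algebra.IsPushout.symm inferInstance
  obtain ⟨s₁, hs₁, hs₁x⟩ := exists_smul_mem_of_smul_mem (A := R) (A' := R') (B₁ := S) (B' := S')
    I' f (Groth.Agent.H57.isBaseChange_restrictScalars f hf) q hq x s hs hsx
  exact ⟨s₁, hs₁, hs₁x⟩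

end Descend

end Groth.Agent.H48.PtFlat
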