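import Mathlib
import Groth.Agent.H48.PtFlat2
import Groth.Agent.H48.PtFlat3

/-!
# Fibrewise flatness: quotient-free formulation and base change lemmas (helper48)
-/

open TensorProduct

namespace Groth.Agent.H48.FibCrit
universe u

open Groth.Agent.H48.PtFlat

section ModInj

variable {R : Type u} [CommRing R] {Q P : Type u} [AddCommGroup Q] [AddCommGroup P] [Module R Q]
  [Module R P]

/-- injectivity modulo an ideal. -/
def ModInj (I : Ideal R) (j : Q →ₗ[R] P) : Prop :=
  ∀ x, j x ∈ I • (⊤ : Submodule R P) → x ∈ I • (⊤ : Submodule R Q)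

lemma modInj_iff_baseChange (I : Ideal R) (j : Q →ₗ[R] P) :
    ModInj I j ↔ Function.Injective (j.baseChange (R ⧸ I)) := by
  rw [LinearMap.baseChange_eq_ltensor, LinearMap.lTensor_inj_iff_rTensor_inj,
    rTensor_quot_injective_iff]
  rfl

/-- tensoring with a flat module preserves injectivity modulo an ideal. -/
theorem modInj_lTensor_of_flat (I : Ideal R) (N : Type u) [AddCommGroup N] [Module R N]
    [Module.Flat R N] (j : Q →ₗ[R] P) (hj : ModInj I j) : ModInj I (j.lTensor N) := by
  rw [modInj_iff_baseChange] at hj ⊢
  have h1 : Function.Injective ((j.baseChange (R ⧸ I)).restrictScalars R |>.lTensor N) :=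
    Module.Flat.lTensor_preserves_injective_linearMap _ hj
  have hnat : ∀ z, TensorProduct.leftComm R (R ⧸ I) N P ((j.lTensor N).baseChange (R ⧸ I) z) =
      ((j.baseChange (R ⧸ I)).restrictScalars R |>.lTensor N)
        (TensorProduct.leftComm R (R ⧸ I) N Q z) := by
    intro z
    induction z using TensorProduct.induction_on with
    | zero => simp
    | tmul a y =>
      induction y using TensorProduct.induction_on with
      | zero => simp
      | tmul n x => simp
      | add y z hy hz => simp only [tmul_add, map_add, hy, hz]
    | add x y hx hy => simp only [map_add, hx, hy]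
  intro a b hab
  apply (TensorProduct.leftComm R (R ⧸ I) N Q).injective
  apply h1
  rw [← hnat, ← hnat, hab]

/-- tensoring with a module whose reduction is flat over the quotient ring preserves injectivity
modulo the ideal. -/
theorem modInj_lTensor_of_flat_quot (J : Ideal R) (N : Type u) [AddCommGroup N] [Module R N]
    [Module.Flat (R ⧸ J) (N ⧸ J • (⊤ : Submodule R N))] (j : Q →ₗ[R] P) (hj : ModInj J j) :
    ModInj J (j.lTensor N) := by
  haveI : Module.Flat (R ⧸ J) ((R ⧸ J) ⊗[R] N) :=
    Module.Flat.of_linearEquiv (isBaseChange_mkQ J).equiv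
  rw [modInj_iff_baseChange] at hj ⊢
  have h1 : Function.Injective ((j.baseChange (R ⧸ J)).lTensor ((R ⧸ J) ⊗[R] N)) :=
    Module.Flat.lTensor_preserves_injective_linearMap _ hj
  have hnat : ∀ z, AlgebraTensorModule.distribBaseChange R (R ⧸ J) N P
      ((j.lTensor N).baseChange (R ⧸ J) z) =
      (j.baseChange (R ⧸ J)).lTensor ((R ⧸ J) ⊗[R] N)
        (AlgebraTensorModule.distribBaseChange R (R ⧸ J) N Q z) := by
    intro z
    induction z using TensorProduct.induction_on with
    | zero => simp
    | tmul a y =>
      induction y using TensorProduct.induction_on with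
      | zero => simp
      | tmul n x => simp [AlgebraTensorModule.distribBaseChange_tmul]
      | add y z hy hz => simp only [tmul_add, map_add, hy, hz]
    | add x y hx hy => simp only [map_add, hx, hy]
  intro a b hab
  apply (AlgebraTensorModule.distribBaseChange R (R ⧸ J) N Q).injective
  apply h1
  rw [← hnat, ← hnat, hab]

end ModInj

section KF

variable {C R : Type u} [CommRing C] [CommRing R] [Algebra C R]
  {Q P : Type u} [AddCommGroup Q] [AddCommGroup P] [Module C Q] [Module C P]

/-- injectivity modulo a maximal ideal ascends along base change. -/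
theorem modInj_baseChange_of_isMaximal (m : Ideal R) [m.IsMaximal] (j : Q →ₗ[C] P)
    (hj : ModInj (m.comap (algebraMap C R)) j) : ModInj m (j.baseChange R) := by
  set p : Ideal C := m.comap (algebraMap C R) with hp
  letI : Field (R ⧸ m) := Ideal.Quotient.field m
  haveI : FaithfulSMul (C ⧸ p) (R ⧸ m) :=
    (faithfulSMul_iff_algebraMap_injective (C ⧸ p) (R ⧸ m)).mpr
      Ideal.algebraMap_quotient_injective
  haveI : Module.Flat (C ⧸ p) (R ⧸ m) := flat_of_field_of_faithfulSMul (C ⧸ p) (R ⧸ m)
  rw [modInj_iff_baseChange] at hj ⊢
  have h1 : Function.Injective ((j.baseChange (C ⧸ p)).lTensor (R ⧸ m)) :=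
    Module.Flat.lTensor_preserves_injective_linearMap _ hj
  let e : ∀ (X : Type u) [AddCommGroup X] [Module C X],
      (R ⧸ m) ⊗[R] (R ⊗[C] X) ≃ₗ[R ⧸ m] (R ⧸ m) ⊗[C ⧸ p] ((C ⧸ p) ⊗[C] X) := fun X _ _ =>
    (AlgebraTensorModule.cancelBaseChange C R (R ⧸ m) (R ⧸ m) X) ≪≫ₗ
      (AlgebraTensorModule.cancelBaseChange C (C ⧸ p) (R ⧸ m) (R ⧸ m) X).symm
  have hnat : ∀ z, e P ((j.baseChange R).baseChange (R ⧸ m) z) =
      (j.baseChange (C ⧸ p)).lTensor (R ⧸ m) (e Q z) := by
    intro z
    induction z using TensorProduct.induction_on with
    | zero => simp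
    | tmul a y =>
      induction y using TensorProduct.induction_on with
      | zero => simp
      | tmul n x => simp [e]
      | add y z hy hz => simp only [tmul_add, map_add, hy, hz]
    | add x y hx hy => simp only [map_add, hx, hy]
  intro a b hab
  apply (e Q).injective
  apply h1
  rw [← hnat, ← hnat, hab]

end KF


section Conv

open TensorProduct.AlgebraTensorModule in
/-- quotient-free criterion for flatness of a base change. -/
theorem flat_baseChange_of_forall_injective {R A : Type u} [CommRing R] [CommRing A] [Algebra R A]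
    (M : Type u) [AddCommGroup M] [Module R M]
    (h : ∀ (L G : Type u) [AddCommGroup L] [AddCommGroup G] [Module R L] [Module A L]
      [IsScalarTower R A L] [Module R G] [Module A G] [IsScalarTower R A G] (j : L →ₗ[A] G),
      Function.Injective j → Function.Injective ((j.restrictScalars R).rTensor M)) :
    Module.Flat A (A ⊗[R] M) := by
  rw [Module.Flat.iff_rTensor_preserves_injective_linearMap]
  intro L G _ _ _ _ j hj
  letI : Module R L := Module.compHom L (algebraMap R A)
  letI : Module R G := Module.compHom G (algebraMap R A)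
  haveI : IsScalarTower R A L := IsScalarTower.of_algebraMap_smul (fun r p => rfl)
  haveI : IsScalarTower R A G := IsScalarTower.of_algebraMap_smul (fun r p => rfl)
  have h0 := h L G j hj
  have hsq : ∀ t : L ⊗[A] (A ⊗[R] M),
      (j.restrictScalars R).rTensor M (cancelBaseChange R A A L M t) =
        cancelBaseChange R A A G M (j.rTensor (A ⊗[R] M) t) := by
    intro t
    induction t using TensorProduct.induction_on with
    | zero => simp
    | tmul l y =>
      induction y using TensorProduct.induction_on with
      | zero => simp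
      | tmul a m => simp
      | add y z hy hz => simp only [TensorProduct.tmul_add, map_add, hy, hz]
    | add x y hx hy => simp only [map_add, hx, hy]
  intro a b hab
  apply (cancelBaseChange R A A L M).injective
  apply h0
  rw [hsq, hsq, hab]

lemma map_mem_smul_top {R X Y : Type*} [CommRing R] [AddCommGroup X] [AddCommGroup Y] [Module R X]
    [Module R Y] (I : Ideal R) (f : X →ₗ[R] Y) {x : X} (hx : x ∈ I • (⊤ : Submodule R X)) :
    f x ∈ I • (⊤ : Submodule R Y) :=
  Submodule.smul_top_le_comap_smul_top I f hx

end Conv

end Groth.Agent.H48.FibCrit
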