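import Mathlib
import Groth.Agent.H48.FibCrit1

/-!
# Fibrewise flatness: definition, descent to a Noetherian model (helper48)
-/

open TensorProduct

namespace Groth.Agent.H48.FibCrit
universe u

open Groth.Agent.H48.PtFlat

/-- `N` is flat over `A` "modulo `J`": tensoring with `N` preserves injectivity modulo `J`.
Equivalent to flatness of `N/JN` over `A/J`. -/
def FibFlat {A : Type u} [CommRing A] (J : Ideal A) (N : Type u) [AddCommGroup N] [Module A N] :
    Prop :=
  ∀ (Q P : Type u) [AddCommGroup Q] [AddCommGroup P] [Module A Q] [Module A P] (j : Q →ₗ[A] P),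
    ModInj J j → ModInj J (j.lTensor N)

theorem FibFlat.of_flat_quot {A : Type u} [CommRing A] (J : Ideal A) (N : Type u) [AddCommGroup N]
    [Module A N] [Module.Flat (A ⧸ J) (N ⧸ J • (⊤ : Submodule A N))] : FibFlat J N :=
  fun _ _ _ _ _ _ j hj => modInj_lTensor_of_flat_quot J N j hj

open TensorProduct.AlgebraTensorModule in
/-- restriction along a flat algebra. -/
theorem FibFlat.of_flat_algebra {A A' : Type u} [CommRing A] [CommRing A'] [Algebra A A']
    [Module.Flat A A'] (J : Ideal A) (N : Type u) [AddCommGroup N] [Module A' N] [Module A N]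
    [IsScalarTower A A' N] (h : FibFlat (J.map (algebraMap A A')) N) : FibFlat J N := by
  intro Q P _ _ _ _ j hj
  have h1 : ModInj J (j.lTensor A') := modInj_lTensor_of_flat J A' j hj
  have h2 : ModInj (J.map (algebraMap A A')) (j.baseChange A') := by
    intro x hx
    rw [mem_map_smul_top_iff] at hx ⊢
    exact h1 x hx
  have h3 := h _ _ (j.baseChange A') h2
  have hnat : ∀ t : N ⊗[A'] (A' ⊗[A] Q), j.lTensor N (cancelBaseChange A A' A' N Q t) =
      cancelBaseChange A A' A' N P ((j.baseChange A').lTensor N t) := by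
    intro t
    induction t using TensorProduct.induction_on with
    | zero => simp
    | tmul l y =>
      induction y using TensorProduct.induction_on with
      | zero => simp
      | tmul a m => simp
      | add y z hy hz => simp only [TensorProduct.tmul_add, map_add, hy, hz]
    | add x y hx hy => simp only [map_add, hx, hy]
  intro z hz
  obtain ⟨t, rfl⟩ := (cancelBaseChange A A' A' N Q).surjective z
  rw [hnat] at hz
  have h4 : (j.baseChange A').lTensor N t ∈
      (J.map (algebraMap A A')) • (⊤ : Submodule A' (N ⊗[A'] (A' ⊗[A] P))) := by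
    rw [mem_map_smul_top_iff]
    have := map_mem_smul_top J
      ((cancelBaseChange A A' A' N P).symm.toLinearMap.restrictScalars A) hz
    simpa using this
  have h5 := h3 t h4
  rw [mem_map_smul_top_iff] at h5
  exact map_mem_smul_top J ((cancelBaseChange A A' A' N Q).toLinearMap.restrictScalars A) h5


section StepI

variable {C R S₁ S₀ : Type u} [CommRing C] [CommRing R] [CommRing S₁] [CommRing S₀]
  [Algebra C R] [Algebra C S₁] [Algebra R S₀] [Algebra S₁ S₀] [Algebra C S₀] [IsScalarTower C R S₀]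
  [IsScalarTower C S₁ S₀] [Algebra.IsPushout C R S₁ S₀]

open TensorProduct.AlgebraTensorModule in
/-- **Step I**: fibrewise flatness over `S₀` modulo a maximal ideal of `R`, tested against
modules coming from the model `S₁`. -/
theorem FibFlat.restrict_pushout (m : Ideal R) [m.IsMaximal] (N : Type u) [AddCommGroup N]
    [Module S₀ N] [Module S₁ N] [IsScalarTower S₁ S₀ N]
    (h : FibFlat (m.map (algebraMap R S₀)) N)
    (Q₁ P₁ : Type u) [AddCommGroup Q₁] [AddCommGroup P₁] [Module S₁ Q₁] [Module S₁ P₁]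
    (j₁ : Q₁ →ₗ[S₁] P₁)
    (hj₁ : ModInj ((m.comap (algebraMap C R)).map (algebraMap C S₁)) j₁) :
    ModInj (m.map (algebraMap R S₀)) (AlgebraTensorModule.lTensor S₀ N j₁) := by
  letI : Module C Q₁ := Module.compHom Q₁ (algebraMap C S₁)
  letI : Module C P₁ := Module.compHom P₁ (algebraMap C S₁)
  haveI : IsScalarTower C S₁ Q₁ := IsScalarTower.of_algebraMap_smul (fun r p => rfl)
  haveI : IsScalarTower C S₁ P₁ := IsScalarTower.of_algebraMap_smul (fun r p => rfl)
  have h1 : ModInj (m.comap (algebraMap C R)) (j₁.restrictScalars C) := by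
    intro x hx
    rw [← mem_map_smul_top_iff (A := S₁)] at hx ⊢
    exact hj₁ x hx
  have h2 := modInj_baseChange_of_isMaximal m (j₁.restrictScalars C) h1
  have hnat : ∀ t : R ⊗[C] Q₁, j₁.baseChange S₀
      ((Algebra.IsPushout.cancelBaseChange C R S₁ S₀ Q₁).symm t) =
      (Algebra.IsPushout.cancelBaseChange C R S₁ S₀ P₁).symm
        ((j₁.restrictScalars C).baseChange R t) := by
    intro t
    induction t using TensorProduct.induction_on with
    | zero => simp
    | tmul r x =>
      simp [Algebra.IsPushout.cancelBaseChange_symm_tmul]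
    | add x y hx hy => simp only [map_add, hx, hy]
  have h3 : ModInj (m.map (algebraMap R S₀)) (j₁.baseChange S₀) := by
    intro y hy
    rw [mem_map_smul_top_iff] at hy ⊢
    obtain ⟨t, rfl⟩ := (Algebra.IsPushout.cancelBaseChange C R S₁ S₀ Q₁).symm.surjective y
    rw [hnat] at hy
    have hy' := map_mem_smul_top m
      (Algebra.IsPushout.cancelBaseChange C R S₁ S₀ P₁).toLinearMap hy
    simp only [LinearEquiv.coe_coe, LinearEquiv.apply_symm_apply] at hy'
    exact map_mem_smul_top m (Algebra.IsPushout.cancelBaseChange C R S₁ S₀ Q₁).symm.toLinearMap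
      (h2 t hy')
  have h4 := h _ _ (j₁.baseChange S₀) h3
  have hnat2 : ∀ t : N ⊗[S₀] (S₀ ⊗[S₁] Q₁),
      AlgebraTensorModule.lTensor S₀ N j₁ (cancelBaseChange S₁ S₀ S₀ N Q₁ t) =
      cancelBaseChange S₁ S₀ S₀ N P₁ ((j₁.baseChange S₀).lTensor N t) := by
    intro t
    induction t using TensorProduct.induction_on with
    | zero => simp
    | tmul l y =>
      induction y using TensorProduct.induction_on with
      | zero => simp
      | tmul a m => simp
      | add y z hy hz => simp only [TensorProduct.tmul_add, map_add, hy, hz]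
    | add x y hx hy => simp only [map_add, hx, hy]
  intro z hz
  obtain ⟨t, rfl⟩ := (cancelBaseChange S₁ S₀ S₀ N Q₁).surjective z
  rw [hnat2] at hz
  have hz' := map_mem_smul_top (m.map (algebraMap R S₀))
    (cancelBaseChange S₁ S₀ S₀ N P₁).symm.toLinearMap hz
  simp only [LinearEquiv.coe_coe, LinearEquiv.symm_apply_apply] at hz'
  exact map_mem_smul_top (m.map (algebraMap R S₀)) (cancelBaseChange S₁ S₀ S₀ N Q₁).toLinearMap
    (h4 t hz')

end StepI


section StepII

/-- ideal-of-the-top-ring version of `IdealInjAt.descend`. -/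
theorem idealInjAt_descend' {C R T₁ T₀ : Type u} [CommRing C] [CommRing R] [CommRing T₁]
    [CommRing T₀] [Algebra C R] [Algebra C T₁] [Algebra R T₀] [Algebra T₁ T₀] [Algebra C T₀]
    [IsScalarTower C T₁ T₀] [IsScalarTower C R T₀] [Algebra.IsPushout C T₁ R T₀]
    {M N M' N' : Type u} [AddCommGroup M] [Module T₁ M] [AddCommGroup N] [Module T₁ N]
    [AddCommGroup M'] [Module T₀ M'] [Module T₁ M'] [IsScalarTower T₁ T₀ M']
    [AddCommGroup N'] [Module T₀ N'] [Module T₁ N'] [IsScalarTower T₁ T₀ N']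
    (m : Ideal R) [m.IsMaximal] (q : Ideal T₀) [q.IsPrime] (hq : m.map (algebraMap R T₀) ≤ q)
    (f : M →ₗ[T₁] M') (hf : IsBaseChange T₀ f) (g : N →ₗ[T₁] N') (u : M →ₗ[T₁] N)
    (u' : M' →ₗ[T₀] N') (huu : ∀ x, u' (f x) = g (u x))
    (h : IdealInjAt (m.map (algebraMap R T₀)) q.primeCompl u') :
    IdealInjAt ((m.comap (algebraMap C R)).map (algebraMap C T₁))
      (q.comap (algebraMap T₁ T₀)).primeCompl u := by
  letI : Module C M := Module.compHom M (algebraMap C T₁)
  haveI : IsScalarTower C T₁ M := .of_algebraMap_smul (fun _ _ => rfl)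
  letI : Module C N := Module.compHom N (algebraMap C T₁)
  haveI : IsScalarTower C T₁ N := .of_algebraMap_smul (fun _ _ => rfl)
  letI : Module R M' := Module.compHom M' (algebraMap R T₀)
  haveI : IsScalarTower R T₀ M' := .of_algebraMap_smul (fun _ _ => rfl)
  letI : Module C M' := Module.compHom M' (algebraMap C T₀)
  haveI : IsScalarTower C R M' := ⟨fun c r x => by
    change algebraMap R T₀ (c • r) • x = algebraMap C T₀ c • (algebraMap R T₀ r • x)
    rw [Algebra.smul_def, map_mul, mul_smul, ← IsScalarTower.algebraMap_apply]⟩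
  haveI : IsScalarTower C T₁ M' := ⟨fun c t x => by
    change (c • t) • x = algebraMap C T₀ c • (t • x)
    rw [← algebraMap_smul T₀ (c • t) x, ← algebraMap_smul T₀ t x, Algebra.smul_def, map_mul,
      mul_smul, ← IsScalarTower.algebraMap_apply]⟩
  letI : Module R N' := Module.compHom N' (algebraMap R T₀)
  haveI : IsScalarTower R T₀ N' := .of_algebraMap_smul (fun _ _ => rfl)
  letI : Module C N' := Module.compHom N' (algebraMap C T₀)
  haveI : IsScalarTower C R N' := ⟨fun c r x => by
    change algebraMap R T₀ (c • r) • x = algebraMap C T₀ c • (algebraMap R T₀ r • x)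
    rw [Algebra.smul_def, map_mul, mul_smul, ← IsScalarTower.algebraMap_apply]⟩
  haveI : IsScalarTower C T₁ N' := ⟨fun c t x => by
    change (c • t) • x = algebraMap C T₀ c • (t • x)
    rw [← algebraMap_smul T₀ (c • t) x, ← algebraMap_smul T₀ t x, Algebra.smul_def, map_mul,
      mul_smul, ← IsScalarTower.algebraMap_apply]⟩
  have h' : IdealInjAt m q.primeCompl u' := by
    intro x hx
    rw [← mem_map_smul_top_iff (A := T₀)] at hx
    obtain ⟨t, ht, htx⟩ := h x hx
    exact ⟨t, ht, (mem_map_smul_top_iff m _).mp htx⟩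
  have h2 := IdealInjAt.descend (R := C) (S := T₁) (R' := R) (S' := T₀) m q hq f hf g u u' huu h'
  intro x hx
  rw [mem_map_smul_top_iff] at hx
  obtain ⟨t, ht, htx⟩ := h2 x hx
  exact ⟨t, ht, (mem_map_smul_top_iff _ _).mpr htx⟩

variable {C R S₁ T₁ T₀ : Type u} [CommRing C] [CommRing R] [CommRing S₁] [CommRing T₁]
  [CommRing T₀] [Algebra C R] [Algebra C T₁] [Algebra R T₀] [Algebra T₁ T₀] [Algebra C T₀]
  [IsScalarTower C T₁ T₀] [IsScalarTower C R T₀] [Algebra.IsPushout C T₁ R T₀]
  [Algebra C S₁] [Algebra S₁ T₁] [IsScalarTower C S₁ T₁] [Algebra S₁ T₀] [IsScalarTower S₁ T₁ T₀]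
  {M₁ M₀ N₁ N : Type u} [AddCommGroup M₁] [Module T₁ M₁] [Module S₁ M₁] [IsScalarTower S₁ T₁ M₁]
  [AddCommGroup M₀] [Module T₀ M₀] [Module T₁ M₀] [IsScalarTower T₁ T₀ M₀] [Module S₁ M₀]
  [IsScalarTower S₁ T₀ M₀] [IsScalarTower S₁ T₁ M₀]

/-- **Step II**: descent to the localized model. -/
theorem FibFlat.descend_local (f : M₁ →ₗ[T₁] M₀) (hf : IsBaseChange T₀ f)
    (m : Ideal R) [m.IsMaximal] (q' : Ideal T₀) [q'.IsPrime] (hq' : m.map (algebraMap R T₀) ≤ q')
    [AddCommGroup N] [Module T₀ N] [Module S₁ N] [IsScalarTower S₁ T₀ N] (g₀ : M₀ →ₗ[T₀] N)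
    [IsLocalizedModule q'.primeCompl g₀]
    [AddCommGroup N₁] [Module T₁ N₁] [Module S₁ N₁] [IsScalarTower S₁ T₁ N₁] (g₁ : M₁ →ₗ[T₁] N₁)
    [IsLocalizedModule (q'.comap (algebraMap T₁ T₀)).primeCompl g₁]
    (h : ∀ (Q₁ P₁ : Type u) [AddCommGroup Q₁] [AddCommGroup P₁] [Module S₁ Q₁] [Module S₁ P₁]
      (j₁ : Q₁ →ₗ[S₁] P₁), ModInj ((m.comap (algebraMap C R)).map (algebraMap C S₁)) j₁ →
      ModInj (m.map (algebraMap R T₀)) (AlgebraTensorModule.lTensor T₀ N j₁)) :
    FibFlat ((m.comap (algebraMap C R)).map (algebraMap C S₁)) N₁ := by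
  intro Q₁ P₁ _ _ _ _ j₁ hj₁
  have h1 := h Q₁ P₁ j₁ hj₁
  have key : ∀ (K : Ideal T₀) (z : (N ⊗[S₁] Q₁) ⊗[T₀] (T₀ ⧸ K)),
      (AlgebraTensorModule.lTensor T₀ N j₁).rTensor (T₀ ⧸ K) z =
      AlgebraTensorModule.rTensor T₀ (T₀ ⧸ K) (AlgebraTensorModule.lTensor T₀ N j₁) z := by
    intro K z
    induction z using TensorProduct.induction_on with
    | zero => simp
    | tmul m p => rfl
    | add a b ha hb => simp only [map_add, ha, hb]
  have h2 : IdealInjAt (m.map (algebraMap R T₀)) q'.primeCompl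
      (AlgebraTensorModule.lTensor T₀ M₀ j₁) := by
    rw [idealInjAt_iff_injAtFor]
    refine injAtFor_of_rTensor_injective (AlgebraTensorModule.rTensor S₁ Q₁ g₀)
      (AlgebraTensorModule.rTensor S₁ P₁ g₀) (AlgebraTensorModule.lTensor T₀ N j₁) ?_ ?_
    · intro x
      induction x using TensorProduct.induction_on with
      | zero => simp
      | tmul a b => simp
      | add a b ha hb => simp only [map_add, ha, hb]
    · have h3 := (rTensor_quot_injective_iff (m.map (algebraMap R T₀))
        (AlgebraTensorModule.lTensor T₀ N j₁)).mpr h1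
      intro a b hab
      apply h3
      rw [key, key, hab]
  have h4 : IdealInjAt ((m.comap (algebraMap C R)).map (algebraMap C T₁))
      (q'.comap (algebraMap T₁ T₀)).primeCompl (AlgebraTensorModule.lTensor T₁ M₁ j₁) := by
    refine idealInjAt_descend' m q' hq' (AlgebraTensorModule.rTensor S₁ Q₁ f)
      (isBaseChange_tensorProduct_map T₀ hf) (AlgebraTensorModule.rTensor S₁ P₁ f)
      (AlgebraTensorModule.lTensor T₁ M₁ j₁) (AlgebraTensorModule.lTensor T₀ M₀ j₁) ?_ h2
    intro x
    induction x using TensorProduct.induction_on with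
    | zero => simp
    | tmul a b => simp
    | add a b ha hb => simp only [map_add, ha, hb]
  have key₁ : ∀ (K : Ideal T₁) (z : (N₁ ⊗[S₁] Q₁) ⊗[T₁] (T₁ ⧸ K)),
      (AlgebraTensorModule.lTensor T₁ N₁ j₁).rTensor (T₁ ⧸ K) z =
      AlgebraTensorModule.rTensor T₁ (T₁ ⧸ K) (AlgebraTensorModule.lTensor T₁ N₁ j₁) z := by
    intro K z
    induction z using TensorProduct.induction_on with
    | zero => simp
    | tmul m p => rfl
    | add a b ha hb => simp only [map_add, ha, hb]
  have h5 : Function.Injective (AlgebraTensorModule.rTensor T₁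
      (T₁ ⧸ (m.comap (algebraMap C R)).map (algebraMap C T₁))
      (AlgebraTensorModule.lTensor T₁ N₁ j₁)) := by
    refine ((idealInjAt_iff_injAtFor _ _ _).mp h4).rTensor_injective
      (AlgebraTensorModule.rTensor S₁ Q₁ g₁) (AlgebraTensorModule.rTensor S₁ P₁ g₁)
      (AlgebraTensorModule.lTensor T₁ N₁ j₁) ?_
    intro x
    induction x using TensorProduct.induction_on with
    | zero => simp
    | tmul a b => simp
    | add a b ha hb => simp only [map_add, ha, hb]
  have h6 : ∀ z, (AlgebraTensorModule.lTensor T₁ N₁ j₁) z ∈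
      ((m.comap (algebraMap C R)).map (algebraMap C T₁)) • (⊤ : Submodule T₁ (N₁ ⊗[S₁] P₁)) →
      z ∈ ((m.comap (algebraMap C R)).map (algebraMap C T₁)) •
        (⊤ : Submodule T₁ (N₁ ⊗[S₁] Q₁)) := by
    refine (rTensor_quot_injective_iff _ (AlgebraTensorModule.lTensor T₁ N₁ j₁)).mp ?_
    intro a b hab
    apply h5
    rw [← key₁, ← key₁, hab]
  have hmap : ((m.comap (algebraMap C R)).map (algebraMap C S₁)).map (algebraMap S₁ T₁) =
      (m.comap (algebraMap C R)).map (algebraMap C T₁) := by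
    rw [Ideal.map_map, ← IsScalarTower.algebraMap_eq]
  intro z hz
  rw [← mem_map_smul_top_iff (A := T₁), hmap] at hz ⊢
  exact h6 z hz

end StepII

end Groth.Agent.H48.FibCrit
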