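import Mathlib
import Groth.Agent.H48.FibCrit2
import Groth.Agent.H2.LocalCriterionMain

/-!
# Fibrewise criterion: the Noetherian core (helper48)
-/

open TensorProduct

namespace Groth.Agent.H48.FibCrit
universe u

open Groth.Agent.H48.PtFlat

/-- **Noetherian core**: a finite module over `T₁`, flat over `C` at `q'` and fibrewise flat over
`S₁` modulo `p`, is flat over `S₁` at `q'`. -/
theorem flat_localizedModule_of_fibFlat {C S₁ T₁ M₁ : Type u} [CommRing C] [CommRing S₁]
    [CommRing T₁] [Algebra C S₁] [Algebra S₁ T₁] [Algebra C T₁] [IsScalarTower C S₁ T₁]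
    [IsNoetherianRing S₁] [IsNoetherianRing T₁]
    [AddCommGroup M₁] [Module T₁ M₁] [Module S₁ M₁] [IsScalarTower S₁ T₁ M₁] [Module C M₁]
    [IsScalarTower C T₁ M₁] [Module.Finite T₁ M₁]
    (q' : Ideal T₁) [q'.IsPrime] (p : Ideal C) (hp : p.map (algebraMap C T₁) ≤ q')
    [Module.Flat C (LocalizedModule q'.primeCompl M₁)]
    (h : FibFlat (p.map (algebraMap C S₁)) (LocalizedModule q'.primeCompl M₁)) :
    Module.Flat S₁ (LocalizedModule q'.primeCompl M₁) := by
  set q : Ideal S₁ := q'.comap (algebraMap S₁ T₁) with hq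
  let A := Localization.AtPrime q
  let B := Localization.AtPrime q'
  let N' := LocalizedModule q'.primeCompl M₁
  letI algAB : Algebra A B := (Localization.localRingHom q q' (algebraMap S₁ T₁) rfl).toAlgebra
  haveI : IsLocalHom (algebraMap A B) :=
    Localization.isLocalHom_localRingHom q q' (algebraMap S₁ T₁) rfl
  haveI tSAB : IsScalarTower S₁ A B := .of_algebraMap_eq fun c => by
    rw [RingHom.algebraMap_toAlgebra, Localization.localRingHom_to_map,
      ← IsScalarTower.algebraMap_apply]
  letI modAN : Module A N' := Module.compHom N' (algebraMap A B)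
  haveI tABN : IsScalarTower A B N' := ⟨fun a b m => by
    rw [Algebra.smul_def, mul_smul]; rfl⟩
  haveI tSAN : IsScalarTower S₁ A N' := ⟨fun c a m => by
    change algebraMap A B (c • a) • m = c • (algebraMap A B a • m)
    rw [Algebra.smul_def, map_mul, mul_smul, ← IsScalarTower.algebraMap_apply, algebraMap_smul]⟩
  haveI tCAN : IsScalarTower C A N' := ⟨fun c a m => by
    rw [← algebraMap_smul S₁ c a, ← algebraMap_smul S₁ c (a • m), smul_assoc]⟩
  set J₁ : Ideal S₁ := p.map (algebraMap C S₁) with hJ₁
  set I : Ideal A := p.map (algebraMap C A) with hI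
  have hJI : J₁.map (algebraMap S₁ A) = I := by
    rw [hJ₁, hI, Ideal.map_map, ← IsScalarTower.algebraMap_eq]
  have hJq : J₁ ≤ q := by
    rw [hJ₁, Ideal.map_le_iff_le_comap, hq, Ideal.comap_comap, ← IsScalarTower.algebraMap_eq]
    exact Ideal.map_le_iff_le_comap.mp hp
  have hIle : I ≤ IsLocalRing.maximalIdeal A := by
    rw [← hJI, ← Localization.AtPrime.map_eq_maximalIdeal (I := q)]
    exact Ideal.map_mono hJq
  have hItop : I ≠ ⊤ := fun htop =>
    (IsLocalRing.maximalIdeal.isMaximal A).ne_top (top_le_iff.mp (htop ▸ hIle))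
  have h1 : Function.Injective (LinearMap.rTensor N' (Submodule.subtype I)) :=
    Groth.Agent.H2.rTensor_subtype_map_injective (R := C) (S := A) (M := N') p
  have smul_top_bot : ∀ (X : Type u) [AddCommGroup X] [Module S₁ X],
      (∀ a ∈ J₁, ∀ x : X, a • x = 0) → J₁ • (⊤ : Submodule S₁ X) = ⊥ := by
    intro X _ _ hX
    rw [eq_bot_iff, Submodule.smul_le]
    intro a ha x _
    rw [hX a ha x]
    exact zero_mem _
  haveI flatQuot : Module.Flat (A ⧸ I) ((A ⧸ I) ⊗[A] N') := by
    apply flat_baseChange_of_forall_injective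
    intro L G _ _ _ _ _ _ _ _ j hj
    letI : Module S₁ L := Module.compHom L (algebraMap S₁ A)
    letI : Module S₁ G := Module.compHom G (algebraMap S₁ A)
    haveI : IsScalarTower S₁ A L := .of_algebraMap_smul (fun _ _ => rfl)
    haveI : IsScalarTower S₁ A G := .of_algebraMap_smul (fun _ _ => rfl)
    let j₁ : L →ₗ[S₁] G := (j.restrictScalars A).restrictScalars S₁
    have kill : ∀ (X : Type u) [AddCommGroup X] [Module A X] [Module (A ⧸ I) X]
        [IsScalarTower A (A ⧸ I) X] [Module S₁ X] [IsScalarTower S₁ A X],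
        ∀ a ∈ J₁, ∀ x : X, a • x = 0 := by
      intro X _ _ _ _ _ _ a ha x
      rw [← algebraMap_smul A a x, ← algebraMap_smul (A ⧸ I) (algebraMap S₁ A a) x]
      have h0 : algebraMap A (A ⧸ I) (algebraMap S₁ A a) = 0 := by
        rw [Ideal.Quotient.algebraMap_eq, Ideal.Quotient.eq_zero_iff_mem, ← hJI]
        exact Ideal.mem_map_of_mem _ ha
      rw [h0]
      exact zero_smul (A ⧸ I) x
    have killL := kill L
    have killG := kill G
    have hmod : ModInj J₁ j₁ := by
      intro x hx
      rw [smul_top_bot G killG, Submodule.mem_bot] at hx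
      have hx0 : x = 0 := hj (by rw [map_zero]; exact hx)
      rw [hx0]
      exact zero_mem _
    have h2 := h L G j₁ hmod
    have killNL : ∀ a ∈ J₁, ∀ z : N' ⊗[S₁] L, a • z = 0 := by
      intro a ha z
      induction z using TensorProduct.induction_on with
      | zero => simp
      | tmul n x => rw [TensorProduct.smul_tmul', TensorProduct.smul_tmul, killL a ha x, tmul_zero]
      | add x y hx hy => rw [smul_add, hx, hy, add_zero]
    have inj2 : Function.Injective (j₁.lTensor N') := by
      rw [injective_iff_map_eq_zero]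
      intro z hz
      have h3 := h2 z (by rw [hz]; exact zero_mem _)
      rwa [smul_top_bot _ killNL, Submodule.mem_bot] at h3
    let e : ∀ (X : Type u) [AddCommGroup X] [Module A X] [Module S₁ X] [IsScalarTower S₁ A X],
        X ⊗[A] N' ≃ₗ[S₁] N' ⊗[S₁] X := fun X _ _ _ _ =>
      ((IsLocalization.moduleTensorEquiv q.primeCompl A X N').restrictScalars S₁) ≪≫ₗ
        TensorProduct.comm S₁ X N'
    have hnat : ∀ t : L ⊗[A] N', e G ((j.restrictScalars A).rTensor N' t) =
        j₁.lTensor N' (e L t) := by
      intro t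
      induction t using TensorProduct.induction_on with
      | zero => simp
      | tmul x n => rfl
      | add x y hx hy => simp only [map_add, hx, hy]
    intro a b hab
    apply (e L).injective
    apply inj2
    rw [← hnat, ← hnat, hab]
  have flatA : Module.Flat A N' :=
    Groth.Agent.H2.flat_of_local_criterion (R := A) (S := B) (M := N') I hItop h1
  exact (Module.flat_iff_of_isLocalization A q.primeCompl N').mp flatA

end Groth.Agent.H48.FibCrit
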