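import Mathlib
import Groth.Agent.H48.FlatLimitMod2

/-!
# Noetherian model of a map of finitely presented modules (helper48)
-/

open TensorProduct

namespace Groth.Agent.H48.PtFlat
universe u

section ModDescent

variable {S₀ S M : Type u} [CommRing S₀] [CommRing S] [Algebra S₀ S] [AddCommGroup M] [Module S M]
  [Module S₀ M] [IsScalarTower S₀ S M] {ι κ : Type} [Fintype ι] [Fintype κ] [DecidableEq ι]
  [DecidableEq κ]

/-- The model of a cokernel over a smaller ring. -/
abbrev ModelModG (A₀ : Matrix ι κ S₀) : Type u :=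
  (ι → S₀) ⧸ LinearMap.range (Matrix.toLin' A₀)

lemma compLeft_toLin'G (A₀ : Matrix ι κ S₀)
    (g : (κ → S) →ₗ[S] (ι → S))
    (hA : A₀.map (algebraMap S₀ S) = LinearMap.toMatrix' g) (v : κ → S₀) :
    ((Algebra.linearMap S₀ S).compLeft ι) (Matrix.toLin' A₀ v) =
      g (((Algebra.linearMap S₀ S).compLeft κ) v) := by
  conv_rhs => rw [← Matrix.toLin'_toMatrix' g, ← hA]
  ext i
  simp only [LinearMap.compLeft_apply, Matrix.toLin'_apply, Function.comp_apply,
    Algebra.linearMap_apply]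
  exact RingHom.map_mulVec (algebraMap S₀ S) A₀ v i

variable (f : (ι → S) →ₗ[S] M) (g : (κ → S) →ₗ[S] (ι → S))
  (hfg : Function.Exact g f) (A₀ : Matrix ι κ S₀)
  (hA : A₀.map (algebraMap S₀ S) = LinearMap.toMatrix' g)

/-- The comparison map from the model. -/
noncomputable def modelMapG : ModelModG A₀ →ₗ[S₀] M :=
  Submodule.liftQ _ ((f.restrictScalars S₀) ∘ₗ ((Algebra.linearMap S₀ S).compLeft ι)) (by
    rintro _ ⟨v, rfl⟩
    rw [LinearMap.mem_ker, LinearMap.comp_apply, compLeft_toLin'G A₀ g hA v]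
    exact hfg.apply_apply_eq_zero _)

lemma modelMapG_mk (v : ι → S₀) :
    modelMapG f g hfg A₀ hA (Submodule.Quotient.mk v) =
      f (((Algebra.linearMap S₀ S).compLeft ι) v) := rfl

include hfg hA in
lemma isBaseChange_modelMapG (hf : Function.Surjective f) :
    IsBaseChange S (modelMapG f g hfg A₀ hA) := by
  refine IsBaseChange.of_right_exact S ((Algebra.linearMap S₀ S).compLeft κ)
    ((Algebra.linearMap S₀ S).compLeft ι) (modelMapG f g hfg A₀ hA)
    (f := Matrix.toLin' A₀) (g := (LinearMap.range (Matrix.toLin' A₀)).mkQ) (f' := g) (g' := f)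
    ?_ ?_ ?_ ?_ ?_ ?_ hfg hf
  · apply LinearMap.ext
    intro v
    exact compLeft_toLin'G A₀ g hA v
  · apply LinearMap.ext
    intro v
    rfl
  · exact IsBaseChange.finitePow κ (IsBaseChange.linearMap S₀ S)
  · exact IsBaseChange.finitePow ι (IsBaseChange.linearMap S₀ S)
  · exact LinearMap.exact_map_mkQ_range _
  · exact Submodule.mkQ_surjective _

end ModDescent

end Groth.Agent.H48.PtFlat

namespace Groth.Agent.H48.PtFlat
universe u

attribute [local instance] Algebra.TensorProduct.rightAlgebra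

theorem model_map_aux (R S M N : Type u) [CommRing R] [CommRing S] [Algebra R S]
    [AddCommGroup M] [Module S M] [AddCommGroup N] [Module S N] (u : M →ₗ[S] N)
    {a b : ℕ} (P : Algebra.Presentation R S (Fin a) (Fin b))
    (C : Type u) [CommRing C] [Algebra C R] [Algebra C S] [IsScalarTower C R S] [P.HasCoeffs C]
    [Algebra.FiniteType ℤ C] {nM mM nN mN : ℕ}
    (fM : (Fin nM → S) →ₗ[S] M) (gM : (Fin mM → S) →ₗ[S] (Fin nM → S))
    (hfM : Function.Surjective fM) (hfgM : Function.Exact gM fM)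
    (fN : (Fin nN → S) →ₗ[S] N) (gN : (Fin mN → S) →ₗ[S] (Fin nN → S))
    (hfN : Function.Surjective fN) (hfgN : Function.Exact gN fN)
    (U : (Fin nM → S) →ₗ[S] (Fin nN → S)) (hU : fN ∘ₗ U = u ∘ₗ fM)
    (qM : Fin nM → Fin mM → MvPolynomial (Fin a) C)
    (hqM : ∀ i j, MvPolynomial.aeval P.val (qM i j) = LinearMap.toMatrix' gM i j)
    (qN : Fin nN → Fin mN → MvPolynomial (Fin a) C)
    (hqN : ∀ i j, MvPolynomial.aeval P.val (qN i j) = LinearMap.toMatrix' gN i j)
    (qU : Fin nN → Fin nM → MvPolynomial (Fin a) C)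
    (hqU : ∀ i j, MvPolynomial.aeval P.val (qU i j) = LinearMap.toMatrix' U i j) :
    ∃ (C : Type u) (_ : CommRing C) (_ : Algebra C R) (_ : Algebra.FiniteType ℤ C)
      (S₁ : Type u) (_ : CommRing S₁) (_ : Algebra C S₁) (_ : Algebra S₁ S) (_ : Algebra C S)
      (_ : IsScalarTower C R S) (_ : IsScalarTower C S₁ S) (_ : Algebra.FiniteType C S₁)
      (_ : Algebra.IsPushout C R S₁ S)
      (M₁ : Type u) (_ : AddCommGroup M₁) (_ : Module S₁ M₁) (_ : Module C M₁)
      (_ : IsScalarTower C S₁ M₁) (_ : Module.Finite S₁ M₁) (_ : Module S₁ M)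
      (_ : IsScalarTower S₁ S M)
      (N₁ : Type u) (_ : AddCommGroup N₁) (_ : Module S₁ N₁) (_ : Module C N₁)
      (_ : IsScalarTower C S₁ N₁) (_ : Module.Finite S₁ N₁) (_ : Module S₁ N)
      (_ : IsScalarTower S₁ S N)
      (f : M₁ →ₗ[S₁] M) (g : N₁ →ₗ[S₁] N) (u₁ : M₁ →ₗ[S₁] N₁),
      IsBaseChange S f ∧ IsBaseChange S g ∧ ∀ x, u (f x) = g (u₁ x) := by
  classical
  let S₁ := P.ModelOfHasCoeffs C
  let B₀ : Matrix (Fin nM) (Fin mM) S₁ := fun i j => Ideal.Quotient.mk _ (qM i j)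
  let A₀ : Matrix (Fin nN) (Fin mN) S₁ := fun i j => Ideal.Quotient.mk _ (qN i j)
  let U₀ : Matrix (Fin nN) (Fin nM) S₁ := fun i j => Ideal.Quotient.mk _ (qU i j)
  let A₀' : Matrix (Fin nN) (Fin mN ⊕ Fin mM) S₁ := Matrix.fromCols A₀ (U₀ * B₀)
  let ψ : S₁ →ₐ[C] S :=
    ((P.tensorModelOfHasCoeffsEquiv C).toAlgHom.restrictScalars C).comp
      Algebra.TensorProduct.includeRight
  letI algS₁S : Algebra S₁ S := ψ.toRingHom.toAlgebra
  have hψ : ∀ x, algebraMap S₁ S x = ψ x := fun _ => rfl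
  have hψmk : ∀ p : MvPolynomial (Fin a) C, algebraMap S₁ S (Ideal.Quotient.mk _ p) =
      MvPolynomial.aeval P.val p := by
    intro p
    rw [hψ]
    simp only [ψ, AlgHom.comp_apply, Algebra.TensorProduct.includeRight_apply]
    change (P.tensorModelOfHasCoeffsEquiv C) (1 ⊗ₜ (Ideal.Quotient.mk _ p)) = _
    rw [Algebra.Presentation.tensorModelOfHasCoeffsEquiv_tmul, map_one, one_mul]
  have e1 : ∀ x : C, algebraMap C S x = algebraMap S₁ S (algebraMap C S₁ x) := by
    intro x
    rw [hψ, AlgHom.commutes]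
  haveI t1 : IsScalarTower C S₁ S := IsScalarTower.of_algebraMap_eq e1
  haveI po : Algebra.IsPushout C R S₁ S :=
    Algebra.IsPushout.of_equiv (h := (TensorProduct.isPushout :
      Algebra.IsPushout C R S₁ (R ⊗[C] S₁)))
      (P.tensorModelOfHasCoeffsEquiv C) (RingHom.ext fun x => rfl)
  have hB : B₀.map (algebraMap S₁ S) = LinearMap.toMatrix' gM := by
    ext i j
    rw [Matrix.map_apply, hψmk, hqM]
  have hA : A₀.map (algebraMap S₁ S) = LinearMap.toMatrix' gN := by
    ext i j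
    rw [Matrix.map_apply, hψmk, hqN]
  have hU₀ : U₀.map (algebraMap S₁ S) = LinearMap.toMatrix' U := by
    ext i j
    rw [Matrix.map_apply, hψmk, hqU]
  let AN : Matrix (Fin nN) (Fin mN ⊕ Fin mM) S :=
    Matrix.fromCols (LinearMap.toMatrix' gN) (LinearMap.toMatrix' U * LinearMap.toMatrix' gM)
  let gN' : ((Fin mN ⊕ Fin mM) → S) →ₗ[S] (Fin nN → S) := Matrix.toLin' AN
  have hgN' : ∀ v, gN' v = gN (v ∘ Sum.inl) + U (gM (v ∘ Sum.inr)) := by
    intro v
    change AN.mulVec v = _
    rw [Matrix.fromCols_mulVec, ← Matrix.toLin'_apply, ← Matrix.toLin'_apply,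
      Matrix.toLin'_toMatrix', Matrix.toLin'_mul, Matrix.toLin'_toMatrix',
      Matrix.toLin'_toMatrix']
    rfl
  have hfgN' : Function.Exact gN' fN := by
    intro y
    constructor
    · intro hy
      obtain ⟨w, rfl⟩ := (hfgN y).mp hy
      refine ⟨Sum.elim w 0, ?_⟩
      rw [hgN']
      have h1 : (Sum.elim w (0 : Fin mM → S)) ∘ Sum.inl = w := by ext; rfl
      have h2 : (Sum.elim w (0 : Fin mM → S)) ∘ Sum.inr = 0 := by ext; rfl
      rw [h1, h2, map_zero, map_zero, add_zero]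
    · rintro ⟨v, rfl⟩
      rw [hgN', map_add, hfgN.apply_apply_eq_zero, zero_add]
      have : fN (U (gM (v ∘ Sum.inr))) = (fN ∘ₗ U) (gM (v ∘ Sum.inr)) := rfl
      rw [this, hU, LinearMap.comp_apply, hfgM.apply_apply_eq_zero, map_zero]
  have hA' : A₀'.map (algebraMap S₁ S) = LinearMap.toMatrix' gN' := by
    rw [LinearMap.toMatrix'_toLin']
    ext i (j | j)
    · simp only [A₀', AN, Matrix.map_apply, Matrix.fromCols_apply_inl]
      rw [← hA, Matrix.map_apply]
    · simp only [A₀', AN, Matrix.map_apply, Matrix.fromCols_apply_inr]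
      rw [← hU₀, ← hB, ← Matrix.map_mul, Matrix.map_apply]
  letI modS₁M : Module S₁ M := Module.compHom M (algebraMap S₁ S)
  haveI t2 : IsScalarTower S₁ S M := ⟨fun a b m => by
    rw [Algebra.smul_def, mul_smul]; rfl⟩
  letI modS₁N : Module S₁ N := Module.compHom N (algebraMap S₁ S)
  haveI t3 : IsScalarTower S₁ S N := ⟨fun a b m => by
    rw [Algebra.smul_def, mul_smul]; rfl⟩
  have hrange : LinearMap.range (Matrix.toLin' B₀) ≤
      (LinearMap.range (Matrix.toLin' A₀')).comap (Matrix.toLin' U₀) := by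
    rintro _ ⟨v, rfl⟩
    rw [Submodule.mem_comap]
    refine ⟨Sum.elim 0 v, ?_⟩
    rw [Matrix.toLin'_apply, Matrix.fromCols_mulVec]
    have h1 : (Sum.elim (0 : Fin mN → S₁) v) ∘ Sum.inl = 0 := by ext; rfl
    have h2 : (Sum.elim (0 : Fin mN → S₁) v) ∘ Sum.inr = v := by ext; rfl
    rw [h1, h2, Matrix.mulVec_zero, zero_add, ← Matrix.mulVec_mulVec]
    rfl
  let u₁ : ModelModG B₀ →ₗ[S₁] ModelModG A₀' := Submodule.mapQ _ _ (Matrix.toLin' U₀) hrange
  refine ⟨C, inferInstance, inferInstance, inferInstance, S₁, inferInstance,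
    inferInstance, algS₁S, inferInstance, inferInstance, t1, inferInstance, po,
    ModelModG B₀, inferInstance, inferInstance, inferInstance, inferInstance, inferInstance,
    modS₁M, t2,
    ModelModG A₀', inferInstance, inferInstance, inferInstance, inferInstance, inferInstance,
    modS₁N, t3,
    modelMapG fM gM hfgM B₀ hB, modelMapG fN gN' hfgN' A₀' hA', u₁,
    isBaseChange_modelMapG fM gM hfgM B₀ hB hfM, isBaseChange_modelMapG fN gN' hfgN' A₀' hA' hfN,
    ?_⟩
  intro x
  obtain ⟨v, rfl⟩ := Submodule.Quotient.mk_surjective _ x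
  change u (fM (((Algebra.linearMap S₁ S).compLeft (Fin nM)) v)) =
    fN (((Algebra.linearMap S₁ S).compLeft (Fin nN)) (Matrix.toLin' U₀ v))
  rw [compLeft_toLin'G U₀ U hU₀ v]
  have : u (fM (((Algebra.linearMap S₁ S).compLeft (Fin nM)) v)) =
      (u ∘ₗ fM) (((Algebra.linearMap S₁ S).compLeft (Fin nM)) v) := rfl
  rw [this, ← hU]
  rfl

/-- **Noetherian model of a map of finitely presented modules.** -/
theorem exists_model_map (R S M N : Type u) [CommRing R] [CommRing S] [Algebra R S]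
    [Algebra.FinitePresentation R S] [AddCommGroup M] [Module S M]
    [Module.FinitePresentation S M] [AddCommGroup N] [Module S N]
    [Module.FinitePresentation S N] (u : M →ₗ[S] N) :
    ∃ (C : Type u) (_ : CommRing C) (_ : Algebra C R) (_ : Algebra.FiniteType ℤ C)
      (S₁ : Type u) (_ : CommRing S₁) (_ : Algebra C S₁) (_ : Algebra S₁ S) (_ : Algebra C S)
      (_ : IsScalarTower C R S) (_ : IsScalarTower C S₁ S) (_ : Algebra.FiniteType C S₁)
      (_ : Algebra.IsPushout C R S₁ S)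
      (M₁ : Type u) (_ : AddCommGroup M₁) (_ : Module S₁ M₁) (_ : Module C M₁)
      (_ : IsScalarTower C S₁ M₁) (_ : Module.Finite S₁ M₁) (_ : Module S₁ M)
      (_ : IsScalarTower S₁ S M)
      (N₁ : Type u) (_ : AddCommGroup N₁) (_ : Module S₁ N₁) (_ : Module C N₁)
      (_ : IsScalarTower C S₁ N₁) (_ : Module.Finite S₁ N₁) (_ : Module S₁ N)
      (_ : IsScalarTower S₁ S N)
      (f : M₁ →ₗ[S₁] M) (g : N₁ →ₗ[S₁] N) (u₁ : M₁ →ₗ[S₁] N₁),
      IsBaseChange S f ∧ IsBaseChange S g ∧ ∀ x, u (f x) = g (u₁ x) := by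
  classical
  let P := Algebra.Presentation.ofFinitePresentation R S
  obtain ⟨nM, mM, fM, gM, hfM, hfgM⟩ := Module.FinitePresentation.exists_fin' S M
  obtain ⟨nN, mN, fN, gN, hfN, hfgN⟩ := Module.FinitePresentation.exists_fin' S N
  obtain ⟨U, hU⟩ := Module.projective_lifting_property fN (u ∘ₗ fM) hfN
  have hsurj : Function.Surjective (algebraMap P.Ring S) := P.algebraMap_surjective
  choose pM hpM using fun i j => hsurj (LinearMap.toMatrix' gM i j)
  choose pN hpN using fun i j => hsurj (LinearMap.toMatrix' gN i j)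
  choose pU hpU using fun i j => hsurj (LinearMap.toMatrix' U i j)
  let s : Set R := (⋃ i, ⋃ j, ((pM i j).coeffs : Set R)) ∪ (⋃ i, ⋃ j, ((pN i j).coeffs : Set R)) ∪
    (⋃ i, ⋃ j, ((pU i j).coeffs : Set R))
  have hs : s.Finite :=
    ((Set.finite_iUnion fun i => Set.finite_iUnion fun j => Finset.finite_toSet _).union
      (Set.finite_iUnion fun i => Set.finite_iUnion fun j => Finset.finite_toSet _)).union
      (Set.finite_iUnion fun i => Set.finite_iUnion fun j => Finset.finite_toSet _)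
  haveI : Algebra.FiniteType P.Core (Algebra.adjoin P.Core s) :=
    Algebra.FiniteType.adjoin_of_finite hs
  haveI ftC : Algebra.FiniteType ℤ (Algebra.adjoin P.Core s) :=
    Algebra.FiniteType.trans (S := P.Core) inferInstance inferInstance
  have hmem : ∀ p : P.Ring, (p.coeffs : Set R) ⊆ s → p ∈ Set.range
      (MvPolynomial.map (algebraMap (Algebra.adjoin P.Core s) R)) := by
    intro p hp
    rw [MvPolynomial.mem_range_map_iff_coeffs_subset]
    intro x hx
    exact ⟨⟨x, Algebra.subset_adjoin (hp hx)⟩, rfl⟩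
  have hqM : ∀ i j, pM i j ∈ Set.range
      (MvPolynomial.map (algebraMap (Algebra.adjoin P.Core s) R)) := fun i j =>
    hmem _ (fun x hx => Or.inl (Or.inl (Set.mem_iUnion.mpr ⟨i, Set.mem_iUnion.mpr ⟨j, hx⟩⟩)))
  have hqN : ∀ i j, pN i j ∈ Set.range
      (MvPolynomial.map (algebraMap (Algebra.adjoin P.Core s) R)) := fun i j =>
    hmem _ (fun x hx => Or.inl (Or.inr (Set.mem_iUnion.mpr ⟨i, Set.mem_iUnion.mpr ⟨j, hx⟩⟩)))
  have hqU : ∀ i j, pU i j ∈ Set.range
      (MvPolynomial.map (algebraMap (Algebra.adjoin P.Core s) R)) := fun i j =>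
    hmem _ (fun x hx => Or.inr (Set.mem_iUnion.mpr ⟨i, Set.mem_iUnion.mpr ⟨j, hx⟩⟩))
  choose qM hqM using hqM
  choose qN hqN using hqN
  choose qU hqU using hqU
  refine model_map_aux R S M N u P (Algebra.adjoin P.Core s) fM gM hfM hfgM fN gN hfN hfgN U hU
    qM ?_ qN ?_ qU ?_
  · intro i j
    rw [← hpM i j, ← hqM i j, Algebra.Generators.algebraMap_apply,
      MvPolynomial.aeval_map_algebraMap]
  · intro i j
    rw [← hpN i j, ← hqN i j, Algebra.Generators.algebraMap_apply,
      MvPolynomial.aeval_map_algebraMap]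
  · intro i j
    rw [← hpU i j, ← hqU i j, Algebra.Generators.algebraMap_apply,
      MvPolynomial.aeval_map_algebraMap]

end Groth.Agent.H48.PtFlat
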