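import Mathlib
import Groth.Agent.H48.PtFlat4

open TensorProduct

namespace Groth.Agent.H48.PtFlat
universe u

attribute [local instance] Algebra.TensorProduct.rightAlgebra

/-- base change of a model along a finitely generated subalgebra. -/
theorem model_map_baseChange (C R S S₁ M N M₁ N₁ : Type u) [CommRing C] [CommRing R] [Algebra C R]
    [CommRing S] [Algebra R S] [CommRing S₁] [Algebra C S₁] [Algebra S₁ S] [Algebra C S]
    [IsScalarTower C R S] [IsScalarTower C S₁ S] [Algebra.IsPushout C R S₁ S]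
    [AddCommGroup M] [Module S M] [AddCommGroup N] [Module S N]
    [AddCommGroup M₁] [Module S₁ M₁] [Module C M₁] [IsScalarTower C S₁ M₁] [Module S₁ M]
    [IsScalarTower S₁ S M]
    [AddCommGroup N₁] [Module S₁ N₁] [Module C N₁] [IsScalarTower C S₁ N₁] [Module S₁ N]
    [IsScalarTower S₁ S N]
    [Algebra.FiniteType ℤ C] [Algebra.FiniteType C S₁] [Module.Finite S₁ M₁] [Module.Finite S₁ N₁]
    (u : M →ₗ[S] N) (f : M₁ →ₗ[S₁] M) (g : N₁ →ₗ[S₁] N) (u₁ : M₁ →ₗ[S₁] N₁)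
    (hf : IsBaseChange S f) (hg : IsBaseChange S g) (huu : ∀ x, u (f x) = g (u₁ x))
    (R₁ : Subalgebra C R) (hR₁ : R₁.FG) [Module.Flat R₁ (R₁ ⊗[C] N₁)] :
    ∃ (C : Type u) (_ : CommRing C) (_ : Algebra C R) (_ : Algebra.FiniteType ℤ C)
      (S₁ : Type u) (_ : CommRing S₁) (_ : Algebra C S₁) (_ : Algebra S₁ S) (_ : Algebra C S)
      (_ : IsScalarTower C R S) (_ : IsScalarTower C S₁ S) (_ : Algebra.FiniteType C S₁)
      (_ : Algebra.IsPushout C R S₁ S)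
      (M₁ : Type u) (_ : AddCommGroup M₁) (_ : Module S₁ M₁) (_ : Module C M₁)
      (_ : IsScalarTower C S₁ M₁) (_ : Module.Finite S₁ M₁) (_ : Module S₁ M)
      (_ : IsScalarTower S₁ S M)
      (N₁ : Type u) (_ : AddCommGroup N₁) (_ : Module S₁ N₁) (_ : Module C N₁)
      (_ : IsScalarTower C S₁ N₁) (_ : Module.Finite S₁ N₁) (_ : Module S₁ N)
      (_ : IsScalarTower S₁ S N)
      (f : M₁ →ₗ[S₁] M) (g : N₁ →ₗ[S₁] N) (u₁ : M₁ →ₗ[S₁] N₁),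
      IsBaseChange S f ∧ IsBaseChange S g ∧ (∀ x, u (f x) = g (u₁ x)) ∧ Module.Flat C N₁ := by
  let φ : (R₁ ⊗[C] S₁) →ₐ[C] S :=
    Algebra.TensorProduct.lift ((IsScalarTower.toAlgHom C R S).comp R₁.val)
      (IsScalarTower.toAlgHom C S₁ S) (fun _ _ => Commute.all _ _)
  letI algS₁S : Algebra (R₁ ⊗[C] S₁) S := φ.toRingHom.toAlgebra
  have hφ : ∀ x, algebraMap (R₁ ⊗[C] S₁) S x = φ x := fun _ => rfl
  have e1 : ∀ x : R₁, algebraMap R₁ S x = algebraMap (R₁ ⊗[C] S₁) S (algebraMap R₁ (R₁ ⊗[C] S₁) x) := by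
    intro x
    rw [hφ, Algebra.TensorProduct.algebraMap_apply]
    simp [φ]
    rfl
  haveI t1 : IsScalarTower R₁ (R₁ ⊗[C] S₁) S := IsScalarTower.of_algebraMap_eq e1
  have e2 : ∀ x : S₁, algebraMap S₁ S x = algebraMap (R₁ ⊗[C] S₁) S (algebraMap S₁ (R₁ ⊗[C] S₁) x) := by
    intro x
    rw [hφ]
    simp [φ, Algebra.TensorProduct.right_algebraMap_apply]
  haveI t2 : IsScalarTower S₁ (R₁ ⊗[C] S₁) S := IsScalarTower.of_algebraMap_eq e2
  have e3 : ∀ x : C, algebraMap C S x = algebraMap (R₁ ⊗[C] S₁) S (algebraMap C (R₁ ⊗[C] S₁) x) := by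
    intro x
    rw [hφ, AlgHom.commutes]
  haveI t3 : IsScalarTower C (R₁ ⊗[C] S₁) S := IsScalarTower.of_algebraMap_eq e3
  haveI po1 : Algebra.IsPushout R₁ R (R₁ ⊗[C] S₁) S :=
    (Algebra.IsPushout.comp_iff C R₁ S₁ (S' := R₁ ⊗[C] S₁) (T := R) (T' := S)).mp inferInstance
  letI modS₁M : Module (R₁ ⊗[C] S₁) M := Module.compHom M (algebraMap (R₁ ⊗[C] S₁) S)
  haveI t4 : IsScalarTower (R₁ ⊗[C] S₁) S M := ⟨fun a b m => by
    rw [Algebra.smul_def, mul_smul]; rfl⟩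
  haveI t5 : IsScalarTower S₁ (R₁ ⊗[C] S₁) M := ⟨fun a b m => by
    change algebraMap _ S (a • b) • m = a • (algebraMap _ S b • m)
    rw [Algebra.smul_def, map_mul, mul_smul, ← IsScalarTower.algebraMap_apply,
      algebraMap_smul]⟩
  letI modS₁N : Module (R₁ ⊗[C] S₁) N := Module.compHom N (algebraMap (R₁ ⊗[C] S₁) S)
  haveI t4N : IsScalarTower (R₁ ⊗[C] S₁) S N := ⟨fun a b m => by
    rw [Algebra.smul_def, mul_smul]; rfl⟩
  haveI t5N : IsScalarTower S₁ (R₁ ⊗[C] S₁) N := ⟨fun a b m => by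
    change algebraMap _ S (a • b) • m = a • (algebraMap _ S b • m)
    rw [Algebra.smul_def, map_mul, mul_smul, ← IsScalarTower.algebraMap_apply,
      algebraMap_smul]⟩
  let f₁ : (R₁ ⊗[C] S₁) ⊗[S₁] M₁ →ₗ[R₁ ⊗[C] S₁] M :=
    (TensorProduct.isBaseChange S₁ M₁ (R₁ ⊗[C] S₁)).lift f
  have hf₁ : (f₁.restrictScalars S₁) ∘ₗ (TensorProduct.mk S₁ (R₁ ⊗[C] S₁) M₁ 1) = f :=
    (TensorProduct.isBaseChange S₁ M₁ (R₁ ⊗[C] S₁)).lift_comp f
  have bcf : IsBaseChange S f₁ := by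
    refine IsBaseChange.of_comp (TensorProduct.isBaseChange S₁ M₁ (R₁ ⊗[C] S₁)) ?_
    rw [hf₁]
    exact hf
  let g₁ : (R₁ ⊗[C] S₁) ⊗[S₁] N₁ →ₗ[R₁ ⊗[C] S₁] N :=
    (TensorProduct.isBaseChange S₁ N₁ (R₁ ⊗[C] S₁)).lift g
  have hg₁ : (g₁.restrictScalars S₁) ∘ₗ (TensorProduct.mk S₁ (R₁ ⊗[C] S₁) N₁ 1) = g :=
    (TensorProduct.isBaseChange S₁ N₁ (R₁ ⊗[C] S₁)).lift_comp g
  have bcg : IsBaseChange S g₁ := by
    refine IsBaseChange.of_comp (TensorProduct.isBaseChange S₁ N₁ (R₁ ⊗[C] S₁)) ?_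
    rw [hg₁]
    exact hg
  have hf₁t : ∀ (a : R₁ ⊗[C] S₁) (x : M₁), f₁ (a ⊗ₜ x) = a • f x := by
    intro a x
    have h1 : a ⊗ₜ[S₁] x = a • ((1 : R₁ ⊗[C] S₁) ⊗ₜ[S₁] x) := by
      rw [TensorProduct.smul_tmul', smul_eq_mul, mul_one]
    rw [h1, map_smul]
    congr 1
    exact LinearMap.congr_fun hf₁ x
  have hg₁t : ∀ (a : R₁ ⊗[C] S₁) (x : N₁), g₁ (a ⊗ₜ x) = a • g x := by
    intro a x
    have h1 : a ⊗ₜ[S₁] x = a • ((1 : R₁ ⊗[C] S₁) ⊗ₜ[S₁] x) := by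
      rw [TensorProduct.smul_tmul', smul_eq_mul, mul_one]
    rw [h1, map_smul]
    congr 1
    exact LinearMap.congr_fun hg₁ x
  let u₁' : (R₁ ⊗[C] S₁) ⊗[S₁] M₁ →ₗ[R₁ ⊗[C] S₁] (R₁ ⊗[C] S₁) ⊗[S₁] N₁ :=
    u₁.baseChange (R₁ ⊗[C] S₁)
  have huu' : ∀ z, u (f₁ z) = g₁ (u₁' z) := by
    intro z
    induction z using TensorProduct.induction_on with
    | zero => simp
    | tmul a x =>
      rw [hf₁t, LinearMap.baseChange_tmul, hg₁t, ← huu]
      change u (algebraMap (R₁ ⊗[C] S₁) S a • f x) = algebraMap (R₁ ⊗[C] S₁) S a • u (f x)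
      rw [map_smul]
    | add a b ha hb => simp only [map_add, ha, hb]
  haveI : Algebra.FiniteType C R₁ := R₁.fg_iff_finiteType.mp hR₁
  have ft : Algebra.FiniteType ℤ R₁ := Algebra.FiniteType.trans (S := C) inferInstance inferInstance
  have fl : Module.Flat R₁ ((R₁ ⊗[C] S₁) ⊗[S₁] N₁) :=
    Module.Flat.of_linearEquiv (Algebra.IsPushout.cancelBaseChange C R₁ S₁ (R₁ ⊗[C] S₁) N₁)
  exact ⟨R₁, inferInstance, inferInstance, ft, R₁ ⊗[C] S₁, inferInstance, inferInstance, algS₁S,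
    inferInstance, inferInstance, t1, inferInstance, po1,
    (R₁ ⊗[C] S₁) ⊗[S₁] M₁, inferInstance, inferInstance, inferInstance, inferInstance,
    inferInstance, modS₁M, t4,
    (R₁ ⊗[C] S₁) ⊗[S₁] N₁, inferInstance, inferInstance, inferInstance, inferInstance,
    inferInstance, modS₁N, t4N, f₁, g₁, u₁', bcf, bcg, huu', fl⟩

end Groth.Agent.H48.PtFlat
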