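import Mathlib
import Groth.Agent.H48.PtFlat5
import Groth.Agent.H48.FlatLimitCol

open TensorProduct

namespace Groth.Agent.H48.FibCrit
universe u

attribute [local instance] Algebra.TensorProduct.rightAlgebra

open Groth.Agent.H48.PtFlat in
/-- model of a finitely presented module over a **given** coefficient ring. -/
theorem model_mod_fixed (R S M : Type u) [CommRing R] [CommRing S] [Algebra R S]
    [AddCommGroup M] [Module S M]
    {a b : ℕ} (P : Algebra.Presentation R S (Fin a) (Fin b))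
    (C : Type u) [CommRing C] [Algebra C R] [Algebra C S] [IsScalarTower C R S] [P.HasCoeffs C]
    {nM mM : ℕ}
    (fM : (Fin nM → S) →ₗ[S] M) (gM : (Fin mM → S) →ₗ[S] (Fin nM → S))
    (hfM : Function.Surjective fM) (hfgM : Function.Exact gM fM)
    (qM : Fin nM → Fin mM → MvPolynomial (Fin a) C)
    (hqM : ∀ i j, MvPolynomial.aeval P.val (qM i j) = LinearMap.toMatrix' gM i j) :
    ∃ (S₁ : Type u) (_ : CommRing S₁) (_ : Algebra C S₁) (_ : Algebra S₁ S)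
      (_ : IsScalarTower C S₁ S) (_ : Algebra.FiniteType C S₁)
      (_ : Algebra.IsPushout C R S₁ S)
      (M₁ : Type u) (_ : AddCommGroup M₁) (_ : Module S₁ M₁) (_ : Module.Finite S₁ M₁)
      (_ : Module S₁ M) (_ : IsScalarTower S₁ S M)
      (f : M₁ →ₗ[S₁] M), IsBaseChange S f := by
  classical
  let S₁ := P.ModelOfHasCoeffs C
  let B₀ : Matrix (Fin nM) (Fin mM) S₁ := fun i j => Ideal.Quotient.mk _ (qM i j)
  let ψ : S₁ →ₐ[C] S :=
    ((P.tensorModelOfHasCoeffsEquiv C).toAlgHom.restrictScalars C).comp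
      Algebra.TensorProduct.includeRight
  letI algS₁S : Algebra S₁ S := ψ.toRingHom.toAlgebra
  have hψ : ∀ x, algebraMap S₁ S x = ψ x := fun _ => rfl
  have hψmk : ∀ p : MvPolynomial (Fin a) C, algebraMap S₁ S (Ideal.Quotient.mk _ p) =
      MvPolynomial.aeval P.val p := by
    intro p
    rw [hψ]
    simp only [ψ, AlgHom.comp_apply, Algebra.TensorProduct.includeRight_apply]
    change (P.tensorModelOfHasCoeffsEquiv C) (1 ⊗ₜ (Ideal.Quotient.mk _ p)) = _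
    rw [Algebra.Presentation.tensorModelOfHasCoeffsEquiv_tmul, map_one, one_mul]
  have e1 : ∀ x : C, algebraMap C S x = algebraMap S₁ S (algebraMap C S₁ x) := by
    intro x
    rw [hψ, AlgHom.commutes]
  haveI t1 : IsScalarTower C S₁ S := IsScalarTower.of_algebraMap_eq e1
  haveI po : Algebra.IsPushout C R S₁ S :=
    Algebra.IsPushout.of_equiv (h := (TensorProduct.isPushout :
      Algebra.IsPushout C R S₁ (R ⊗[C] S₁)))
      (P.tensorModelOfHasCoeffsEquiv C) (RingHom.ext fun x => rfl)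
  have hB : B₀.map (algebraMap S₁ S) = LinearMap.toMatrix' gM := by
    ext i j
    rw [Matrix.map_apply, hψmk, hqM]
  letI modS₁M : Module S₁ M := Module.compHom M (algebraMap S₁ S)
  haveI t2 : IsScalarTower S₁ S M := ⟨fun a b m => by
    rw [Algebra.smul_def, mul_smul]; rfl⟩
  exact ⟨S₁, inferInstance, inferInstance, algS₁S, t1, inferInstance, po,
    ModelModG B₀, inferInstance, inferInstance, inferInstance, modS₁M, t2,
    modelMapG fM gM hfgM B₀ hB, isBaseChange_modelMapG fM gM hfgM B₀ hB hfM⟩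

/-- model of a finitely presented algebra over a **given** coefficient ring. -/
theorem model_alg_fixed (R S : Type u) [CommRing R] [CommRing S] [Algebra R S]
    {a b : ℕ} (P : Algebra.Presentation R S (Fin a) (Fin b))
    (C : Type u) [CommRing C] [Algebra C R] [Algebra C S] [IsScalarTower C R S] [P.HasCoeffs C] :
    ∃ (S₁ : Type u) (_ : CommRing S₁) (_ : Algebra C S₁) (_ : Algebra S₁ S)
      (_ : IsScalarTower C S₁ S) (_ : Algebra.FiniteType C S₁)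
      (_ : Algebra.IsPushout C R S₁ S),
      ∀ p : MvPolynomial (Fin a) R, p ∈ Set.range (MvPolynomial.map (algebraMap C R)) →
        MvPolynomial.aeval P.val p ∈ Set.range (algebraMap S₁ S) := by
  classical
  let S₁ := P.ModelOfHasCoeffs C
  let ψ : S₁ →ₐ[C] S :=
    ((P.tensorModelOfHasCoeffsEquiv C).toAlgHom.restrictScalars C).comp
      Algebra.TensorProduct.includeRight
  letI algS₁S : Algebra S₁ S := ψ.toRingHom.toAlgebra
  have hψ : ∀ x, algebraMap S₁ S x = ψ x := fun _ => rfl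
  have hψmk : ∀ p : MvPolynomial (Fin a) C, algebraMap S₁ S (Ideal.Quotient.mk _ p) =
      MvPolynomial.aeval P.val p := by
    intro p
    rw [hψ]
    simp only [ψ, AlgHom.comp_apply]
    change (P.tensorModelOfHasCoeffsEquiv C) (1 ⊗ₜ (Ideal.Quotient.mk _ p)) = _
    rw [Algebra.Presentation.tensorModelOfHasCoeffsEquiv_tmul, map_one, one_mul]
  have e1 : ∀ x : C, algebraMap C S x = algebraMap S₁ S (algebraMap C S₁ x) := by
    intro x
    rw [hψ, AlgHom.commutes]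
  haveI t1 : IsScalarTower C S₁ S := IsScalarTower.of_algebraMap_eq e1
  haveI po : Algebra.IsPushout C R S₁ S :=
    Algebra.IsPushout.of_equiv (h := (TensorProduct.isPushout :
      Algebra.IsPushout C R S₁ (R ⊗[C] S₁)))
      (P.tensorModelOfHasCoeffsEquiv C) (RingHom.ext fun x => rfl)
  refine ⟨S₁, inferInstance, inferInstance, algS₁S, t1, inferInstance, po, ?_⟩
  rintro _ ⟨p, rfl⟩
  exact ⟨Ideal.Quotient.mk _ p, by rw [hψmk, MvPolynomial.aeval_map_algebraMap]⟩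

/-- **Noetherian model of a tower** `R → S₀ → T₀` with a finitely presented `T₀`-module. -/
theorem exists_model_tower (R S₀ T₀ M₀ : Type u) [CommRing R] [CommRing S₀] [CommRing T₀]
    [Algebra R S₀] [Algebra S₀ T₀] [Algebra.FinitePresentation R S₀]
    [Algebra.FinitePresentation S₀ T₀] [AddCommGroup M₀] [Module T₀ M₀]
    [Module.FinitePresentation T₀ M₀] :
    ∃ (C : Type u) (_ : CommRing C) (_ : Algebra C R) (_ : Algebra.FiniteType ℤ C)
      (S₁ : Type u) (_ : CommRing S₁) (_ : Algebra C S₁) (_ : Algebra S₁ S₀) (_ : Algebra C S₀)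
      (_ : IsScalarTower C R S₀) (_ : IsScalarTower C S₁ S₀) (_ : Algebra.FiniteType C S₁)
      (_ : Algebra.IsPushout C R S₁ S₀)
      (T₁ : Type u) (_ : CommRing T₁) (_ : Algebra S₁ T₁) (_ : Algebra T₁ T₀) (_ : Algebra S₁ T₀)
      (_ : IsScalarTower S₁ S₀ T₀) (_ : IsScalarTower S₁ T₁ T₀) (_ : Algebra.FiniteType S₁ T₁)
      (_ : Algebra.IsPushout S₁ S₀ T₁ T₀)
      (M₁ : Type u) (_ : AddCommGroup M₁) (_ : Module T₁ M₁) (_ : Module.Finite T₁ M₁)
      (_ : Module T₁ M₀) (_ : IsScalarTower T₁ T₀ M₀)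
      (f : M₁ →ₗ[T₁] M₀), IsBaseChange T₀ f := by
  classical
  let P := Algebra.Presentation.ofFinitePresentation R S₀
  let Q := Algebra.Presentation.ofFinitePresentation S₀ T₀
  obtain ⟨nM, mM, fM, gM, hfM, hfgM⟩ := Module.FinitePresentation.exists_fin' T₀ M₀
  have hsurjQ : Function.Surjective (algebraMap Q.Ring T₀) := Q.algebraMap_surjective
  choose pM hpM using fun i j => hsurjQ (LinearMap.toMatrix' gM i j)
  let sQ : Set S₀ := Q.coeffs ∪ ⋃ i, ⋃ j, ((pM i j).coeffs : Set S₀)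
  have hsQ : sQ.Finite := Q.finite_coeffs.union
    (Set.finite_iUnion fun i => Set.finite_iUnion fun j => Finset.finite_toSet _)
  have hsurjP : Function.Surjective (algebraMap P.Ring S₀) := P.algebraMap_surjective
  choose r hr using fun σ : S₀ => hsurjP σ
  let s : Set R := ⋃ σ ∈ sQ, ((r σ).coeffs : Set R)
  have hs : s.Finite := hsQ.biUnion (fun σ _ => Finset.finite_toSet _)
  haveI : Algebra.FiniteType P.Core (Algebra.adjoin P.Core s) :=
    Algebra.FiniteType.adjoin_of_finite hs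
  haveI ftC : Algebra.FiniteType ℤ (Algebra.adjoin P.Core s) :=
    Algebra.FiniteType.trans (S := P.Core) inferInstance inferInstance
  -- level 1
  obtain ⟨S₁, _, _, algS₁S, t1, _, po, hmk⟩ := model_alg_fixed R S₀ P (Algebra.adjoin P.Core s)
  have hrange : ∀ σ ∈ sQ, σ ∈ Set.range (algebraMap S₁ S₀) := by
    intro σ hσ
    have h1 : r σ ∈ Set.range (MvPolynomial.map (algebraMap (Algebra.adjoin P.Core s) R)) := by
      rw [MvPolynomial.mem_range_map_iff_coeffs_subset]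
      intro x hx
      exact ⟨⟨x, Algebra.subset_adjoin (Set.mem_biUnion hσ hx)⟩, rfl⟩
    have h2 := hmk (r σ) h1
    rwa [← Algebra.Generators.algebraMap_apply, hr σ] at h2
  -- level 2
  letI algS₁T₀ : Algebra S₁ T₀ := ((algebraMap S₀ T₀).comp (algebraMap S₁ S₀)).toAlgebra
  haveI t3 : IsScalarTower S₁ S₀ T₀ := IsScalarTower.of_algebraMap_eq (fun x => rfl)
  haveI : Q.HasCoeffs S₁ := ⟨fun x hx => hrange x (Or.inl hx)⟩
  have hqM : ∀ i j, pM i j ∈ Set.range (MvPolynomial.map (algebraMap S₁ S₀)) := by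
    intro i j
    rw [MvPolynomial.mem_range_map_iff_coeffs_subset]
    intro x hx
    exact hrange x (Or.inr (Set.mem_iUnion.mpr ⟨i, Set.mem_iUnion.mpr ⟨j, hx⟩⟩))
  choose qM hqM using hqM
  obtain ⟨T₁, _, _, _, _, _, _, M₁, _, _, _, _, _, f, hf⟩ :=
    model_mod_fixed S₀ T₀ M₀ Q S₁ fM gM hfM hfgM qM (by
      intro i j
      rw [← hpM i j, ← hqM i j, Algebra.Generators.algebraMap_apply,
        MvPolynomial.aeval_map_algebraMap])
  exact ⟨Algebra.adjoin P.Core s, inferInstance, inferInstance, ftC, S₁, inferInstance,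
    inferInstance, algS₁S,
    inferInstance, inferInstance, t1, inferInstance, po,
    T₁, inferInstance, inferInstance, inferInstance, algS₁T₀, t3, inferInstance, inferInstance,
    inferInstance, M₁, inferInstance, inferInstance, inferInstance, inferInstance, inferInstance,
    f, hf⟩

/-- re-basing a model of an algebra along `C → R₁ → R`. -/
theorem rebase_alg (C R R₁ S₁ S : Type u) [CommRing C] [CommRing R] [CommRing R₁] [CommRing S₁]
    [CommRing S] [Algebra C R] [Algebra C R₁] [Algebra R₁ R] [IsScalarTower C R₁ R]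
    [Algebra R S] [Algebra C S₁] [Algebra S₁ S] [Algebra C S] [IsScalarTower C R S]
    [IsScalarTower C S₁ S] [Algebra R₁ S] [IsScalarTower R₁ R S]
    [Algebra.IsPushout C R S₁ S] :
    ∃ (_ : Algebra (R₁ ⊗[C] S₁) S) (_ : IsScalarTower R₁ (R₁ ⊗[C] S₁) S)
      (_ : IsScalarTower S₁ (R₁ ⊗[C] S₁) S) (_ : IsScalarTower C (R₁ ⊗[C] S₁) S),
      Algebra.IsPushout R₁ R (R₁ ⊗[C] S₁) S := by
  haveI tCR₁S : IsScalarTower C R₁ S := IsScalarTower.of_algebraMap_eq (fun c => by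
    rw [IsScalarTower.algebraMap_apply C R S, IsScalarTower.algebraMap_apply C R₁ R,
      ← IsScalarTower.algebraMap_apply R₁ R S])
  let φ : (R₁ ⊗[C] S₁) →ₐ[C] S :=
    Algebra.TensorProduct.lift (IsScalarTower.toAlgHom C R₁ S)
      (IsScalarTower.toAlgHom C S₁ S) (fun _ _ => Commute.all _ _)
  letI algS₁S : Algebra (R₁ ⊗[C] S₁) S := φ.toRingHom.toAlgebra
  have hφ : ∀ x, algebraMap (R₁ ⊗[C] S₁) S x = φ x := fun _ => rfl
  have e1 : ∀ x : R₁, algebraMap R₁ S x =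
      algebraMap (R₁ ⊗[C] S₁) S (algebraMap R₁ (R₁ ⊗[C] S₁) x) := by
    intro x
    rw [hφ, Algebra.TensorProduct.algebraMap_apply]
    simp [φ]
  haveI t1 : IsScalarTower R₁ (R₁ ⊗[C] S₁) S := IsScalarTower.of_algebraMap_eq e1
  have e2 : ∀ x : S₁, algebraMap S₁ S x =
      algebraMap (R₁ ⊗[C] S₁) S (algebraMap S₁ (R₁ ⊗[C] S₁) x) := by
    intro x
    rw [hφ]
    simp [φ, Algebra.TensorProduct.right_algebraMap_apply]
  haveI t2 : IsScalarTower S₁ (R₁ ⊗[C] S₁) S := IsScalarTower.of_algebraMap_eq e2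
  have e3 : ∀ x : C, algebraMap C S x =
      algebraMap (R₁ ⊗[C] S₁) S (algebraMap C (R₁ ⊗[C] S₁) x) := by
    intro x
    rw [hφ, AlgHom.commutes]
  haveI t3 : IsScalarTower C (R₁ ⊗[C] S₁) S := IsScalarTower.of_algebraMap_eq e3
  haveI po1 : Algebra.IsPushout R₁ R (R₁ ⊗[C] S₁) S :=
    (Algebra.IsPushout.comp_iff C R₁ S₁ (S' := R₁ ⊗[C] S₁) (T := R) (T' := S)).mp inferInstance
  exact ⟨algS₁S, t1, t2, t3, po1⟩

/-- re-basing a model of a module. -/
theorem rebase_mod {S₁ S₁' S M₁ M : Type u} [CommRing S₁] [CommRing S₁'] [CommRing S]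
    [Algebra S₁ S₁'] [Algebra S₁' S] [Algebra S₁ S] [IsScalarTower S₁ S₁' S]
    [AddCommGroup M₁] [Module S₁ M₁] [AddCommGroup M] [Module S M] [Module S₁ M]
    [IsScalarTower S₁ S M] [Module S₁' M] [IsScalarTower S₁' S M] [IsScalarTower S₁ S₁' M]
    (f : M₁ →ₗ[S₁] M) (hf : IsBaseChange S f) :
    ∃ f' : S₁' ⊗[S₁] M₁ →ₗ[S₁'] M, IsBaseChange S f' ∧ ∀ a x, f' (a ⊗ₜ x) = a • f x := by
  let f₁ : S₁' ⊗[S₁] M₁ →ₗ[S₁'] M := (TensorProduct.isBaseChange S₁ M₁ S₁').lift f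
  have hf₁ : (f₁.restrictScalars S₁) ∘ₗ (TensorProduct.mk S₁ S₁' M₁ 1) = f :=
    (TensorProduct.isBaseChange S₁ M₁ S₁').lift_comp f
  have bcf : IsBaseChange S f₁ := by
    refine IsBaseChange.of_comp (TensorProduct.isBaseChange S₁ M₁ S₁') ?_
    rw [hf₁]
    exact hf
  refine ⟨f₁, bcf, fun a x => ?_⟩
  have h1 : a ⊗ₜ[S₁] x = a • ((1 : S₁') ⊗ₜ[S₁] x) := by
    rw [TensorProduct.smul_tmul', smul_eq_mul, mul_one]
  rw [h1, map_smul]
  congr 1
  exact LinearMap.congr_fun hf₁ x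

/-- second level of re-basing a tower. -/
theorem rebase_level2 (S₁ S₀ S₁' T₁ T₀ M₁ M₀ : Type u) [CommRing S₁] [CommRing S₀] [CommRing S₁']
    [CommRing T₁] [CommRing T₀]
    [Algebra S₁ S₀] [Algebra S₁ S₁'] [Algebra S₁' S₀] [IsScalarTower S₁ S₁' S₀]
    [Algebra S₀ T₀] [Algebra S₁ T₁] [Algebra T₁ T₀] [Algebra S₁ T₀] [IsScalarTower S₁ S₀ T₀]
    [IsScalarTower S₁ T₁ T₀] [Algebra.IsPushout S₁ S₀ T₁ T₀]
    [AddCommGroup M₁] [Module T₁ M₁] [Module S₁ M₁] [IsScalarTower S₁ T₁ M₁]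
    [AddCommGroup M₀] [Module T₀ M₀] [Module T₁ M₀] [IsScalarTower T₁ T₀ M₀]
    (f : M₁ →ₗ[T₁] M₀) (hf : IsBaseChange T₀ f) :
    ∃ (_ : Algebra (S₁' ⊗[S₁] T₁) T₀) (_ : Algebra S₁' T₀) (_ : IsScalarTower S₁' S₀ T₀)
      (_ : IsScalarTower S₁' (S₁' ⊗[S₁] T₁) T₀)
      (_ : Algebra.IsPushout S₁' S₀ (S₁' ⊗[S₁] T₁) T₀)
      (_ : Module (S₁' ⊗[S₁] T₁) M₀) (_ : IsScalarTower (S₁' ⊗[S₁] T₁) T₀ M₀)
      (f' : (S₁' ⊗[S₁] T₁) ⊗[T₁] M₁ →ₗ[S₁' ⊗[S₁] T₁] M₀), IsBaseChange T₀ f' ∧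
      Nonempty ((S₁' ⊗[S₁] T₁) ⊗[T₁] M₁ ≃ₗ[S₁'] S₁' ⊗[S₁] M₁) := by
  letI algS'T₀ : Algebra S₁' T₀ := ((algebraMap S₀ T₀).comp (algebraMap S₁' S₀)).toAlgebra
  haveI tS'S₀T₀ : IsScalarTower S₁' S₀ T₀ := .of_algebraMap_eq (fun _ => rfl)
  obtain ⟨algT', u1, u2, u3, poT''⟩ := rebase_alg S₁ S₀ S₁' T₁ T₀
  letI := algT'
  letI modT'M₀ : Module (S₁' ⊗[S₁] T₁) M₀ :=
    Module.compHom M₀ (algebraMap (S₁' ⊗[S₁] T₁) T₀)
  haveI v1 : IsScalarTower (S₁' ⊗[S₁] T₁) T₀ M₀ := ⟨fun a b m => by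
    rw [Algebra.smul_def, mul_smul]; rfl⟩
  haveI v2 : IsScalarTower T₁ (S₁' ⊗[S₁] T₁) M₀ := ⟨fun a b m => by
    change algebraMap _ T₀ (a • b) • m = a • (algebraMap _ T₀ b • m)
    rw [Algebra.smul_def, map_mul, mul_smul, ← IsScalarTower.algebraMap_apply,
      algebraMap_smul]⟩
  obtain ⟨f', hf', hf't⟩ := rebase_mod (S₁ := T₁) (S₁' := S₁' ⊗[S₁] T₁) (S := T₀) f hf
  exact ⟨algT', algS'T₀, tS'S₀T₀, u1, poT'', modT'M₀, v1, f', hf',
    ⟨Algebra.IsPushout.cancelBaseChange S₁ S₁' T₁ (S₁' ⊗[S₁] T₁) M₁⟩⟩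

/-- re-basing a tower model along `C → R₁ → R` with flatness over `R₁`. -/
theorem flat_model_tower_rebase (C R R₁ S₁ S₀ T₁ T₀ M₁ M₀ : Type u) [CommRing C] [CommRing R]
    [CommRing R₁] [CommRing S₁] [CommRing S₀] [CommRing T₁] [CommRing T₀]
    [Algebra C R] [Algebra C R₁] [Algebra R₁ R] [IsScalarTower C R₁ R]
    [Algebra.FiniteType ℤ C] [Algebra.FiniteType C R₁]
    [Algebra R S₀] [Algebra C S₁] [Algebra S₁ S₀] [Algebra C S₀] [IsScalarTower C R S₀]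
    [IsScalarTower C S₁ S₀] [Algebra R₁ S₀] [IsScalarTower R₁ R S₀]
    [Algebra.FiniteType C S₁] [Algebra.IsPushout C R S₁ S₀]
    [Algebra S₀ T₀] [Algebra S₁ T₁] [Algebra T₁ T₀] [Algebra S₁ T₀] [IsScalarTower S₁ S₀ T₀]
    [IsScalarTower S₁ T₁ T₀] [Algebra.FiniteType S₁ T₁] [Algebra.IsPushout S₁ S₀ T₁ T₀]
    [AddCommGroup M₁] [Module T₁ M₁] [Module.Finite T₁ M₁] [Module S₁ M₁]
    [IsScalarTower S₁ T₁ M₁] [Module C M₁] [IsScalarTower C S₁ M₁]
    [AddCommGroup M₀] [Module T₀ M₀] [Module T₁ M₀] [IsScalarTower T₁ T₀ M₀]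
    (f : M₁ →ₗ[T₁] M₀) (hf : IsBaseChange T₀ f) [Module.Flat R₁ (R₁ ⊗[C] M₁)] :
    ∃ (C : Type u) (_ : CommRing C) (_ : Algebra C R) (_ : Algebra.FiniteType ℤ C)
      (S₁ : Type u) (_ : CommRing S₁) (_ : Algebra C S₁) (_ : Algebra S₁ S₀) (_ : Algebra C S₀)
      (_ : IsScalarTower C R S₀) (_ : IsScalarTower C S₁ S₀) (_ : Algebra.FiniteType C S₁)
      (_ : Algebra.IsPushout C R S₁ S₀)
      (T₁ : Type u) (_ : CommRing T₁) (_ : Algebra S₁ T₁) (_ : Algebra T₁ T₀) (_ : Algebra S₁ T₀)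
      (_ : IsScalarTower S₁ S₀ T₀) (_ : IsScalarTower S₁ T₁ T₀) (_ : Algebra.FiniteType S₁ T₁)
      (_ : Algebra.IsPushout S₁ S₀ T₁ T₀)
      (_ : Algebra C T₁) (_ : IsScalarTower C S₁ T₁)
      (M₁ : Type u) (_ : AddCommGroup M₁) (_ : Module T₁ M₁) (_ : Module.Finite T₁ M₁)
      (_ : Module T₁ M₀) (_ : IsScalarTower T₁ T₀ M₀)
      (_ : Module C M₁) (_ : IsScalarTower C T₁ M₁)
      (f : M₁ →ₗ[T₁] M₀), IsBaseChange T₀ f ∧ Module.Flat C M₁ := by
  have ftR₁ : Algebra.FiniteType ℤ R₁ :=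
    Algebra.FiniteType.trans (S := C) inferInstance inferInstance
  obtain ⟨algS', t1, t2, t3, poS'⟩ := rebase_alg C R R₁ S₁ S₀
  letI := algS'
  obtain ⟨algT', algS'T₀, tS'S₀T₀, u1, poT'', modT'M₀, v1, f', hf', ⟨e1⟩⟩ :=
    rebase_level2 S₁ S₀ (R₁ ⊗[C] S₁) T₁ T₀ M₁ M₀ f hf
  have fl : Module.Flat R₁ (((R₁ ⊗[C] S₁) ⊗[S₁] T₁) ⊗[T₁] M₁) := by
    have e2 : (R₁ ⊗[C] S₁) ⊗[S₁] M₁ ≃ₗ[R₁] R₁ ⊗[C] M₁ :=
      Algebra.IsPushout.cancelBaseChange C R₁ S₁ (R₁ ⊗[C] S₁) M₁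
    exact Module.Flat.of_linearEquiv ((e1.restrictScalars R₁) ≪≫ₗ e2)
  exact ⟨R₁, inferInstance, inferInstance, ftR₁, R₁ ⊗[C] S₁, inferInstance, inferInstance, algS',
    inferInstance, inferInstance, t1, inferInstance, poS',
    (R₁ ⊗[C] S₁) ⊗[S₁] T₁, inferInstance, inferInstance, algT', algS'T₀, tS'S₀T₀, u1,
    inferInstance, poT'', inferInstance, inferInstance,
    ((R₁ ⊗[C] S₁) ⊗[S₁] T₁) ⊗[T₁] M₁, inferInstance, inferInstance, inferInstance, modT'M₀, v1,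
    inferInstance, inferInstance, f', hf', fl⟩

/-- **Flat Noetherian model of a tower.** -/
theorem exists_flat_model_tower (R S₀ T₀ M₀ : Type u) [CommRing R] [CommRing S₀] [CommRing T₀]
    [Algebra R S₀] [Algebra S₀ T₀] [Algebra R T₀] [IsScalarTower R S₀ T₀]
    [Algebra.FinitePresentation R S₀] [Algebra.FinitePresentation S₀ T₀]
    [AddCommGroup M₀] [Module T₀ M₀] [Module.FinitePresentation T₀ M₀]
    [Module R M₀] [IsScalarTower R T₀ M₀] [Module.Flat R M₀] :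
    ∃ (C : Type u) (_ : CommRing C) (_ : Algebra C R) (_ : Algebra.FiniteType ℤ C)
      (S₁ : Type u) (_ : CommRing S₁) (_ : Algebra C S₁) (_ : Algebra S₁ S₀) (_ : Algebra C S₀)
      (_ : IsScalarTower C R S₀) (_ : IsScalarTower C S₁ S₀) (_ : Algebra.FiniteType C S₁)
      (_ : Algebra.IsPushout C R S₁ S₀)
      (T₁ : Type u) (_ : CommRing T₁) (_ : Algebra S₁ T₁) (_ : Algebra T₁ T₀) (_ : Algebra S₁ T₀)
      (_ : IsScalarTower S₁ S₀ T₀) (_ : IsScalarTower S₁ T₁ T₀) (_ : Algebra.FiniteType S₁ T₁)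
      (_ : Algebra.IsPushout S₁ S₀ T₁ T₀)
      (_ : Algebra C T₁) (_ : IsScalarTower C S₁ T₁)
      (M₁ : Type u) (_ : AddCommGroup M₁) (_ : Module T₁ M₁) (_ : Module.Finite T₁ M₁)
      (_ : Module T₁ M₀) (_ : IsScalarTower T₁ T₀ M₀)
      (_ : Module C M₁) (_ : IsScalarTower C T₁ M₁)
      (f : M₁ →ₗ[T₁] M₀), IsBaseChange T₀ f ∧ Module.Flat C M₁ := by
  obtain ⟨C, _, _, ftC, S₁, _, _, _, _, tCRS, tCS₁S, ftS₁, po, T₁, _, _, _, _, tS₁S₀T₀, tS₁T₁T₀,
    ftT₁, po2, M₁, _, _, finM₁, _, tT₁T₀M₀, f, hf⟩ := exists_model_tower R S₀ T₀ M₀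
  -- derived structures
  letI algCT₁ : Algebra C T₁ := ((algebraMap S₁ T₁).comp (algebraMap C S₁)).toAlgebra
  haveI tCS₁T₁ : IsScalarTower C S₁ T₁ := .of_algebraMap_eq (fun _ => rfl)
  letI algCT₀ : Algebra C T₀ := ((algebraMap R T₀).comp (algebraMap C R)).toAlgebra
  haveI tCRT₀ : IsScalarTower C R T₀ := .of_algebraMap_eq (fun _ => rfl)
  haveI tCS₀T₀ : IsScalarTower C S₀ T₀ := .of_algebraMap_eq (fun c => by
    change algebraMap R T₀ (algebraMap C R c) = algebraMap S₀ T₀ (algebraMap C S₀ c)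
    rw [IsScalarTower.algebraMap_apply R S₀ T₀, ← IsScalarTower.algebraMap_apply C R S₀])
  haveI tCT₁T₀ : IsScalarTower C T₁ T₀ := .of_algebraMap_eq (fun c => by
    change algebraMap R T₀ (algebraMap C R c) =
      algebraMap T₁ T₀ (algebraMap S₁ T₁ (algebraMap C S₁ c))
    rw [← IsScalarTower.algebraMap_apply S₁ T₁ T₀, IsScalarTower.algebraMap_apply S₁ S₀ T₀,
      ← IsScalarTower.algebraMap_apply C S₁ S₀, IsScalarTower.algebraMap_apply R S₀ T₀,
      ← IsScalarTower.algebraMap_apply C R S₀])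
  haveI poS : Algebra.IsPushout C S₁ R S₀ := po.symm
  haveI po2S : Algebra.IsPushout S₁ T₁ S₀ T₀ := po2.symm
  haveI poT : Algebra.IsPushout C T₁ R T₀ :=
    (Algebra.IsPushout.comp_iff C S₁ R (S' := S₀) (T := T₁) (T' := T₀)).mpr po2S
  haveI poT' : Algebra.IsPushout C R T₁ T₀ := poT.symm
  letI modCM₁ : Module C M₁ := Module.compHom M₁ (algebraMap C T₁)
  haveI tCT₁M₁ : IsScalarTower C T₁ M₁ := ⟨fun c t m => by
    rw [Algebra.smul_def, mul_smul]; rfl⟩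
  letI modS₁M₁ : Module S₁ M₁ := Module.compHom M₁ (algebraMap S₁ T₁)
  haveI tS₁T₁M₁ : IsScalarTower S₁ T₁ M₁ := ⟨fun c t m => by
    rw [Algebra.smul_def, mul_smul]; rfl⟩
  haveI tCS₁M₁ : IsScalarTower C S₁ M₁ := ⟨fun c s m => by
    change algebraMap S₁ T₁ (c • s) • m = algebraMap C T₁ c • (algebraMap S₁ T₁ s • m)
    rw [Algebra.smul_def, map_mul, mul_smul, ← IsScalarTower.algebraMap_apply]⟩
  haveI : IsNoetherianRing C := Algebra.FiniteType.isNoetherianRing ℤ C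
  haveI : Algebra.FiniteType C T₁ := Algebra.FiniteType.trans (S := S₁) inferInstance inferInstance
  haveI : Module.Flat R (R ⊗[C] M₁) := by
    have e : M₀ ≃ₗ[R] R ⊗[C] M₁ := (hf.equiv.symm.restrictScalars R) ≪≫ₗ
      (Algebra.IsPushout.cancelBaseChange C R T₁ T₀ M₁)
    exact Module.Flat.of_linearEquiv e.symm
  obtain ⟨R₁, hR₁, hflat⟩ := FlatLimit.exists_fg_flat_module' C T₁ M₁ R
  haveI : Algebra.FiniteType C R₁ := R₁.fg_iff_finiteType.mp hR₁
  exact @flat_model_tower_rebase C R R₁ S₁ S₀ T₁ T₀ M₁ M₀ _ _ _ _ _ _ _ _ _ _ _ _ _ _ _ _ _ _ _ _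
    _ _ _ _ _ _ _ _ _ _ _ _ _ _ _ _ _ _ _ _ _ _ f hf (hflat R₁ le_rfl hR₁)

end Groth.Agent.H48.FibCrit
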