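import Mathlib
import Groth.Agent.H48.PtFlat2
import Groth.Agent.H48.PtFlat3
import Groth.Agent.H48.PtFlat5
import Groth.Agent.H48.FlatLimitCol

open TensorProduct

namespace Groth.Agent.H48.PtFlat
universe u

/-- localizations (at a multiplicative subset of an algebra) of a flat module are flat. -/
lemma flat_localizedModule_of_flat {A B N : Type u} [CommRing A] [CommRing B] [Algebra A B]
    [AddCommGroup N] [Module A N] [Module B N] [IsScalarTower A B N] (T : Submonoid B)
    [Module.Flat A N] : Module.Flat A (LocalizedModule T N) := by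
  apply Groth.Agent.H57.flat_localizedModule_of_forall
  intro P Q _ _ _ _ u hu x hx
  have : x = 0 := by
    apply Module.Flat.lTensor_preserves_injective_linearMap (M := N) u hu
    rw [hx, map_zero]
  exact ⟨1, by rw [this, smul_zero]⟩

/-- **Main theorem (global flatness form).** `S` finitely presented over `R`, `u : M → N` a map of
finitely presented `S`-modules with `N` flat over `R`; if `u` is injective modulo a maximal ideal
`m` of `R` at a prime `q` over `m`, then `u` is universally injective over `R` at `q`. -/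
theorem univInjAt_of_flat_of_idealInjAt {R S M N : Type u} [CommRing R] [CommRing S] [Algebra R S]
    [Algebra.FinitePresentation R S] [AddCommGroup M] [Module S M] [Module R M]
    [IsScalarTower R S M] [Module.FinitePresentation S M] [AddCommGroup N] [Module S N]
    [Module R N] [IsScalarTower R S N] [Module.FinitePresentation S N] [Module.Flat R N]
    (u : M →ₗ[S] N) (m : Ideal R) [m.IsMaximal] (q : Ideal S) [q.IsPrime]
    (hqm : q.comap (algebraMap R S) = m) (h : IdealInjAt m q.primeCompl u) :
    UnivInjAt R q.primeCompl u := by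
  obtain ⟨C₀, _, _, _, S₀, _, _, _, _, _, _, _, _, M₀, _, _, _, _, _, _, _, N₀, _, _, _, _, _, _, _,
    f₀, g₀, u₀, hf₀, hg₀, huu₀⟩ := exists_model_map R S M N u
  haveI : IsNoetherianRing C₀ := Algebra.FiniteType.isNoetherianRing ℤ C₀
  haveI : Module.Flat R (R ⊗[C₀] N₀) := Module.Flat.of_linearEquiv
    ((Algebra.IsPushout.cancelBaseChange C₀ R S₀ S N₀).symm ≪≫ₗ (hg₀.equiv.restrictScalars R))
  obtain ⟨R₁, hR₁, hflat⟩ := FlatLimit.exists_fg_flat_module' C₀ S₀ N₀ R
  haveI := hflat R₁ le_rfl hR₁
  obtain ⟨C, _, _, _, S₁, _, _, _, _, _, _, _, _, M₁, _, _, _, _, _, _, _, N₁, _, _, _, _, _, _, _,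
    f, g, u₁, hf, hg, huu, hflatN⟩ :=
    model_map_baseChange C₀ R S S₀ M N M₀ N₀ u f₀ g₀ u₀ hf₀ hg₀ huu₀ R₁ hR₁
  haveI : IsNoetherianRing C := Algebra.FiniteType.isNoetherianRing ℤ C
  haveI : IsNoetherianRing S₁ := Algebra.FiniteType.isNoetherianRing C S₁
  -- `C`-module structures
  letI modCM : Module C M := Module.compHom M (algebraMap C R)
  letI modCN : Module C N := Module.compHom N (algebraMap C R)
  haveI tCRM : IsScalarTower C R M := ⟨fun a b m => by
    rw [Algebra.smul_def, mul_smul]; rfl⟩
  haveI tCRN : IsScalarTower C R N := ⟨fun a b m => by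
    rw [Algebra.smul_def, mul_smul]; rfl⟩
  have hcs : ∀ (c : C) (s : S), algebraMap S₁ S (algebraMap C S₁ c) * s =
      algebraMap R S (algebraMap C R c) * s := by
    intro c s
    rw [← IsScalarTower.algebraMap_apply C S₁ S, ← IsScalarTower.algebraMap_apply C R S]
  haveI tCSM : IsScalarTower C S₁ M := ⟨fun c s x => by
    change (c • s) • x = algebraMap C R c • (s • x)
    rw [Algebra.smul_def c s, mul_smul, ← algebraMap_smul S (algebraMap C S₁ c) (s • x),
      ← algebraMap_smul S (algebraMap C R c) (s • x),
      ← IsScalarTower.algebraMap_apply C S₁ S, ← IsScalarTower.algebraMap_apply C R S]⟩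
  haveI tCSN : IsScalarTower C S₁ N := ⟨fun c s x => by
    change (c • s) • x = algebraMap C R c • (s • x)
    rw [Algebra.smul_def c s, mul_smul, ← algebraMap_smul S (algebraMap C S₁ c) (s • x),
      ← algebraMap_smul S (algebraMap C R c) (s • x),
      ← IsScalarTower.algebraMap_apply C S₁ S, ← IsScalarTower.algebraMap_apply C R S]⟩
  haveI po : Algebra.IsPushout C S₁ R S := Algebra.IsPushout.symm inferInstance
  have hq : m.map (algebraMap R S) ≤ q := by
    rw [Ideal.map_le_iff_le_comap, hqm]
  -- Step C
  have hC : IdealInjAt (m.comap (algebraMap C R)) (q.comap (algebraMap S₁ S)).primeCompl u₁ :=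
    IdealInjAt.descend m q hq f hf g u₁ u huu h
  -- Step D
  have hp : (q.comap (algebraMap S₁ S)).comap (algebraMap C S₁) = m.comap (algebraMap C R) := by
    rw [← hqm, Ideal.comap_comap, Ideal.comap_comap, ← IsScalarTower.algebraMap_eq,
      ← IsScalarTower.algebraMap_eq]
  haveI : Module.Flat C (LocalizedModule (q.comap (algebraMap S₁ S)).primeCompl N₁) :=
    flat_localizedModule_of_flat _
  have hD : UnivInjAt C (q.comap (algebraMap S₁ S)).primeCompl u₁ :=
    univInjAt_of_isNoetherianRing (q.comap (algebraMap S₁ S)) u₁ (hp ▸ hC)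
  -- Step E
  exact hD.baseChange f hf g hg u huu q.primeCompl (fun t ht => ht)

end Groth.Agent.H48.PtFlat
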