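import Mathlib
import Groth.Agent.H48.PtFlat6
import Groth.Agent.H48.FlatOpen
import Groth.Agent.H57.FlatPt5

open TensorProduct

namespace Groth.Agent.H48.PtFlat
universe u

/-- spreading out flatness at a prime to a principal open. -/
theorem exists_flat_localizedModule_away {R S₀ N₀ : Type u} [CommRing R] [CommRing S₀]
    [Algebra R S₀] [Algebra.FinitePresentation R S₀] [AddCommGroup N₀] [Module S₀ N₀] [Module R N₀]
    [IsScalarTower R S₀ N₀] [Module.FinitePresentation S₀ N₀] (q₀ : Ideal S₀) [q₀.IsPrime]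
    [hq₀ : Module.Flat R (LocalizedModule q₀.primeCompl N₀)] :
    ∃ g₁ : S₀, g₁ ∉ q₀ ∧ Module.Flat R (LocalizedModule (Submonoid.powers g₁) N₀) := by
  have hopen := Groth.Agent.H57.FlatPt.isOpen_flat_module_locus (R := R) (S := S₀) (M := N₀)
  have hmem : (⟨q₀, inferInstance⟩ : PrimeSpectrum S₀) ∈
      {q : PrimeSpectrum S₀ | Module.Flat R (LocalizedModule q.asIdeal.primeCompl N₀)} := hq₀
  obtain ⟨_, ⟨g₁, rfl⟩, hg₁, hsub⟩ :=
    PrimeSpectrum.isTopologicalBasis_basic_opens.exists_subset_of_mem_open hmem hopen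
  refine ⟨g₁, hg₁, ?_⟩
  apply Groth.Agent.H57.flat_localizedModule_of_forall
  intro P Q _ _ _ _ u hu x hx
  -- the annihilator of `x`
  let J : Ideal S₀ := LinearMap.ker (LinearMap.toSpanSingleton S₀ (N₀ ⊗[R] P) x)
  have hJ : ∀ s, s ∈ J ↔ s • x = 0 := fun s => by
    simp [J, LinearMap.mem_ker, LinearMap.toSpanSingleton_apply]
  have hrad : g₁ ∈ J.radical := by
    rw [Ideal.radical_eq_sInf, Ideal.mem_sInf]
    rintro p ⟨hJp, hp⟩
    by_contra hgp
    haveI := hp
    have hflat : Module.Flat R (LocalizedModule p.primeCompl N₀) :=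
      hsub (show (⟨p, hp⟩ : PrimeSpectrum S₀) ∈ (PrimeSpectrum.basicOpen g₁ : Set _) from hgp)
    obtain ⟨t, ht⟩ := Groth.Agent.H57.exists_smul_eq_zero_of_lTensor_injective p.primeCompl N₀ u
      (Module.Flat.lTensor_preserves_injective_linearMap u hu) x hx
    exact t.2 (hJp ((hJ t).mpr ht))
  obtain ⟨n, hn⟩ := hrad
  exact ⟨⟨g₁ ^ n, n, rfl⟩, (hJ _).mp hn⟩

lemma rTensor_restrictScalars_injective_iff {R S₀ S₂ M N X : Type u} [CommRing R] [CommRing S₀]
    [CommRing S₂] [Algebra R S₀] [Algebra R S₂] [Algebra S₀ S₂]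
    [AddCommGroup M] [AddCommGroup N] [Module S₂ M] [Module S₂ N] [Module S₀ M] [Module S₀ N]
    [Module R M] [Module R N] [IsScalarTower R S₂ M] [IsScalarTower R S₂ N]
    [IsScalarTower R S₀ M] [IsScalarTower R S₀ N] [IsScalarTower S₀ S₂ M] [IsScalarTower S₀ S₂ N]
    [AddCommGroup X] [Module R X] (v : M →ₗ[S₂] N) :
    Function.Injective (AlgebraTensorModule.rTensor R X (v.restrictScalars S₀)) ↔
      Function.Injective (AlgebraTensorModule.rTensor R X v) := by
  have key : ∀ z : M ⊗[R] X, AlgebraTensorModule.rTensor R X (v.restrictScalars S₀) z =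
      AlgebraTensorModule.rTensor R X v z := by
    intro z
    induction z using TensorProduct.induction_on with
    | zero => simp
    | tmul m p => rfl
    | add a b ha hb => simp only [map_add, ha, hb]
  constructor
  · intro h a b hab
    apply h
    rw [key, key, hab]
  · intro h a b hab
    apply h
    rw [← key, ← key, hab]

/-- localization at `g₁` followed by localization at a prime is localization at the contracted
prime. -/
lemma isLocalizedModule_comp_away_atPrime {S₀ M₀ : Type u} [CommRing S₀] [AddCommGroup M₀]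
    [Module S₀ M₀] (g₁ : S₀) (q₂ : Ideal (Localization.Away g₁)) [q₂.IsPrime] :
    IsLocalizedModule (q₂.comap (algebraMap S₀ (Localization.Away g₁))).primeCompl
      (((LocalizedModule.mkLinearMap q₂.primeCompl
        (LocalizedModule (Submonoid.powers g₁) M₀)).restrictScalars S₀) ∘ₗ
        (LocalizedModule.mkLinearMap (Submonoid.powers g₁) M₀)) := by
  haveI : IsLocalization.AtPrime (Localization.AtPrime q₂)
      (q₂.comap (algebraMap S₀ (Localization.Away g₁))) :=
    IsLocalization.isLocalization_isLocalization_atPrime_isLocalization (Submonoid.powers g₁)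
      (Localization.AtPrime q₂) q₂
  rw [isLocalizedModule_iff_isBaseChange
    (q₂.comap (algebraMap S₀ (Localization.Away g₁))).primeCompl (Localization.AtPrime q₂)]
  have h₁ : IsBaseChange (Localization.Away g₁)
      (LocalizedModule.mkLinearMap (Submonoid.powers g₁) M₀) :=
    (isLocalizedModule_iff_isBaseChange (Submonoid.powers g₁) (Localization.Away g₁) _).mp
      inferInstance
  have h₂ : IsBaseChange (Localization.AtPrime q₂)
      (LocalizedModule.mkLinearMap q₂.primeCompl (LocalizedModule (Submonoid.powers g₁) M₀)) :=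
    (isLocalizedModule_iff_isBaseChange q₂.primeCompl (Localization.AtPrime q₂) _).mp
      inferInstance
  exact IsBaseChange.comp h₁ h₂

end Groth.Agent.H48.PtFlat
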