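import Mathlib
import Groth.Agent.H48.PtFlat7

open TensorProduct

namespace Groth.Agent.H48.PtFlat
universe u

/-- **Main theorem (pointwise flatness form; EGA IV 11.3.7, b ⇒ a).** -/
theorem univInjAt_of_flat_at {R S₀ M₀ N₀ : Type u} [CommRing R] [CommRing S₀] [Algebra R S₀]
    [Algebra.FinitePresentation R S₀] [AddCommGroup M₀] [Module S₀ M₀] [Module R M₀]
    [IsScalarTower R S₀ M₀] [Module.FinitePresentation S₀ M₀] [AddCommGroup N₀] [Module S₀ N₀]
    [Module R N₀] [IsScalarTower R S₀ N₀] [Module.FinitePresentation S₀ N₀]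
    (u₀ : M₀ →ₗ[S₀] N₀) (m : Ideal R) [m.IsMaximal] (q₀ : Ideal S₀) [q₀.IsPrime]
    (hqm : q₀.comap (algebraMap R S₀) = m)
    [Module.Flat R (LocalizedModule q₀.primeCompl N₀)]
    (h : IdealInjAt m q₀.primeCompl u₀) : UnivInjAt R q₀.primeCompl u₀ := by
  obtain ⟨g₁, hg₁, hflat⟩ := exists_flat_localizedModule_away (R := R) (N₀ := N₀) q₀
  haveI := hflat
  let S₂ := Localization.Away g₁
  let M₂ := LocalizedModule (Submonoid.powers g₁) M₀
  let N₂ := LocalizedModule (Submonoid.powers g₁) N₀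
  let u₂ : M₂ →ₗ[S₂] N₂ := IsLocalizedModule.mapExtendScalars (Submonoid.powers g₁)
    (LocalizedModule.mkLinearMap (Submonoid.powers g₁) M₀)
    (LocalizedModule.mkLinearMap (Submonoid.powers g₁) N₀) S₂ u₀
  have huu₂ : ∀ x, u₂ (LocalizedModule.mkLinearMap (Submonoid.powers g₁) M₀ x) =
      LocalizedModule.mkLinearMap (Submonoid.powers g₁) N₀ (u₀ x) := by
    intro x
    change (IsLocalizedModule.map (Submonoid.powers g₁)
      (LocalizedModule.mkLinearMap (Submonoid.powers g₁) M₀)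
      (LocalizedModule.mkLinearMap (Submonoid.powers g₁) N₀) u₀)
      (LocalizedModule.mkLinearMap (Submonoid.powers g₁) M₀ x) = _
    rw [IsLocalizedModule.map_apply]
  haveI : Algebra.FinitePresentation S₀ S₂ := IsLocalization.Away.finitePresentation g₁
  haveI : Algebra.FinitePresentation R S₂ := Algebra.FinitePresentation.trans R S₀ S₂
  haveI hq₂ : (q₀.map (algebraMap S₀ S₂)).IsPrime := FlatOpen.isPrime_map_away g₁ q₀ hg₁
  have hcomap : (q₀.map (algebraMap S₀ S₂)).comap (algebraMap S₀ S₂) = q₀ :=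
    FlatOpen.comap_map_away g₁ q₀ hg₁
  set q₂ : Ideal S₂ := q₀.map (algebraMap S₀ S₂) with hq₂def
  have hq₂m : q₂.comap (algebraMap R S₂) = m := by
    rw [IsScalarTower.algebraMap_eq R S₀ S₂, ← Ideal.comap_comap, hcomap, hqm]
  -- the double localization
  let M₃ := LocalizedModule q₂.primeCompl M₂
  let N₃ := LocalizedModule q₂.primeCompl N₂
  let u₃ : M₃ →ₗ[S₂] N₃ := IsLocalizedModule.map q₂.primeCompl
    (LocalizedModule.mkLinearMap q₂.primeCompl M₂) (LocalizedModule.mkLinearMap q₂.primeCompl N₂) u₂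
  have huu₂₃ : ∀ x, u₃ (LocalizedModule.mkLinearMap q₂.primeCompl M₂ x) =
      LocalizedModule.mkLinearMap q₂.primeCompl N₂ (u₂ x) := fun x =>
    IsLocalizedModule.map_apply _ _ _ _ _
  let f₀₃ : M₀ →ₗ[S₀] M₃ := ((LocalizedModule.mkLinearMap q₂.primeCompl M₂).restrictScalars S₀) ∘ₗ
    (LocalizedModule.mkLinearMap (Submonoid.powers g₁) M₀)
  let g₀₃ : N₀ →ₗ[S₀] N₃ := ((LocalizedModule.mkLinearMap q₂.primeCompl N₂).restrictScalars S₀) ∘ₗ
    (LocalizedModule.mkLinearMap (Submonoid.powers g₁) N₀)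
  have hsub : (q₂.comap (algebraMap S₀ S₂)).primeCompl = q₀.primeCompl :=
    Submonoid.ext fun x => by
      rw [Ideal.mem_primeCompl_iff, Ideal.mem_primeCompl_iff, hcomap]
  haveI hf₀₃ : IsLocalizedModule q₀.primeCompl f₀₃ := by
    have := isLocalizedModule_comp_away_atPrime (M₀ := M₀) g₁ q₂
    rwa [hsub] at this
  haveI hg₀₃ : IsLocalizedModule q₀.primeCompl g₀₃ := by
    have := isLocalizedModule_comp_away_atPrime (M₀ := N₀) g₁ q₂
    rwa [hsub] at this
  have huu₀₃ : ∀ x, (u₃.restrictScalars S₀) (f₀₃ x) = g₀₃ (u₀ x) := by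
    intro x
    change u₃ (LocalizedModule.mkLinearMap q₂.primeCompl M₂
      (LocalizedModule.mkLinearMap (Submonoid.powers g₁) M₀ x)) = _
    rw [huu₂₃, huu₂]
    rfl
  -- the hypothesis for `u₂`
  have h₂ : IdealInjAt m q₂.primeCompl u₂ := by
    rw [idealInjAt_iff_injAtFor]
    refine injAtFor_of_rTensor_injective (LocalizedModule.mkLinearMap q₂.primeCompl M₂)
      (LocalizedModule.mkLinearMap q₂.primeCompl N₂) u₃ huu₂₃ ?_
    rw [← rTensor_restrictScalars_injective_iff (S₀ := S₀)]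
    exact ((idealInjAt_iff_injAtFor m q₀.primeCompl u₀).mp h).rTensor_injective f₀₃ g₀₃
      (u₃.restrictScalars S₀) huu₀₃
  have hmain : UnivInjAt R q₂.primeCompl u₂ :=
    univInjAt_of_flat_of_idealInjAt u₂ m q₂ hq₂m h₂
  intro X _ _
  refine injAtFor_of_rTensor_injective f₀₃ g₀₃ (u₃.restrictScalars S₀) huu₀₃ ?_
  rw [rTensor_restrictScalars_injective_iff]
  exact (hmain X).rTensor_injective (LocalizedModule.mkLinearMap q₂.primeCompl M₂)
    (LocalizedModule.mkLinearMap q₂.primeCompl N₂) u₃ huu₂₃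

end Groth.Agent.H48.PtFlat

namespace Groth.Agent.H48.PtFlat
universe u

/-- **Main theorem, localized conclusion** (Stacks 046Y in global form): for any localization
`u'` of `u₀` at `q₀`, `u'` is injective with `R`-flat cokernel. -/
theorem injective_and_flat_coker_of_flat_at {R S₀ M₀ N₀ : Type u} [CommRing R] [CommRing S₀]
    [Algebra R S₀]
    [Algebra.FinitePresentation R S₀] [AddCommGroup M₀] [Module S₀ M₀] [Module R M₀]
    [IsScalarTower R S₀ M₀] [Module.FinitePresentation S₀ M₀] [AddCommGroup N₀] [Module S₀ N₀]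
    [Module R N₀] [IsScalarTower R S₀ N₀] [Module.FinitePresentation S₀ N₀]
    (u₀ : M₀ →ₗ[S₀] N₀) (m : Ideal R) [m.IsMaximal] (q₀ : Ideal S₀) [q₀.IsPrime]
    (hqm : q₀.comap (algebraMap R S₀) = m)
    [Module.Flat R (LocalizedModule q₀.primeCompl N₀)]
    (h : IdealInjAt m q₀.primeCompl u₀)
    {M' N' : Type u} [AddCommGroup M'] [AddCommGroup N'] [Module S₀ M'] [Module S₀ N'] [Module R M']
    [Module R N'] [IsScalarTower R S₀ M'] [IsScalarTower R S₀ N']
    (f : M₀ →ₗ[S₀] M') (g : N₀ →ₗ[S₀] N') [IsLocalizedModule q₀.primeCompl f]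
    [IsLocalizedModule q₀.primeCompl g] (u' : M' →ₗ[S₀] N') (huu : ∀ x, u' (f x) = g (u₀ x)) :
    Function.Injective u' ∧ Module.Flat R (N' ⧸ LinearMap.range (u'.restrictScalars R)) := by
  have hU := univInjAt_of_flat_at u₀ m q₀ hqm h
  haveI : Module.Flat R N' := Module.Flat.of_linearEquiv
    ((IsLocalizedModule.iso q₀.primeCompl g).restrictScalars R).symm
  have key : ∀ (I : Ideal R) (z : M' ⊗[R] (R ⧸ I)), (u'.restrictScalars R).rTensor (R ⧸ I) z =
      AlgebraTensorModule.rTensor R (R ⧸ I) u' z := by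
    intro I z
    induction z using TensorProduct.induction_on with
    | zero => simp
    | tmul m p => rfl
    | add a b ha hb => simp only [map_add, ha, hb]
  have h1 : ∀ I : Ideal R, Function.Injective ((u'.restrictScalars R).rTensor (R ⧸ I)) := by
    intro I a b hab
    apply (hU (R ⧸ I)).rTensor_injective f g u' huu
    rw [← key, ← key, hab]
  obtain ⟨hinj, hflat⟩ := injective_and_flat_coker_of_rTensor_injective (u'.restrictScalars R) h1
  exact ⟨hinj, hflat⟩

end Groth.Agent.H48.PtFlat
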