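import Mathlib
import Groth.Agent.H48.FibCrit3
import Groth.Agent.H48.FibCritModel
import Groth.Agent.H48.PtFlat8

/-!
# Fibrewise criterion of flatness, finitely presented case (helper48)
-/

open TensorProduct

namespace Groth.Agent.H48.FibCrit
universe u

open Groth.Agent.H48.PtFlat

theorem FibFlat.of_linearEquiv {A : Type u} [CommRing A] (J : Ideal A) {N N' : Type u}
    [AddCommGroup N] [Module A N] [AddCommGroup N'] [Module A N'] (e : N ≃ₗ[A] N')
    (h : FibFlat J N) : FibFlat J N' := by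
  intro Q P _ _ _ _ j hj
  have h1 := h Q P j hj
  let eQ := TensorProduct.congr e (LinearEquiv.refl A Q)
  let eP := TensorProduct.congr e (LinearEquiv.refl A P)
  have hnat : ∀ t, j.lTensor N' (eQ t) = eP (j.lTensor N t) := by
    intro t
    induction t using TensorProduct.induction_on with
    | zero => simp
    | tmul a b => simp [eQ, eP]
    | add a b ha hb => simp only [map_add, ha, hb]
  intro z hz
  obtain ⟨t, rfl⟩ := eQ.surjective z
  rw [hnat] at hz
  have h2 := map_mem_smul_top J eP.symm.toLinearMap hz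
  simp only [LinearEquiv.coe_coe, LinearEquiv.symm_apply_apply] at h2
  exact map_mem_smul_top J eQ.toLinearMap (h1 t h2)

/-- **Fibrewise criterion, globally flat form.** -/
theorem flat_of_fibFlat_of_flat {R S₀ T₀ M₀ : Type u} [CommRing R] [CommRing S₀] [CommRing T₀]
    [Algebra R S₀] [Algebra S₀ T₀] [Algebra R T₀] [IsScalarTower R S₀ T₀]
    [Algebra.FinitePresentation R S₀] [Algebra.FinitePresentation S₀ T₀]
    [AddCommGroup M₀] [Module T₀ M₀] [Module.FinitePresentation T₀ M₀]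
    [Module S₀ M₀] [IsScalarTower S₀ T₀ M₀] [Module R M₀] [IsScalarTower R T₀ M₀]
    [Module.Flat R M₀]
    (m : Ideal R) [m.IsMaximal] (q' : Ideal T₀) [q'.IsPrime] (hq' : m.map (algebraMap R T₀) ≤ q')
    (h : FibFlat (m.map (algebraMap R S₀)) (LocalizedModule q'.primeCompl M₀)) :
    Module.Flat S₀ (LocalizedModule q'.primeCompl M₀) := by
  obtain ⟨C, _, _, ftC, S₁, _, _, _, _, tCRS, tCS₁S, ftS₁, po, T₁, _, _, _, _, tS₁S₀T₀, tS₁T₁T₀,
    ftT₁, po2, algCT₁, tCS₁T₁, M₁, _, _, finM₁, modT₁M₀, tT₁T₀M₀, modCM₁, tCT₁M₁, f, hf, flatM₁⟩ :=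
    exists_flat_model_tower R S₀ T₀ M₀
  haveI : IsNoetherianRing C := Algebra.FiniteType.isNoetherianRing ℤ C
  haveI : IsNoetherianRing S₁ := Algebra.FiniteType.isNoetherianRing C S₁
  haveI : IsNoetherianRing T₁ := Algebra.FiniteType.isNoetherianRing S₁ T₁
  letI algCT₀ : Algebra C T₀ := ((algebraMap R T₀).comp (algebraMap C R)).toAlgebra
  haveI tCRT₀ : IsScalarTower C R T₀ := .of_algebraMap_eq (fun _ => rfl)
  haveI tCS₀T₀ : IsScalarTower C S₀ T₀ := .of_algebraMap_eq (fun c => by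
    change algebraMap R T₀ (algebraMap C R c) = algebraMap S₀ T₀ (algebraMap C S₀ c)
    rw [IsScalarTower.algebraMap_apply R S₀ T₀, ← IsScalarTower.algebraMap_apply C R S₀])
  haveI tCT₁T₀ : IsScalarTower C T₁ T₀ := .of_algebraMap_eq (fun c => by
    change algebraMap R T₀ (algebraMap C R c) = algebraMap T₁ T₀ (algebraMap C T₁ c)
    rw [IsScalarTower.algebraMap_apply C S₁ T₁,
      ← IsScalarTower.algebraMap_apply S₁ T₁ T₀, IsScalarTower.algebraMap_apply S₁ S₀ T₀,
      ← IsScalarTower.algebraMap_apply C S₁ S₀, IsScalarTower.algebraMap_apply R S₀ T₀,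
      ← IsScalarTower.algebraMap_apply C R S₀])
  haveI poS : Algebra.IsPushout C S₁ R S₀ := po.symm
  haveI po2S : Algebra.IsPushout S₁ T₁ S₀ T₀ := po2.symm
  haveI poT : Algebra.IsPushout C T₁ R T₀ :=
    (Algebra.IsPushout.comp_iff C S₁ R (S' := S₀) (T := T₁) (T' := T₀)).mpr po2S
  -- module structures
  letI modS₁M₁ : Module S₁ M₁ := Module.compHom M₁ (algebraMap S₁ T₁)
  haveI tS₁T₁M₁ : IsScalarTower S₁ T₁ M₁ := ⟨fun c t m => by
    rw [Algebra.smul_def, mul_smul]; rfl⟩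
  letI modS₁M₀ : Module S₁ M₀ := Module.compHom M₀ (algebraMap S₁ S₀)
  haveI tS₁S₀M₀ : IsScalarTower S₁ S₀ M₀ := ⟨fun a b m => by
    rw [Algebra.smul_def, mul_smul]; rfl⟩
  have hs : ∀ (s : S₁) (x : M₀), s • x = algebraMap S₁ T₀ s • x := by
    intro s x
    change algebraMap S₁ S₀ s • x = _
    rw [← algebraMap_smul T₀ (algebraMap S₁ S₀ s) x, ← IsScalarTower.algebraMap_apply]
  haveI tS₁T₀M₀ : IsScalarTower S₁ T₀ M₀ := ⟨fun s t x => by
    rw [hs, Algebra.smul_def, mul_smul]⟩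
  haveI tS₁T₁M₀ : IsScalarTower S₁ T₁ M₀ := ⟨fun s t x => by
    rw [hs, ← algebraMap_smul T₀ (s • t) x, ← algebraMap_smul T₀ t x, Algebra.smul_def, map_mul,
      mul_smul, ← IsScalarTower.algebraMap_apply]⟩
  set q'₁ : Ideal T₁ := q'.comap (algebraMap T₁ T₀) with hq'₁
  set p₁ : Ideal C := m.comap (algebraMap C R) with hp₁
  -- Step I
  have hI := FibFlat.restrict_pushout (C := C) (S₁ := S₁) m (LocalizedModule q'.primeCompl M₀) h
  have hmapT : (m.map (algebraMap R S₀)).map (algebraMap S₀ T₀) = m.map (algebraMap R T₀) := by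
    rw [Ideal.map_map, ← IsScalarTower.algebraMap_eq]
  have hI' : ∀ (Q₁ P₁ : Type u) [AddCommGroup Q₁] [AddCommGroup P₁] [Module S₁ Q₁] [Module S₁ P₁]
      (j₁ : Q₁ →ₗ[S₁] P₁), ModInj (p₁.map (algebraMap C S₁)) j₁ →
      ModInj (m.map (algebraMap R T₀))
        (AlgebraTensorModule.lTensor T₀ (LocalizedModule q'.primeCompl M₀) j₁) := by
    intro Q₁ P₁ _ _ _ _ j₁ hj₁ z hz
    have h1 := hI Q₁ P₁ j₁ hj₁
    rw [← hmapT, mem_map_smul_top_iff] at hz ⊢
    exact h1 z hz
  -- Step II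
  have hII : FibFlat (p₁.map (algebraMap C S₁)) (LocalizedModule q'₁.primeCompl M₁) :=
    FibFlat.descend_local (C := C) (R := R) (S₁ := S₁) (T₁ := T₁) (T₀ := T₀) f hf m q' hq'
      (LocalizedModule.mkLinearMap q'.primeCompl M₀)
      (LocalizedModule.mkLinearMap q'₁.primeCompl M₁) hI'
  -- Noetherian core
  haveI : Module.Flat C (LocalizedModule q'₁.primeCompl M₁) :=
    flat_localizedModule_of_flat (A := C) (B := T₁) q'₁.primeCompl
  have hp : p₁.map (algebraMap C T₁) ≤ q'₁ := by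
    rw [Ideal.map_le_iff_le_comap]
    intro c hc
    rw [Ideal.mem_comap, hq'₁, Ideal.mem_comap, ← IsScalarTower.algebraMap_apply,
      IsScalarTower.algebraMap_apply C R T₀]
    exact hq' (Ideal.mem_map_of_mem _ hc)
  haveI flatS₁ : Module.Flat S₁ (LocalizedModule q'₁.primeCompl M₁) :=
    flat_localizedModule_of_fibFlat (C := C) q'₁ p₁ hp hII
  -- ascent
  exact Groth.Agent.H57.flat_localizedModule_baseChange (R := S₁) (S := T₁) (R' := S₀) (S' := T₀)
    f hf q'


/-- **Fibrewise criterion of flatness, pointwise form** (EGA IV 11.3.10, finitely presented case):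
`R → S₀ → T₀` finitely presented, `M₀` a finitely presented `T₀`-module, `q'` a prime of `T₀` over a
maximal ideal `m` of `R`. If `(M₀)_{q'}` is flat over `R` and fibrewise flat over `S₀` modulo `m`,
then it is flat over `S₀`. -/
theorem flat_of_fibFlat_at {R S₀ T₀ M₀ : Type u} [CommRing R] [CommRing S₀] [CommRing T₀]
    [Algebra R S₀] [Algebra S₀ T₀] [Algebra R T₀] [IsScalarTower R S₀ T₀]
    [Algebra.FinitePresentation R S₀] [Algebra.FinitePresentation S₀ T₀]
    [AddCommGroup M₀] [Module T₀ M₀] [Module.FinitePresentation T₀ M₀]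
    [Module S₀ M₀] [IsScalarTower S₀ T₀ M₀] [Module R M₀] [IsScalarTower R T₀ M₀]
    (m : Ideal R) [m.IsMaximal] (q' : Ideal T₀) [q'.IsPrime] (hq' : m.map (algebraMap R T₀) ≤ q')
    [Module.Flat R (LocalizedModule q'.primeCompl M₀)]
    (h : FibFlat (m.map (algebraMap R S₀)) (LocalizedModule q'.primeCompl M₀)) :
    Module.Flat S₀ (LocalizedModule q'.primeCompl M₀) := by
  haveI : Algebra.FinitePresentation R T₀ := Algebra.FinitePresentation.trans R S₀ T₀
  obtain ⟨g₁, hg₁, hflat⟩ := exists_flat_localizedModule_away (R := R) (N₀ := M₀) q'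
  haveI := hflat
  let T₂ := Localization.Away g₁
  let M₂ := LocalizedModule (Submonoid.powers g₁) M₀
  haveI : Algebra.FinitePresentation T₀ T₂ := IsLocalization.Away.finitePresentation g₁
  haveI : Algebra.FinitePresentation S₀ T₂ := Algebra.FinitePresentation.trans S₀ T₀ T₂
  haveI hq₂ : (q'.map (algebraMap T₀ T₂)).IsPrime := FlatOpen.isPrime_map_away g₁ q' hg₁
  have hcomap : (q'.map (algebraMap T₀ T₂)).comap (algebraMap T₀ T₂) = q' :=
    FlatOpen.comap_map_away g₁ q' hg₁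
  set q₂ : Ideal T₂ := q'.map (algebraMap T₀ T₂) with hq₂def
  have hq₂m : m.map (algebraMap R T₂) ≤ q₂ := by
    rw [IsScalarTower.algebraMap_eq R T₀ T₂, ← Ideal.map_map]
    exact Ideal.map_mono hq'
  let N₃ := LocalizedModule q₂.primeCompl M₂
  let f₀₃ : M₀ →ₗ[T₀] N₃ := ((LocalizedModule.mkLinearMap q₂.primeCompl M₂).restrictScalars T₀) ∘ₗ
    (LocalizedModule.mkLinearMap (Submonoid.powers g₁) M₀)
  have hsub : (q₂.comap (algebraMap T₀ T₂)).primeCompl = q'.primeCompl :=
    Submonoid.ext fun x => by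
      rw [Ideal.mem_primeCompl_iff, Ideal.mem_primeCompl_iff, hcomap]
  haveI hf₀₃ : IsLocalizedModule q'.primeCompl f₀₃ := by
    have := isLocalizedModule_comp_away_atPrime (M₀ := M₀) g₁ q₂
    rwa [hsub] at this
  let e : LocalizedModule q'.primeCompl M₀ ≃ₗ[S₀] N₃ :=
    (IsLocalizedModule.iso q'.primeCompl f₀₃).restrictScalars S₀
  have h₃ : FibFlat (m.map (algebraMap R S₀)) N₃ := FibFlat.of_linearEquiv _ e h
  haveI : Module.Flat S₀ N₃ :=
    flat_of_fibFlat_of_flat (R := R) (S₀ := S₀) (T₀ := T₂) (M₀ := M₂) m q₂ hq₂m h₃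
  exact Module.Flat.of_linearEquiv e

end Groth.Agent.H48.FibCrit
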