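import Mathlib
import Groth.Agent.H48.PtFlat8

open TensorProduct

namespace Groth.Agent.H48.PtFlat
universe u

/-- a finitely presented module over a localization descends. -/
theorem exists_model_of_isLocalization {S₀ S M : Type u} [CommRing S₀] [CommRing S] [Algebra S₀ S]
    (W : Submonoid S₀) [IsLocalization W S] [AddCommGroup M] [Module S M] [Module S₀ M]
    [IsScalarTower S₀ S M] [Module.FinitePresentation S M] :
    ∃ (M₀ : Type u) (_ : AddCommGroup M₀) (_ : Module S₀ M₀) (_ : Module.FinitePresentation S₀ M₀)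
      (f₀ : M₀ →ₗ[S₀] M), IsBaseChange S f₀ := by
  classical
  obtain ⟨n, k, fM, gM, hfM, hfgM⟩ := Module.FinitePresentation.exists_fin' S M
  obtain ⟨b, hb⟩ := IsLocalization.exist_integer_multiples_of_finset W
    (Finset.image (fun ij : Fin n × Fin k => LinearMap.toMatrix' gM ij.1 ij.2) Finset.univ)
  have hb' : ∀ i j, ∃ a₀ : S₀, algebraMap S₀ S a₀ = algebraMap S₀ S b * LinearMap.toMatrix' gM i j := by
    intro i j
    obtain ⟨a₀, ha₀⟩ := hb (LinearMap.toMatrix' gM i j)
      (Finset.mem_image.mpr ⟨(i, j), Finset.mem_univ _, rfl⟩)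
    exact ⟨a₀, by rw [ha₀, Algebra.smul_def]⟩
  choose A₀ hA₀ using hb'
  have hunit : IsUnit (algebraMap S₀ S b) := IsLocalization.map_units S b
  let gM' : (Fin k → S) →ₗ[S] (Fin n → S) := (algebraMap S₀ S b) • gM
  have hfg' : Function.Exact gM' fM := by
    intro y
    constructor
    · intro hy
      obtain ⟨v, rfl⟩ := (hfgM y).mp hy
      obtain ⟨c, hc⟩ := hunit.exists_left_inv
      refine ⟨c • v, ?_⟩
      change algebraMap S₀ S b • gM (c • v) = gM v
      rw [map_smul, smul_smul, mul_comm, hc, one_smul]
    · rintro ⟨v, rfl⟩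
      change fM (algebraMap S₀ S b • gM v) = 0
      rw [map_smul, hfgM.apply_apply_eq_zero, smul_zero]
  have hA : (Matrix.of A₀).map (algebraMap S₀ S) = LinearMap.toMatrix' gM' := by
    ext i j
    rw [Matrix.map_apply, Matrix.of_apply, hA₀]
    simp [gM', LinearMap.toMatrix'_apply, Algebra.smul_def]
  refine ⟨ModelModG (Matrix.of A₀), inferInstance, inferInstance, ?_,
    modelMapG fM gM' hfg' (Matrix.of A₀) hA, isBaseChange_modelMapG fM gM' hfg' (Matrix.of A₀) hA hfM⟩
  refine Module.finitePresentation_of_free_of_surjective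
    (LinearMap.range (Matrix.toLin' (Matrix.of A₀))).mkQ (Submodule.mkQ_surjective _) ?_
  rw [Submodule.ker_mkQ, LinearMap.range_eq_map]
  exact (Module.Finite.fg_top).map _

end Groth.Agent.H48.PtFlat

namespace Groth.Agent.H48.PtFlat
universe u

open IsLocalRing in
/-- **Stacks 046Y** (EGA IV 11.3.7 local form): `R → S` local, `S` essentially of finite
presentation, `u : M → N` a map of finitely presented `S`-modules, `N` flat over `R`, `u` injective
modulo `𝔪_R`. Then `u` is injective with `R`-flat cokernel. -/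
theorem injective_and_flat_coker_of_local {R S M N : Type u} [CommRing R] [CommRing S]
    [IsLocalRing R] [IsLocalRing S] [Algebra R S] [IsLocalHom (algebraMap R S)]
    (S₀ : Type u) [CommRing S₀] [Algebra R S₀] [Algebra S₀ S] [IsScalarTower R S₀ S]
    (W : Submonoid S₀) [Algebra.FinitePresentation R S₀] [IsLocalization W S]
    [AddCommGroup M] [Module S M] [Module R M] [IsScalarTower R S M]
    [Module.FinitePresentation S M]
    [AddCommGroup N] [Module S N] [Module R N] [IsScalarTower R S N]
    [Module.FinitePresentation S N] [Module.Flat R N] (u : M →ₗ[S] N)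
    (hu : ∀ x : M, u x ∈ (maximalIdeal R).map (algebraMap R S) • (⊤ : Submodule S N) →
      x ∈ (maximalIdeal R).map (algebraMap R S) • (⊤ : Submodule S M)) :
    Function.Injective u ∧ Module.Flat R (N ⧸ LinearMap.range u) := by
  classical
  -- `S` is the localization of `S₀` at a prime
  set q₀ : Ideal S₀ := (maximalIdeal S).comap (algebraMap S₀ S) with hq₀
  haveI : IsLocalization.AtPrime S q₀ := by
    refine IsLocalization.of_le W q₀.primeCompl ?_ ?_
    · intro w hw hmem
      exact (IsLocalRing.mem_maximalIdeal _).mp hmem (IsLocalization.map_units S ⟨w, hw⟩)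
    · intro r hr
      by_contra hnu
      exact hr ((IsLocalRing.mem_maximalIdeal _).mpr hnu)
  have hqm : q₀.comap (algebraMap R S₀) = maximalIdeal R := by
    rw [hq₀, Ideal.comap_comap, ← IsScalarTower.algebraMap_eq]
    exact ((IsLocalRing.local_hom_TFAE (algebraMap R S)).out 0 4).mp ‹IsLocalHom (algebraMap R S)›
  -- module structures over `S₀`
  letI modM : Module S₀ M := Module.compHom M (algebraMap S₀ S)
  letI modN : Module S₀ N := Module.compHom N (algebraMap S₀ S)
  haveI tM : IsScalarTower S₀ S M := ⟨fun a b x => by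
    rw [Algebra.smul_def, mul_smul]; rfl⟩
  haveI tN : IsScalarTower S₀ S N := ⟨fun a b x => by
    rw [Algebra.smul_def, mul_smul]; rfl⟩
  haveI tRM : IsScalarTower R S₀ M := ⟨fun r a x => by
    change algebraMap S₀ S (r • a) • x = r • (algebraMap S₀ S a • x)
    rw [Algebra.smul_def, map_mul, mul_smul, ← IsScalarTower.algebraMap_apply, algebraMap_smul]⟩
  haveI tRN : IsScalarTower R S₀ N := ⟨fun r a x => by
    change algebraMap S₀ S (r • a) • x = r • (algebraMap S₀ S a • x)
    rw [Algebra.smul_def, map_mul, mul_smul, ← IsScalarTower.algebraMap_apply, algebraMap_smul]⟩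
  -- models of the modules
  obtain ⟨M₀, _, _, _, f₀, hf₀⟩ := exists_model_of_isLocalization (S₀ := S₀) (S := S) (M := M) W
  obtain ⟨N₀, _, _, _, g₀, hg₀⟩ := exists_model_of_isLocalization (S₀ := S₀) (S := S) (M := N) W
  letI : Module R M₀ := Module.compHom M₀ (algebraMap R S₀)
  letI : Module R N₀ := Module.compHom N₀ (algebraMap R S₀)
  haveI : IsScalarTower R S₀ M₀ := ⟨fun a b x => by rw [Algebra.smul_def, mul_smul]; rfl⟩
  haveI : IsScalarTower R S₀ N₀ := ⟨fun a b x => by rw [Algebra.smul_def, mul_smul]; rfl⟩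
  haveI lf₀W : IsLocalizedModule W f₀ := (isLocalizedModule_iff_isBaseChange W S f₀).mpr hf₀
  haveI lg₀W : IsLocalizedModule W g₀ := (isLocalizedModule_iff_isBaseChange W S g₀).mpr hg₀
  haveI lf₀ : IsLocalizedModule q₀.primeCompl f₀ :=
    (isLocalizedModule_iff_isBaseChange q₀.primeCompl S f₀).mpr hf₀
  haveI lg₀ : IsLocalizedModule q₀.primeCompl g₀ :=
    (isLocalizedModule_iff_isBaseChange q₀.primeCompl S g₀).mpr hg₀
  -- model of the map
  obtain ⟨u₀, w, hu₀⟩ := Module.FinitePresentation.exists_lift_of_isLocalizedModule W g₀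
    ((u.restrictScalars S₀) ∘ₗ f₀)
  have hcunit : IsUnit (algebraMap S₀ S w) := IsLocalization.map_units S w
  obtain ⟨c', hc'⟩ := hcunit.exists_left_inv
  let u' : M →ₗ[S] N := (algebraMap S₀ S w) • u
  have huu : ∀ x, (u'.restrictScalars S₀) (f₀ x) = g₀ (u₀ x) := by
    intro x
    have := LinearMap.congr_fun hu₀ x
    rw [LinearMap.comp_apply] at this
    rw [this]
    rfl
  -- flatness at `q₀`
  haveI : Module.Flat R (LocalizedModule q₀.primeCompl N₀) := Module.Flat.of_linearEquiv
    ((IsLocalizedModule.iso q₀.primeCompl g₀).restrictScalars R)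
  -- hypothesis
  have hu' : ∀ x : M, u' x ∈ maximalIdeal R • (⊤ : Submodule R N) →
      x ∈ maximalIdeal R • (⊤ : Submodule R M) := by
    intro x hx
    rw [← mem_map_smul_top_iff (A := S)] at hx ⊢
    apply hu
    have : u x = c' • u' x := by
      change u x = c' • (algebraMap S₀ S w • u x)
      rw [smul_smul, hc', one_smul]
    rw [this]
    exact Submodule.smul_mem _ _ hx
  have hfib : IdealInjAt (maximalIdeal R) q₀.primeCompl u₀ := by
    rw [idealInjAt_iff_injAtFor]
    refine injAtFor_of_rTensor_injective f₀ g₀ (u'.restrictScalars S₀) huu ?_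
    have h1 := (rTensor_quot_injective_iff (maximalIdeal R) (u'.restrictScalars R)).mpr hu'
    intro a b hab
    apply h1
    have key : ∀ z : M ⊗[R] (R ⧸ maximalIdeal R),
        (u'.restrictScalars R).rTensor (R ⧸ maximalIdeal R) z =
        AlgebraTensorModule.rTensor R (R ⧸ maximalIdeal R) (u'.restrictScalars S₀) z := by
      intro z
      induction z using TensorProduct.induction_on with
      | zero => simp
      | tmul m p => rfl
      | add a b ha hb => simp only [map_add, ha, hb]
    rw [key, key, hab]
  obtain ⟨hinj, hflat⟩ := injective_and_flat_coker_of_flat_at u₀ (maximalIdeal R) q₀ hqm hfib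
    f₀ g₀ (u'.restrictScalars S₀) huu
  constructor
  · intro x y hxy
    apply hinj
    change algebraMap S₀ S w • u x = algebraMap S₀ S w • u y
    rw [hxy]
  · have hrange : LinearMap.range (((u'.restrictScalars S₀)).restrictScalars R) =
        (LinearMap.range u).restrictScalars R := by
      ext y
      constructor
      · rintro ⟨x, rfl⟩
        exact ⟨algebraMap S₀ S w • x, by rw [map_smul]; rfl⟩
      · rintro ⟨x, rfl⟩
        refine ⟨c' • x, ?_⟩
        change algebraMap S₀ S w • u (c' • x) = u x
        rw [map_smul, smul_smul, mul_comm, hc', one_smul]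
    rw [hrange] at hflat
    exact Module.Flat.of_linearEquiv
      (Submodule.Quotient.restrictScalarsEquiv R (LinearMap.range u)).symm

end Groth.Agent.H48.PtFlat
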