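import Mathlib
import Groth.Agent.H48.FibCrit4
import Groth.Agent.H48.PtFlat9

/-!
# Fibrewise criterion of flatness, local essentially finitely presented form (helper48)
-/

open TensorProduct

namespace Groth.Agent.H48.FibCrit
universe u

/-- finitely many elements of `Away b` dying in the bigger localization are killed by one
element of `W`. -/
theorem exists_kill_of_finset {B B' : Type u} [CommRing B] [CommRing B'] [Algebra B B']
    (W : Submonoid B) [IsLocalization W B'] (b : B) (hb : b ∈ W)
    (ℓ₀ : Localization.Away b →ₐ[B] B') (t : Finset (Localization.Away b))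
    (ht : ∀ z ∈ t, ℓ₀ z = 0) :
    ∃ v ∈ W, ∀ z ∈ t, algebraMap B (Localization.Away b) v * z = 0 := by
  classical
  letI : Algebra (Localization.Away b) B' := ℓ₀.toRingHom.toAlgebra
  haveI : IsScalarTower B (Localization.Away b) B' := .of_algebraMap_eq (fun x => by
    change algebraMap B B' x = ℓ₀ (algebraMap B _ x)
    rw [AlgHom.commutes])
  haveI hloc : IsLocalization (W.map (algebraMap B (Localization.Away b))) B' :=
    IsLocalization.isLocalization_of_submonoid_le (Localization.Away b) B' (Submonoid.powers b) W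
      (by
        rw [Submonoid.powers_le]; exact hb)
  induction t using Finset.induction_on with
  | empty => exact ⟨1, W.one_mem, by simp⟩
  | insert z t hz ih =>
    obtain ⟨v, hv, hvt⟩ := ih (fun z hz => ht z (Finset.mem_insert_of_mem hz))
    have hz0 : algebraMap (Localization.Away b) B' z = 0 := ht z (Finset.mem_insert_self _ _)
    obtain ⟨⟨m, v', hv', rfl⟩, hm⟩ :=
      (IsLocalization.map_eq_zero_iff (W.map (algebraMap B (Localization.Away b))) B' z).mp hz0
    refine ⟨v * v', W.mul_mem hv hv', ?_⟩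
    intro x hx
    rw [Finset.mem_insert] at hx
    rcases hx with rfl | hx
    · rw [map_mul, mul_assoc]
      change _ * (algebraMap B (Localization.Away b) v' * x) = 0
      simp only at hm
      rw [hm, mul_zero]
    · rw [map_mul, mul_comm (algebraMap B _ v), mul_assoc, hvt x hx, mul_zero]

/-- **Spreading out a homomorphism**: a homomorphism from a finitely presented algebra into a
localization `W⁻¹B` factors through `B[1/w]` for some `w ∈ W`. -/
theorem exists_algHom_away {R A B B' : Type u} [CommRing R] [CommRing A] [CommRing B] [CommRing B']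
    [Algebra R A] [Algebra R B] [Algebra B B'] [Algebra R B'] [IsScalarTower R B B']
    [Algebra.FinitePresentation R A] (W : Submonoid B) [IsLocalization W B'] (φ : A →ₐ[R] B') :
    ∃ (w : B) (_ : w ∈ W) (ψ : A →ₐ[R] Localization.Away w) (ℓ : Localization.Away w →ₐ[B] B'),
      ∀ a, ℓ (ψ a) = φ a := by
  classical
  obtain ⟨n, f, hf, hker⟩ := Algebra.FinitePresentation.out (R := R) (A := A)
  obtain ⟨s, hs⟩ := hker
  -- common denominators
  obtain ⟨b, hb⟩ := IsLocalization.exist_integer_multiples_of_finite W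
    (fun i : Fin n => φ (f (MvPolynomial.X i)))
  choose c hc using hb
  let L₀ := Localization.Away (b : B)
  have hb_unit : ∀ y : Submonoid.powers (b : B), IsUnit ((Algebra.ofId B B') y) := by
    rintro ⟨_, k, rfl⟩
    change IsUnit (algebraMap B B' ((b : B) ^ k))
    rw [map_pow]
    exact (IsLocalization.map_units B' b).pow k
  let ℓ₀ : L₀ →ₐ[B] B' := IsLocalization.liftAlgHom (M := Submonoid.powers (b : B))
    (f := Algebra.ofId B B') hb_unit
  let y : Fin n → L₀ := fun i =>
    IsLocalization.mk' L₀ (c i) (⟨b, Submonoid.mem_powers _⟩ : Submonoid.powers (b : B))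
  let ψ₀ : MvPolynomial (Fin n) R →ₐ[R] L₀ := MvPolynomial.aeval y
  have h0 : (ℓ₀.restrictScalars R).comp ψ₀ = φ.comp f := by
    apply MvPolynomial.algHom_ext
    intro i
    change ℓ₀ (MvPolynomial.aeval y (MvPolynomial.X i)) = φ (f (MvPolynomial.X i))
    rw [MvPolynomial.aeval_X]
    change IsLocalization.lift hb_unit (IsLocalization.mk' L₀ (c i) _) = _
    rw [IsLocalization.lift_mk'_spec]
    change algebraMap B B' (c i) = algebraMap B B' b * _
    rw [hc, Algebra.smul_def]
  have h1 : ∀ z ∈ s.image ψ₀, ℓ₀ z = 0 := by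
    intro z hz
    obtain ⟨p, hp, rfl⟩ := Finset.mem_image.mp hz
    have h2 : ℓ₀ (ψ₀ p) = φ (f p) := AlgHom.congr_fun h0 p
    rw [h2]
    have hpk : p ∈ RingHom.ker f.toRingHom := hs ▸ Ideal.subset_span hp
    have hpk' : f p = 0 := hpk
    rw [hpk', map_zero]
  obtain ⟨v, hv, hvs⟩ := exists_kill_of_finset W (b : B) b.2 ℓ₀ (s.image ψ₀) h1
  let w : B := b * v
  have hw : w ∈ W := W.mul_mem b.2 hv
  let L := Localization.Away w
  have hwu : IsUnit (algebraMap B L (b * v)) := IsLocalization.Away.algebraMap_isUnit w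
  rw [map_mul] at hwu
  have hb_unitL : IsUnit (algebraMap B L b) := isUnit_of_mul_isUnit_left hwu
  have hv_unit : IsUnit (algebraMap B L v) := isUnit_of_mul_isUnit_right hwu
  have hτ_unit : ∀ y : Submonoid.powers (b : B), IsUnit ((Algebra.ofId B L) y) := by
    rintro ⟨_, k, rfl⟩
    change IsUnit (algebraMap B L ((b : B) ^ k))
    rw [map_pow]
    exact hb_unitL.pow k
  let τ : L₀ →ₐ[B] L := IsLocalization.liftAlgHom (M := Submonoid.powers (b : B))
    (f := Algebra.ofId B L) hτ_unit
  let ψ₁ : MvPolynomial (Fin n) R →ₐ[R] L := (τ.restrictScalars R).comp ψ₀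
  have hker : RingHom.ker f.toRingHom ≤ RingHom.ker ψ₁.toRingHom := by
    rw [← hs, Ideal.span_le]
    intro p hp
    rw [SetLike.mem_coe, RingHom.mem_ker]
    change τ (ψ₀ p) = 0
    have h3 := hvs (ψ₀ p) (Finset.mem_image_of_mem _ hp)
    have h2 : algebraMap B L v * τ (ψ₀ p) = 0 := by
      rw [← τ.commutes v, ← map_mul, h3, map_zero]
    exact (hv_unit.mul_right_eq_zero).mp h2
  let ψ : A →ₐ[R] L := AlgHom.liftOfSurjective f hf ψ₁ hker
  have hℓ_unit : ∀ y : Submonoid.powers w, IsUnit ((Algebra.ofId B B') y) := by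
    rintro ⟨_, k, rfl⟩
    change IsUnit (algebraMap B B' (w ^ k))
    rw [map_pow]
    exact (IsLocalization.map_units B' ⟨w, hw⟩).pow k
  let ℓ : L →ₐ[B] B' := IsLocalization.liftAlgHom (M := Submonoid.powers w)
    (f := Algebra.ofId B B') hℓ_unit
  have hℓτ : ∀ z, ℓ (τ z) = ℓ₀ z := by
    intro z
    have : (ℓ.comp τ).toRingHom = ℓ₀.toRingHom := by
      apply IsLocalization.ringHom_ext (Submonoid.powers (b : B))
      ext x
      change ℓ (τ (algebraMap B L₀ x)) = ℓ₀ (algebraMap B L₀ x)
      rw [AlgHom.commutes, AlgHom.commutes, AlgHom.commutes]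
    exact RingHom.congr_fun this z
  refine ⟨w, hw, ψ, ℓ, ?_⟩
  intro a
  obtain ⟨x, rfl⟩ := hf a
  rw [AlgHom.liftOfSurjective_apply]
  change ℓ (τ (ψ₀ x)) = _
  rw [hℓτ]
  exact AlgHom.congr_fun h0 x


open IsLocalRing Groth.Agent.H48.PtFlat in
/-- **Fibrewise criterion of flatness** (EGA IV 11.3.10, local form): `R → S → S'` local
homomorphisms of local rings essentially of finite presentation over `R`, `M` a finitely presented
`S'`-module flat over `R` with `M/𝔪_R M` flat over `S/𝔪_R S`. Then `M` is flat over `S`. -/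
theorem flat_of_fibFlat_local {R S S' M : Type u} [CommRing R] [CommRing S] [CommRing S']
    [IsLocalRing R] [IsLocalRing S] [IsLocalRing S'] [Algebra R S] [Algebra S S'] [Algebra R S']
    [IsScalarTower R S S'] [IsLocalHom (algebraMap R S)] [IsLocalHom (algebraMap S S')]
    (S₀ : Type u) [CommRing S₀] [Algebra R S₀] [Algebra S₀ S] [IsScalarTower R S₀ S]
    (W : Submonoid S₀) [Algebra.FinitePresentation R S₀] [IsLocalization W S]
    (T₀' : Type u) [CommRing T₀'] [Algebra R T₀'] [Algebra T₀' S'] [IsScalarTower R T₀' S']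
    (W' : Submonoid T₀') [Algebra.FinitePresentation R T₀'] [IsLocalization W' S']
    [AddCommGroup M] [Module S' M] [Module S M] [Module R M] [IsScalarTower S S' M]
    [IsScalarTower R S' M] [IsScalarTower R S M] [Module.FinitePresentation S' M]
    [Module.Flat R M]
    (hfib : Module.Flat (S ⧸ (maximalIdeal R).map (algebraMap R S))
      (M ⧸ (maximalIdeal R).map (algebraMap R S) • (⊤ : Submodule S M))) :
    Module.Flat S M := by
  classical
  let φ : S₀ →ₐ[R] S' := (IsScalarTower.toAlgHom R S S').comp (IsScalarTower.toAlgHom R S₀ S)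
  obtain ⟨w, hw, ψ, ℓ, hℓψ⟩ := exists_algHom_away W' φ
  let T₀ := Localization.Away w
  letI algS₀T₀ : Algebra S₀ T₀ := ψ.toRingHom.toAlgebra
  haveI tRS₀T₀ : IsScalarTower R S₀ T₀ := .of_algebraMap_eq (fun r => (ψ.commutes r).symm)
  letI algT₀S' : Algebra T₀ S' := ℓ.toRingHom.toAlgebra
  haveI tT₀'T₀S' : IsScalarTower T₀' T₀ S' := .of_algebraMap_eq (fun r => (ℓ.commutes r).symm)
  letI algS₀S' : Algebra S₀ S' := φ.toRingHom.toAlgebra
  haveI tS₀SS' : IsScalarTower S₀ S S' := .of_algebraMap_eq (fun _ => rfl)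
  haveI tS₀T₀S' : IsScalarTower S₀ T₀ S' := .of_algebraMap_eq (fun a => (hℓψ a).symm)
  haveI tRT₀S' : IsScalarTower R T₀ S' := .of_algebraMap_eq (fun r => by
    rw [IsScalarTower.algebraMap_apply R T₀' T₀, ← IsScalarTower.algebraMap_apply T₀' T₀ S',
      ← IsScalarTower.algebraMap_apply R T₀' S'])
  haveI : Algebra.FinitePresentation T₀' T₀ := IsLocalization.Away.finitePresentation w
  haveI fpRT₀ : Algebra.FinitePresentation R T₀ := Algebra.FinitePresentation.trans R T₀' T₀
  haveI fpS₀T₀ : Algebra.FinitePresentation S₀ T₀ :=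
    Algebra.FinitePresentation.of_restrict_scalars_finitePresentation R S₀ T₀
  haveI hlocT₀ : IsLocalization (W'.map (algebraMap T₀' T₀)) S' :=
    IsLocalization.isLocalization_of_submonoid_le T₀ S' (Submonoid.powers w) W'
      (by rw [Submonoid.powers_le]; exact hw)
  set q' : Ideal T₀ := (maximalIdeal S').comap (algebraMap T₀ S') with hq'def
  haveI : IsLocalization.AtPrime S' q' := by
    refine IsLocalization.of_le (W'.map (algebraMap T₀' T₀)) q'.primeCompl ?_ ?_
    · intro x hx hmem
      exact (IsLocalRing.mem_maximalIdeal _).mp hmem (IsLocalization.map_units S' ⟨x, hx⟩)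
    · intro r hr
      by_contra hnu
      exact hr ((IsLocalRing.mem_maximalIdeal _).mpr hnu)
  -- module structures on `M`
  letI modT₀M : Module T₀ M := Module.compHom M (algebraMap T₀ S')
  haveI tT₀S'M : IsScalarTower T₀ S' M := ⟨fun a b x => by
    rw [Algebra.smul_def, mul_smul]; rfl⟩
  letI modS₀M : Module S₀ M := Module.compHom M (algebraMap S₀ S)
  haveI tS₀SM : IsScalarTower S₀ S M := ⟨fun a b x => by
    rw [Algebra.smul_def, mul_smul]; rfl⟩
  have hS₀smul : ∀ (a : S₀) (x : M), a • x = algebraMap S₀ S' a • x := by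
    intro a x
    change algebraMap S₀ S a • x = _
    rw [IsScalarTower.algebraMap_apply S₀ S S', algebraMap_smul S' (algebraMap S₀ S a) x]
  have hT₀smul : ∀ (t : T₀) (x : M), t • x = algebraMap T₀ S' t • x := fun _ _ => rfl
  haveI tS₀T₀M : IsScalarTower S₀ T₀ M := ⟨fun a t x => by
    rw [hS₀smul, hT₀smul, hT₀smul, Algebra.smul_def, map_mul, mul_smul,
      ← IsScalarTower.algebraMap_apply S₀ T₀ S']⟩
  haveI tRT₀M : IsScalarTower R T₀ M := ⟨fun r t x => by
    rw [hT₀smul, hT₀smul, Algebra.smul_def, map_mul, mul_smul,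
      ← IsScalarTower.algebraMap_apply R T₀ S', algebraMap_smul]⟩
  -- the model
  obtain ⟨M₀, _, _, _, f₀, hf₀⟩ := exists_model_of_isLocalization (S₀ := T₀) (S := S') (M := M)
    (W'.map (algebraMap T₀' T₀))
  letI : Module S₀ M₀ := Module.compHom M₀ (algebraMap S₀ T₀)
  letI : Module R M₀ := Module.compHom M₀ (algebraMap R T₀)
  haveI : IsScalarTower S₀ T₀ M₀ := ⟨fun a b x => by rw [Algebra.smul_def, mul_smul]; rfl⟩
  haveI : IsScalarTower R T₀ M₀ := ⟨fun a b x => by rw [Algebra.smul_def, mul_smul]; rfl⟩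
  haveI lf₀ : IsLocalizedModule q'.primeCompl f₀ :=
    (isLocalizedModule_iff_isBaseChange q'.primeCompl S' f₀).mpr hf₀
  let e : LocalizedModule q'.primeCompl M₀ ≃ₗ[T₀] M := IsLocalizedModule.iso q'.primeCompl f₀
  haveI : Module.Flat R (LocalizedModule q'.primeCompl M₀) :=
    Module.Flat.of_linearEquiv (e.restrictScalars R)
  -- the fibre hypothesis
  have hmapS : ((maximalIdeal R).map (algebraMap R S₀)).map (algebraMap S₀ S) =
      (maximalIdeal R).map (algebraMap R S) := by
    rw [Ideal.map_map, ← IsScalarTower.algebraMap_eq]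
  haveI : Module.Flat S₀ S := IsLocalization.flat S W
  have h1 : FibFlat ((maximalIdeal R).map (algebraMap R S)) M :=
    FibFlat.of_flat_quot ((maximalIdeal R).map (algebraMap R S)) M
  have h2 : FibFlat ((maximalIdeal R).map (algebraMap R S₀)) M :=
    FibFlat.of_flat_algebra (A := S₀) (A' := S) _ M (by rw [hmapS]; exact h1)
  have h3 : FibFlat ((maximalIdeal R).map (algebraMap R S₀)) (LocalizedModule q'.primeCompl M₀) :=
    FibFlat.of_linearEquiv _ (e.restrictScalars S₀).symm h2
  have hq'm : (maximalIdeal R).map (algebraMap R T₀) ≤ q' := by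
    rw [Ideal.map_le_iff_le_comap, hq'def, Ideal.comap_comap, ← IsScalarTower.algebraMap_eq]
    have h4 : (maximalIdeal S').comap (algebraMap R S') = maximalIdeal R := by
      have hloc' : IsLocalHom (algebraMap R S') := by
        rw [IsScalarTower.algebraMap_eq R S S']
        exact RingHom.isLocalHom_comp _ _
      exact ((IsLocalRing.local_hom_TFAE (algebraMap R S')).out 0 4).mp hloc'
    rw [h4]
  haveI : Module.Flat S₀ (LocalizedModule q'.primeCompl M₀) :=
    flat_of_fibFlat_at (R := R) (S₀ := S₀) (T₀ := T₀) (M₀ := M₀) (maximalIdeal R) q' hq'm h3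
  haveI : Module.Flat S₀ M := Module.Flat.of_linearEquiv (e.restrictScalars S₀).symm
  exact (Module.flat_iff_of_isLocalization S W M).mpr inferInstance

end Groth.Agent.H48.FibCrit
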