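import Mathlib
import Groth.Agent.H48.PtFlat9

/-!
# Regular sequences on the fibre lift (EGA IV 11.3.8, local form) (helper48)
-/

open TensorProduct

namespace Groth.Agent.H48.RegFib
universe u
open IsLocalRing RingTheory.Sequence Groth.Agent.H48.PtFlat Pointwise

/-- kernel of the induced map on `QuotSMulTop`. -/
theorem ker_quotSMulTop_map {S N F : Type u} [CommRing S] [AddCommGroup N] [Module S N]
    [AddCommGroup F] [Module S F] (I : Ideal S) (a : S) (π : N →ₗ[S] F)
    (hπ : Function.Surjective π)
    (hker : LinearMap.ker π = I • (⊤ : Submodule S N)) :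
    LinearMap.ker (QuotSMulTop.map a π) = I • (⊤ : Submodule S (QuotSMulTop a N)) := by
  apply le_antisymm
  · intro x hx
    obtain ⟨x, rfl⟩ := Submodule.Quotient.mk_surjective _ x
    rw [LinearMap.mem_ker] at hx
    change QuotSMulTop.map a π (Submodule.Quotient.mk x) = 0 at hx
    rw [QuotSMulTop.map_apply_mk, Submodule.Quotient.mk_eq_zero] at hx
    obtain ⟨y, -, hy⟩ := (Submodule.mem_smul_pointwise_iff_exists _ _ _).mp hx
    obtain ⟨z, rfl⟩ := hπ y
    have h1 : x - a • z ∈ I • (⊤ : Submodule S N) := by
      rw [← hker, LinearMap.mem_ker, map_sub, map_smul, hy, sub_self]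
    have h2 : (Submodule.Quotient.mk x : QuotSMulTop a N) = Submodule.Quotient.mk (x - a • z) := by
      rw [Submodule.Quotient.eq]
      have : x - (x - a • z) = a • z := by abel
      rw [this]
      exact Submodule.smul_mem_pointwise_smul z a ⊤ Submodule.mem_top
    rw [h2]
    exact Submodule.smul_top_le_comap_smul_top I (Submodule.mkQ (a • (⊤ : Submodule S N))) h1
  · rw [Submodule.smul_le]
    intro r hr x _
    obtain ⟨x, rfl⟩ := Submodule.Quotient.mk_surjective _ x
    rw [LinearMap.mem_ker, map_smul]
    change r • QuotSMulTop.map a π (Submodule.Quotient.mk x) = 0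
    rw [QuotSMulTop.map_apply_mk, ← Submodule.Quotient.mk_smul, ← map_smul]
    have : r • x ∈ LinearMap.ker π := by
      rw [hker]
      exact Submodule.smul_mem_smul hr Submodule.mem_top
    rw [LinearMap.mem_ker.mp this]
    rfl

/-- **EGA IV 11.3.8 (local form).** `R → S` local, `S` essentially of finite presentation, `N` a
finitely presented `S`-module flat over `R`, `F = N/𝔪_R N`. A sequence weakly regular on `F` is
weakly regular on `N` with `R`-flat successive quotients. -/
theorem isWeaklyRegular_and_flat_quot_of_fibre {R S : Type u} [CommRing R] [CommRing S]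
    [IsLocalRing R] [IsLocalRing S] [Algebra R S] [IsLocalHom (algebraMap R S)]
    (S₀ : Type u) [CommRing S₀] [Algebra R S₀] [Algebra S₀ S] [IsScalarTower R S₀ S]
    (W : Submonoid S₀) [Algebra.FinitePresentation R S₀] [IsLocalization W S] (g : List S) :
    ∀ (N : Type u) [AddCommGroup N] [Module S N] [Module R N] [IsScalarTower R S N]
      [Module.FinitePresentation S N] [Module.Flat R N]
      (F : Type u) [AddCommGroup F] [Module S F] (π : N →ₗ[S] F) (_ : Function.Surjective π)
      (_ : LinearMap.ker π = (maximalIdeal R).map (algebraMap R S) • (⊤ : Submodule S N))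
      (_ : IsWeaklyRegular F g),
      IsWeaklyRegular N g ∧ ∀ i ≤ g.length,
        Module.Flat R (N ⧸ (Ideal.ofList (g.take i) • ⊤ : Submodule S N)) := by
  induction g with
  | nil =>
    intro N _ _ _ _ _ _ F _ _ π hπ hker hreg
    refine ⟨IsWeaklyRegular.nil S N, ?_⟩
    intro i _
    have hbot : (Ideal.ofList (([] : List S).take i) • ⊤ : Submodule S N) = ⊥ := by
      rw [List.take_nil, Ideal.ofList_nil, Submodule.bot_smul]
    exact Module.Flat.of_linearEquiv
      ((Submodule.quotEquivOfEqBot _ hbot).restrictScalars R)
  | cons a g ih =>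
    intro N _ _ _ _ _ _ F _ _ π hπ hker hreg
    obtain ⟨ha, hg⟩ := (isWeaklyRegular_cons_iff F a g).mp hreg
    let u : N →ₗ[S] N := LinearMap.lsmul S N a
    have hu : ∀ x : N, u x ∈ (maximalIdeal R).map (algebraMap R S) • (⊤ : Submodule S N) →
        x ∈ (maximalIdeal R).map (algebraMap R S) • (⊤ : Submodule S N) := by
      intro x hx
      rw [← hker, LinearMap.mem_ker] at hx ⊢
      change π (a • x) = 0 at hx
      rw [map_smul] at hx
      exact ha (by change a • π x = a • 0; rw [hx, smul_zero])
    obtain ⟨hinj, hflat⟩ := injective_and_flat_coker_of_local S₀ W u hu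
    have hrange : LinearMap.range u = a • (⊤ : Submodule S N) := by
      ext y
      rw [Submodule.mem_smul_pointwise_iff_exists]
      constructor
      · rintro ⟨x, rfl⟩
        exact ⟨x, Submodule.mem_top, rfl⟩
      · rintro ⟨x, -, rfl⟩
        exact ⟨x, rfl⟩
    haveI : Module.Flat R (QuotSMulTop a N) := Module.Flat.of_linearEquiv
      ((Submodule.quotEquivOfEq _ _ hrange).symm.restrictScalars R)
    haveI : Module.FinitePresentation S (QuotSMulTop a N) := by
      refine Module.finitePresentation_of_surjective (Submodule.mkQ (a • (⊤ : Submodule S N)))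
        (Submodule.mkQ_surjective _) ?_
      rw [Submodule.ker_mkQ, ← hrange, LinearMap.range_eq_map]
      exact Module.Finite.fg_top.map _
    obtain ⟨h1, h2⟩ := ih (QuotSMulTop a N) (QuotSMulTop a F) (QuotSMulTop.map a π)
      (QuotSMulTop.map_surjective a hπ) (ker_quotSMulTop_map _ a π hπ hker) hg
    have haN : IsSMulRegular N a := fun x y hxy => hinj hxy
    refine ⟨IsWeaklyRegular.cons haN h1, ?_⟩
    intro i hi
    cases i with
    | zero =>
      have hbot : (Ideal.ofList ((a :: g).take 0) • ⊤ : Submodule S N) = ⊥ := by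
        rw [List.take_zero, Ideal.ofList_nil, Submodule.bot_smul]
      exact Module.Flat.of_linearEquiv
        ((Submodule.quotEquivOfEqBot _ hbot).restrictScalars R)
    | succ i =>
      have hi' : i ≤ g.length := by simpa using hi
      haveI := h2 i hi'
      rw [List.take_succ_cons]
      exact Module.Flat.of_linearEquiv
        ((Submodule.quotOfListConsSMulTopEquivQuotSMulTopInner N a (g.take i)).restrictScalars R)

end Groth.Agent.H48.RegFib
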