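import Mathlib
import Groth.Agent.H48.RegFib1

open TensorProduct

namespace Groth.Agent.H48.RegFib
universe u
open IsLocalRing RingTheory.Sequence Groth.Agent.H48.PtFlat Pointwise

attribute [local instance] Algebra.TensorProduct.rightAlgebra in
/-- `B_q` is essentially of finite presentation over `A_p`, `p = q ∩ A`. -/
theorem exists_essFP_atPrime {A B : Type u} [CommRing A] [CommRing B] [Algebra A B]
    [Algebra.FinitePresentation A B] (p : Ideal A) [p.IsPrime] (q : Ideal B) [q.IsPrime]
    [q.LiesOver p] [Algebra (Localization.AtPrime p) (Localization.AtPrime q)]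
    [Localization.AtPrime.IsLiesOverAlgebra p q] :
    ∃ (S₀ : Type u) (_ : CommRing S₀) (_ : Algebra (Localization.AtPrime p) S₀)
      (_ : Algebra S₀ (Localization.AtPrime q))
      (_ : IsScalarTower (Localization.AtPrime p) S₀ (Localization.AtPrime q))
      (W : Submonoid S₀), Algebra.FinitePresentation (Localization.AtPrime p) S₀ ∧
        IsLocalization W (Localization.AtPrime q) := by
  let R := Localization.AtPrime p
  let S := Localization.AtPrime q
  let S₀ := R ⊗[A] B
  let φ : S₀ →ₐ[R] S := Algebra.TensorProduct.lift (Algebra.ofId R S)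
    (IsScalarTower.toAlgHom A B S) (fun _ _ => Commute.all _ _)
  letI algS₀S : Algebra S₀ S := φ.toRingHom.toAlgebra
  haveI tRS₀S : IsScalarTower R S₀ S := .of_algebraMap_eq (fun r => (φ.commutes r).symm)
  haveI tBS₀S : IsScalarTower B S₀ S := .of_algebraMap_eq (fun b => by
    change algebraMap B S b = φ ((1 : R) ⊗ₜ[A] b)
    rw [Algebra.TensorProduct.lift_tmul, map_one, one_mul]
    rfl)
  haveI hloc₀ : IsLocalization (Algebra.algebraMapSubmonoid B p.primeCompl) S₀ :=
    (Algebra.isLocalization_iff_isPushout p.primeCompl R).mpr inferInstance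
  have hle : Algebra.algebraMapSubmonoid B p.primeCompl ≤ q.primeCompl := by
    rintro _ ⟨a, ha, rfl⟩ hmem
    exact ha (by rw [Ideal.LiesOver.over (p := p) (P := q)]; exact hmem)
  refine ⟨S₀, inferInstance, inferInstance, algS₀S, tRS₀S, q.primeCompl.map (algebraMap B S₀),
    inferInstance, ?_⟩
  exact IsLocalization.isLocalization_of_submonoid_le S₀ S
    (Algebra.algebraMapSubmonoid B p.primeCompl) q.primeCompl hle

/-- the fibre of a module over a local ring: `x ↦ x ⊗ 1 : N → N ⊗[A] κ(p)` is surjective with
kernel `𝔪 N` when `N` is a module over `A_p`. -/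
theorem ker_tmul_one_residueField {A : Type u} [CommRing A] (p : Ideal A) [p.IsPrime]
    (N : Type u) [AddCommGroup N] [Module A N] [Module (Localization.AtPrime p) N]
    [IsScalarTower A (Localization.AtPrime p) N] (x : N) :
    x ⊗ₜ[A] (1 : p.ResidueField) = 0 ↔
      x ∈ maximalIdeal (Localization.AtPrime p) • (⊤ : Submodule (Localization.AtPrime p) N) := by
  let R := Localization.AtPrime p
  let e1 : N ⊗[R] p.ResidueField ≃ₗ[R] N ⊗[A] p.ResidueField :=
    IsLocalization.moduleTensorEquiv p.primeCompl R N p.ResidueField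
  let e2 : N ⊗[R] (R ⧸ maximalIdeal R) ≃ₗ[R] N ⧸ (maximalIdeal R • (⊤ : Submodule R N)) :=
    TensorProduct.tensorQuotEquivQuotSMul N (maximalIdeal R)
  have h1 : e1 (x ⊗ₜ[R] (1 : p.ResidueField)) = x ⊗ₜ[A] (1 : p.ResidueField) := rfl
  have h2 : e2 (x ⊗ₜ[R] (1 : R ⧸ maximalIdeal R)) = Submodule.Quotient.mk x := by
    have := TensorProduct.tensorQuotEquivQuotSMul_tmul_mk (M := N) (maximalIdeal R) x 1
    rw [one_smul, map_one] at this
    exact this
  constructor
  · intro h
    rw [← h1, LinearEquiv.map_eq_zero_iff] at h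
    have h3 : e2 (x ⊗ₜ[R] (1 : R ⧸ maximalIdeal R)) = 0 := by
      rw [← map_zero e2]
      exact congrArg e2 h
    rw [h2, Submodule.Quotient.mk_eq_zero] at h3
    exact h3
  · intro h
    rw [← h1, LinearEquiv.map_eq_zero_iff]
    have h3 : e2 (x ⊗ₜ[R] (1 : R ⧸ maximalIdeal R)) = 0 := by
      rw [h2, Submodule.Quotient.mk_eq_zero]
      exact h
    exact (LinearEquiv.map_eq_zero_iff e2).mp h3

/-- **EGA IV 11.3.8 c)⇒a),b)** pointwise: regular sequences on the fibre lift. -/
theorem isRegular_and_flat_quot_of_isRegular_fibre {A B : Type u} [CommRing A] [CommRing B]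
    [Algebra A B] [Algebra.FinitePresentation A B] (M : Type u) [AddCommGroup M] [Module B M]
    [Module A M] [IsScalarTower A B M] [Module.FinitePresentation B M] (q : Ideal B) [q.IsPrime]
    (g : List B) (hflat : Module.Flat A (LocalizedModule q.primeCompl M))
    (hreg : IsRegular
      (LocalizedModule q.primeCompl (M ⊗[A] (q.comap (algebraMap A B)).ResidueField)) g) :
    IsRegular (LocalizedModule q.primeCompl M) g ∧
      ∀ i ≤ g.length, Module.Flat A
        (LocalizedModule q.primeCompl (M ⧸ (Ideal.span {b | b ∈ g.take i} • (⊤ : Submodule B M)))) := by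
  classical
  set p : Ideal A := q.comap (algebraMap A B) with hp
  haveI hlo : q.LiesOver p := ⟨rfl⟩
  letI algRS := Localization.AtPrime.algebraOfLiesOver p q
  let R := Localization.AtPrime p
  let S := Localization.AtPrime q
  haveI : IsLocalHom (algebraMap R S) :=
    Localization.isLocalHom_localRingHom p q (algebraMap A B) Ideal.LiesOver.over
  obtain ⟨S₀, _, _, _, _, W, hfp, hloc⟩ := exists_essFP_atPrime p q
  let N := LocalizedModule q.primeCompl M
  letI modRN : Module R N := Module.compHom N (algebraMap R S)
  haveI tRSN : IsScalarTower R S N := ⟨fun a b x => by rw [Algebra.smul_def, mul_smul]; rfl⟩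
  haveI tARN : IsScalarTower A R N := ⟨fun a r x => by
    change algebraMap R S (a • r) • x = a • (algebraMap R S r • x)
    rw [Algebra.smul_def, map_mul, mul_smul, ← IsScalarTower.algebraMap_apply A R S,
      algebraMap_smul]⟩
  haveI : Module.Flat R N := (Module.flat_iff_of_isLocalization R p.primeCompl N).mpr hflat
  let κ := p.ResidueField
  let π : N →ₗ[S] N ⊗[A] κ :=
    { toFun := fun x => x ⊗ₜ[A] (1 : κ)
      map_add' := fun x y => TensorProduct.add_tmul x y 1
      map_smul' := fun s x => rfl }
  have hcompat : ∀ (r : R) (x : N) (c : κ), (r • x) ⊗ₜ[A] c = x ⊗ₜ[A] (r • c) :=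
    haveI := IsLocalization.tensorProduct_compatibleSMul p.primeCompl R N κ
    fun r x c => TensorProduct.smul_tmul r x c
  have hπ : Function.Surjective π := by
    intro z
    induction z using TensorProduct.induction_on with
    | zero => exact ⟨0, map_zero π⟩
    | tmul x c =>
      obtain ⟨r, rfl⟩ := IsLocalRing.residue_surjective c
      refine ⟨r • x, ?_⟩
      change (r • x) ⊗ₜ[A] (1 : κ) = _
      rw [hcompat, Algebra.smul_def, mul_one]
      rfl
    | add a b ha hb =>
      obtain ⟨a', rfl⟩ := ha
      obtain ⟨b', rfl⟩ := hb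
      exact ⟨a' + b', map_add π a' b'⟩
  have hker : LinearMap.ker π = (maximalIdeal R).map (algebraMap R S) • (⊤ : Submodule S N) := by
    ext x
    rw [LinearMap.mem_ker, mem_map_smul_top_iff]
    exact ker_tmul_one_residueField p N x
  -- the fibre module in the statement
  let e : LocalizedModule q.primeCompl (M ⊗[A] κ) ≃ₗ[B] N ⊗[A] κ :=
    IsLocalizedModule.linearEquiv q.primeCompl
      (LocalizedModule.mkLinearMap q.primeCompl (M ⊗[A] κ))
      (AlgebraTensorModule.rTensor A κ (LocalizedModule.mkLinearMap q.primeCompl M))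
  have hregF : IsRegular (N ⊗[A] κ) g := (e.isRegular_congr g).mp hreg
  have hregF' : IsWeaklyRegular (N ⊗[A] κ) (g.map (algebraMap B S)) :=
    (isWeaklyRegular_map_algebraMap_iff S (N ⊗[A] κ) g).mpr hregF.1
  obtain ⟨h1, h2⟩ := isWeaklyRegular_and_flat_quot_of_fibre S₀ W (g.map (algebraMap B S)) N
    (N ⊗[A] κ) π hπ hker hregF'
  refine ⟨⟨(isWeaklyRegular_map_algebraMap_iff S N g).mp h1, ?_⟩, ?_⟩
  · intro htop
    apply hregF.2
    have hπB : Function.Surjective (π.restrictScalars B) := hπ
    have := congrArg (Submodule.map (π.restrictScalars B)) htop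
    rw [Submodule.map_top, LinearMap.range_eq_top.mpr hπB, Submodule.map_smul'', Submodule.map_top,
      LinearMap.range_eq_top.mpr hπB] at this
    exact this
  · intro i hi
    have hi' : i ≤ (g.map (algebraMap B S)).length := by simpa using hi
    haveI hfl := h2 i hi'
    set M' : Submodule B M := Ideal.span {b | b ∈ g.take i} • ⊤ with hM'
    have hloc' : M'.localized q.primeCompl =
        (Ideal.ofList ((g.map (algebraMap B S)).take i) • ⊤ : Submodule S N) := by
      rw [hM']
      change Submodule.localized' S q.primeCompl (LocalizedModule.mkLinearMap q.primeCompl M) _ = _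
      rw [Submodule.localized'_smul, Submodule.localized'_top, ← List.map_take]
      congr 1
      change Submodule.localized' S q.primeCompl (Algebra.linearMap B S)
        (Submodule.span B {b | b ∈ g.take i}) = _
      rw [Submodule.localized'_span]
      change Ideal.span _ = Ideal.span _
      congr 1
      ext y
      simp only [Set.mem_image, Set.mem_ofPred_eq, List.mem_map]
      rfl
    haveI tARX : IsScalarTower A R
        (N ⧸ (Ideal.ofList ((g.map (algebraMap B S)).take i) • ⊤ : Submodule S N)) := ⟨by
      intro a r x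
      obtain ⟨x, rfl⟩ := Submodule.Quotient.mk_surjective _ x
      rw [← Submodule.Quotient.mk_smul, ← Submodule.Quotient.mk_smul, ← Submodule.Quotient.mk_smul,
        smul_assoc]⟩
    haveI : Module.Flat A R := IsLocalization.flat R p.primeCompl
    haveI : Module.Flat A
        (N ⧸ (Ideal.ofList ((g.map (algebraMap B S)).take i) • ⊤ : Submodule S N)) :=
      Module.Flat.trans A R _
    let e2 : (N ⧸ M'.localized q.primeCompl) ≃ₗ[S] LocalizedModule q.primeCompl (M ⧸ M') :=
      localizedQuotientEquiv q.primeCompl M'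
    let e3 : (N ⧸ (Ideal.ofList ((g.map (algebraMap B S)).take i) • ⊤ : Submodule S N)) ≃ₗ[S]
        N ⧸ M'.localized q.primeCompl := Submodule.quotEquivOfEq _ _ hloc'.symm
    exact Module.Flat.of_linearEquiv ((e3 ≪≫ₗ e2).restrictScalars A).symm

end Groth.Agent.H48.RegFib
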