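import Mathlib
import Groth.Agent.H48.RegFib2
import Groth.Agent.H66.RelGCI4

set_option autoImplicit false
set_option linter.style.haveILetI false

namespace Groth.Agent.H48.RelGCIReg
universe u
open IsLocalRing RingTheory.Sequence Groth.Agent.H48.RegFib Groth.Agent.H66.RelGCI

set_option maxHeartbeats 800000 in
/-- Non-Noetherian form of Stacks 00SW (local part): the equations of a relative global complete
intersection form a regular sequence in `R[x]_{q'}` with all partial quotients flat over `R`. -/
theorem isRegular_and_flat (R : Type u) [CommRing R] (n c : ℕ)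
    (F : Fin c → MvPolynomial (Fin n) R) (h : Synt.IsRelGCI R n c F)
    (q' : Ideal (MvPolynomial (Fin n) R)) [q'.IsPrime] (hq' : Ideal.span (Set.range F) ≤ q') :
    IsRegular (Localization.AtPrime q')
        ((List.ofFn F).map (algebraMap (MvPolynomial (Fin n) R) (Localization.AtPrime q'))) ∧
      (∀ i ≤ c, Module.Flat R (Localization.AtPrime q' ⧸ Ideal.ofList
        (((List.ofFn F).take i).map
          (algebraMap (MvPolynomial (Fin n) R) (Localization.AtPrime q'))))) := by
  obtain ⟨p, hp⟩ : ∃ p : Ideal R, p = q'.under R := ⟨_, rfl⟩
  haveI : p.IsPrime := by rw [hp]; infer_instance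
  haveI : q'.LiesOver p := ⟨hp⟩
  letI : Algebra (Localization.AtPrime p) (Localization.AtPrime q') :=
    Localization.AtPrime.algebraOfLiesOver p q'
  haveI : IsLocalHom (algebraMap (Localization.AtPrime p) (Localization.AtPrime q')) := by
    show IsLocalHom (Localization.localRingHom p q' (algebraMap R (MvPolynomial (Fin n) R))
      Ideal.LiesOver.over)
    infer_instance
  obtain ⟨S₀, _, _, _, _, W, hfp, hloc⟩ := exists_essFP_atPrime p q'
  obtain ⟨fs, hfs⟩ : ∃ fs : List (Localization.AtPrime q'), fs = (List.ofFn F).map
    (algebraMap (MvPolynomial (Fin n) R) (Localization.AtPrime q')) := ⟨_, rfl⟩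
  have hlen : fs.length = c := by rw [hfs, List.length_map, List.length_ofFn]
  have hreg : IsWeaklyRegular (EGA4.FibLocRing R (MvPolynomial (Fin n) R) q') fs := by
    have h0 := (isRegular_fibLoc_poly R n c F h q' hq').toIsWeaklyRegular
    have hmap : (List.ofFn F).map (algebraMap (MvPolynomial (Fin n) R)
        (EGA4.FibLocRing R (MvPolynomial (Fin n) R) q')) =
        fs.map (algebraMap (Localization.AtPrime q')
          (EGA4.FibLocRing R (MvPolynomial (Fin n) R) q')) := by
      rw [hfs, List.map_map]
      rfl
    rw [hmap, isWeaklyRegular_map_algebraMap_iff] at h0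
    exact h0
  have hJ : ((q'.comap (algebraMap R (MvPolynomial (Fin n) R))).map
      (algebraMap R (Localization.AtPrime q')) :
        Submodule (Localization.AtPrime q') (Localization.AtPrime q')) =
      (IsLocalRing.maximalIdeal (Localization.AtPrime p)).map
        (algebraMap (Localization.AtPrime p) (Localization.AtPrime q')) •
        (⊤ : Submodule (Localization.AtPrime q') (Localization.AtPrime q')) := by
    rw [smul_eq_mul, Ideal.mul_top, ← Localization.AtPrime.map_eq_maximalIdeal, Ideal.map_map,
      ← IsScalarTower.algebraMap_eq, hp]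
  haveI : Module.Flat R (Localization.AtPrime q') :=
    Module.Flat.trans R (MvPolynomial (Fin n) R) (Localization.AtPrime q')
  haveI : Module.Flat (Localization.AtPrime p) (Localization.AtPrime q') :=
    (Module.flat_iff_of_isLocalization (Localization.AtPrime p) p.primeCompl
      (Localization.AtPrime q')).mpr inferInstance
  let π : Localization.AtPrime q' →ₗ[Localization.AtPrime q']
      EGA4.FibLocRing R (MvPolynomial (Fin n) R) q' :=
    Submodule.mkQ ((q'.comap (algebraMap R (MvPolynomial (Fin n) R))).map
      (algebraMap R (Localization.AtPrime q')))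
  have hπ : Function.Surjective π := Submodule.mkQ_surjective _
  have hker : LinearMap.ker π = (IsLocalRing.maximalIdeal (Localization.AtPrime p)).map
        (algebraMap (Localization.AtPrime p) (Localization.AtPrime q')) •
        (⊤ : Submodule (Localization.AtPrime q') (Localization.AtPrime q')) := by
    rw [← hJ]
    exact Submodule.ker_mkQ _
  obtain ⟨h1, h2⟩ := isWeaklyRegular_and_flat_quot_of_fibre S₀ W fs (Localization.AtPrime q')
    (EGA4.FibLocRing R (MvPolynomial (Fin n) R) q') π hπ hker hreg
  rw [← hfs]
  refine ⟨⟨h1, ?_⟩, ?_⟩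
  · -- properness
    intro htop
    rw [smul_eq_mul, Ideal.mul_top] at htop
    have hle : Ideal.ofList fs ≤ IsLocalRing.maximalIdeal (Localization.AtPrime q') := by
      unfold Ideal.ofList
      rw [Ideal.span_le]
      intro x hx
      rw [hfs] at hx
      obtain ⟨y, hy, rfl⟩ := List.mem_map.mp hx
      obtain ⟨i, rfl⟩ := (List.mem_ofFn' _ _).mp hy
      rw [← Localization.AtPrime.map_eq_maximalIdeal]
      exact Ideal.mem_map_of_mem _ (hq' (Ideal.subset_span ⟨i, rfl⟩))
    rw [← htop] at hle
    exact (IsLocalRing.maximalIdeal.isMaximal (Localization.AtPrime q')).ne_top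
      (top_le_iff.mp hle)
  · intro i hi
    have hfl := h2 i (by rw [hlen]; exact hi)
    have hfl2 : Module.Flat R (Localization.AtPrime q' ⧸ (Ideal.ofList (fs.take i) •
        (⊤ : Submodule (Localization.AtPrime q') (Localization.AtPrime q')))) :=
      Module.Flat.trans R (Localization.AtPrime p) _
    have hI : (Ideal.ofList (fs.take i) • (⊤ : Submodule (Localization.AtPrime q')
        (Localization.AtPrime q'))) =
        Ideal.ofList (((List.ofFn F).take i).map
          (algebraMap (MvPolynomial (Fin n) R) (Localization.AtPrime q'))) := by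
      rw [smul_eq_mul, Ideal.mul_top, hfs, List.map_take]
    exact Module.Flat.of_linearEquiv ((Submodule.quotEquivOfEq _ _ hI).restrictScalars R).symm

end Groth.Agent.H48.RelGCIReg
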