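import Mathlib

/-!
# Syzygies of a weakly regular sequence have coefficients in the ideal

If `f₁, …, f_c` is a weakly regular sequence in `A` and `∑ dᵢ fᵢ = 0` then every `dᵢ` lies in
`(f₁, …, f_c)`.  Consequently (`mem_of_sum_mem_sq`) `∑ bᵢ fᵢ ∈ I²` forces `bᵢ ∈ I`: the classes of
the `fᵢ` are linearly independent in `I/I²` (degree-one quasi-regularity).
-/

namespace Groth.Agent.H48.Syz
universe u
open RingTheory.Sequence

variable {A : Type u} [CommRing A]

/-- The ideal generated by the first `k` terms of a sequence. -/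
def J (f : ℕ → A) (k : ℕ) : Ideal A := Ideal.span (Set.range (fun i : Fin k => f i))

theorem mem_J (f : ℕ → A) {i k : ℕ} (h : i < k) : f i ∈ J f k :=
  Ideal.subset_span ⟨⟨i, h⟩, rfl⟩

theorem J_mono (f : ℕ → A) {j k : ℕ} (h : j ≤ k) : J f j ≤ J f k := by
  unfold J
  rw [Ideal.span_le]
  rintro _ ⟨i, rfl⟩
  exact mem_J f (lt_of_lt_of_le i.2 h)

/-- Main induction. -/
theorem mem_J_of_sum_eq_zero (f : ℕ → A) :
    ∀ k : ℕ, (∀ j < k, ∀ a : A, a * f j ∈ J f j → a ∈ J f j) →
      ∀ d : Fin k → A, ∑ i, d i * f i = 0 → ∀ i, d i ∈ J f k := by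
  intro k
  induction k with
  | zero => intro _ d _ i; exact i.elim0
  | succ k ih =>
    intro hreg d hd
    rw [Fin.sum_univ_castSucc] at hd
    simp only [Fin.val_castSucc, Fin.val_last] at hd
    have h1 : d (Fin.last k) * f k ∈ J f k := by
      have : d (Fin.last k) * f k = - ∑ i : Fin k, d i.castSucc * f i := by
        linear_combination hd
      rw [this]
      exact neg_mem (sum_mem fun i _ => Ideal.mul_mem_left _ _ (mem_J f i.2))
    have h2 : d (Fin.last k) ∈ J f k := hreg k (Nat.lt_succ_self k) _ h1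
    obtain ⟨e, he⟩ := Ideal.mem_span_range_iff_exists_fun.mp h2
    have h3 : ∑ i : Fin k, (d i.castSucc + e i * f k) * f i = 0 := by
      have h4 : ∑ i : Fin k, e i * f k * f i = f k * ∑ i : Fin k, e i * f i := by
        rw [Finset.mul_sum]
        exact Finset.sum_congr rfl fun i _ => by ring
      simp_rw [add_mul]
      rw [Finset.sum_add_distrib, h4, he]
      linear_combination hd
    have h5 := ih (fun j hj => hreg j (Nat.lt_succ_of_lt hj)) _ h3
    intro i
    refine Fin.lastCases ?_ (fun i => ?_) i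
    · exact J_mono f (Nat.le_succ k) h2
    · have h6 : d i.castSucc = (d i.castSucc + e i * f k) - e i * f k := by ring
      rw [h6]
      exact sub_mem (J_mono f (Nat.le_succ k) (h5 i))
        (Ideal.mul_mem_left _ _ (mem_J f (Nat.lt_succ_self k)))

theorem ofList_take_eq_J (rs : List A) {j : ℕ} (hj : j ≤ rs.length) :
    Ideal.ofList (rs.take j) = J (fun i => rs.getD i 0) j := by
  unfold J Ideal.ofList
  apply le_antisymm
  · rw [Ideal.span_le]
    intro x hx
    obtain ⟨i, hi, rfl⟩ := List.mem_take_iff_getElem.mp hx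
    have hi1 : i < j := lt_of_lt_of_le hi (min_le_left _ _)
    have hi2 : i < rs.length := lt_of_lt_of_le hi (min_le_right _ _)
    refine Ideal.subset_span ⟨⟨i, hi1⟩, ?_⟩
    show rs.getD i 0 = rs[i]
    exact List.getD_eq_getElem _ _ hi2
  · rw [Ideal.span_le]
    rintro _ ⟨i, rfl⟩
    have hi2 : (i : ℕ) < rs.length := lt_of_lt_of_le i.2 hj
    refine Ideal.subset_span ?_
    show rs.getD i 0 ∈ rs.take j
    rw [List.getD_eq_getElem _ _ hi2]
    exact List.mem_take_iff_getElem.mpr ⟨i, lt_min i.2 hi2, rfl⟩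

/-- Syzygies of a weakly regular sequence have coefficients in the ideal of the sequence. -/
theorem mem_ofList_of_sum_eq_zero (rs : List A) (h : IsWeaklyRegular A rs) (d : ℕ → A)
    (hd : ∑ i ∈ Finset.range rs.length, d i * rs.getD i 0 = 0) :
    ∀ i < rs.length, d i ∈ Ideal.ofList rs := by
  have hreg : ∀ j < rs.length, ∀ a : A, a * rs.getD j 0 ∈ J (fun i => rs.getD i 0) j →
      a ∈ J (fun i => rs.getD i 0) j := by
    intro j hj a ha
    have h1 := h.regular_mod_prev j hj
    rw [isSMulRegular_quotient_iff_mem_of_smul_mem] at h1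
    rw [← ofList_take_eq_J rs hj.le] at ha ⊢
    have h2 := h1 a (by
      rw [smul_eq_mul, Ideal.mul_top, smul_eq_mul, mul_comm, ← List.getD_eq_getElem _ 0 hj]
      exact ha)
    rwa [smul_eq_mul, Ideal.mul_top] at h2
  have key := mem_J_of_sum_eq_zero (fun i => rs.getD i 0) rs.length hreg
    (fun i : Fin rs.length => d i) (by rw [Finset.sum_range] at hd; exact hd)
  intro i hi
  have := key ⟨i, hi⟩
  rwa [← ofList_take_eq_J rs le_rfl, List.take_length] at this

/-- Degree-one quasi-regularity of a weakly regular sequence: with `I = (f₁, …, f_c)`,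
`∑ bᵢ fᵢ ∈ I²` forces every `bᵢ ∈ I`. -/
theorem mem_of_sum_mem_sq {c : ℕ} (f : Fin c → A) (h : IsWeaklyRegular A (List.ofFn f))
    (b : Fin c → A) (hb : ∑ i, b i * f i ∈ Ideal.span (Set.range f) ^ 2) :
    ∀ i, b i ∈ Ideal.span (Set.range f) := by
  classical
  have hI : Ideal.ofList (List.ofFn f) = Ideal.span (Set.range f) := by
    unfold Ideal.ofList
    congr 1
    ext x
    simp [List.mem_ofFn]
  rw [pow_two, ← smul_eq_mul (a := Ideal.span (Set.range f)), Ideal.span,
    Submodule.mem_ideal_smul_span_iff_exists_sum] at hb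
  obtain ⟨a, ha, hab⟩ := hb
  rw [Finsupp.sum_fintype a (fun i c => c • f i) (fun i => zero_smul _ _)] at hab
  have hlen : (List.ofFn f).length = c := List.length_ofFn
  let d : ℕ → A := fun i => if hi : i < c then b ⟨i, hi⟩ - a ⟨i, hi⟩ else 0
  have hd : ∑ i ∈ Finset.range (List.ofFn f).length, d i * (List.ofFn f).getD i 0 = 0 := by
    rw [hlen, Finset.sum_range]
    have : ∀ i : Fin c, d i * (List.ofFn f).getD i 0 = b i * f i - a i • f i := by
      intro i
      have hi : (i : ℕ) < (List.ofFn f).length := by rw [hlen]; exact i.2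
      rw [List.getD_eq_getElem _ _ hi]
      simp only [d, dif_pos i.2, List.getElem_ofFn, Fin.eta, smul_eq_mul]
      ring
    rw [Finset.sum_congr rfl fun i _ => this i, Finset.sum_sub_distrib, hab, sub_self]
  have key := mem_ofList_of_sum_eq_zero (List.ofFn f) h d hd
  intro i
  have h1 := key i (by rw [hlen]; exact i.2)
  rw [hI] at h1
  simp only [d, dif_pos i.2, Fin.eta] at h1
  have h2 : b i = (b i - a i) + a i := by ring
  rw [h2]
  exact add_mem h1 (ha i)

end Groth.Agent.H48.Syz
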