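import Mathlib
import Groth.Agent.H48.RelGCIReg
import Groth.Agent.H48.Syz

set_option autoImplicit false
set_option linter.style.haveILetI false

namespace Groth.Agent.H48.RelGCICot
universe u
open IsLocalRing RingTheory.Sequence

/-- generators of an ideal span its cotangent module. -/
theorem span_toCotangent_eq_top {P : Type u} [CommRing P] {c : ℕ} (F : Fin c → P) :
    Submodule.span (P ⧸ Ideal.span (Set.range F)) (Set.range
        (fun i : Fin c => (Ideal.span (Set.range F)).toCotangent
          ⟨F i, Ideal.subset_span (Set.mem_range_self i)⟩)) = ⊤ := by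
  rw [eq_top_iff]
  rintro x -
  obtain ⟨y, rfl⟩ := (Ideal.span (Set.range F)).toCotangent_surjective x
  obtain ⟨a, ha⟩ := Ideal.mem_span_range_iff_exists_fun.mp y.2
  have hy : y = ∑ i, a i • (⟨F i, Ideal.subset_span (Set.mem_range_self i)⟩ :
      Ideal.span (Set.range F)) := by
    apply Subtype.ext
    rw [← ha, AddSubmonoidClass.coe_finsetSum]
    rfl
  rw [hy, map_sum]
  refine Submodule.sum_mem _ fun i _ => ?_
  rw [map_smul, ← algebraMap_smul (P ⧸ Ideal.span (Set.range F))]
  exact Submodule.smul_mem _ _ (Submodule.subset_span ⟨i, rfl⟩)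

/-- If the images of `F` form a weakly regular sequence in `P_m` for every maximal `m ⊇ (F)`,
then the classes of the `F i` are linearly independent in `(F)/(F)²`. -/
theorem linearIndependent_toCotangent {P : Type u} [CommRing P] {c : ℕ} (F : Fin c → P)
    (hreg : ∀ (m : Ideal P) [m.IsMaximal], Ideal.span (Set.range F) ≤ m →
      IsWeaklyRegular (Localization.AtPrime m)
        ((List.ofFn F).map (algebraMap P (Localization.AtPrime m)))) :
    LinearIndependent (P ⧸ Ideal.span (Set.range F))
        (fun i : Fin c => (Ideal.span (Set.range F)).toCotangent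
          ⟨F i, Ideal.subset_span (Set.mem_range_self i)⟩) := by
  classical
  set I := Ideal.span (Set.range F) with hI
  rw [Fintype.linearIndependent_iff]
  intro g hg
  have hsurj : ∀ i, ∃ b, Ideal.Quotient.mk I b = g i := fun i => Ideal.Quotient.mk_surjective (g i)
  choose b hb using hsurj
  have hsum : ∑ i, b i * F i ∈ I ^ 2 := by
    have h1 : ∑ i, g i • I.toCotangent ⟨F i, Ideal.subset_span (Set.mem_range_self i)⟩ =
        I.toCotangent ⟨∑ i, b i * F i, I.sum_mem fun i _ =>
          I.mul_mem_left _ (Ideal.subset_span (Set.mem_range_self i))⟩ := by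
      have h2 : (⟨∑ i, b i * F i, I.sum_mem fun i _ =>
          I.mul_mem_left _ (Ideal.subset_span (Set.mem_range_self i))⟩ : I) =
          ∑ i, b i • (⟨F i, Ideal.subset_span (Set.mem_range_self i)⟩ : I) := by
        apply Subtype.ext
        rw [AddSubmonoidClass.coe_finsetSum]
        rfl
      rw [h2, map_sum]
      refine Finset.sum_congr rfl fun i _ => ?_
      rw [map_smul, ← hb i]
      exact (algebraMap_smul (P ⧸ I) (b i) _)
    rw [h1, Ideal.toCotangent_eq_zero] at hg
    exact hg
  have hmem : ∀ i, b i ∈ I := by
    intro i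
    apply Ideal.mem_of_localization_maximal
    intro m hm
    by_cases hIm : I ≤ m
    · have hw := hreg m hIm
      rw [List.map_ofFn] at hw
      have hmap : I.map (algebraMap P (Localization.AtPrime m)) =
          Ideal.span (Set.range (algebraMap P (Localization.AtPrime m) ∘ F)) := by
        rw [hI, Ideal.map_span, Set.range_comp]
      rw [hmap]
      refine Syz.mem_of_sum_mem_sq (algebraMap P (Localization.AtPrime m) ∘ F) hw
        (fun i => algebraMap P (Localization.AtPrime m) (b i)) ?_ i
      rw [← hmap, ← Ideal.map_pow]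
      have := Ideal.mem_map_of_mem (algebraMap P (Localization.AtPrime m)) hsum
      rw [map_sum] at this
      simpa only [map_mul, Function.comp_apply] using this
    · obtain ⟨x, hx, hxm⟩ := SetLike.not_le_iff_exists.mp hIm
      have hu : IsUnit (algebraMap P (Localization.AtPrime m) x) :=
        IsLocalization.map_units (M := m.primeCompl) _ ⟨x, hxm⟩
      rw [Ideal.eq_top_of_isUnit_mem _ (Ideal.mem_map_of_mem _ hx) hu]
      trivial
  intro i
  rw [← hb i]
  exact Ideal.Quotient.eq_zero_iff_mem.mpr (hmem i)

end Groth.Agent.H48.RelGCICot
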