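import Mathlib

set_option autoImplicit false
universe u

namespace Groth.Agent.H48.PS_G4

theorem preimage_mem_irreducibleComponents {U T : Type u} [TopologicalSpace U] [TopologicalSpace T]
    (ι : U → T) (hι : Topology.IsOpenEmbedding ι) (pt : T) (hpt : Set.range ι = {pt}ᶜ)
    (hloc : ∀ C : Set T, IsClosed C → C.Nonempty → pt ∈ C) (hU : Nonempty U)
    (W : Set T) (hW : W ∈ irreducibleComponents T) :
    ι ⁻¹' W ∈ irreducibleComponents U ∧ ι '' (ι ⁻¹' W) ∪ {pt} = W ∧ (ι ⁻¹' W).Nonempty := by
  have hWcl : IsClosed W := isClosed_of_mem_irreducibleComponents W hW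
  have hWmax : Maximal IsIrreducible W := hW
  have hWirr : IsIrreducible W := hWmax.1
  have hptW : pt ∈ W := hloc W hWcl hWirr.1
  have hne_pt : ∀ u : U, ι u ≠ pt := by
    intro u h
    have : ι u ∈ Set.range ι := ⟨u, rfl⟩
    rw [hpt] at this
    exact this h
  -- W ≠ {pt}
  have hWne : W ≠ {pt} := by
    intro hWeq
    obtain ⟨u⟩ := hU
    have hirr : IsIrreducible (closure {ι u}) := isIrreducible_singleton.closure
    have hptc : pt ∈ closure {ι u} := hloc _ isClosed_closure ⟨ι u, subset_closure rfl⟩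
    have hsub : W ≤ closure {ι u} := by
      rw [hWeq]
      intro x hx
      rw [Set.mem_singleton_iff] at hx
      rw [hx]; exact hptc
    have := hWmax.2 hirr hsub
    have h2 : ι u ∈ W := this (subset_closure rfl)
    rw [hWeq, Set.mem_singleton_iff] at h2
    exact hne_pt u h2
  -- a point of W different from pt
  have hex : ∃ w ∈ W, w ≠ pt := by
    by_contra hcon
    push Not at hcon
    apply hWne
    apply Set.Subset.antisymm
    · intro w hw
      exact hcon w hw
    · intro w hw
      rw [Set.mem_singleton_iff] at hw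
      rw [hw]; exact hptW
  obtain ⟨w, hwW, hwpt⟩ := hex
  have hwr : w ∈ Set.range ι := by
    rw [hpt]; exact hwpt
  obtain ⟨u₀, hu₀⟩ := hwr
  have hnonempty : (ι ⁻¹' W).Nonempty := ⟨u₀, by rw [Set.mem_preimage, hu₀]; exact hwW⟩
  have himg : ι '' (ι ⁻¹' W) = W ∩ {pt}ᶜ := by
    rw [Set.image_preimage_eq_inter_range, hpt]
  have hirrpre : IsIrreducible (ι ⁻¹' W) :=
    ⟨hnonempty, hWirr.2.preimage hι⟩
  refine ⟨?_, ?_, hnonempty⟩
  · -- maximality
    change Maximal IsIrreducible (ι ⁻¹' W)
    refine ⟨hirrpre, ?_⟩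
    intro V hV hle v hv
    have hVimg : IsIrreducible (closure (ι '' V)) :=
      (hV.image ι hι.continuous.continuousOn).closure
    have hopen : IsOpen ({pt}ᶜ : Set T) := by
      rw [← hpt]; exact hι.isOpen_range
    have hinter : (W ∩ {pt}ᶜ).Nonempty := ⟨w, hwW, hwpt⟩
    have h1 : W ⊆ closure (W ∩ {pt}ᶜ) :=
      subset_closure_inter_of_isPreirreducible_of_isOpen hWirr.2 hopen hinter
    have h2 : W ∩ {pt}ᶜ ⊆ ι '' V := by
      rw [← himg]
      exact Set.image_mono hle
    have h3 : W ≤ closure (ι '' V) := h1.trans (closure_mono h2)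
    have h4 := hWmax.2 hVimg h3
    exact h4 (subset_closure ⟨v, hv, rfl⟩)
  · rw [himg]
    apply Set.Subset.antisymm
    · intro x hx
      rcases hx with hx | hx
      · exact hx.1
      · rw [Set.mem_singleton_iff] at hx
        rw [hx]; exact hptW
    · intro x hx
      by_cases hxp : x = pt
      · right; exact hxp
      · left; exact ⟨hx, hxp⟩

end Groth.Agent.H48.PS_G4
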