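import Mathlib

/-!
# Definitions for S1362 (weak relative Noether normalization)
-/

set_option autoImplicit false
universe u

open TensorProduct

namespace Groth.Agent.H48.WRNN

variable {R S : Type u} [CommRing R] [CommRing S] [Algebra R S]

/-- fibre evaluation hom `κ(p)[T_i] → κ(p) ⊗ S`, `T_i ↦ 1 ⊗ x_i`. -/
noncomputable def fibEval (p : Ideal R) [p.IsPrime] {σ : Type*} (x : σ → S) :
    MvPolynomial σ p.ResidueField →ₐ[p.ResidueField] p.Fiber S :=
  MvPolynomial.aeval (fun i => (1 : p.ResidueField) ⊗ₜ[R] x i)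

variable (R) in
/-- fibrewise integrality of a tuple. -/
def FibInt {σ : Type*} (x : σ → S) : Prop :=
  ∀ (p : Ideal R) [p.IsPrime], (fibEval (S := S) p x).toRingHom.IsIntegral

/-- (COMPAT) -/
theorem fibEval_map (p : Ideal R) [p.IsPrime] {σ : Type*} (x : σ → S) (G : MvPolynomial σ R) :
    fibEval p x (MvPolynomial.map (algebraMap R p.ResidueField) G) =
      (1 : p.ResidueField) ⊗ₜ[R] MvPolynomial.aeval x G := by
  rw [fibEval, MvPolynomial.aeval_map_algebraMap]
  have h := MvPolynomial.comp_aeval_apply (R := R) (f := x)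
    (Algebra.TensorProduct.includeRight : S →ₐ[R] p.Fiber S) G
  simp only [Algebra.TensorProduct.includeRight_apply] at h
  exact h.symm

/-- Nagata substitution hom `T_0 ↦ X`, `T_{j+1} ↦ C T_j + X^(e^(j+1))`. -/
noncomputable def nagata (k : Type*) [CommRing k] (n e : ℕ) :
    MvPolynomial (Fin (n + 1)) k →ₐ[k] Polynomial (MvPolynomial (Fin n) k) :=
  MvPolynomial.aeval (Fin.cases Polynomial.X
    (fun j : Fin n => Polynomial.C (MvPolynomial.X j) + Polynomial.X ^ (e ^ (j.1 + 1))))

/-- the relation locus of `G`. -/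
def relLocus {σ : Type*} (x : σ → S) (G : MvPolynomial σ R) : Set (PrimeSpectrum R) :=
  {p | MvPolynomial.map (algebraMap R p.asIdeal.ResidueField) G ≠ 0 ∧
    (1 : p.asIdeal.ResidueField) ⊗ₜ[R] MvPolynomial.aeval x G = (0 : p.asIdeal.Fiber S)}

end Groth.Agent.H48.WRNN
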