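import Mathlib
import Groth.Agent.H48.IndZar

/-!
# Extraction from an ind-Zariski presentation (helper48): the converse of
`IndZar.isIndZariski_of_tuples`.
-/

set_option autoImplicit false
universe u

open CategoryTheory CategoryTheory.Limits

namespace Groth.Agent.H48.IndZarTup

variable {A B : Type u} [CommRing A] [CommRing B] [Algebra A B]

/-- algebraic form of an ind-Zariski presentation -/
theorem exists_stage_data (h : EtPBC.IsIndZariski A B) :
    ∃ (J : Type u) (_ : SmallCategory J) (_ : IsFiltered J) (E : J → Type u)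
      (_ : ∀ j, CommRing (E j)) (_ : ∀ j, Algebra A (E j)) (_ : ∀ j, Algebra.IsLocalIso A (E j))
      (tr : ∀ {j k : J}, (j ⟶ k) → (E j →ₐ[A] E k)) (b : ∀ j, E j →ₐ[A] B),
      (∀ {j k : J} (f : j ⟶ k), (b k).comp (tr f) = b j) ∧
      (∀ x : B, ∃ j y, b j y = x) ∧
      (∀ j (y y' : E j), b j y = b j y' → ∃ (k : J) (f : j ⟶ k), tr f y = tr f y') := by
  obtain ⟨J, iJ, hJ, D, c, hc, hD, ⟨i⟩⟩ := h
  haveI : PreservesColimitsOfShape J (forget CommRingCat.{u}) :=
    PreservesFilteredColimitsOfSize.preserves_filtered_colimits J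
  haveI : PreservesColimitsOfShape J (Under.forget (CommRingCat.of A)) :=
    PreservesFilteredColimitsOfSize.preserves_filtered_colimits J
  have h1 : IsColimit ((forget CommRingCat.{u}).mapCocone
      ((Under.forget (CommRingCat.of A)).mapCocone c)) :=
    isColimitOfPreserves (forget CommRingCat.{u})
      (isColimitOfPreserves (Under.forget (CommRingCat.of A)) hc)
  letI alg : ∀ j, Algebra A (D.obj j).right := fun j => (D.obj j).hom.hom.toAlgebra
  have halg : ∀ j (a : A), algebraMap A (D.obj j).right a = (D.obj j).hom.hom a := fun j a => rfl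
  -- transition maps
  let tr : ∀ {j k : J}, (j ⟶ k) → ((D.obj j).right →ₐ[A] (D.obj k).right) := fun {j k} f =>
    { (D.map f).right.hom with
      commutes' := fun a => by
        have hw := Under.w (D.map f)
        have := congrArg (fun g => g.hom a) hw
        exact this }
  -- maps to `B`
  let b : ∀ j, (D.obj j).right →ₐ[A] B := fun j =>
    { (i.hom.right.hom).comp (c.ι.app j).right.hom with
      commutes' := fun a => by
        have hw := Under.w (c.ι.app j)
        have h2 := congrArg (fun g => g.hom a) hw
        have hw' := Under.w i.hom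
        have h3 := congrArg (fun g => g.hom a) hw'
        show i.hom.right.hom ((c.ι.app j).right.hom ((D.obj j).hom.hom a)) = algebraMap A B a
        have h2' : (c.ι.app j).right.hom ((D.obj j).hom.hom a) = c.pt.hom.hom a := h2
        rw [h2']
        exact h3 }
  have hinj_i : Function.Injective i.hom.right.hom := by
    intro x y hxy
    have := congrArg (fun z => i.inv.right.hom z) hxy
    have hid : ∀ z, i.inv.right.hom (i.hom.right.hom z) = z := by
      intro z
      have h4 : i.hom.right ≫ i.inv.right = 𝟙 _ := by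
        rw [← Under.comp_right, i.hom_inv_id]; rfl
      exact congrArg (fun g => g.hom z) h4
    simpa [hid] using this
  have hsurj_i : Function.Surjective i.hom.right.hom := by
    intro x
    refine ⟨i.inv.right.hom x, ?_⟩
    have h4 : i.inv.right ≫ i.hom.right = 𝟙 _ := by
      rw [← Under.comp_right, i.inv_hom_id]; rfl
    exact congrArg (fun g => g.hom x) h4
  refine ⟨J, iJ, hJ, fun j => (D.obj j).right, inferInstance, alg, hD, tr, b, ?_, ?_, ?_⟩
  · intro j k f
    ext y
    show i.hom.right.hom ((c.ι.app k).right.hom ((D.map f).right.hom y)) =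
      i.hom.right.hom ((c.ι.app j).right.hom y)
    have hw := c.w f
    have h5 := congrArg (fun g => g.right.hom y) hw
    exact congrArg _ h5
  · intro x
    obtain ⟨z, rfl⟩ := hsurj_i x
    obtain ⟨j, y, hy⟩ := Types.jointly_surjective_of_isColimit h1 z
    exact ⟨j, y, congrArg _ hy⟩
  · intro j y y' hyy'
    have h6 : (c.ι.app j).right.hom y = (c.ι.app j).right.hom y' := hinj_i hyy'
    obtain ⟨k, f, hf⟩ := (Types.FilteredColimit.isColimit_eq_iff' h1 y y').1 h6
    exact ⟨k, f, hf⟩

/-- **Extraction**: finite tuples with finitely many relations in an ind-Zariski algebra lift to a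
local-iso algebra. -/
theorem tuples_of_isIndZariski (h : EtPBC.IsIndZariski A B) (n : ℕ) (x : Fin n → B)
    (s : Finset (MvPolynomial (Fin n) A)) (hs : ∀ p ∈ s, MvPolynomial.aeval x p = 0) :
    ∃ (E : Type u) (_ : CommRing E) (_ : Algebra A E) (_ : Algebra.IsLocalIso A E)
      (b : E →ₐ[A] B) (y : Fin n → E), (∀ i, b (y i) = x i) ∧
        ∀ p ∈ s, MvPolynomial.aeval y p = 0 := by
  classical
  obtain ⟨J, iJ, hJ, E, iE, aE, hE, tr, b, htr, hsurj, hinj⟩ := exists_stage_data h
  have htr' : ∀ {j k : J} (f : j ⟶ k) (z : E j), b k (tr f z) = b j z := fun f z => by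
    rw [← AlgHom.comp_apply, htr f]
  -- Step 1
  have step1 : ∀ (m : ℕ) (x : Fin m → B), ∃ (j : J) (y : Fin m → E j), ∀ i, b j (y i) = x i := by
    intro m
    induction m with
    | zero =>
      intro x
      haveI : Nonempty J := IsFiltered.nonempty
      exact ⟨Classical.arbitrary J, Fin.elim0, fun i => Fin.elim0 i⟩
    | succ m ih =>
      intro x
      obtain ⟨j', y', hy'⟩ := ih (fun i => x i.succ)
      obtain ⟨j₀, y₀, hy₀⟩ := hsurj (x 0)
      refine ⟨IsFiltered.max j' j₀,
        Fin.cons (tr (IsFiltered.rightToMax j' j₀) y₀)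
          (fun i => tr (IsFiltered.leftToMax j' j₀) (y' i)), fun i => ?_⟩
      refine Fin.cases ?_ (fun i => ?_) i
      · rw [Fin.cons_zero, htr', hy₀]
      · rw [Fin.cons_succ, htr', hy']
  -- Step 2
  have step2 : ∀ s : Finset (MvPolynomial (Fin n) A), (∀ p ∈ s, MvPolynomial.aeval x p = 0) →
      ∃ (j : J) (y : Fin n → E j), (∀ i, b j (y i) = x i) ∧
        ∀ p ∈ s, MvPolynomial.aeval y p = 0 := by
    intro s
    induction s using Finset.induction_on with
    | empty =>
      intro _
      obtain ⟨j, y, hy⟩ := step1 n x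
      exact ⟨j, y, hy, fun p hp => absurd hp (Finset.notMem_empty p)⟩
    | insert p s _ ih =>
      intro hs
      obtain ⟨j, y, hy, hrel⟩ := ih (fun p' hp' => hs p' (Finset.mem_insert_of_mem hp'))
      have h1 : b j (MvPolynomial.aeval y p) = b j 0 := by
        rw [MvPolynomial.comp_aeval_apply, map_zero]
        have hfx : (fun i => b j (y i)) = x := funext hy
        rw [hfx]
        exact hs p (Finset.mem_insert_self p s)
      obtain ⟨k, f, hf⟩ := hinj j _ _ h1
      rw [map_zero] at hf
      refine ⟨k, fun i => tr f (y i), fun i => ?_, fun p' hp' => ?_⟩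
      · rw [htr', hy]
      · have h2 : MvPolynomial.aeval (fun i => tr f (y i)) p' = tr f (MvPolynomial.aeval y p') :=
          (MvPolynomial.comp_aeval_apply (f := y) (tr f) p').symm
        rw [h2]
        rcases Finset.mem_insert.1 hp' with rfl | hp'
        · exact hf
        · rw [hrel p' hp', map_zero]
  obtain ⟨j, y, hy, hrel⟩ := step2 s hs
  exact ⟨E j, inferInstance, inferInstance, hE j, b j, y, hy, hrel⟩

end Groth.Agent.H48.IndZarTup
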