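import Mathlib
import Groth.Agent.H48.IndZarTup
import Groth.Prelude.Def_PBC

/-!
# Elementwise criteria for identifying local rings; ind-Zariski maps identify local rings
(helper48)
-/

set_option autoImplicit false
universe u

namespace Groth.Agent.H48.IdLoc

section defs

variable (A C : Type u) [CommRing A] [CommRing C] [Algebra A C]

/-- every element of `C` is, locally at each prime, a fraction of elements of `A` -/
def LocSurj : Prop :=
  ∀ (y : PrimeSpectrum C) (b : C), ∃ w ∉ y.asIdeal, ∃ a σ : A,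
    algebraMap A C σ ∉ y.asIdeal ∧ w * (algebraMap A C σ * b) = w * algebraMap A C a

/-- an element of `A` vanishing locally at a prime of `C` vanishes locally at the prime below -/
def LocInj : Prop :=
  ∀ (y : PrimeSpectrum C) (a : A) (w : C), w ∉ y.asIdeal → w * algebraMap A C a = 0 →
    ∃ σ : A, algebraMap A C σ ∉ y.asIdeal ∧ σ * a = 0

variable {A C}

theorem identifiesLocalRings_of_loc (hsurj : LocSurj A C) (hinj : LocInj A C) :
    EtPBC.IdentifiesLocalRings A C := by
  intro y
  constructor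
  · rw [injective_iff_map_eq_zero]
    intro x hx
    obtain ⟨⟨a, s⟩, rfl⟩ := IsLocalization.mk'_surjective
      (y.asIdeal.comap (algebraMap A C)).primeCompl x
    rw [Localization.localRingHom_mk', IsLocalization.mk'_eq_zero_iff] at hx
    obtain ⟨m, hm⟩ := hx
    obtain ⟨σ, hσ, hσa⟩ := hinj y a m m.2 hm
    rw [IsLocalization.mk'_eq_zero_iff]
    exact ⟨⟨σ, hσ⟩, hσa⟩
  · intro z
    obtain ⟨⟨b, d⟩, rfl⟩ := IsLocalization.mk'_surjective y.asIdeal.primeCompl z
    obtain ⟨w, hw, a, σ, hσ, h1⟩ := hsurj y b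
    obtain ⟨w', hw', a', σ', hσ', h2⟩ := hsurj y d
    have hd : (d : C) ∉ y.asIdeal := d.2
    have ha' : algebraMap A C a' ∉ y.asIdeal := by
      intro hmem
      have h3 : w' * (algebraMap A C σ' * d) ∈ y.asIdeal := by
        rw [h2]; exact Ideal.mul_mem_left _ _ hmem
      rcases y.2.mem_or_mem h3 with h4 | h4
      · exact hw' h4
      · rcases y.2.mem_or_mem h4 with h5 | h5
        · exact hσ' h5
        · exact hd h5
    have hden : σ * a' ∈ (y.asIdeal.comap (algebraMap A C)).primeCompl := by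
      intro hmem
      have hmem' : algebraMap A C (σ * a') ∈ y.asIdeal := hmem
      rw [map_mul] at hmem'
      exact (y.2.mem_or_mem hmem').elim hσ ha'
    refine ⟨IsLocalization.mk' _ (a * σ') ⟨σ * a', hden⟩, ?_⟩
    rw [Localization.localRingHom_mk', IsLocalization.mk'_eq_iff_eq,
      IsLocalization.eq_iff_exists y.asIdeal.primeCompl]
    refine ⟨⟨w * w', fun hmem => (y.2.mem_or_mem hmem).elim hw hw'⟩, ?_⟩
    show w * w' * ((d : C) * algebraMap A C (a * σ')) =
      w * w' * (algebraMap A C (σ * a') * b)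
    rw [map_mul, map_mul]
    calc w * w' * ((d : C) * (algebraMap A C a * algebraMap A C σ'))
        = (w * algebraMap A C a) * (w' * (algebraMap A C σ' * d)) := by ring
      _ = (w * (algebraMap A C σ * b)) * (w' * algebraMap A C a') := by rw [← h1, h2]
      _ = w * w' * (algebraMap A C σ * algebraMap A C a' * b) := by ring

end defs

section comp

variable {A B C : Type u} [CommRing A] [CommRing B] [CommRing C] [Algebra A B] [Algebra B C]
  [Algebra A C] [IsScalarTower A B C]

theorem LocInj.comp (h1 : LocInj A B) (h2 : LocInj B C) : LocInj A C := by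
  intro y a w hw hwa
  rw [IsScalarTower.algebraMap_apply A B C] at hwa
  obtain ⟨τ, hτ, hτa⟩ := h2 y (algebraMap A B a) w hw hwa
  obtain ⟨σ, hσ, hσa⟩ := h1 (PrimeSpectrum.comap (algebraMap B C) y) a τ hτ hτa
  refine ⟨σ, ?_, hσa⟩
  rw [IsScalarTower.algebraMap_apply A B C]
  exact hσ

theorem LocSurj.comp (h1 : LocSurj A B) (h2 : LocSurj B C) : LocSurj A C := by
  intro y c
  obtain ⟨w, hw, b, τ, hτ, hc⟩ := h2 y c
  obtain ⟨w₁, hw₁, a₁, σ₁, hσ₁, hb⟩ := h1 (PrimeSpectrum.comap (algebraMap B C) y) b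
  obtain ⟨w₂, hw₂, a₂, σ₂, hσ₂, ht⟩ := h1 (PrimeSpectrum.comap (algebraMap B C) y) τ
  have hw₁' : algebraMap B C w₁ ∉ y.asIdeal := hw₁
  have hw₂' : algebraMap B C w₂ ∉ y.asIdeal := hw₂
  have hσ₁' : algebraMap B C (algebraMap A B σ₁) ∉ y.asIdeal := hσ₁
  have hσ₂' : algebraMap B C (algebraMap A B σ₂) ∉ y.asIdeal := hσ₂
  have ha₂ : algebraMap B C (algebraMap A B a₂) ∉ y.asIdeal := by
    intro hmem
    have h3 : algebraMap B C (w₂ * (algebraMap A B σ₂ * τ)) ∈ y.asIdeal := by
      rw [ht, map_mul]; exact Ideal.mul_mem_left _ _ hmem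
    rw [map_mul, map_mul] at h3
    rcases y.2.mem_or_mem h3 with h4 | h4
    · exact hw₂' h4
    · rcases y.2.mem_or_mem h4 with h5 | h5
      · exact hσ₂' h5
      · exact hτ h5
  refine ⟨w * algebraMap B C w₁ * algebraMap B C w₂, ?_, a₁ * σ₂, σ₁ * a₂, ?_, ?_⟩
  · intro hmem
    rcases y.2.mem_or_mem hmem with h4 | h4
    · exact (y.2.mem_or_mem h4).elim hw hw₁'
    · exact hw₂' h4
  · rw [IsScalarTower.algebraMap_apply A B C, map_mul, map_mul]
    exact fun hmem => (y.2.mem_or_mem hmem).elim hσ₁' ha₂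
  · have hb' := congrArg (algebraMap B C) hb
    have ht' := congrArg (algebraMap B C) ht
    simp only [map_mul] at hb' ht'
    rw [IsScalarTower.algebraMap_apply A B C (σ₁ * a₂), IsScalarTower.algebraMap_apply A B C (a₁ * σ₂),
      map_mul, map_mul, map_mul, map_mul]
    set W₁ := algebraMap B C w₁
    set W₂ := algebraMap B C w₂
    set S₁ := algebraMap B C (algebraMap A B σ₁)
    set S₂ := algebraMap B C (algebraMap A B σ₂)
    set A₁ := algebraMap B C (algebraMap A B a₁)
    set A₂ := algebraMap B C (algebraMap A B a₂)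
    set Tt := algebraMap B C τ
    set Bb := algebraMap B C b
    calc w * W₁ * W₂ * (S₁ * A₂ * c)
        = W₁ * S₁ * w * c * (W₂ * A₂) := by ring
      _ = W₁ * S₁ * w * c * (W₂ * (S₂ * Tt)) := by rw [ht']
      _ = W₁ * S₁ * W₂ * S₂ * (w * (Tt * c)) := by ring
      _ = W₁ * S₁ * W₂ * S₂ * (w * Bb) := by rw [hc]
      _ = W₂ * S₂ * w * (W₁ * (S₁ * Bb)) := by ring
      _ = W₂ * S₂ * w * (W₁ * A₁) := by rw [hb']
      _ = w * W₁ * W₂ * (A₁ * S₂) := by ring

end comp

section localIso

variable {A E : Type u} [CommRing A] [CommRing E] [Algebra A E] [Algebra.IsLocalIso A E]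

/-- the structure of a local iso at a prime -/
theorem exists_away_data (r : PrimeSpectrum E) :
    ∃ (g : E) (f : A), g ∉ r.asIdeal ∧ algebraMap A E f ∉ r.asIdeal ∧
      IsLocalization.Away f (Localization.Away g) := by
  obtain ⟨g, hg, hstd⟩ := Algebra.IsLocalIso.exists_notMem_isStandardOpenImmersion (R := A)
    r.asIdeal
  obtain ⟨f, hf⟩ := hstd.exists_away
  refine ⟨g, f, hg, ?_, hf⟩
  -- `f` is a unit in `E_g`, and `r` comes from a prime of `E_g`
  have hr : r ∈ Set.range (PrimeSpectrum.comap (algebraMap E (Localization.Away g))) := by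
    rw [PrimeSpectrum.localization_away_comap_range (Localization.Away g) g]
    exact hg
  obtain ⟨r', rfl⟩ := hr
  intro hmem
  have hmem' : algebraMap E (Localization.Away g) (algebraMap A E f) ∈ r'.asIdeal := hmem
  rw [← IsScalarTower.algebraMap_apply] at hmem'
  have hu : IsUnit (algebraMap A (Localization.Away g) f) :=
    IsLocalization.Away.algebraMap_isUnit f
  exact r'.2.ne_top (Ideal.eq_top_of_isUnit_mem _ hmem' hu)

theorem locSurj_of_isLocalIso : LocSurj A E := by
  intro r β
  obtain ⟨g, f, hg, hf, hloc⟩ := exists_away_data (A := A) r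
  obtain ⟨⟨a, d⟩, hd⟩ := IsLocalization.mk'_surjective (Submonoid.powers f)
    (algebraMap E (Localization.Away g) β)
  obtain ⟨k, hk⟩ := d.2
  have hk : f ^ k = (d : A) := hk
  -- `β * f^k = a` in `E_g`
  have h1 : algebraMap E (Localization.Away g) (algebraMap A E (f ^ k) * β - algebraMap A E a) = 0 := by
    rw [map_sub, map_mul, ← IsScalarTower.algebraMap_apply, ← IsScalarTower.algebraMap_apply,
      hk, ← hd, mul_comm, IsLocalization.mk'_spec, sub_self]
  rw [IsLocalization.map_eq_zero_iff (Submonoid.powers g)] at h1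
  obtain ⟨⟨_, m, rfl⟩, hm⟩ := h1
  refine ⟨g ^ m, fun h => hg (r.2.mem_of_pow_mem m h), a, f ^ k, ?_, ?_⟩
  · rw [map_pow]
    exact fun h => hf (r.2.mem_of_pow_mem k h)
  · have hm' : g ^ m * (algebraMap A E (f ^ k) * β - algebraMap A E a) = 0 := hm
    rw [mul_sub, sub_eq_zero] at hm'
    exact hm'

theorem locInj_of_isLocalIso : LocInj A E := by
  intro r a ω hω hωa
  obtain ⟨g, f, hg, hf, hloc⟩ := exists_away_data (A := A) r
  obtain ⟨⟨a', d⟩, hd⟩ := IsLocalization.mk'_surjective (Submonoid.powers f)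
    (algebraMap E (Localization.Away g) ω)
  obtain ⟨k, hk⟩ := d.2
  have hk : f ^ k = (d : A) := hk
  have h1 : algebraMap E (Localization.Away g) ω * algebraMap A (Localization.Away g) (f ^ k) =
      algebraMap A (Localization.Away g) a' := by
    rw [hk, ← hd, IsLocalization.mk'_spec]
  -- `a' * a = 0` in `E_g = A_f`
  have h2 : algebraMap A (Localization.Away g) (a' * a) = 0 := by
    rw [map_mul, ← h1, IsScalarTower.algebraMap_apply A E (Localization.Away g) a,
      mul_right_comm, ← map_mul, hωa, map_zero, zero_mul]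
  rw [IsLocalization.map_eq_zero_iff (Submonoid.powers f)] at h2
  obtain ⟨⟨_, m, rfl⟩, hm⟩ := h2
  have hm' : f ^ m * (a' * a) = 0 := hm
  -- `a' ∉ r`
  have hr : r ∈ Set.range (PrimeSpectrum.comap (algebraMap E (Localization.Away g))) := by
    rw [PrimeSpectrum.localization_away_comap_range (Localization.Away g) g]
    exact hg
  obtain ⟨r', rfl⟩ := hr
  have ha' : algebraMap A E a' ∉ (PrimeSpectrum.comap (algebraMap E (Localization.Away g)) r').asIdeal := by
    intro hmem
    have hmem' : algebraMap E (Localization.Away g) (algebraMap A E a') ∈ r'.asIdeal := hmem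
    rw [← IsScalarTower.algebraMap_apply, ← h1,
      IsScalarTower.algebraMap_apply A E (Localization.Away g) (f ^ k), ← map_mul] at hmem'
    have h3 : ω * algebraMap A E (f ^ k) ∈
        (PrimeSpectrum.comap (algebraMap E (Localization.Away g)) r').asIdeal := hmem'
    rcases (PrimeSpectrum.comap (algebraMap E (Localization.Away g)) r').2.mem_or_mem h3 with h4 | h4
    · exact hω h4
    · rw [map_pow] at h4
      exact hf ((PrimeSpectrum.comap (algebraMap E (Localization.Away g)) r').2.mem_of_pow_mem k h4)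
  refine ⟨f ^ m * a', ?_, by rw [mul_assoc]; exact hm'⟩
  rw [map_mul, map_pow]
  intro hmem
  rcases (PrimeSpectrum.comap (algebraMap E (Localization.Away g)) r').2.mem_or_mem hmem with h4 | h4
  · exact hf ((PrimeSpectrum.comap (algebraMap E (Localization.Away g)) r').2.mem_of_pow_mem m h4)
  · exact ha' h4

end localIso

section indZar

variable {A B : Type u} [CommRing A] [CommRing B] [Algebra A B]

theorem locSurj_of_isIndZariski (h : EtPBC.IsIndZariski A B) : LocSurj A B := by
  intro q b
  obtain ⟨E, _, _, hE, bE, y, hy, -⟩ := Groth.Agent.H48.IndZarTup.tuples_of_isIndZariski h 1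
    (fun _ => b) ∅ (fun p hp => absurd hp (Finset.notMem_empty p))
  obtain ⟨g, hg, a, σ, hσ, h1⟩ := locSurj_of_isLocalIso (A := A)
    (PrimeSpectrum.comap bE.toRingHom q) (y 0)
  refine ⟨bE g, hg, a, σ, ?_, ?_⟩
  · have : bE (algebraMap A E σ) ∉ q.asIdeal := hσ
    rwa [bE.commutes] at this
  · have h2 := congrArg bE h1
    rw [map_mul, map_mul, map_mul, bE.commutes, bE.commutes, hy 0] at h2
    exact h2

theorem locInj_of_isIndZariski (h : EtPBC.IsIndZariski A B) : LocInj A B := by
  intro q a w hw hwa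
  obtain ⟨E, _, _, hE, bE, y, hy, hrel⟩ := Groth.Agent.H48.IndZarTup.tuples_of_isIndZariski h 1
    (fun _ => w) {MvPolynomial.X 0 * MvPolynomial.C a} (by
      intro p hp
      rw [Finset.mem_singleton] at hp
      subst hp
      simp only [map_mul, MvPolynomial.aeval_X, MvPolynomial.aeval_C]
      exact hwa)
  have h0 : y 0 * algebraMap A E a = 0 := by
    have := hrel _ (Finset.mem_singleton_self _)
    simpa only [map_mul, MvPolynomial.aeval_X, MvPolynomial.aeval_C] using this
  have hω : y 0 ∉ (PrimeSpectrum.comap bE.toRingHom q).asIdeal := by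
    intro hmem
    have : bE (y 0) ∈ q.asIdeal := hmem
    rw [hy 0] at this
    exact hw this
  obtain ⟨σ, hσ, hσa⟩ := locInj_of_isLocalIso (A := A)
    (PrimeSpectrum.comap bE.toRingHom q) a (y 0) hω h0
  refine ⟨σ, ?_, hσa⟩
  have : bE (algebraMap A E σ) ∉ q.asIdeal := hσ
  rwa [bE.commutes] at this

/-- **Ind-Zariski maps identify local rings.** -/
theorem identifiesLocalRings_of_isIndZariski (h : EtPBC.IsIndZariski A B) :
    EtPBC.IdentifiesLocalRings A B :=
  identifiesLocalRings_of_loc (locSurj_of_isIndZariski h) (locInj_of_isIndZariski h)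

end indZar

end Groth.Agent.H48.IdLoc
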