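import Mathlib

/-!
# The spectrum of the ring of locally constant functions `T → A` on a profinite space
(helper48): `Spec (LocallyConstant T A) ≃ₜ Spec A × T`.
-/

set_option autoImplicit false
universe u

open PrimeSpectrum

namespace Groth.Agent.H48.LCSpec

variable {A : Type u} [CommRing A] {T : Type u} [TopologicalSpace T]

/-- the prime `{f | f t ∈ p}` -/
noncomputable def pt (x : PrimeSpectrum A × T) : PrimeSpectrum (LocallyConstant T A) :=
  PrimeSpectrum.comap (LocallyConstant.evalRingHom x.2) x.1

theorem mem_pt (x : PrimeSpectrum A × T) (f : LocallyConstant T A) :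
    f ∈ (pt x).asIdeal ↔ f x.2 ∈ x.1.asIdeal := Iff.rfl

theorem charFn_apply_of_mem {U : Set T} (hU : IsClopen U) {t : T} (ht : t ∈ U) :
    LocallyConstant.charFn A hU t = 1 := by
  rw [LocallyConstant.coe_charFn, Set.indicator_of_mem ht]
  rfl

theorem charFn_apply_of_notMem {U : Set T} (hU : IsClopen U) {t : T} (ht : t ∉ U) :
    LocallyConstant.charFn A hU t = 0 := by
  rw [LocallyConstant.coe_charFn, Set.indicator_of_notMem ht]

variable [CompactSpace T] [T2Space T] [TotallyDisconnectedSpace T]

theorem pt_injective : Function.Injective (pt (A := A) (T := T)) := by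
  rintro ⟨p, t⟩ ⟨p', t'⟩ h
  have hp : p = p' := by
    ext a
    have := (mem_pt (p, t) (LocallyConstant.const T a)).symm.trans
      ((h ▸ Iff.rfl : LocallyConstant.const T a ∈ (pt (p, t)).asIdeal ↔
        LocallyConstant.const T a ∈ (pt (p', t')).asIdeal).trans
        (mem_pt (p', t') (LocallyConstant.const T a)))
    exact this
  have ht : t = t' := by
    by_contra hne
    have hopen : IsOpen ({t'}ᶜ : Set T) := isOpen_compl_singleton
    obtain ⟨U, hU, htU, hUt'⟩ := compact_exists_isClopen_in_isOpen hopen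
      (show t ∈ ({t'}ᶜ : Set T) from hne)
    have ht'U : t' ∉ U := fun h' => hUt' h' rfl
    have h1 : LocallyConstant.charFn A hU ∈ (pt (p', t')).asIdeal := by
      rw [mem_pt]
      show LocallyConstant.charFn A hU t' ∈ p'.asIdeal
      rw [charFn_apply_of_notMem hU ht'U]
      exact zero_mem _
    rw [← h, mem_pt] at h1
    have h2 : LocallyConstant.charFn A hU t ∈ p.asIdeal := h1
    rw [charFn_apply_of_mem hU htU] at h2
    exact p.2.ne_top ((Ideal.eq_top_iff_one _).mpr h2)
  rw [hp, ht]

omit [T2Space T] [TotallyDisconnectedSpace T] in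
theorem pt_surjective : Function.Surjective (pt (A := A) (T := T)) := by
  classical
  intro q
  -- find the point `t`
  have ht : ∃ t : T, ∀ (U : Set T) (hU : IsClopen U), t ∈ U →
      LocallyConstant.charFn A hU ∉ q.asIdeal := by
    by_contra hcon
    push Not at hcon
    choose U hU htU hUq using hcon
    obtain ⟨F, hF⟩ := isCompact_univ.elim_finite_subcover U (fun t => (hU t).isOpen)
      (fun t _ => Set.mem_iUnion.mpr ⟨t, htU t⟩)
    have hprod : (∏ t ∈ F, (1 - LocallyConstant.charFn A (hU t))) = 0 := by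
      ext t
      obtain ⟨i, hi⟩ := Set.mem_iUnion.mp (hF (Set.mem_univ t))
      obtain ⟨hiF, hti⟩ := Set.mem_iUnion.mp hi
      have : (∏ t' ∈ F, (1 - LocallyConstant.charFn A (hU t'))) t =
          ∏ t' ∈ F, (1 - LocallyConstant.charFn A (hU t') t) := by
        rw [← LocallyConstant.evalRingHom_apply, map_prod]
        rfl
      rw [this, LocallyConstant.zero_apply]
      apply Finset.prod_eq_zero hiF
      rw [charFn_apply_of_mem (hU i) hti, sub_self]
    have hmem : (∏ t ∈ F, (1 - LocallyConstant.charFn A (hU t))) ∈ q.asIdeal := by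
      rw [hprod]; exact zero_mem _
    obtain ⟨i, -, hi⟩ := (Ideal.IsPrime.prod_mem_iff.mp hmem)
    have h1 : (1 : LocallyConstant T A) ∈ q.asIdeal := by
      have := q.asIdeal.add_mem hi (hUq i)
      rwa [sub_add_cancel] at this
    exact q.2.ne_top ((Ideal.eq_top_iff_one _).mpr h1)
  obtain ⟨t, ht⟩ := ht
  refine ⟨(PrimeSpectrum.comap (LocallyConstant.constRingHom (X := T) (Y := A)) q, t), ?_⟩
  ext f
  rw [mem_pt]
  show LocallyConstant.const T (f t) ∈ q.asIdeal ↔ f ∈ q.asIdeal
  have hU : IsClopen (f ⁻¹' {f t}) := f.isLocallyConstant.isClopen_fiber _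
  have htU : t ∈ f ⁻¹' {f t} := rfl
  have hmul : f * LocallyConstant.charFn A hU =
      LocallyConstant.const T (f t) * LocallyConstant.charFn A hU := by
    ext t'
    rw [LocallyConstant.mul_apply, LocallyConstant.mul_apply]
    by_cases h : t' ∈ f ⁻¹' {f t}
    · rw [charFn_apply_of_mem hU h]
      have : f t' = f t := h
      rw [this]
      rfl
    · rw [charFn_apply_of_notMem hU h, mul_zero, mul_zero]
  have hc := ht _ hU htU
  constructor
  · intro h
    have h1 : f * LocallyConstant.charFn A hU ∈ q.asIdeal := by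
      rw [hmul]
      exact Ideal.mul_mem_right _ _ h
    exact (q.2.mem_or_mem h1).resolve_right hc
  · intro h
    have h1 : LocallyConstant.const T (f t) * LocallyConstant.charFn A hU ∈ q.asIdeal := by
      rw [← hmul]
      exact Ideal.mul_mem_right _ _ h
    exact (q.2.mem_or_mem h1).resolve_right hc

omit [CompactSpace T] [T2Space T] [TotallyDisconnectedSpace T] in
theorem continuous_pt : Continuous (pt (A := A) (T := T)) := by
  rw [PrimeSpectrum.isTopologicalBasis_basic_opens.continuous_iff]
  rintro _ ⟨f, rfl⟩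
  rw [isOpen_iff_mem_nhds]
  rintro ⟨p, t⟩ hx
  have hx' : f t ∉ p.asIdeal := hx
  have h1 : (PrimeSpectrum.basicOpen (f t) : Set (PrimeSpectrum A)) ∈ nhds p :=
    (PrimeSpectrum.basicOpen (f t)).2.mem_nhds hx'
  have h2 : f ⁻¹' {f t} ∈ nhds t :=
    (f.isLocallyConstant.isClopen_fiber _).isOpen.mem_nhds rfl
  refine Filter.mem_of_superset (prod_mem_nhds h1 h2) ?_
  rintro ⟨p', t'⟩ ⟨hp', ht'⟩
  show f t' ∉ p'.asIdeal
  have : f t' = f t := ht'
  rw [this]
  exact hp'

theorem isOpenMap_pt : IsOpenMap (pt (A := A) (T := T)) := by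
  have hb := (PrimeSpectrum.isTopologicalBasis_basic_opens (R := A)).prod
    (isTopologicalBasis_isClopen (X := T))
  rw [hb.isOpenMap_iff]
  rintro _ ⟨_, ⟨a, rfl⟩, U, hU, rfl⟩
  have : pt '' ((fun r : A => (PrimeSpectrum.basicOpen r : Set (PrimeSpectrum A))) a ×ˢ U) =
      (PrimeSpectrum.basicOpen (LocallyConstant.const T a * LocallyConstant.charFn A hU) :
        Set (PrimeSpectrum (LocallyConstant T A))) := by
    ext q
    obtain ⟨⟨p, t⟩, rfl⟩ := pt_surjective q
    constructor
    · rintro ⟨⟨p', t'⟩, ⟨hp', ht'⟩, h⟩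
      obtain ⟨rfl, rfl⟩ := Prod.mk.inj (pt_injective h)
      show (LocallyConstant.const T a * LocallyConstant.charFn A hU) t' ∉ p'.asIdeal
      rw [LocallyConstant.mul_apply, charFn_apply_of_mem hU ht', mul_one]
      exact hp'
    · intro h
      have h' : (LocallyConstant.const T a * LocallyConstant.charFn A hU) t ∉ p.asIdeal := h
      rw [LocallyConstant.mul_apply] at h'
      have htU : t ∈ U := by
        by_contra hn
        rw [charFn_apply_of_notMem hU hn, mul_zero] at h'
        exact h' (zero_mem _)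
      rw [charFn_apply_of_mem hU htU, mul_one] at h'
      exact ⟨(p, t), ⟨h', htU⟩, rfl⟩
  rw [this]
  exact (PrimeSpectrum.basicOpen _).2

/-- `Spec A × T ≃ₜ Spec (LocallyConstant T A)`. -/
noncomputable def homeo : PrimeSpectrum A × T ≃ₜ PrimeSpectrum (LocallyConstant T A) :=
  (Equiv.ofBijective pt ⟨pt_injective, pt_surjective⟩).toHomeomorphOfContinuousOpen
    continuous_pt isOpenMap_pt

theorem homeo_apply (x : PrimeSpectrum A × T) : homeo x = pt x := rfl

theorem comap_const_homeo (x : PrimeSpectrum A × T) :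
    PrimeSpectrum.comap (algebraMap A (LocallyConstant T A)) (homeo x) = x.1 := by
  ext a
  rfl

end Groth.Agent.H48.LCSpec
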