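import Mathlib
import Groth.Agent.H48.IndZar

/-!
# The tuple-lifting criterion for ind-Zariski passes to localizations (helper48)
-/

set_option autoImplicit false
universe u

namespace Groth.Agent.H48.TupLoc

variable {A R R' : Type u} [CommRing A] [CommRing R] [CommRing R'] [Algebra A R] [Algebra R R']
  [Algebra A R'] [IsScalarTower A R R'] (S : Submonoid R) [IsLocalization S R']

/-- kernel of `R_s → S⁻¹R` is `S`-torsion -/
theorem exists_mul_eq_zero_of_map_eq_zero (s : R)
    (ι : Localization.Away s →+* R')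
    (hι : ∀ r, ι (algebraMap R (Localization.Away s) r) = algebraMap R R' r)
    (z : Localization.Away s) (hz : ι z = 0) :
    ∃ s' : S, algebraMap R (Localization.Away s) s' * z = 0 := by
  obtain ⟨⟨e, d⟩, rfl⟩ := IsLocalization.mk'_surjective (Submonoid.powers s) z
  have h1 : ι (IsLocalization.mk' (Localization.Away s) e d) *
      ι (algebraMap R (Localization.Away s) d) = ι (algebraMap R (Localization.Away s) e) := by
    rw [← map_mul, IsLocalization.mk'_spec]
  rw [hz, zero_mul, hι] at h1
  obtain ⟨s', hs'⟩ := (IsLocalization.map_eq_zero_iff S R' e).1 h1.symm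
  refine ⟨s', ?_⟩
  rw [IsLocalization.mul_mk'_eq_mk'_of_mul, hs', IsLocalization.mk'_zero]

theorem exists_mul_eq_zero_of_map_eq_zero_finset (s : R)
    (ι : Localization.Away s →+* R')
    (hι : ∀ r, ι (algebraMap R (Localization.Away s) r) = algebraMap R R' r)
    (Z : Finset (Localization.Away s)) (hZ : ∀ z ∈ Z, ι z = 0) :
    ∃ s' : S, ∀ z ∈ Z, algebraMap R (Localization.Away s) s' * z = 0 := by
  classical
  induction Z using Finset.induction_on with
  | empty => exact ⟨1, fun z hz => absurd hz (Finset.notMem_empty z)⟩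
  | insert a Z _ ih =>
    obtain ⟨s₁, h₁⟩ := ih (fun z hz => hZ z (Finset.mem_insert_of_mem hz))
    obtain ⟨s₂, h₂⟩ := exists_mul_eq_zero_of_map_eq_zero S s ι hι a
      (hZ a (Finset.mem_insert_self a Z))
    refine ⟨s₁ * s₂, fun z hz => ?_⟩
    rw [Submonoid.coe_mul, map_mul]
    rcases Finset.mem_insert.1 hz with rfl | hz
    · rw [mul_assoc, h₂, mul_zero]
    · rw [mul_right_comm, h₁ z hz, zero_mul]

/-- the canonical map `R_u → S⁻¹R` for `u ∈ S` -/
noncomputable def awayToLoc (u : S) : Localization.Away (u : R) →ₐ[A] R' :=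
  IsLocalization.liftAlgHom (M := Submonoid.powers (u : R)) (f := IsScalarTower.toAlgHom A R R')
    (by
      rintro ⟨_, k, rfl⟩
      show IsUnit (algebraMap R R' ((u : R) ^ k))
      rw [map_pow]
      exact (IsLocalization.map_units R' u).pow k)

theorem awayToLoc_algebraMap (u : S) (r : R) :
    awayToLoc (A := A) (R' := R') S u (algebraMap R (Localization.Away (u : R)) r) =
      algebraMap R R' r := by
  unfold awayToLoc
  rw [IsLocalization.liftAlgHom_apply, IsLocalization.lift_eq]
  rfl

theorem exists_away_lift (n : ℕ) (x : Fin n → R') (fs : Finset (MvPolynomial (Fin n) A))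
    (hx : ∀ p ∈ fs, MvPolynomial.aeval x p = 0) :
    ∃ (u : S) (x'' : Fin n → Localization.Away (u : R)),
      (∀ i, awayToLoc (A := A) (R' := R') S u (x'' i) = x i) ∧
        ∀ p ∈ fs, MvPolynomial.aeval x'' p = 0 := by
  classical
  -- Step 1: common denominator
  obtain ⟨s, hs⟩ := IsLocalization.exist_integer_multiples_of_finite S x
  choose r hr using hs
  let x' : Fin n → Localization.Away (s : R) := fun i =>
    IsLocalization.mk' _ (r i) (⟨s, Submonoid.mem_powers _⟩ : Submonoid.powers (s : R))
  have hx' : ∀ i, awayToLoc (A := A) (R' := R') S s (x' i) = x i := by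
    intro i
    have h1 : awayToLoc (A := A) (R' := R') S s (x' i) *
        awayToLoc (A := A) (R' := R') S s (algebraMap R _ (s : R)) =
        awayToLoc (A := A) (R' := R') S s (algebraMap R _ (r i)) := by
      rw [← map_mul]
      congr 1
      exact IsLocalization.mk'_spec _ (r i) (⟨s, Submonoid.mem_powers _⟩ : Submonoid.powers (s : R))
    rw [awayToLoc_algebraMap, awayToLoc_algebraMap, hr i, Algebra.smul_def, mul_comm] at h1
    exact (IsLocalization.map_units R' s).mul_right_injective h1
  -- Step 2: kill the relations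
  have hz : ∀ z ∈ fs.image (fun p => MvPolynomial.aeval x' p),
      (awayToLoc (A := A) (R' := R') S s).toRingHom z = 0 := by
    intro z hz
    obtain ⟨p, hp, rfl⟩ := Finset.mem_image.1 hz
    show awayToLoc (A := A) (R' := R') S s (MvPolynomial.aeval x' p) = 0
    rw [MvPolynomial.comp_aeval_apply]
    have hfx : (fun i => awayToLoc (A := A) (R' := R') S s (x' i)) = x := funext hx'
    rw [hfx]
    exact hx p hp
  obtain ⟨s', hs'⟩ := exists_mul_eq_zero_of_map_eq_zero_finset S (s : R)
    (awayToLoc (A := A) (R' := R') S s).toRingHom (awayToLoc_algebraMap S s) _ hz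
  -- Step 3: pass to `u = s * s'`
  have hsu : IsUnit (algebraMap R (Localization.Away ((s * s' : S) : R)) (s : R)) ∧
      IsUnit (algebraMap R (Localization.Away ((s * s' : S) : R)) (s' : R)) := by
    have h := IsLocalization.Away.algebraMap_isUnit (S := Localization.Away ((s * s' : S) : R))
      ((s * s' : S) : R)
    rw [Submonoid.coe_mul, map_mul] at h
    exact ⟨isUnit_of_mul_isUnit_left h, isUnit_of_mul_isUnit_right h⟩
  let κ : Localization.Away (s : R) →ₐ[A] Localization.Away ((s * s' : S) : R) :=
    IsLocalization.liftAlgHom (M := Submonoid.powers (s : R))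
      (f := IsScalarTower.toAlgHom A R (Localization.Away ((s * s' : S) : R)))
      (by
        rintro ⟨_, k, rfl⟩
        show IsUnit (algebraMap R (Localization.Away ((s * s' : S) : R)) ((s : R) ^ k))
        rw [map_pow]
        exact hsu.1.pow k)
  have hκ : ∀ r, κ (algebraMap R _ r) = algebraMap R _ r := by
    intro r
    show IsLocalization.liftAlgHom _ _ = _
    rw [IsLocalization.liftAlgHom_apply, IsLocalization.lift_eq]
    rfl
  have hcomp : ((awayToLoc (A := A) (R' := R') S (s * s')).comp κ).toRingHom =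
      (awayToLoc (A := A) (R' := R') S s).toRingHom := by
    apply IsLocalization.ringHom_ext (Submonoid.powers (s : R))
    ext r
    show awayToLoc (A := A) (R' := R') S (s * s') (κ (algebraMap R _ r)) =
      awayToLoc (A := A) (R' := R') S s (algebraMap R _ r)
    rw [hκ, awayToLoc_algebraMap, awayToLoc_algebraMap]
  refine ⟨s * s', fun i => κ (x' i), fun i => ?_, fun p hp => ?_⟩
  · rw [← hx' i]
    exact RingHom.congr_fun hcomp (x' i)
  · have h1 : MvPolynomial.aeval (fun i => κ (x' i)) p = κ (MvPolynomial.aeval x' p) :=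
      (MvPolynomial.comp_aeval_apply (f := x') κ p).symm
    rw [h1]
    have h2 := hs' _ (Finset.mem_image_of_mem _ hp)
    have h3 := congrArg κ h2
    rw [map_mul, hκ, map_zero] at h3
    exact (hsu.2.mul_right_eq_zero).1 h3

/-- descend a tuple with relations from `R_u` to a localization of a local-iso `A`-algebra
injecting into `R` -/
theorem exists_descend (u : R) (n : ℕ) (x'' : Fin n → Localization.Away u)
    (fs : Finset (MvPolynomial (Fin n) A))
    (hx : ∀ p ∈ fs, MvPolynomial.aeval x'' p = 0)
    (hR : ∀ (F : Finset R), ∃ (E₀ : Type u) (_ : CommRing E₀) (_ : Algebra A E₀)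
      (_ : Algebra.IsLocalIso A E₀) (σ : E₀ →ₐ[A] R), Function.Injective σ ∧
        ∀ r ∈ F, r ∈ Set.range σ) :
    ∃ (E : Type u) (_ : CommRing E) (_ : Algebra A E) (_ : Algebra.IsLocalIso A E)
      (μ : E →ₐ[A] Localization.Away u) (y : Fin n → E), (∀ i, μ (y i) = x'' i) ∧
        ∀ p ∈ fs, MvPolynomial.aeval y p = 0 := by
  classical
  obtain ⟨d, hd⟩ := IsLocalization.exist_integer_multiples_of_finite (Submonoid.powers u) x''
  choose r' hr' using hd
  obtain ⟨k, hk⟩ := d.2
  have hk : u ^ k = (d : R) := hk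
  obtain ⟨E₀, _, _, hloc, σ, hσ, hF⟩ := hR (Finset.image r' Finset.univ ∪ {u})
  have h1 : ∀ i, ∃ e, σ e = r' i := fun i =>
    hF _ (Finset.mem_union_left _ (Finset.mem_image_of_mem _ (Finset.mem_univ i)))
  choose rt hrt using h1
  obtain ⟨ut, hut⟩ : ∃ e, σ e = u := hF _ (Finset.mem_union_right _ (Finset.mem_singleton_self u))
  haveI hloc1 : Algebra.IsStandardOpenImmersion E₀ (Localization.Away ut) := ⟨ut, inferInstance⟩
  haveI hloc2 : Algebra.IsLocalIso A (Localization.Away ut) :=
    Algebra.IsLocalIso.trans A E₀ (Localization.Away ut)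
  haveI hL : IsLocalization ((Submonoid.powers ut).map (σ : E₀ →+* R)) (Localization.Away u) := by
    rw [Submonoid.map_powers]
    show IsLocalization (Submonoid.powers (σ ut)) (Localization.Away u)
    rw [hut]
    infer_instance
  let μ₀ : Localization.Away ut →+* Localization.Away u :=
    IsLocalization.map (Localization.Away u) (σ : E₀ →+* R) (Submonoid.powers ut).le_comap_map
  have hμ₀ : ∀ e, μ₀ (algebraMap E₀ _ e) = algebraMap R _ (σ e) := fun e =>
    IsLocalization.map_eq _ e
  have hσ' : Function.Injective (σ : E₀ →+* R) := hσ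
  have hinj : Function.Injective μ₀ :=
    IsLocalization.map_injective_of_injective (g := (σ : E₀ →+* R)) (Submonoid.powers ut)
      (Localization.Away ut) (Localization.Away u) hσ' 
  let μ : Localization.Away ut →ₐ[A] Localization.Away u :=
    { μ₀ with
      commutes' := fun a => by
        show μ₀ (algebraMap A (Localization.Away ut) a) = algebraMap A (Localization.Away u) a
        rw [IsScalarTower.algebraMap_apply A E₀ (Localization.Away ut), hμ₀, σ.commutes,
          ← IsScalarTower.algebraMap_apply] }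
  have hμ : ∀ z, μ z = μ₀ z := fun z => rfl
  let y : Fin n → Localization.Away ut := fun i =>
    IsLocalization.mk' _ (rt i) (⟨ut ^ k, k, rfl⟩ : Submonoid.powers ut)
  have hy : ∀ i, μ (y i) = x'' i := by
    intro i
    have h2 : μ (y i) * μ (algebraMap E₀ _ (ut ^ k)) = μ (algebraMap E₀ _ (rt i)) := by
      rw [← map_mul]
      congr 1
      exact IsLocalization.mk'_spec _ (rt i) (⟨ut ^ k, k, rfl⟩ : Submonoid.powers ut)
    rw [hμ (algebraMap E₀ _ (ut ^ k)), hμ (algebraMap E₀ _ (rt i)), hμ₀, hμ₀, map_pow, hut, hrt,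
      hk, hr' i, Algebra.smul_def, mul_comm] at h2
    exact (IsLocalization.map_units (Localization.Away u) d).mul_right_injective h2
  refine ⟨Localization.Away ut, inferInstance, inferInstance, hloc2, μ, y, hy, fun p hp => ?_⟩
  apply hinj
  rw [map_zero, ← hμ, MvPolynomial.comp_aeval_apply]
  have hfx : (fun i => μ (y i)) = x'' := funext hy
  rw [hfx]
  exact hx p hp

include S in
/-- **The tuple criterion passes to localizations.** -/
theorem tup_localization
    (hR : ∀ (F : Finset R), ∃ (E₀ : Type u) (_ : CommRing E₀) (_ : Algebra A E₀)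
      (_ : Algebra.IsLocalIso A E₀) (σ : E₀ →ₐ[A] R), Function.Injective σ ∧
        ∀ r ∈ F, r ∈ Set.range σ)
    (n : ℕ) (x : Fin n → R') (fs : Finset (MvPolynomial (Fin n) A))
    (hx : ∀ p ∈ fs, MvPolynomial.aeval x p = 0) :
    ∃ (E : Type u) (_ : CommRing E) (_ : Algebra A E) (_ : Algebra.IsLocalIso A E)
      (b : E →ₐ[A] R') (y : Fin n → E), (∀ i, b (y i) = x i) ∧
        ∀ p ∈ fs, MvPolynomial.aeval y p = 0 := by
  obtain ⟨u, x'', hx1, hx2⟩ := exists_away_lift (A := A) S n x fs hx
  obtain ⟨E, i1, i2, i3, μ, y, hy1, hy2⟩ := exists_descend (u : R) n x'' fs hx2 hR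
  refine ⟨E, i1, i2, i3, (awayToLoc (A := A) (R' := R') S u).comp μ, y, fun i => ?_, hy2⟩
  rw [AlgHom.comp_apply, hy1, hx1]

include S in
theorem isIndZariski_localization
    (hR : ∀ (F : Finset R), ∃ (E₀ : Type u) (_ : CommRing E₀) (_ : Algebra A E₀)
      (_ : Algebra.IsLocalIso A E₀) (σ : E₀ →ₐ[A] R), Function.Injective σ ∧
        ∀ r ∈ F, r ∈ Set.range σ) : EtPBC.IsIndZariski A R' :=
  Groth.Agent.H48.IndZar.isIndZariski_of_tuples (fun n x fs hx => tup_localization S hR n x fs hx)

end Groth.Agent.H48.TupLoc
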