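import Mathlib
import Groth.Agent.H48.LCSpec
import Groth.Agent.H48.TupLoc
import Groth.Prelude.Def_ProEtW

/-!
# The w-localization of a ring as a localization of a ring of locally constant functions
(helper48).  For a profinite space `T` and a map `c : T → Spec A` continuous for the constructible
topology, `Aw := S⁻¹ LocallyConstant T A` has spectrum `{(x', t) | x' ⤳ c t} ⊆ Spec A × T`.
-/

set_option autoImplicit false
universe u

open PrimeSpectrum

namespace Groth.Agent.H48.WLocC

open Groth.Agent.H48.LCSpec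

section model

variable (A : Type u) [CommRing A] (T : Type u) [TopologicalSpace T] [CompactSpace T]

theorem exists_finite_model (F : Finset (LocallyConstant T A)) :
    ∃ (E₀ : Type u) (_ : CommRing E₀) (_ : Algebra A E₀) (_ : Algebra.IsLocalIso A E₀)
      (σ : E₀ →ₐ[A] LocallyConstant T A), Function.Injective σ ∧ ∀ r ∈ F, r ∈ Set.range σ := by
  classical
  let τ : T → (F → A) := fun t r => r.1 t
  have hτ : IsLocallyConstant τ := by
    rw [IsLocallyConstant.iff_eventually_eq]
    intro t
    have h1 : ∀ r : F, ∀ᶠ t' in nhds t, r.1 t' = r.1 t :=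
      fun r => (IsLocallyConstant.iff_eventually_eq _).1 r.1.isLocallyConstant t
    filter_upwards [Filter.eventually_all.2 h1] with t' h1'
    exact funext h1'
  have hfin : (Set.range τ).Finite := hτ.range_finite
  let J : Type u := ↥(Set.range τ)
  haveI : Finite J := hfin
  let τ' : T → J := fun t => ⟨τ t, Set.mem_range_self t⟩
  have hτ' : IsLocallyConstant τ' := by
    rw [IsLocallyConstant.iff_eventually_eq]
    intro t
    filter_upwards [(IsLocallyConstant.iff_eventually_eq _).1 hτ t] with t' ht'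
    exact Subtype.ext ht'
  have hτ'surj : Function.Surjective τ' := by
    rintro ⟨_, t, rfl⟩
    exact ⟨t, rfl⟩
  let σ : (J → A) →ₐ[A] LocallyConstant T A :=
    { toFun := fun f => ⟨fun t => f (τ' t), hτ'.comp f⟩
      map_one' := rfl
      map_mul' := fun _ _ => rfl
      map_zero' := rfl
      map_add' := fun _ _ => rfl
      commutes' := fun _ => rfl }
  haveI h1 : Algebra.IsLocalIso A (J → A) := Algebra.IsLocalIso.pi_of_finite A (fun _ : J => A)
  refine ⟨J → A, inferInstance, inferInstance, h1, σ, ?_, ?_⟩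
  · intro f f' hff'
    funext j
    obtain ⟨t, rfl⟩ := hτ'surj j
    exact congrArg (fun g : LocallyConstant T A => g t) hff'
  · intro r hr
    refine ⟨fun j => j.1 ⟨r, hr⟩, ?_⟩
    ext t
    rfl

omit [CompactSpace T] in
theorem lc_sum_apply {ι : Type*} (s : Finset ι) (g : ι → LocallyConstant T A) (t : T) :
    (∑ i ∈ s, g i) t = ∑ i ∈ s, g i t :=
  map_sum (LocallyConstant.evalₗ A t) g s

theorem flat_locallyConstant : Module.Flat A (LocallyConstant T A) := by
  classical
  apply Module.Flat.of_forall_isTrivialRelation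
  intro l f x hfx
  let τ : T → (Fin l → A) := fun t i => x i t
  have hτ : IsLocallyConstant τ := by
    rw [IsLocallyConstant.iff_eventually_eq]
    intro t
    have h1 : ∀ i, ∀ᶠ t' in nhds t, x i t' = x i t :=
      fun i => (IsLocallyConstant.iff_eventually_eq _).1 (x i).isLocallyConstant t
    filter_upwards [Filter.eventually_all.2 h1] with t' h1'
    exact funext h1'
  have hfin : (Set.range τ).Finite := hτ.range_finite
  let J : Type u := ↥(Set.range τ)
  haveI : Finite J := hfin
  haveI : Fintype J := Fintype.ofFinite J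
  let τ' : T → J := fun t => ⟨τ t, Set.mem_range_self t⟩
  have hτ' : IsLocallyConstant τ' := by
    rw [IsLocallyConstant.iff_eventually_eq]
    intro t
    filter_upwards [(IsLocallyConstant.iff_eventually_eq _).1 hτ t] with t' ht'
    exact Subtype.ext ht'
  have hτ'surj : Function.Surjective τ' := by
    rintro ⟨_, t, rfl⟩
    exact ⟨t, rfl⟩
  let e : J ≃ Fin (Fintype.card J) := Fintype.equivFin J
  have hU : ∀ j : J, IsClopen (τ' ⁻¹' {j}) := fun j => hτ'.isClopen_fiber j
  refine ⟨Fintype.card J, fun i j' => (e.symm j').1 i,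
    fun j' => LocallyConstant.charFn A (hU (e.symm j')), ?_, ?_⟩
  · intro i
    ext t
    rw [lc_sum_apply]
    simp only [LocallyConstant.smul_apply, smul_eq_mul]
    rw [Finset.sum_eq_single (e (τ' t))]
    · rw [charFn_apply_of_mem _ (show t ∈ τ' ⁻¹' {e.symm (e (τ' t))} by
        rw [Equiv.symm_apply_apply]; rfl), mul_one, Equiv.symm_apply_apply]
    · intro j' _ hne
      rw [charFn_apply_of_notMem _ (show t ∉ τ' ⁻¹' {e.symm j'} from fun h => hne (by
        have : τ' t = e.symm j' := h
        rw [this, Equiv.apply_symm_apply])), mul_zero]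
    · intro h; exact absurd (Finset.mem_univ _) h
  · intro j'
    obtain ⟨t, ht⟩ := hτ'surj (e.symm j')
    have h1 := congrArg (fun g : LocallyConstant T A => g t) hfx
    simp only [LocallyConstant.zero_apply] at h1
    show ∑ i, f i * (e.symm j').1 i = 0
    rw [← ht]
    have h2 : (∑ i, f i • x i) t = ∑ i, f i * x i t := by
      rw [lc_sum_apply]
      simp only [LocallyConstant.smul_apply, smul_eq_mul]
    rw [h2] at h1
    exact h1

end model

section construction

variable {A : Type u} [CommRing A] {T : Type u} [TopologicalSpace T]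
  (c : T → PrimeSpectrum A)
  (hc : ∀ f : A, IsClopen (c ⁻¹' (PrimeSpectrum.basicOpen f : Set (PrimeSpectrum A))))

/-- the element `h_f`: equal to `f` where `f ∉ c t` and to `1` where `f ∈ c t` -/
noncomputable def hEl (f : A) : LocallyConstant T A :=
  LocallyConstant.charFn A (hc f) * LocallyConstant.const T f +
    (1 - LocallyConstant.charFn A (hc f))

theorem hEl_apply_of_notMem {f : A} {t : T} (h : f ∉ (c t).asIdeal) : hEl c hc f t = f := by
  unfold hEl
  simp only [LocallyConstant.mul_apply, LocallyConstant.add_apply, LocallyConstant.sub_apply,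
    LocallyConstant.one_apply]
  rw [charFn_apply_of_mem (hc f) (show t ∈ c ⁻¹' (PrimeSpectrum.basicOpen f : Set _) from h)]
  show 1 * f + (1 - 1) = f
  ring

theorem hEl_apply_of_mem {f : A} {t : T} (h : f ∈ (c t).asIdeal) : hEl c hc f t = 1 := by
  unfold hEl
  simp only [LocallyConstant.mul_apply, LocallyConstant.add_apply, LocallyConstant.sub_apply,
    LocallyConstant.one_apply]
  rw [charFn_apply_of_notMem (hc f)
    (show t ∉ c ⁻¹' (PrimeSpectrum.basicOpen f : Set _) from fun h' => h' h)]
  show 0 * f + (1 - 0) = 1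
  ring

/-- the multiplicative set generated by the `h_f` -/
def SW : Submonoid (LocallyConstant T A) := Submonoid.closure (Set.range (hEl c hc))

/-- the ring `A_{T,c}` -/
abbrev Aw : Type u := Localization (SW c hc)

/-- the subset `{(x', t) | x' ⤳ c t}` of `Spec A × T` -/
def WSet : Set (PrimeSpectrum A × T) := {p | p.1.asIdeal ≤ (c p.2).asIdeal}

variable [CompactSpace T] [T2Space T] [TotallyDisconnectedSpace T]

/-- `Spec A_{T,c} → Spec A × T` -/
noncomputable def psi (y : PrimeSpectrum (Aw c hc)) : PrimeSpectrum A × T :=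
  homeo.symm (PrimeSpectrum.comap (algebraMap (LocallyConstant T A) (Aw c hc)) y)

theorem isEmbedding_psi : Topology.IsEmbedding (psi c hc) :=
  (homeo.symm.isEmbedding).comp (PrimeSpectrum.localization_comap_isEmbedding (Aw c hc) (SW c hc))

theorem psi_fst (y : PrimeSpectrum (Aw c hc)) :
    (psi c hc y).1 = PrimeSpectrum.comap (algebraMap A (Aw c hc)) y := by
  have h1 := comap_const_homeo (A := A) (T := T) (psi c hc y)
  rw [← h1]
  unfold psi
  rw [Homeomorph.apply_symm_apply]
  ext a
  show algebraMap (LocallyConstant T A) (Aw c hc) (algebraMap A (LocallyConstant T A) a) ∈ y.asIdeal ↔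
    algebraMap A (Aw c hc) a ∈ y.asIdeal
  rw [← IsScalarTower.algebraMap_apply]

theorem range_psi : Set.range (psi c hc) = WSet c := by
  ext x
  have hr := PrimeSpectrum.localization_comap_range (Aw c hc) (SW c hc)
  have h1 : x ∈ Set.range (psi c hc) ↔
      homeo x ∈ Set.range (PrimeSpectrum.comap (algebraMap (LocallyConstant T A) (Aw c hc))) := by
    constructor
    · rintro ⟨y, rfl⟩
      refine ⟨y, ?_⟩
      unfold psi
      rw [Homeomorph.apply_symm_apply]
    · rintro ⟨y, hy⟩
      refine ⟨y, ?_⟩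
      unfold psi
      rw [hy, Homeomorph.symm_apply_apply]
  rw [h1, hr, Set.mem_ofPred_eq]
  have h2 : Disjoint (SW c hc : Set (LocallyConstant T A)) ((homeo x).asIdeal : Set _) ↔
      SW c hc ≤ (homeo x).asIdeal.primeCompl := by
    rw [Set.disjoint_left]
    exact Iff.rfl
  rw [h2]
  unfold SW
  rw [Submonoid.closure_le]
  constructor
  · intro h f hf
    by_contra hn
    have h3 : hEl c hc f ∈ (homeo x).asIdeal.primeCompl := h ⟨f, rfl⟩
    apply h3
    show hEl c hc f x.2 ∈ x.1.asIdeal
    rw [hEl_apply_of_notMem c hc hn]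
    exact hf
  · rintro h _ ⟨f, rfl⟩
    show hEl c hc f x.2 ∉ x.1.asIdeal
    by_cases hf : f ∈ (c x.2).asIdeal
    · rw [hEl_apply_of_mem c hc hf]
      exact fun h1 => x.1.2.ne_top ((Ideal.eq_top_iff_one _).mpr h1)
    · rw [hEl_apply_of_notMem c hc hf]
      exact fun h1 => hf (h h1)

/-- `Spec A_{T,c} ≃ₜ {(x', t) | x' ⤳ c t}` -/
noncomputable def homeoW : PrimeSpectrum (Aw c hc) ≃ₜ WSet c :=
  (isEmbedding_psi c hc).toHomeomorph.trans (Homeomorph.setCongr (range_psi c hc))

theorem homeoW_val (y : PrimeSpectrum (Aw c hc)) : (homeoW c hc y).1 = psi c hc y := rfl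

end construction

section wtop

variable {A : Type u} [CommRing A] {T : Type u} [TopologicalSpace T] [T1Space T]
  (c : T → PrimeSpectrum A)

theorem specializes_iff_W (w w' : WSet c) : w ⤳ w' ↔ w.1.1 ⤳ w'.1.1 ∧ w.1.2 = w'.1.2 := by
  rw [subtype_specializes_iff]
  obtain ⟨⟨x, t⟩, hw⟩ := w
  obtain ⟨⟨x', t'⟩, hw'⟩ := w'
  show (x, t) ⤳ (x', t') ↔ x ⤳ x' ∧ t = t'
  rw [specializes_prod]
  exact and_congr Iff.rfl specializes_iff_eq

/-- the closed point below `w` -/
def cl (w : WSet c) : WSet c :=
  ⟨(c w.1.2, w.1.2), show (c w.1.2).asIdeal ≤ (c w.1.2).asIdeal from le_refl _⟩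

theorem cl_fst (w : WSet c) : (cl c w).1.1 = c w.1.2 := rfl

theorem cl_snd (w : WSet c) : (cl c w).1.2 = w.1.2 := rfl

theorem le_of_mem (w : WSet c) : w.1.1 ≤ c w.1.2 := w.2

theorem specializes_cl (w : WSet c) : w ⤳ cl c w :=
  (specializes_iff_W c _ _).2 ⟨(PrimeSpectrum.le_iff_specializes _ _).1 (le_of_mem c w), rfl⟩

theorem isClosed_singleton_W_iff (w : WSet c) :
    IsClosed ({w} : Set (WSet c)) ↔ w.1.1 = c w.1.2 := by
  constructor
  · intro h
    have h2 : cl c w = w := (specializes_cl c w).mem_closed h rfl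
    exact (congrArg (fun z : WSet c => z.1.1) h2).symm
  · intro h
    have : ({w} : Set (WSet c)) = Subtype.val ⁻¹' (closure {w.1.1} ×ˢ {w.1.2}) := by
      ext w'
      simp only [Set.mem_singleton_iff, Set.mem_preimage, Set.mem_prod]
      constructor
      · rintro rfl; exact ⟨subset_closure rfl, rfl⟩
      · rintro ⟨h1, h2⟩
        have h3 : w.1.1 ≤ w'.1.1 :=
          (PrimeSpectrum.le_iff_specializes _ _).2 (specializes_iff_mem_closure.2 h1)
        have h4 : w'.1.1 ≤ c w'.1.2 := le_of_mem c w'
        rw [h2, ← h] at h4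
        exact Subtype.ext (Prod.ext (le_antisymm h4 h3) h2)
    rw [this]
    exact (isClosed_closure.prod isClosed_singleton).preimage continuous_subtype_val

theorem isClosed_closedPoints_W
    (hc : ∀ f : A, IsClopen (c ⁻¹' (PrimeSpectrum.basicOpen f : Set (PrimeSpectrum A)))) :
    IsClosed {w : WSet c | IsClosed ({w} : Set (WSet c))} := by
  have : {w : WSet c | IsClosed ({w} : Set (WSet c))} =
      Subtype.val ⁻¹' (⋂ f : A, ((Prod.snd ⁻¹' (c ⁻¹' (PrimeSpectrum.basicOpen f : Set _))) ∪
        (Prod.fst ⁻¹' (PrimeSpectrum.zeroLocus {f}))) : Set (PrimeSpectrum A × T)) := by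
    ext w
    rw [Set.mem_ofPred_eq, isClosed_singleton_W_iff, Set.mem_preimage, Set.mem_iInter]
    constructor
    · intro h f
      by_cases hf : f ∈ (c w.1.2).asIdeal
      · right
        show w.1.1 ∈ PrimeSpectrum.zeroLocus {f}
        rw [h, PrimeSpectrum.mem_zeroLocus, Set.singleton_subset_iff]
        exact hf
      · left; exact hf
    · intro h
      apply le_antisymm (le_of_mem c w)
      intro f hf
      rcases h f with h1 | h1
      · exact absurd hf h1
      · have h2 : w.1.1 ∈ PrimeSpectrum.zeroLocus {f} := h1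
        rw [PrimeSpectrum.mem_zeroLocus, Set.singleton_subset_iff] at h2
        exact h2
  rw [this]
  refine IsClosed.preimage continuous_subtype_val (isClosed_iInter fun f => ?_)
  exact ((hc f).isClosed.preimage continuous_snd).union
    ((PrimeSpectrum.isClosed_zeroLocus _).preimage continuous_fst)

theorem existsUnique_closed_W (w : WSet c) :
    ∃! w₀ : WSet c, IsClosed ({w₀} : Set (WSet c)) ∧ w ⤳ w₀ := by
  refine ⟨cl c w, ⟨(isClosed_singleton_W_iff c _).2 (cl_fst c w), specializes_cl c w⟩, ?_⟩
  rintro w' ⟨h1, h2⟩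
  rw [isClosed_singleton_W_iff] at h1
  obtain ⟨-, h3⟩ := (specializes_iff_W c _ _).1 h2
  apply Subtype.ext
  apply Prod.ext
  · show w'.1.1 = c w.1.2
    rw [h1, h3]
  · exact h3.symm

end wtop

section transfer

/-- w-locality transfers along homeomorphisms (no spectrality needed on the target) -/
theorem isWLocal_of_homeomorph' {X Y : Type u} [TopologicalSpace X] [TopologicalSpace Y]
    [SpectralSpace X] (h : X ≃ₜ Y) (hc : IsClosed {y : Y | IsClosed ({y} : Set Y)})
    (hu : ∀ y : Y, ∃! y₀ : Y, IsClosed ({y₀} : Set Y) ∧ y ⤳ y₀) : ProEtW.IsWLocal X := by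
  have hcl : ∀ x : X, IsClosed ({x} : Set X) ↔ IsClosed ({h x} : Set Y) := by
    intro x
    rw [← h.isClosed_image, Set.image_singleton]
  refine ⟨inferInstance, ?_, ?_⟩
  · have : {x : X | IsClosed ({x} : Set X)} = h ⁻¹' {y : Y | IsClosed ({y} : Set Y)} := by
      ext x
      exact hcl x
    rw [this]
    exact hc.preimage h.continuous
  · intro x
    obtain ⟨y, ⟨hy1, hy2⟩, hy3⟩ := hu (h x)
    refine ⟨h.symm y, ⟨?_, ?_⟩, ?_⟩
    · rw [hcl, h.apply_symm_apply]; exact hy1
    · rw [← h.isInducing.specializes_iff, h.apply_symm_apply]; exact hy2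
    · rintro z ⟨hz1, hz2⟩
      have := hy3 (h z) ⟨(hcl z).1 hz1, h.isInducing.specializes_iff.2 hz2⟩
      rw [← this, h.symm_apply_apply]

end transfer

section main

variable {A : Type u} [CommRing A] {T : Type u} [TopologicalSpace T]
  (c : T → PrimeSpectrum A)
  (hc : ∀ f : A, IsClopen (c ⁻¹' (PrimeSpectrum.basicOpen f : Set (PrimeSpectrum A))))
  [CompactSpace T] [T2Space T] [TotallyDisconnectedSpace T]

theorem isWLocal_Aw : ProEtW.IsWLocal (PrimeSpectrum (Aw c hc)) :=
  isWLocal_of_homeomorph' (homeoW c hc) (isClosed_closedPoints_W c hc) (existsUnique_closed_W c)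

theorem isClosed_singleton_Aw_iff (y : PrimeSpectrum (Aw c hc)) :
    IsClosed ({y} : Set (PrimeSpectrum (Aw c hc))) ↔ (psi c hc y).1 = c (psi c hc y).2 := by
  rw [← (homeoW c hc).isClosed_image, Set.image_singleton, isClosed_singleton_W_iff, homeoW_val]

theorem isIndZariski_Aw : EtPBC.IsIndZariski A (Aw c hc) :=
  Groth.Agent.H48.TupLoc.isIndZariski_localization (SW c hc) (exists_finite_model A T)

theorem flat_Aw : Module.Flat A (Aw c hc) := by
  haveI := flat_locallyConstant A T
  exact Module.Flat.trans A (LocallyConstant T A) (Aw c hc)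

/-- the closed point of `Spec A_{T,c}` attached to `t` -/
theorem exists_point (t : T) : ∃ y : PrimeSpectrum (Aw c hc), psi c hc y = (c t, t) := by
  have : (c t, t) ∈ Set.range (psi c hc) := by
    rw [range_psi]
    exact le_refl (c t).asIdeal
  exact this

theorem faithfullyFlat_Aw (hsurj : Function.Surjective c) : Module.FaithfullyFlat A (Aw c hc) := by
  haveI := flat_Aw c hc
  apply Module.FaithfullyFlat.of_comap_surjective
  intro x
  obtain ⟨t, rfl⟩ := hsurj x
  obtain ⟨y, hy⟩ := exists_point c hc t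
  refine ⟨y, ?_⟩
  rw [← psi_fst, hy]

theorem bijOn_closedPoints (hbij : Function.Bijective c) :
    Set.BijOn (PrimeSpectrum.comap (algebraMap A (Aw c hc)))
      (ProEtW.closedPoints (PrimeSpectrum (Aw c hc))) Set.univ := by
  refine ⟨fun _ _ => Set.mem_univ _, ?_, ?_⟩
  · intro y hy y' hy' h
    have h1 : (psi c hc y).1 = c (psi c hc y).2 := (isClosed_singleton_Aw_iff c hc y).1 hy
    have h2 : (psi c hc y').1 = c (psi c hc y').2 := (isClosed_singleton_Aw_iff c hc y').1 hy'
    rw [← psi_fst, ← psi_fst] at h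
    apply (isEmbedding_psi c hc).injective
    apply Prod.ext h
    apply hbij.1
    rw [← h1, ← h2, h]
  · intro x _
    obtain ⟨t, rfl⟩ := hbij.2 x
    obtain ⟨y, hy⟩ := exists_point c hc t
    refine ⟨y, ?_, ?_⟩
    · show IsClosed ({y} : Set (PrimeSpectrum (Aw c hc)))
      rw [isClosed_singleton_Aw_iff, hy]
    · rw [← psi_fst, hy]

end main

end Groth.Agent.H48.WLocC
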