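import Mathlib
import Groth.Agent.H48.WLocC
import Groth.Agent.H38.Spectral

/-!
# The w-localization `A_w` of a ring (helper48): `T = Spec A` with the constructible topology.
-/

set_option autoImplicit false
universe u

open PrimeSpectrum

namespace Groth.Agent.H48.WLocC

variable (A : Type u) [CommRing A]

instance : TotallySeparatedSpace (WithConstructibleTopology (PrimeSpectrum A)) :=
  Groth.Agent.H38.totallySeparatedSpace_withConstr

/-- the identity `Spec A (constructible) → Spec A` -/
def cP : WithConstructibleTopology (PrimeSpectrum A) → PrimeSpectrum A := WithTopology.ofTopology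

theorem cP_bijective : Function.Bijective (cP A) := WithTopology.ofTopology_bijective _

theorem isClopen_cP (U : Set (PrimeSpectrum A)) (hUo : IsOpen U) (hUc : IsCompact U) :
    IsClopen (cP A ⁻¹' U) := by
  have hU := Groth.Agent.H38.isClopen_constr_of_isCompact_isOpen hUo hUc
  exact ⟨@IsClosed.preimage _ _ _ (constructibleTopology (PrimeSpectrum A)) _
      (WithTopology.continuous_ofTopology _) U hU.1,
    @IsOpen.preimage _ _ _ (constructibleTopology (PrimeSpectrum A)) _
      (WithTopology.continuous_ofTopology _) U hU.2⟩

theorem hcP (f : A) : IsClopen (cP A ⁻¹' (PrimeSpectrum.basicOpen f : Set (PrimeSpectrum A))) :=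
  isClopen_cP A _ (PrimeSpectrum.basicOpen f).2 (PrimeSpectrum.isCompact_basicOpen f)

end Groth.Agent.H48.WLocC
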