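import Mathlib

/-!
# The canonical map `LocallyConstant (Spec B) A → B` for an `A`-algebra `B` (helper48)
-/

set_option autoImplicit false
universe u

open PrimeSpectrum

namespace Groth.Agent.H48.LCMap

variable {A B : Type u} [CommRing A] [CommRing B] [Algebra A B]

/-- an element which is locally (at each prime) killed by a non-member is zero -/
theorem eq_zero_of_forall_prime {x : B}
    (h : ∀ q : PrimeSpectrum B, ∃ u ∉ q.asIdeal, u * x = 0) : x = 0 := by
  let I : Ideal B := LinearMap.ker (LinearMap.toSpanSingleton B B x)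
  have hI : ∀ u, u ∈ I ↔ u * x = 0 := fun u => by
    rw [LinearMap.mem_ker, LinearMap.toSpanSingleton_apply, smul_eq_mul]
  by_cases htop : I = ⊤
  · have : (1 : B) ∈ I := htop ▸ Submodule.mem_top
    rw [hI, one_mul] at this
    exact this
  · obtain ⟨M, hM, hle⟩ := Ideal.exists_le_maximal I htop
    obtain ⟨u, hu, hux⟩ := h ⟨M, hM.isPrime⟩
    exact absurd (hle ((hI u).2 hux)) hu

/-- `b` is locally equal to `f` -/
def Rel (f : LocallyConstant (PrimeSpectrum B) A) (b : B) : Prop :=
  ∀ q : PrimeSpectrum B, ∃ u ∉ q.asIdeal, u * (b - algebraMap A B (f q)) = 0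

theorem Rel.unique {f : LocallyConstant (PrimeSpectrum B) A} {b b' : B}
    (h : Rel f b) (h' : Rel f b') : b = b' := by
  rw [← sub_eq_zero]
  apply eq_zero_of_forall_prime
  intro q
  obtain ⟨u, hu, hub⟩ := h q
  obtain ⟨u', hu', hub'⟩ := h' q
  refine ⟨u * u', fun hm => (q.2.mem_or_mem hm).elim hu hu', ?_⟩
  have : u * u' * (b - b') = u' * (u * (b - algebraMap A B (f q))) -
      u * (u' * (b' - algebraMap A B (f q))) := by ring
  rw [this, hub, hub', mul_zero, mul_zero, sub_zero]

theorem Rel.add {f f' : LocallyConstant (PrimeSpectrum B) A} {b b' : B}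
    (h : Rel f b) (h' : Rel f' b') : Rel (f + f') (b + b') := by
  intro q
  obtain ⟨u, hu, hub⟩ := h q
  obtain ⟨u', hu', hub'⟩ := h' q
  refine ⟨u * u', fun hm => (q.2.mem_or_mem hm).elim hu hu', ?_⟩
  have : u * u' * (b + b' - algebraMap A B ((f + f') q)) =
      u' * (u * (b - algebraMap A B (f q))) +
      u * (u' * (b' - algebraMap A B (f' q))) := by
    rw [LocallyConstant.add_apply, map_add]; ring
  rw [this, hub, hub', mul_zero, mul_zero, add_zero]

theorem Rel.mul {f f' : LocallyConstant (PrimeSpectrum B) A} {b b' : B}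
    (h : Rel f b) (h' : Rel f' b') : Rel (f * f') (b * b') := by
  intro q
  obtain ⟨u, hu, hub⟩ := h q
  obtain ⟨u', hu', hub'⟩ := h' q
  refine ⟨u * u', fun hm => (q.2.mem_or_mem hm).elim hu hu', ?_⟩
  have : u * u' * (b * b' - algebraMap A B ((f * f') q)) =
      u' * b' * (u * (b - algebraMap A B (f q))) +
      u * algebraMap A B (f q) * (u' * (b' - algebraMap A B (f' q))) := by
    rw [LocallyConstant.mul_apply, map_mul]; ring
  rw [this, hub, hub', mul_zero, mul_zero, add_zero]

theorem rel_algebraMap (a : A) :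
    Rel (algebraMap A (LocallyConstant (PrimeSpectrum B) A) a) (algebraMap A B a) := by
  intro q
  refine ⟨1, fun h => q.2.ne_top ((Ideal.eq_top_iff_one _).mpr h), ?_⟩
  have : (algebraMap A (LocallyConstant (PrimeSpectrum B) A) a) q = a := rfl
  rw [this, sub_self, mul_zero]

theorem rel_one : Rel (1 : LocallyConstant (PrimeSpectrum B) A) (1 : B) := by
  have := rel_algebraMap (A := A) (B := B) 1
  rwa [map_one, map_one] at this

theorem rel_zero : Rel (0 : LocallyConstant (PrimeSpectrum B) A) (0 : B) := by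
  have := rel_algebraMap (A := A) (B := B) 0
  rwa [map_zero, map_zero] at this

theorem exists_rel (f : LocallyConstant (PrimeSpectrum B) A) : ∃ b, Rel f b := by
  classical
  have hfin : (Set.range f).Finite := f.range_finite
  have hε : ∀ a : A, ∃ ε : B, IsIdempotentElem ε ∧
      f ⁻¹' {a} = (PrimeSpectrum.basicOpen ε : Set (PrimeSpectrum B)) := fun a =>
    PrimeSpectrum.isClopen_iff.1 (f.isLocallyConstant.isClopen_fiber a)
  choose ε hεi hεo using hε
  let S := hfin.toFinset
  refine ⟨∑ a ∈ S, algebraMap A B a * ε a, fun q => ?_⟩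
  have ha₀ : f q ∈ S := hfin.mem_toFinset.2 ⟨q, rfl⟩
  have hε₀ : ε (f q) ∉ q.asIdeal := by
    have : q ∈ f ⁻¹' {f q} := rfl
    rw [hεo] at this
    exact this
  have hεa : ∀ a, a ≠ f q → ε a ∈ q.asIdeal := by
    intro a hne
    have : q ∉ f ⁻¹' {a} := fun h' => hne (Eq.symm h')
    rw [hεo] at this
    by_contra hn
    exact this hn
  refine ⟨ε (f q) * ∏ a ∈ S.erase (f q), (1 - ε a), ?_, ?_⟩
  · intro hmem
    rcases q.2.mem_or_mem hmem with h | h
    · exact hε₀ h
    · obtain ⟨a, ha, hqa⟩ := (Ideal.IsPrime.prod_mem_iff).1 h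
      have hne : a ≠ f q := (Finset.mem_erase.1 ha).1
      have h1 := q.asIdeal.add_mem hqa (hεa a hne)
      rw [sub_add_cancel] at h1
      exact q.2.ne_top ((Ideal.eq_top_iff_one _).mpr h1)
  · have hterm : ∀ a ∈ S, a ≠ f q →
        (ε (f q) * ∏ a' ∈ S.erase (f q), (1 - ε a')) * (algebraMap A B a * ε a) = 0 := by
      intro a ha hne
      have hmem : a ∈ S.erase (f q) := Finset.mem_erase.2 ⟨hne, ha⟩
      rw [← Finset.mul_prod_erase _ _ hmem]
      have h0 : (1 - ε a) * ε a = 0 := by rw [sub_mul, one_mul, (hεi a).eq, sub_self]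
      calc ε (f q) * ((1 - ε a) * ∏ x ∈ (S.erase (f q)).erase a, (1 - ε x)) *
            (algebraMap A B a * ε a)
          = ε (f q) * (∏ x ∈ (S.erase (f q)).erase a, (1 - ε x)) * algebraMap A B a *
            ((1 - ε a) * ε a) := by ring
        _ = 0 := by rw [h0, mul_zero]
    rw [mul_sub, Finset.mul_sum, Finset.sum_eq_single_of_mem (f q) ha₀ hterm]
    have h1 : ε (f q) * ε (f q) = ε (f q) := (hεi (f q)).eq
    generalize (∏ a' ∈ S.erase (f q), (1 - ε a')) = P
    calc ε (f q) * P * (algebraMap A B (f q) * ε (f q)) -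
          ε (f q) * P * algebraMap A B (f q)
        = (ε (f q) * ε (f q) - ε (f q)) * P * algebraMap A B (f q) := by ring
      _ = 0 := by rw [h1, sub_self, zero_mul, zero_mul]

/-- the canonical `A`-algebra map `LocallyConstant (Spec B) A → B` -/
noncomputable def rho : LocallyConstant (PrimeSpectrum B) A →ₐ[A] B where
  toFun f := (exists_rel f).choose
  map_one' := Rel.unique (exists_rel 1).choose_spec rel_one
  map_mul' f f' := Rel.unique (exists_rel (f * f')).choose_spec
    ((exists_rel f).choose_spec.mul (exists_rel f').choose_spec)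
  map_zero' := Rel.unique (exists_rel 0).choose_spec rel_zero
  map_add' f f' := Rel.unique (exists_rel (f + f')).choose_spec
    ((exists_rel f).choose_spec.add (exists_rel f').choose_spec)
  commutes' a := Rel.unique (exists_rel _).choose_spec (rel_algebraMap a)

theorem rel_rho (f : LocallyConstant (PrimeSpectrum B) A) : Rel f (rho f) :=
  (exists_rel f).choose_spec

theorem rho_mem_iff (f : LocallyConstant (PrimeSpectrum B) A) (q : PrimeSpectrum B) :
    rho f ∈ q.asIdeal ↔ algebraMap A B (f q) ∈ q.asIdeal := by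
  obtain ⟨u, hu, h⟩ := rel_rho f q
  have h1 : rho f - algebraMap A B (f q) ∈ q.asIdeal := by
    have : u * (rho f - algebraMap A B (f q)) ∈ q.asIdeal := by rw [h]; exact zero_mem _
    exact (q.2.mem_or_mem this).resolve_left hu
  constructor
  · intro h2
    have := q.asIdeal.sub_mem h2 h1
    rwa [sub_sub_cancel] at this
  · intro h2
    have := q.asIdeal.add_mem h1 h2
    rwa [sub_add_cancel] at this

end Groth.Agent.H48.LCMap
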