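import Mathlib
import Groth.Agent.H48.WLocC2

/-!
# `π₀` of the general w-localization, and the Stonean version (helper48)
-/

set_option autoImplicit false
universe u

open PrimeSpectrum

namespace Groth.Agent.H48.WLocC

theorem mk_eq_of_specializes {X : Type*} [TopologicalSpace X] {x y : X} (h : x ⤳ y) :
    ConnectedComponents.mk x = ConnectedComponents.mk y := by
  rw [ConnectedComponents.coe_eq_coe']
  have hpre : IsPreconnected (closure ({x} : Set X)) := isPreconnected_singleton.closure
  exact hpre.subset_connectedComponent (specializes_iff_mem_closure.1 h) (subset_closure rfl)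

section pi0

variable {A : Type u} [CommRing A] {T : Type u} [TopologicalSpace T]
  (c : T → PrimeSpectrum A)
  (hc : ∀ f : A, IsClopen (c ⁻¹' (PrimeSpectrum.basicOpen f : Set (PrimeSpectrum A))))
  [CompactSpace T] [T2Space T] [TotallyDisconnectedSpace T]

theorem psi_mem (y : PrimeSpectrum (Aw c hc)) : (psi c hc y).1 ≤ c (psi c hc y).2 := by
  have : psi c hc y ∈ WSet c := by rw [← range_psi c hc]; exact ⟨y, rfl⟩
  exact this

theorem specializes_of_psi {y y₀ : PrimeSpectrum (Aw c hc)}
    (h : psi c hc y₀ = (c (psi c hc y).2, (psi c hc y).2)) : y ⤳ y₀ := by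
  rw [← (homeoW c hc).isInducing.specializes_iff, specializes_iff_W, homeoW_val, homeoW_val, h]
  exact ⟨(PrimeSpectrum.le_iff_specializes _ _).1 (psi_mem c hc y), rfl⟩

theorem exists_pi0_homeo :
    ∃ e : ConnectedComponents (PrimeSpectrum (Aw c hc)) ≃ₜ T,
      ∀ y, e (ConnectedComponents.mk y) = (psi c hc y).2 := by
  have hq : Continuous (fun y : PrimeSpectrum (Aw c hc) => (psi c hc y).2) :=
    continuous_snd.comp (isEmbedding_psi c hc).continuous
  have hinj : Function.Injective hq.connectedComponentsLift := by
    intro a b hab
    obtain ⟨y, rfl⟩ := ConnectedComponents.surjective_coe a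
    obtain ⟨y', rfl⟩ := ConnectedComponents.surjective_coe b
    have hab' : (psi c hc y).2 = (psi c hc y').2 := hab
    obtain ⟨y₀, hy₀⟩ := exists_point c hc (psi c hc y).2
    have hy₀' : psi c hc y₀ = (c (psi c hc y').2, (psi c hc y').2) := by rw [hy₀, hab']
    rw [mk_eq_of_specializes (specializes_of_psi c hc hy₀),
      mk_eq_of_specializes (specializes_of_psi c hc hy₀')]
  have hsurj : Function.Surjective hq.connectedComponentsLift := by
    intro t
    obtain ⟨y, hy⟩ := exists_point c hc t
    refine ⟨ConnectedComponents.mk y, ?_⟩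
    show (psi c hc y).2 = t
    rw [hy]
  exact ⟨Continuous.homeoOfEquivCompactToT2 (f := Equiv.ofBijective _ ⟨hinj, hsurj⟩)
    hq.connectedComponentsLift_continuous, fun y => rfl⟩

end pi0

section stonean

variable (A : Type u) [CommRing A]

/-- the Stonean cover of `Spec A` with the constructible topology -/
noncomputable def St : Stonean.{u} :=
  (CompHaus.of (WithConstructibleTopology (PrimeSpectrum A))).presentation

/-- `St A → Spec A` -/
noncomputable def cSt : St A → PrimeSpectrum A := fun t =>
  cP A ((CompHaus.presentation.π (CompHaus.of (WithConstructibleTopology (PrimeSpectrum A)))) t)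

theorem cSt_surjective : Function.Surjective (cSt A) := by
  have h := (CompHaus.epi_iff_surjective _).1
    (CompHaus.presentation.epi_π (CompHaus.of (WithConstructibleTopology (PrimeSpectrum A))))
  exact (cP_bijective A).2.comp h

theorem hcSt (f : A) : IsClopen (cSt A ⁻¹' (PrimeSpectrum.basicOpen f : Set (PrimeSpectrum A))) := by
  have h1 := hcP A f
  have hcont : Continuous (fun t : St A =>
      (CompHaus.presentation.π (CompHaus.of (WithConstructibleTopology (PrimeSpectrum A)))) t) :=
    (CompHaus.presentation.π
      (CompHaus.of (WithConstructibleTopology (PrimeSpectrum A)))).hom.hom.continuous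
  exact h1.preimage hcont

theorem extremallyDisconnected_pi0 :
    ExtremallyDisconnected (ConnectedComponents (PrimeSpectrum (Aw (cSt A) (hcSt A)))) := by
  obtain ⟨e, -⟩ := exists_pi0_homeo (cSt A) (hcSt A)
  exact extremallyDisconnected_of_homeo e.symm

end stonean

end Groth.Agent.H48.WLocC
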