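import Mathlib
import Groth.Agent.H48.LCSpec
import Groth.Agent.H48.IndZar
import Groth.Agent.S0698
import Groth.Agent.H4.SpectralProd

/-!
# The ind-Zariski algebra `A_T` attached to a profinite space `T → π₀(Spec A)` (helper48)
(Bhatt–Scholze, Stacks 097D): `A_T = LocallyConstant T A ⧸ (1 - e)`.
-/

set_option autoImplicit false
universe u

open PrimeSpectrum

namespace Groth.Agent.H48.WLocT

open Groth.Agent.H48.LCSpec

variable (A : Type u) [CommRing A] (T : Type u) [TopologicalSpace T]
  (g : C(T, ConnectedComponents (PrimeSpectrum A)))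

/-- idempotents of `LocallyConstant T A` not vanishing on the fibre product. -/
def goodIdem : Set (LocallyConstant T A) :=
  {e | IsIdempotentElem e ∧ ∀ (p : PrimeSpectrum A) (t : T),
    ConnectedComponents.mk p = g t → e t ∉ p.asIdeal}

/-- the ideal defining `A_T` -/
def idealT : Ideal (LocallyConstant T A) :=
  Ideal.span {x | ∃ e ∈ goodIdem A T g, x = 1 - e}

variable {A T g}

theorem one_mem_goodIdem : (1 : LocallyConstant T A) ∈ goodIdem A T g :=
  ⟨IsIdempotentElem.one, fun p _ _ h => p.2.ne_top ((Ideal.eq_top_iff_one _).mpr h)⟩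

theorem mul_mem_goodIdem {e e' : LocallyConstant T A} (he : e ∈ goodIdem A T g)
    (he' : e' ∈ goodIdem A T g) : e * e' ∈ goodIdem A T g := by
  refine ⟨he.1.mul he'.1, fun p t h hm => ?_⟩
  rw [LocallyConstant.mul_apply] at hm
  rcases p.2.mem_or_mem hm with h1 | h1
  · exact he.2 p t h h1
  · exact he'.2 p t h h1

theorem mem_idealT_iff (x : LocallyConstant T A) :
    x ∈ idealT A T g ↔ ∃ e ∈ goodIdem A T g, e * x = 0 := by
  constructor
  · intro hx
    unfold idealT at hx
    induction hx using Submodule.span_induction with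
    | mem y hy =>
      obtain ⟨e, he, rfl⟩ := hy
      refine ⟨e, he, ?_⟩
      rw [mul_sub, mul_one, he.1.eq, sub_self]
    | zero => exact ⟨1, one_mem_goodIdem, mul_zero _⟩
    | add y z _ _ hy hz =>
      obtain ⟨e, he, hey⟩ := hy
      obtain ⟨e', he', hez⟩ := hz
      refine ⟨e * e', mul_mem_goodIdem he he', ?_⟩
      rw [mul_add, mul_right_comm, hey, zero_mul, mul_assoc, hez, mul_zero, add_zero]
    | smul c y _ hy =>
      obtain ⟨e, he, hey⟩ := hy
      refine ⟨e, he, ?_⟩
      rw [smul_eq_mul, mul_left_comm, hey, mul_zero]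
  · rintro ⟨e, he, hex⟩
    have : x = (1 - e) * x := by rw [sub_mul, one_mul, hex, sub_zero]
    rw [this]
    exact Ideal.mul_mem_right _ _ (Ideal.subset_span ⟨e, he, rfl⟩)

theorem one_sub_mem_idealT {e : LocallyConstant T A} (he : e ∈ goodIdem A T g) :
    1 - e ∈ idealT A T g := Ideal.subset_span ⟨e, he, rfl⟩

/-- a prime contains `idealT` iff it contains no good idempotent -/
theorem idealT_le_iff (q : PrimeSpectrum (LocallyConstant T A)) :
    idealT A T g ≤ q.asIdeal ↔ ∀ e ∈ goodIdem A T g, e ∉ q.asIdeal := by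
  constructor
  · intro h e he heq
    have h1 : 1 - e ∈ q.asIdeal := h (one_sub_mem_idealT he)
    have : (1 : LocallyConstant T A) ∈ q.asIdeal := by
      have := q.asIdeal.add_mem h1 heq
      rwa [sub_add_cancel] at this
    exact q.2.ne_top ((Ideal.eq_top_iff_one _).mpr this)
  · intro h
    unfold idealT
    rw [Ideal.span_le]
    rintro _ ⟨e, he, rfl⟩
    have h0 : e * (1 - e) ∈ q.asIdeal := by
      rw [mul_sub, mul_one, he.1.eq, sub_self]
      exact zero_mem _
    exact (q.2.mem_or_mem h0).resolve_left (h e he)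

section fibre
variable [CompactSpace T] [T2Space T] [TotallyDisconnectedSpace T]

/-- the "separating" good idempotent -/
theorem exists_goodIdem_mem {p : PrimeSpectrum A} {t : T}
    (h : ConnectedComponents.mk p ≠ g t) :
    ∃ e ∈ goodIdem A T g, e t ∈ p.asIdeal := by
  haveI : T2Space (ConnectedComponents (PrimeSpectrum A)) :=
    Groth.Agent.H4.connectedComponents_t2_of_spectral
  have hopen : IsOpen ({ConnectedComponents.mk p}ᶜ :
      Set (ConnectedComponents (PrimeSpectrum A))) := isOpen_compl_singleton
  obtain ⟨V, hV, hgV, hVp⟩ := compact_exists_isClopen_in_isOpen hopen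
    (show g t ∈ ({ConnectedComponents.mk p}ᶜ : Set _) from fun h' => h h'.symm)
  have hVc : IsClopen (ConnectedComponents.mk ⁻¹' V : Set (PrimeSpectrum A)) :=
    hV.preimage ConnectedComponents.continuous_coe
  obtain ⟨a, ha, haV⟩ := PrimeSpectrum.isClopen_iff.1 hVc
  have hU : IsClopen (g ⁻¹' V) := hV.preimage g.continuous
  have hpV : ConnectedComponents.mk p ∉ V := fun h' => hVp h' rfl
  have hap : a ∈ p.asIdeal := by
    by_contra hn
    have : p ∈ (PrimeSpectrum.basicOpen a : Set (PrimeSpectrum A)) := hn
    rw [← haV] at this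
    exact hpV this
  refine ⟨LocallyConstant.charFn A hU * LocallyConstant.const T a +
    (1 - LocallyConstant.charFn A hU), ⟨?_, ?_⟩, ?_⟩
  · -- idempotent
    show _ * _ = _
    ext t'
    simp only [LocallyConstant.mul_apply, LocallyConstant.add_apply, LocallyConstant.sub_apply,
      LocallyConstant.one_apply]
    by_cases ht' : t' ∈ g ⁻¹' V
    · rw [charFn_apply_of_mem hU ht']
      show (1 * a + (1 - 1)) * (1 * a + (1 - 1)) = 1 * a + (1 - 1)
      rw [sub_self, add_zero, one_mul, ha.eq]
    · rw [charFn_apply_of_notMem hU ht']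
      show (0 * a + (1 - 0)) * (0 * a + (1 - 0)) = 0 * a + (1 - 0)
      ring
  · intro p' t' hpt hmem
    simp only [LocallyConstant.mul_apply, LocallyConstant.add_apply, LocallyConstant.sub_apply,
      LocallyConstant.one_apply] at hmem
    by_cases ht' : t' ∈ g ⁻¹' V
    · rw [charFn_apply_of_mem hU ht'] at hmem
      have hmem' : (1 * a + (1 - 1) : A) ∈ p'.asIdeal := hmem
      rw [sub_self, add_zero, one_mul] at hmem'
      have hp'V : p' ∈ (ConnectedComponents.mk ⁻¹' V : Set (PrimeSpectrum A)) := by
        show ConnectedComponents.mk p' ∈ V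
        rw [hpt]; exact ht'
      rw [haV] at hp'V
      exact hp'V hmem'
    · rw [charFn_apply_of_notMem hU ht'] at hmem
      have hmem' : (0 * a + (1 - 0) : A) ∈ p'.asIdeal := hmem
      rw [zero_mul, zero_add, sub_zero] at hmem'
      exact p'.2.ne_top ((Ideal.eq_top_iff_one _).mpr hmem')
  · simp only [LocallyConstant.mul_apply, LocallyConstant.add_apply, LocallyConstant.sub_apply,
      LocallyConstant.one_apply]
    rw [charFn_apply_of_mem hU (show t ∈ g ⁻¹' V from hgV)]
    show (1 * a + (1 - 1) : A) ∈ p.asIdeal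
    rw [sub_self, add_zero, one_mul]
    exact hap

/-- the zero locus of `idealT` is the fibre product -/
theorem homeo_mem_zeroLocus_iff (x : PrimeSpectrum A × T) :
    homeo x ∈ PrimeSpectrum.zeroLocus (idealT A T g : Set (LocallyConstant T A)) ↔
      ConnectedComponents.mk x.1 = g x.2 := by
  rw [PrimeSpectrum.mem_zeroLocus, SetLike.coe_subset_coe, idealT_le_iff]
  constructor
  · intro h
    by_contra hne
    obtain ⟨e, he, hep⟩ := exists_goodIdem_mem (g := g) hne
    exact h e he hep
  · intro h e he hmem
    exact he.2 x.1 x.2 h hmem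

/-- a homeomorphism induces a homeomorphism on `π₀` -/
noncomputable def ccHomeo {X Y : Type*} [TopologicalSpace X] [TopologicalSpace Y] (h : X ≃ₜ Y) :
    ConnectedComponents X ≃ₜ ConnectedComponents Y where
  toFun := h.continuous.connectedComponentsMap
  invFun := h.symm.continuous.connectedComponentsMap
  left_inv := by
    intro a
    obtain ⟨x, rfl⟩ := ConnectedComponents.surjective_coe a
    rw [Continuous.connectedComponentsMap_mk, Continuous.connectedComponentsMap_mk,
      h.symm_apply_apply]
  right_inv := by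
    intro a
    obtain ⟨x, rfl⟩ := ConnectedComponents.surjective_coe a
    rw [Continuous.connectedComponentsMap_mk, Continuous.connectedComponentsMap_mk,
      h.apply_symm_apply]
  continuous_toFun := h.continuous.connectedComponentsMap_continuous
  continuous_invFun := h.symm.continuous.connectedComponentsMap_continuous

theorem ccHomeo_mk {X Y : Type*} [TopologicalSpace X] [TopologicalSpace Y] (h : X ≃ₜ Y) (x : X) :
    ccHomeo h (ConnectedComponents.mk x) = ConnectedComponents.mk (h x) := rfl

variable (A T g) in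
/-- the ring `A_T` -/
abbrev BT : Type u := LocallyConstant T A ⧸ idealT A T g

/-- The map `Spec A_T → Spec A × T`. -/
noncomputable def phi (y : PrimeSpectrum (BT A T g)) : PrimeSpectrum A × T :=
  homeo.symm (PrimeSpectrum.comap (Ideal.Quotient.mk (idealT A T g)) y)

theorem phi_fst (y : PrimeSpectrum (BT A T g)) :
    (phi y).1 = PrimeSpectrum.comap (algebraMap A (BT A T g)) y := by
  have h1 := comap_const_homeo (A := A) (T := T) (phi y)
  rw [← h1]
  unfold phi
  rw [Homeomorph.apply_symm_apply]
  rfl

theorem isClosedEmbedding_phi : Topology.IsClosedEmbedding (phi (A := A) (T := T) (g := g)) :=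
  (homeo.symm.isClosedEmbedding).comp
    (PrimeSpectrum.isClosedEmbedding_comap_of_surjective _ _ Ideal.Quotient.mk_surjective)

theorem range_phi : Set.range (phi (A := A) (T := T) (g := g)) =
    {p : PrimeSpectrum A × T | ConnectedComponents.mk p.1 = g p.2} := by
  ext x
  rw [Set.mem_setOf_eq, ← homeo_mem_zeroLocus_iff]
  have hr := range_comap_of_surjective _ (Ideal.Quotient.mk (idealT A T g))
    Ideal.Quotient.mk_surjective
  rw [Ideal.mk_ker] at hr
  rw [← hr]
  constructor
  · rintro ⟨y, rfl⟩
    refine ⟨y, ?_⟩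
    unfold phi
    rw [Homeomorph.apply_symm_apply]
  · rintro ⟨y, hy⟩
    refine ⟨y, ?_⟩
    unfold phi
    rw [hy, Homeomorph.symm_apply_apply]

/-- `Spec A_T` is the fibre product `Spec A ×_{π₀(Spec A)} T`. -/
noncomputable def homeoFib : PrimeSpectrum (BT A T g) ≃ₜ
    {p : PrimeSpectrum A × T // ConnectedComponents.mk p.1 = g p.2} :=
  (isClosedEmbedding_phi (g := g)).isEmbedding.toHomeomorph.trans
    (Homeomorph.setCongr (range_phi (g := g)))

theorem homeoFib_val (y : PrimeSpectrum (BT A T g)) : (homeoFib y).1 = phi y := rfl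

/-- `π₀(Spec A_T) ≃ₜ T` -/
noncomputable def eT : ConnectedComponents (PrimeSpectrum (BT A T g)) ≃ₜ T :=
  (ccHomeo homeoFib).trans (Groth.Agent.H4.exists_fib_homeo g).choose

theorem eT_mk (y : PrimeSpectrum (BT A T g)) :
    eT (ConnectedComponents.mk y) = (phi y).2 := by
  unfold eT
  rw [Homeomorph.trans_apply, ccHomeo_mk, (Groth.Agent.H4.exists_fib_homeo g).choose_spec,
    homeoFib_val]

theorem phi_eq (y : PrimeSpectrum (BT A T g)) :
    phi y = (PrimeSpectrum.comap (algebraMap A (BT A T g)) y, eT (ConnectedComponents.mk y)) :=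
  Prod.ext (phi_fst y) (eT_mk y).symm

theorem g_eT_mk (y : PrimeSpectrum (BT A T g)) :
    g (eT (ConnectedComponents.mk y)) =
      ConnectedComponents.mk (PrimeSpectrum.comap (algebraMap A (BT A T g)) y) := by
  have h : phi y ∈ {p : PrimeSpectrum A × T | ConnectedComponents.mk p.1 = g p.2} := by
    rw [← range_phi]; exact ⟨y, rfl⟩
  rw [eT_mk, ← phi_fst]
  exact h.symm

end fibre

omit [TopologicalSpace T] in
theorem exists_goodIdem_annihilating [TopologicalSpace T]
    {g : C(T, ConnectedComponents (PrimeSpectrum A))}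
    (s : Finset (LocallyConstant T A)) (hs : ∀ z ∈ s, z ∈ idealT A T g) :
    ∃ e ∈ goodIdem A T g, ∀ z ∈ s, e * z = 0 := by
  classical
  induction s using Finset.induction_on with
  | empty => exact ⟨1, one_mem_goodIdem, fun z hz => absurd hz (Finset.notMem_empty z)⟩
  | insert a s _ ih =>
    obtain ⟨e, he, hez⟩ := ih (fun z hz => hs z (Finset.mem_insert_of_mem hz))
    obtain ⟨e', he', hea⟩ := (mem_idealT_iff a).1 (hs a (Finset.mem_insert_self a s))
    refine ⟨e * e', mul_mem_goodIdem he he', fun z hz => ?_⟩
    rcases Finset.mem_insert.1 hz with rfl | hz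
    · rw [mul_assoc, hea, mul_zero]
    · rw [mul_right_comm, hez z hz, zero_mul]

theorem isIndZariski_BT [CompactSpace T] : EtPBC.IsIndZariski A (BT A T g) := by
  classical
  apply Groth.Agent.H48.IndZar.isIndZariski_of_tuples
  intro n x s hs
  -- lift the tuple
  choose b hb using fun i => Ideal.Quotient.mk_surjective (x i)
  have hmk : ∀ p : MvPolynomial (Fin n) A,
      Ideal.Quotient.mk (idealT A T g) (MvPolynomial.aeval b p) = MvPolynomial.aeval x p := by
    intro p
    have := MvPolynomial.comp_aeval_apply (f := b) (Ideal.Quotient.mkₐ A (idealT A T g)) p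
    rw [Ideal.Quotient.mkₐ_eq_mk] at this
    rw [this]
    have hfx : (fun i => Ideal.Quotient.mk (idealT A T g) (b i)) = x := funext hb
    rw [hfx]
  have hmem : ∀ z ∈ s.image (fun p => MvPolynomial.aeval b p), z ∈ idealT A T g := by
    intro z hz
    obtain ⟨p, hp, rfl⟩ := Finset.mem_image.1 hz
    rw [← Ideal.Quotient.eq_zero_iff_mem, hmk, hs p hp]
  obtain ⟨e, he, hez⟩ := exists_goodIdem_annihilating _ hmem
  have hep : ∀ p ∈ s, e * MvPolynomial.aeval b p = 0 :=
    fun p hp => hez _ (Finset.mem_image_of_mem _ hp)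
  -- the locally constant map `τ`
  let τ : T → (Fin n → A) × A := fun t => (fun i => b i t, e t)
  have hτ : IsLocallyConstant τ := by
    rw [IsLocallyConstant.iff_eventually_eq]
    intro t
    have h1 : ∀ i, ∀ᶠ t' in nhds t, b i t' = b i t :=
      fun i => (IsLocallyConstant.iff_eventually_eq _).1 (b i).isLocallyConstant t
    have h2 : ∀ᶠ t' in nhds t, e t' = e t :=
      (IsLocallyConstant.iff_eventually_eq _).1 e.isLocallyConstant t
    filter_upwards [Filter.eventually_all.2 h1, h2] with t' h1' h2'
    exact Prod.ext (funext h1') h2'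
  have hfin : (Set.range τ).Finite := hτ.range_finite
  let J : Type u := ↥(Set.range τ)
  haveI : Finite J := hfin
  let τ' : T → J := fun t => ⟨τ t, Set.mem_range_self t⟩
  have hτ' : IsLocallyConstant τ' := by
    rw [IsLocallyConstant.iff_eventually_eq]
    intro t
    filter_upwards [(IsLocallyConstant.iff_eventually_eq _).1 hτ t] with t' ht'
    exact Subtype.ext ht'
  have hτ'surj : Function.Surjective τ' := by
    rintro ⟨_, t, rfl⟩
    exact ⟨t, rfl⟩
  let et : J → A := fun j => j.1.2
  let bt : Fin n → (J → A) := fun i j => j.1.1 i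
  have het : IsIdempotentElem et := by
    show et * et = et
    funext j
    obtain ⟨t, rfl⟩ := hτ'surj j
    show e t * e t = e t
    have := congrArg (fun f : LocallyConstant T A => f t) he.1.eq
    simpa using this
  let σ : (J → A) →ₐ[A] LocallyConstant T A :=
    { toFun := fun f => ⟨fun t => f (τ' t), hτ'.comp f⟩
      map_one' := rfl
      map_mul' := fun _ _ => rfl
      map_zero' := rfl
      map_add' := fun _ _ => rfl
      commutes' := fun _ => rfl }
  have hσe : σ et = e := by ext t; rfl
  have hσb : ∀ i, σ (bt i) = b i := fun i => by ext t; rfl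
  let I : Ideal (J → A) := Ideal.span {1 - et}
  let E : Type u := (J → A) ⧸ I
  haveI h1 : Algebra.IsLocalIso A (J → A) := Algebra.IsLocalIso.pi_of_finite A (fun _ : J => A)
  haveI h2 : Algebra.IsLocalIso (J → A) E :=
    Groth.Agent.S0698.isLocalIso_quotient_idempotent het
  haveI h3 : Algebra.IsLocalIso A E := Algebra.IsLocalIso.trans A (J → A) E
  let ψ : (J → A) →ₐ[A] BT A T g := (Ideal.Quotient.mkₐ A (idealT A T g)).comp σ
  have hψ : ∀ a ∈ I, ψ a = 0 := by
    intro a ha
    have hle : I ≤ RingHom.ker ψ.toRingHom := by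
      rw [Ideal.span_le, Set.singleton_subset_iff]
      show ψ (1 - et) = 0
      show Ideal.Quotient.mk (idealT A T g) (σ (1 - et)) = 0
      rw [map_sub, map_one, hσe, Ideal.Quotient.eq_zero_iff_mem]
      exact one_sub_mem_idealT he
    exact hle ha
  let β : E →ₐ[A] BT A T g := Ideal.Quotient.liftₐ I ψ hψ
  refine ⟨E, inferInstance, inferInstance, h3, β, fun i => Ideal.Quotient.mk I (bt i), ?_, ?_⟩
  · intro i
    show Ideal.Quotient.mk (idealT A T g) (σ (bt i)) = x i
    rw [hσb, hb]
  · intro p hp
    have h4 := MvPolynomial.comp_aeval_apply (f := bt) (Ideal.Quotient.mkₐ A I) p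
    rw [Ideal.Quotient.mkₐ_eq_mk] at h4
    show MvPolynomial.aeval (fun i => Ideal.Quotient.mk I (bt i)) p = 0
    rw [← h4, Ideal.Quotient.eq_zero_iff_mem]
    -- `et * aeval bt p = 0`
    have h5 : et * MvPolynomial.aeval bt p = 0 := by
      funext j
      obtain ⟨t, rfl⟩ := hτ'surj j
      have h6 := MvPolynomial.comp_aeval_apply (f := bt) (Pi.evalAlgHom A (fun _ : J => A) (τ' t)) p
      have h7 := MvPolynomial.comp_aeval_apply (f := b) (LocallyConstant.evalₐ A t) p
      have h8 := congrArg (fun f : LocallyConstant T A => f t) (hep p hp)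
      simp only [LocallyConstant.mul_apply, LocallyConstant.zero_apply] at h8
      show e t * (MvPolynomial.aeval bt p) (τ' t) = 0
      have h9 : (MvPolynomial.aeval bt p) (τ' t) = (MvPolynomial.aeval b p) t := by
        show Pi.evalAlgHom A (fun _ : J => A) (τ' t) (MvPolynomial.aeval bt p) =
          LocallyConstant.evalₐ A t (MvPolynomial.aeval b p)
        rw [h6, h7]
        rfl
      rw [h9]
      exact h8
    have h10 : MvPolynomial.aeval bt p = (1 - et) * MvPolynomial.aeval bt p := by
      rw [sub_mul, one_mul, h5, sub_zero]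
    rw [h10]
    exact Ideal.mul_mem_right _ _ (Ideal.subset_span rfl)

end Groth.Agent.H48.WLocT
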