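import Mathlib
import Groth.Agent.H48.WLocT
import Groth.Agent.H48.LCMap
import Groth.Agent.S0704
import Groth.Agent.S0699

/-!
# w-local ring maps identifying local rings are ind-Zariski: the comparison `A_T → B` (helper48)
-/

set_option autoImplicit false
universe u

open PrimeSpectrum

namespace Groth.Agent.H48.WLocT2

open Groth.Agent.H48.LCSpec Groth.Agent.H48.WLocT Groth.Agent.H48.LCMap

section transfer

/-- w-locality transfers along homeomorphisms -/
theorem isWLocal_of_homeomorph {X Y : Type u} [TopologicalSpace X] [TopologicalSpace Y]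
    [SpectralSpace X] (h : X ≃ₜ Y) (hY : ProEtW.IsWLocal Y) : ProEtW.IsWLocal X := by
  obtain ⟨-, hc, hu⟩ := hY
  have hcl : ∀ x : X, IsClosed ({x} : Set X) ↔ IsClosed ({h x} : Set Y) := by
    intro x
    rw [← h.isClosed_image, Set.image_singleton]
  refine ⟨inferInstance, ?_, ?_⟩
  · have : {x : X | IsClosed ({x} : Set X)} = h ⁻¹' {y : Y | IsClosed ({y} : Set Y)} := by
      ext x
      exact hcl x
    rw [this]
    exact hc.preimage h.continuous
  · intro x
    obtain ⟨y, ⟨hy1, hy2⟩, hy3⟩ := hu (h x)
    refine ⟨h.symm y, ⟨?_, ?_⟩, ?_⟩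
    · rw [hcl, h.apply_symm_apply]; exact hy1
    · rw [← h.isInducing.specializes_iff, h.apply_symm_apply]; exact hy2
    · rintro z ⟨hz1, hz2⟩
      have := hy3 (h z) ⟨(hcl z).1 hz1, h.isInducing.specializes_iff.2 hz2⟩
      rw [← this, h.symm_apply_apply]

theorem isSpectralMap_comap {R S : Type*} [CommRing R] [CommRing S] (f : R →+* S) :
    IsSpectralMap (PrimeSpectrum.comap f) := by
  classical
  refine ⟨PrimeSpectrum.continuous_comap f, fun s hs hc => ?_⟩
  obtain ⟨t, rfl⟩ := PrimeSpectrum.isCompact_isOpen_iff.mp ⟨hc, hs⟩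
  rw [Set.preimage_compl, PrimeSpectrum.preimage_comap_zeroLocus]
  exact (PrimeSpectrum.isCompact_isOpen_iff.mpr ⟨t.image f, by simp⟩).1

/-- a criterion for the second map of a tower to identify local rings -/
theorem identifiesLocalRings_of_tower {A C B : Type u} [CommRing A] [CommRing C] [CommRing B]
    [Algebra A C] [Algebra C B] [Algebra A B] [IsScalarTower A C B]
    (h1 : EtPBC.IdentifiesLocalRings A B)
    (hloc : ∀ (r : PrimeSpectrum C) (c : C), ∃ w ∉ r.asIdeal, ∃ a : A,
      w * c = w * algebraMap A C a) :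
    EtPBC.IdentifiesLocalRings C B := by
  intro q
  constructor
  · rw [injective_iff_map_eq_zero]
    intro x hx
    obtain ⟨⟨c, d⟩, rfl⟩ := IsLocalization.mk'_surjective
      (q.asIdeal.comap (algebraMap C B)).primeCompl x
    rw [Localization.localRingHom_mk', IsLocalization.mk'_eq_zero_iff] at hx
    obtain ⟨m, hm⟩ := hx
    obtain ⟨w, hw, a, hwa⟩ := hloc (PrimeSpectrum.comap (algebraMap C B) q) c
    have hwq : algebraMap C B w ∉ q.asIdeal := hw
    have h0 : algebraMap B (Localization.AtPrime q.asIdeal) (algebraMap A B a) = 0 := by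
      rw [IsLocalization.map_eq_zero_iff q.asIdeal.primeCompl]
      refine ⟨⟨(m : B) * algebraMap C B w,
        fun hmem => (q.2.mem_or_mem hmem).elim m.2 hwq⟩, ?_⟩
      show (m : B) * algebraMap C B w * algebraMap A B a = 0
      rw [IsScalarTower.algebraMap_apply A C B a, mul_assoc, ← map_mul, ← hwa, map_mul,
        mul_left_comm, hm, mul_zero]
    have h2 : algebraMap A (Localization.AtPrime (q.asIdeal.comap (algebraMap A B))) a = 0 := by
      apply (h1 q).1
      rw [Localization.localRingHom_to_map, h0, map_zero]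
    rw [IsLocalization.map_eq_zero_iff (q.asIdeal.comap (algebraMap A B)).primeCompl] at h2
    obtain ⟨s, hs⟩ := h2
    rw [IsLocalization.mk'_eq_zero_iff]
    have hsq : algebraMap A B (s : A) ∉ q.asIdeal := s.2
    refine ⟨⟨algebraMap A C (s : A) * w, ?_⟩, ?_⟩
    · intro hmem
      have hmem' : algebraMap C B (algebraMap A C (s : A) * w) ∈ q.asIdeal := hmem
      rw [map_mul, ← IsScalarTower.algebraMap_apply] at hmem'
      exact (q.2.mem_or_mem hmem').elim hsq hwq
    · show algebraMap A C (s : A) * w * c = 0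
      rw [mul_assoc, hwa, mul_left_comm, ← map_mul, hs, map_zero, mul_zero]
  · intro y
    obtain ⟨z, hz⟩ := (h1 q).2 y
    obtain ⟨⟨a, s⟩, rfl⟩ := IsLocalization.mk'_surjective
      (q.asIdeal.comap (algebraMap A B)).primeCompl z
    rw [Localization.localRingHom_mk'] at hz
    have hsq : algebraMap A B (s : A) ∉ q.asIdeal := s.2
    have hsC : algebraMap A C (s : A) ∈ (q.asIdeal.comap (algebraMap C B)).primeCompl := by
      intro hmem
      have hmem' : algebraMap C B (algebraMap A C (s : A)) ∈ q.asIdeal := hmem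
      rw [← IsScalarTower.algebraMap_apply] at hmem'
      exact hsq hmem'
    refine ⟨IsLocalization.mk' _ (algebraMap A C a) ⟨algebraMap A C (s : A), hsC⟩, ?_⟩
    rw [Localization.localRingHom_mk', ← hz, IsLocalization.mk'_eq_iff_eq]
    show algebraMap B _ (algebraMap A B (s : A) * algebraMap C B (algebraMap A C a)) =
      algebraMap B _ (algebraMap C B (algebraMap A C (s : A)) * algebraMap A B a)
    rw [← IsScalarTower.algebraMap_apply A C B, ← IsScalarTower.algebraMap_apply A C B]

end transfer

section BTlocal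

variable {A : Type u} [CommRing A] {T : Type u} [TopologicalSpace T]
  {g : C(T, ConnectedComponents (PrimeSpectrum A))}
  [CompactSpace T] [T2Space T] [TotallyDisconnectedSpace T]

theorem mk_mem_iff (r : PrimeSpectrum (BT A T g)) (f : LocallyConstant T A) :
    Ideal.Quotient.mk (idealT A T g) f ∈ r.asIdeal ↔ f (phi r).2 ∈ (phi r).1.asIdeal := by
  have h1 : homeo (phi r) = PrimeSpectrum.comap (Ideal.Quotient.mk (idealT A T g)) r := by
    unfold phi
    rw [Homeomorph.apply_symm_apply]
  rw [← mem_pt, ← homeo_apply, h1]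
  rfl

theorem exists_local_const (r : PrimeSpectrum (BT A T g)) (c : BT A T g) :
    ∃ w ∉ r.asIdeal, ∃ a : A, w * c = w * algebraMap A (BT A T g) a := by
  obtain ⟨f, rfl⟩ := Ideal.Quotient.mk_surjective c
  have hU : IsClopen (f ⁻¹' {f (phi r).2}) := f.isLocallyConstant.isClopen_fiber _
  refine ⟨Ideal.Quotient.mk _ (LocallyConstant.charFn A hU), ?_, f (phi r).2, ?_⟩
  · rw [mk_mem_iff, charFn_apply_of_mem hU rfl]
    exact fun h => (phi r).1.2.ne_top ((Ideal.eq_top_iff_one _).mpr h)
  · have h2 : LocallyConstant.charFn A hU * f =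
        LocallyConstant.charFn A hU * algebraMap A (LocallyConstant T A) (f (phi r).2) := by
      ext t'
      rw [LocallyConstant.mul_apply, LocallyConstant.mul_apply]
      by_cases h : t' ∈ f ⁻¹' {f (phi r).2}
      · have : f t' = f (phi r).2 := h
        rw [this]
        rfl
      · rw [charFn_apply_of_notMem hU h, zero_mul, zero_mul]
    have := congrArg (Ideal.Quotient.mk (idealT A T g)) h2
    rw [map_mul, map_mul] at this
    exact this

end BTlocal

section comparison

variable (A B : Type u) [CommRing A] [CommRing B] [Algebra A B]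

instance instT2 : T2Space (ConnectedComponents (PrimeSpectrum B)) :=
  Groth.Agent.H4.connectedComponents_t2_of_spectral

/-- `π₀(Spec B) → π₀(Spec A)` -/
noncomputable def gB :
    C(ConnectedComponents (PrimeSpectrum B), ConnectedComponents (PrimeSpectrum A)) :=
  ⟨(PrimeSpectrum.continuous_comap (algebraMap A B)).connectedComponentsMap,
    (PrimeSpectrum.continuous_comap (algebraMap A B)).connectedComponentsMap_continuous⟩

theorem gB_mk (q : PrimeSpectrum B) : gB A B (ConnectedComponents.mk q) =
    ConnectedComponents.mk (PrimeSpectrum.comap (algebraMap A B) q) := rfl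

/-- `LC(π₀ Spec B, A) → B` -/
noncomputable def chi : LocallyConstant (ConnectedComponents (PrimeSpectrum B)) A →ₐ[A] B :=
  (rho (A := A) (B := B)).comp
    (LocallyConstant.comapₐ A ⟨ConnectedComponents.mk, ConnectedComponents.continuous_coe⟩)

theorem chi_mem_iff (f : LocallyConstant (ConnectedComponents (PrimeSpectrum B)) A)
    (q : PrimeSpectrum B) :
    chi A B f ∈ q.asIdeal ↔ algebraMap A B (f (ConnectedComponents.mk q)) ∈ q.asIdeal :=
  rho_mem_iff _ q

theorem chi_goodIdem {e : LocallyConstant (ConnectedComponents (PrimeSpectrum B)) A}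
    (he : e ∈ goodIdem A _ (gB A B)) : chi A B e = 1 := by
  have hid : IsIdempotentElem (chi A B e) := he.1.map (chi A B)
  have h0 : 1 - chi A B e = 0 := by
    apply eq_zero_of_forall_prime
    intro q
    refine ⟨chi A B e, ?_, by rw [mul_sub, mul_one, hid.eq, sub_self]⟩
    rw [chi_mem_iff]
    exact he.2 (PrimeSpectrum.comap (algebraMap A B) q) (ConnectedComponents.mk q) rfl
  exact (sub_eq_zero.1 h0).symm

theorem chi_idealT (x : LocallyConstant (ConnectedComponents (PrimeSpectrum B)) A)
    (hx : x ∈ idealT A _ (gB A B)) : chi A B x = 0 := by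
  obtain ⟨e, he, hex⟩ := (mem_idealT_iff x).1 hx
  have := congrArg (chi A B) hex
  rw [map_mul, chi_goodIdem A B he, one_mul, map_zero] at this
  exact this

/-- the comparison map `A_T → B`, `T = π₀(Spec B)` -/
noncomputable def chiBar : BT A _ (gB A B) →ₐ[A] B :=
  Ideal.Quotient.liftₐ _ (chi A B) (chi_idealT A B)

theorem chiBar_mk (f : LocallyConstant (ConnectedComponents (PrimeSpectrum B)) A) :
    chiBar A B (Ideal.Quotient.mk _ f) = chi A B f := rfl

theorem phi_comap_chiBar (q : PrimeSpectrum B) :
    phi (PrimeSpectrum.comap (chiBar A B).toRingHom q) =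
      (PrimeSpectrum.comap (algebraMap A B) q, ConnectedComponents.mk q) := by
  apply homeo.injective
  unfold phi
  rw [Homeomorph.apply_symm_apply, homeo_apply]
  ext f
  rw [mem_pt]
  exact chi_mem_iff A B f q

end comparison

section final

open CategoryTheory in
theorem isIndZariski_of_algEquiv {A C B : Type u} [CommRing A] [CommRing C] [CommRing B]
    [Algebra A C] [Algebra A B] (e : C ≃ₐ[A] B) (h : EtPBC.IsIndZariski A C) :
    EtPBC.IsIndZariski A B := by
  obtain ⟨J, iJ, hJ, D, c, hc, hD, ⟨i⟩⟩ := h
  refine ⟨J, iJ, hJ, D, c, hc, hD, ⟨i ≪≫ ?_⟩⟩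
  refine Under.isoMk e.toRingEquiv.toCommRingCatIso ?_
  ext a
  exact e.commutes a

theorem isIndZariski_of_wLocal (A B : Type u) [CommRing A] [CommRing B]
    [Algebra A B] (h1 : EtPBC.IdentifiesLocalRings A B) (h2 : ProEtW.IsWLocal (PrimeSpectrum A))
    (h3 : ProEtW.IsWLocal (PrimeSpectrum B))
    (h4 : ProEtW.IsWLocalMap (PrimeSpectrum.comap (algebraMap A B))) :
    EtPBC.IsIndZariski A B := by
  letI algCB : Algebra (BT A _ (gB A B)) B := (chiBar A B).toRingHom.toAlgebra
  haveI : IsScalarTower A (BT A _ (gB A B)) B :=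
    IsScalarTower.of_algebraMap_eq (fun a => ((chiBar A B).commutes a).symm)
  have hcomap : ∀ q : PrimeSpectrum B,
      phi (PrimeSpectrum.comap (algebraMap (BT A _ (gB A B)) B) q) =
        (PrimeSpectrum.comap (algebraMap A B) q, ConnectedComponents.mk q) :=
    phi_comap_chiBar A B
  have h1' : EtPBC.IdentifiesLocalRings (BT A _ (gB A B)) B :=
    identifiesLocalRings_of_tower h1 exists_local_const
  have h2' : ProEtW.IsWLocal (PrimeSpectrum (BT A _ (gB A B))) :=
    isWLocal_of_homeomorph homeoFib (Groth.Agent.S0704.result _ _ h2 (gB A B)).1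
  have h4' : ProEtW.IsWLocalMap (PrimeSpectrum.comap (algebraMap (BT A _ (gB A B)) B)) := by
    refine ⟨isSpectralMap_comap _, fun q hq => ?_⟩
    rw [← (homeoFib (g := gB A B)).isClosed_image, Set.image_singleton,
      Groth.Agent.H4.isClosed_singleton_fib_iff, homeoFib_val, hcomap]
    exact h4.2 q hq
  have h5' : Function.Bijective (PrimeSpectrum.continuous_comap
      (algebraMap (BT A _ (gB A B)) B)).connectedComponentsMap := by
    have hcomp : ∀ c, eT ((PrimeSpectrum.continuous_comap
        (algebraMap (BT A _ (gB A B)) B)).connectedComponentsMap c) = c := by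
      intro c
      obtain ⟨q, rfl⟩ := ConnectedComponents.surjective_coe c
      rw [Continuous.connectedComponentsMap_mk, eT_mk, hcomap]
    have : (PrimeSpectrum.continuous_comap
        (algebraMap (BT A _ (gB A B)) B)).connectedComponentsMap = (eT (g := gB A B)).symm := by
      funext c
      rw [Homeomorph.eq_symm_apply, hcomp]
    rw [this]
    exact (eT (g := gB A B)).symm.bijective
  have hbij := Groth.Agent.S0699.result (BT A _ (gB A B)) B h1' h2' h3 h4' h5'
  exact isIndZariski_of_algEquiv (AlgEquiv.ofBijective (chiBar A B) hbij) isIndZariski_BT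

end final

end Groth.Agent.H48.WLocT2
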