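import Mathlib
import Groth.Agent.H48.WLocC3
import Groth.Agent.H48.LCMap
import Groth.Agent.H4.WLocalTop
import Groth.Agent.H48.WLocT2

/-!
# The universal property of the w-localization `A_w` (helper48)
-/

set_option autoImplicit false
universe u

open PrimeSpectrum Topology

namespace Groth.Agent.H48.WLocU

open Groth.Agent.H48.LCSpec Groth.Agent.H48.WLocC Groth.Agent.H48.LCMap

section topo

variable {X : Type u} [TopologicalSpace X] [SpectralSpace X]
  (huniq : ∀ x : X, ∃! z : X, IsClosed ({z} : Set X) ∧ x ⤳ z)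

/-- the closed specialization -/
noncomputable def clPt (x : X) : X := (huniq x).exists.choose

theorem isClosed_clPt (x : X) : IsClosed ({clPt huniq x} : Set X) :=
  (huniq x).exists.choose_spec.1

theorem specializes_clPt (x : X) : x ⤳ clPt huniq x :=
  (huniq x).exists.choose_spec.2

theorem clPt_eq {x z : X} (hz : IsClosed ({z} : Set X)) (hxz : x ⤳ z) : clPt huniq x = z :=
  (huniq x).unique ⟨isClosed_clPt huniq x, specializes_clPt huniq x⟩ ⟨hz, hxz⟩

theorem clPt_of_isClosed {x : X} (hx : IsClosed ({x} : Set X)) : clPt huniq x = x :=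
  clPt_eq huniq hx specializes_rfl

theorem isClopen_clPt_preimage (h0 : IsClosed {x : X | IsClosed ({x} : Set X)})
    {V : Set X} (hVo : IsOpen V) (hVc : IsCompact V) :
    IsClopen {w : X | clPt huniq w ∈ V} := by
  have hP0 : ∀ z ∈ {z : X | IsClosed ({z} : Set X)} ∩ V, IsClosed ({z} : Set X) :=
    fun z hz => hz.1
  have hQ0 : ∀ z ∈ {z : X | IsClosed ({z} : Set X)} ∩ Vᶜ, IsClosed ({z} : Set X) :=
    fun z hz => hz.1
  have hPc : IsCompact ({z : X | IsClosed ({z} : Set X)} ∩ V) := hVc.inter_left h0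
  have hQc : IsCompact ({z : X | IsClosed ({z} : Set X)} ∩ Vᶜ) :=
    (h0.inter hVo.isClosed_compl).isCompact
  have hPQ : Disjoint ({z : X | IsClosed ({z} : Set X)} ∩ V)
      ({z : X | IsClosed ({z} : Set X)} ∩ Vᶜ) := by
    rw [Set.disjoint_left]
    rintro z ⟨-, hzV⟩ ⟨-, hzV'⟩
    exact hzV' hzV
  have hcov : ∀ z : X, IsClosed ({z} : Set X) →
      z ∈ {z : X | IsClosed ({z} : Set X)} ∩ V ∨ z ∈ {z : X | IsClosed ({z} : Set X)} ∩ Vᶜ := by
    intro z hz
    by_cases h : z ∈ V
    · exact Or.inl ⟨hz, h⟩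
    · exact Or.inr ⟨hz, h⟩
  have hAo := Groth.Agent.H4.isOpen_generalizations_of_partition huniq hP0 hQ0 hQc hPQ hcov
  have hBo := Groth.Agent.H4.isOpen_generalizations_of_partition huniq hQ0 hP0 hPc hPQ.symm
    (fun z hz => (hcov z hz).symm)
  have hA : {w : X | clPt huniq w ∈ V} =
      {w : X | ∃ z ∈ {z : X | IsClosed ({z} : Set X)} ∩ V, w ⤳ z} := by
    ext w
    constructor
    · intro hw
      exact ⟨clPt huniq w, ⟨isClosed_clPt huniq w, hw⟩, specializes_clPt huniq w⟩
    · rintro ⟨z, ⟨hz, hzV⟩, hwz⟩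
      show clPt huniq w ∈ V
      rw [clPt_eq huniq hz hwz]
      exact hzV
  have hB : {w : X | clPt huniq w ∈ V}ᶜ =
      {w : X | ∃ z ∈ {z : X | IsClosed ({z} : Set X)} ∩ Vᶜ, w ⤳ z} := by
    ext w
    constructor
    · intro hw
      exact ⟨clPt huniq w, ⟨isClosed_clPt huniq w, hw⟩, specializes_clPt huniq w⟩
    · rintro ⟨z, ⟨hz, hzV⟩, hwz⟩ hw
      have hw' : clPt huniq w ∈ V := hw
      rw [clPt_eq huniq hz hwz] at hw'
      exact hzV hw'
  refine ⟨?_, ?_⟩
  · rw [← isOpen_compl_iff, hB]; exact hBo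
  · rw [hA]; exact hAo

end topo

section univ

variable (A B : Type u) [CommRing A] [CommRing B] [Algebra A B]
  (h0 : IsClosed {x : PrimeSpectrum B | IsClosed ({x} : Set (PrimeSpectrum B))})
  (huniq : ∀ x : PrimeSpectrum B, ∃! z : PrimeSpectrum B,
    IsClosed ({z} : Set (PrimeSpectrum B)) ∧ x ⤳ z)

/-- `Spec B → Spec A`, the image of the closed specialization -/
noncomputable def delta0 (q : PrimeSpectrum B) : PrimeSpectrum A :=
  PrimeSpectrum.comap (algebraMap A B) (clPt huniq q)

/-- the same map into the constructible topology -/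
noncomputable def delta (q : PrimeSpectrum B) : WithConstructibleTopology (PrimeSpectrum A) :=
  WithTopology.toTopology _ (delta0 A B huniq q)

theorem cP_delta (q : PrimeSpectrum B) : cP A (delta A B huniq q) = delta0 A B huniq q := rfl

include h0 in
theorem continuous_delta : Continuous (delta A B huniq) := by
  have hspec := Groth.Agent.H48.WLocT2.isSpectralMap_comap (algebraMap A B)
  have key : ∀ s : Set (PrimeSpectrum A), IsOpen s → IsCompact s →
      IsClopen (delta0 A B huniq ⁻¹' s) := by
    intro s hso hsc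
    have := isClopen_clPt_preimage huniq h0 (hso.preimage hspec.continuous)
      (hspec.isCompact_preimage_of_isOpen hso hsc)
    exact this
  have h1 : Continuous[_, constructibleTopology (PrimeSpectrum A)] (delta0 A B huniq) := by
    refine continuous_generateFrom_iff.mpr ?_
    rintro s (⟨hso, hsc⟩ | ⟨hsc, hscc⟩)
    · exact (key s hso hsc).2
    · have h2 := (key sᶜ hsc.isOpen_compl hscc).1
      rw [Set.preimage_compl, isClosed_compl_iff] at h2
      exact h2
  refine ⟨fun s hs => ?_⟩
  exact (@continuous_def _ _ _ (constructibleTopology (PrimeSpectrum A))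
    (delta0 A B huniq)).1 h1 (WithTopology.toTopology _ ⁻¹' s) hs

/-- `LC(Spec A^cons, A) → B` -/
noncomputable def Phi0 : LocallyConstant (WithConstructibleTopology (PrimeSpectrum A)) A →ₐ[A] B :=
  (rho (A := A) (B := B)).comp
    (LocallyConstant.comapₐ A ⟨delta A B huniq, continuous_delta A B h0 huniq⟩)

theorem Phi0_mem_iff (f : LocallyConstant (WithConstructibleTopology (PrimeSpectrum A)) A)
    (q : PrimeSpectrum B) :
    Phi0 A B h0 huniq f ∈ q.asIdeal ↔ algebraMap A B (f (delta A B huniq q)) ∈ q.asIdeal :=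
  rho_mem_iff _ q

theorem Phi0_eq (f : LocallyConstant (WithConstructibleTopology (PrimeSpectrum A)) A) :
    Phi0 A B h0 huniq f = rho (LocallyConstant.comapₐ A
      ⟨delta A B huniq, continuous_delta A B h0 huniq⟩ f) := rfl

theorem isUnit_Phi0_hEl (f : A) : IsUnit (Phi0 A B h0 huniq (hEl (cP A) (hcP A) f)) := by
  by_contra hnu
  obtain ⟨M, hM, hmem⟩ := exists_max_ideal_of_mem_nonunits hnu
  let q : PrimeSpectrum B := ⟨M, hM.isPrime⟩
  have h1 : Phi0 A B h0 huniq (hEl (cP A) (hcP A) f) ∈ q.asIdeal := hmem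
  rw [Phi0_mem_iff] at h1
  by_cases hf : f ∈ (cP A (delta A B huniq q)).asIdeal
  · rw [hEl_apply_of_mem _ _ hf, map_one] at h1
    exact q.2.ne_top ((Ideal.eq_top_iff_one _).mpr h1)
  · rw [hEl_apply_of_notMem _ _ hf] at h1
    apply hf
    show algebraMap A B f ∈ (clPt huniq q).asIdeal
    exact ((PrimeSpectrum.le_iff_specializes _ _).2 (specializes_clPt huniq q)) h1

theorem isUnit_Phi0_of_mem (s : LocallyConstant (WithConstructibleTopology (PrimeSpectrum A)) A)
    (hs : s ∈ SW (cP A) (hcP A)) : IsUnit (Phi0 A B h0 huniq s) := by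
  have hle : SW (cP A) (hcP A) ≤ (IsUnit.submonoid B).comap (Phi0 A B h0 huniq) := by
    unfold SW
    rw [Submonoid.closure_le]
    rintro _ ⟨f, rfl⟩
    exact isUnit_Phi0_hEl A B h0 huniq f
  exact hle hs

/-- the canonical map `A_w → B` -/
noncomputable def Phi : Aw (cP A) (hcP A) →ₐ[A] B :=
  IsLocalization.liftAlgHom (M := SW (cP A) (hcP A)) (f := Phi0 A B h0 huniq)
    (fun y => isUnit_Phi0_of_mem A B h0 huniq y.1 y.2)

theorem Phi_algebraMap (f : LocallyConstant (WithConstructibleTopology (PrimeSpectrum A)) A) :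
    Phi A B h0 huniq (algebraMap _ (Aw (cP A) (hcP A)) f) = Phi0 A B h0 huniq f := by
  unfold Phi
  rw [IsLocalization.liftAlgHom_apply, IsLocalization.lift_eq]
  rfl

end univ

section general

variable {A : Type u} [CommRing A] {T : Type u} [TopologicalSpace T]
  (c : T → PrimeSpectrum A)
  (hc : ∀ f : A, IsClopen (c ⁻¹' (PrimeSpectrum.basicOpen f : Set (PrimeSpectrum A))))
  [CompactSpace T] [T2Space T] [TotallyDisconnectedSpace T]

theorem algebraMap_mem_iff (y : PrimeSpectrum (Aw c hc)) (f : LocallyConstant T A) :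
    algebraMap (LocallyConstant T A) (Aw c hc) f ∈ y.asIdeal ↔
      f (psi c hc y).2 ∈ (psi c hc y).1.asIdeal := by
  have h1 : homeo (psi c hc y) =
      PrimeSpectrum.comap (algebraMap (LocallyConstant T A) (Aw c hc)) y := by
    unfold psi
    rw [Homeomorph.apply_symm_apply]
  rw [← mem_pt, ← homeo_apply, h1]
  rfl

end general

section univ2

variable (A B : Type u) [CommRing A] [CommRing B] [Algebra A B]
  (h0 : IsClosed {x : PrimeSpectrum B | IsClosed ({x} : Set (PrimeSpectrum B))})
  (huniq : ∀ x : PrimeSpectrum B, ∃! z : PrimeSpectrum B,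
    IsClosed ({z} : Set (PrimeSpectrum B)) ∧ x ⤳ z)

/-- the formula for `Spec B → Spec A_w` in terms of a ring map `θ : LC → B` with the right
prime-membership behaviour -/
theorem psi_comap_of_mem_iff (φ : Aw (cP A) (hcP A) →ₐ[A] B)
    (d : PrimeSpectrum B → WithConstructibleTopology (PrimeSpectrum A))
    (hφ : ∀ (f : LocallyConstant (WithConstructibleTopology (PrimeSpectrum A)) A)
      (q : PrimeSpectrum B), φ (algebraMap _ (Aw (cP A) (hcP A)) f) ∈ q.asIdeal ↔
        algebraMap A B (f (d q)) ∈ q.asIdeal) (q : PrimeSpectrum B) :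
    psi (cP A) (hcP A) (PrimeSpectrum.comap φ.toRingHom q) =
      (PrimeSpectrum.comap (algebraMap A B) q, d q) := by
  apply homeo.injective
  unfold psi
  rw [Homeomorph.apply_symm_apply, homeo_apply]
  ext f
  rw [mem_pt]
  exact hφ f q

theorem psi_comap_Phi (q : PrimeSpectrum B) :
    psi (cP A) (hcP A) (PrimeSpectrum.comap (Phi A B h0 huniq).toRingHom q) =
      (PrimeSpectrum.comap (algebraMap A B) q, delta A B huniq q) := by
  apply psi_comap_of_mem_iff
  intro f q
  rw [Phi_algebraMap]
  exact Phi0_mem_iff A B h0 huniq f q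

theorem isWLocalMap_Phi :
    ProEtW.IsWLocalMap (PrimeSpectrum.comap (Phi A B h0 huniq).toRingHom) := by
  refine ⟨Groth.Agent.H48.WLocT2.isSpectralMap_comap _, fun q hq => ?_⟩
  rw [isClosed_singleton_Aw_iff, psi_comap_Phi, cP_delta]
  show PrimeSpectrum.comap (algebraMap A B) q = PrimeSpectrum.comap (algebraMap A B) (clPt huniq q)
  rw [clPt_of_isClosed huniq hq]

include h0 in
/-- uniqueness -/
theorem eq_Phi (φ : Aw (cP A) (hcP A) →ₐ[A] B)
    (hφ : ProEtW.IsWLocalMap (PrimeSpectrum.comap φ.toRingHom)) : φ = Phi A B h0 huniq := by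
  -- Step U1: the map on spectra
  have hU1 : ∀ q : PrimeSpectrum B,
      psi (cP A) (hcP A) (PrimeSpectrum.comap φ.toRingHom q) =
        (PrimeSpectrum.comap (algebraMap A B) q, delta A B huniq q) := by
    intro q
    have hfst : (psi (cP A) (hcP A) (PrimeSpectrum.comap φ.toRingHom q)).1 =
        PrimeSpectrum.comap (algebraMap A B) q := by
      rw [psi_fst]
      ext a
      show φ.toRingHom (algebraMap A (Aw (cP A) (hcP A)) a) ∈ q.asIdeal ↔ _
      have : φ.toRingHom (algebraMap A (Aw (cP A) (hcP A)) a) = algebraMap A B a := φ.commutes a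
      rw [this]
      rfl
    apply Prod.ext hfst
    -- second component
    have hsp : PrimeSpectrum.comap φ.toRingHom q ⤳
        PrimeSpectrum.comap φ.toRingHom (clPt huniq q) :=
      (specializes_clPt huniq q).map (PrimeSpectrum.continuous_comap _)
    have hcl : IsClosed ({PrimeSpectrum.comap φ.toRingHom (clPt huniq q)} :
        Set (PrimeSpectrum (Aw (cP A) (hcP A)))) := hφ.2 _ (isClosed_clPt huniq q)
    rw [← (homeoW (cP A) (hcP A)).isInducing.specializes_iff, specializes_iff_W,
      homeoW_val, homeoW_val] at hsp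
    rw [isClosed_singleton_Aw_iff] at hcl
    have hfst' : (psi (cP A) (hcP A) (PrimeSpectrum.comap φ.toRingHom (clPt huniq q))).1 =
        PrimeSpectrum.comap (algebraMap A B) (clPt huniq q) := by
      rw [psi_fst]
      ext a
      show φ.toRingHom (algebraMap A (Aw (cP A) (hcP A)) a) ∈ (clPt huniq q).asIdeal ↔ _
      have : φ.toRingHom (algebraMap A (Aw (cP A) (hcP A)) a) = algebraMap A B a := φ.commutes a
      rw [this]
      rfl
    apply (cP_bijective A).1
    show cP A (psi (cP A) (hcP A) (PrimeSpectrum.comap φ.toRingHom q)).2 = delta0 A B huniq q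
    rw [hsp.2, ← hcl, hfst']
    rfl
  -- Step U2: prime membership
  have hU2 : ∀ (f : LocallyConstant (WithConstructibleTopology (PrimeSpectrum A)) A)
      (q : PrimeSpectrum B), φ (algebraMap _ (Aw (cP A) (hcP A)) f) ∈ q.asIdeal ↔
        algebraMap A B (f (delta A B huniq q)) ∈ q.asIdeal := by
    intro f q
    have h1 := algebraMap_mem_iff (cP A) (hcP A) (PrimeSpectrum.comap φ.toRingHom q) f
    rw [hU1 q] at h1
    exact h1
  -- Step U3: equality on `LC`
  have hU3 : ∀ f : LocallyConstant (WithConstructibleTopology (PrimeSpectrum A)) A,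
      φ (algebraMap _ (Aw (cP A) (hcP A)) f) = Phi0 A B h0 huniq f := by
    intro f
    rw [Phi0_eq]
    refine Rel.unique ?_ (rel_rho _)
    intro q
    have hU : IsClopen (f ⁻¹' {f (delta A B huniq q)}) := f.isLocallyConstant.isClopen_fiber _
    refine ⟨φ (algebraMap _ (Aw (cP A) (hcP A)) (LocallyConstant.charFn A hU)), ?_, ?_⟩
    · rw [hU2, charFn_apply_of_mem hU rfl, map_one]
      exact fun h => q.2.ne_top ((Ideal.eq_top_iff_one _).mpr h)
    · have h2 : LocallyConstant.charFn A hU * (f - algebraMap A _ (f (delta A B huniq q))) = 0 := by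
        ext t'
        rw [LocallyConstant.mul_apply, LocallyConstant.sub_apply, LocallyConstant.zero_apply]
        by_cases h : t' ∈ f ⁻¹' {f (delta A B huniq q)}
        · have : f t' = f (delta A B huniq q) := h
          rw [this]
          show _ * (f (delta A B huniq q) - f (delta A B huniq q)) = 0
          rw [sub_self, mul_zero]
        · rw [charFn_apply_of_notMem hU h, zero_mul]
      have h3 := congrArg (fun z => φ (algebraMap _ (Aw (cP A) (hcP A)) z)) h2
      simp only [map_mul, map_sub, map_zero] at h3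
      have h4 : φ (algebraMap _ (Aw (cP A) (hcP A))
          (algebraMap A (LocallyConstant (WithConstructibleTopology (PrimeSpectrum A)) A)
            (f (delta A B huniq q)))) = algebraMap A B (f (delta A B huniq q)) := by
        rw [← IsScalarTower.algebraMap_apply A _ (Aw (cP A) (hcP A))]
        exact φ.commutes _
      rw [h4] at h3
      exact h3
  -- conclude
  apply AlgHom.coe_ringHom_injective
  apply IsLocalization.ringHom_ext (SW (cP A) (hcP A))
  ext f
  show φ (algebraMap _ (Aw (cP A) (hcP A)) f) = Phi A B h0 huniq (algebraMap _ _ f)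
  rw [hU3, Phi_algebraMap]

end univ2

end Groth.Agent.H48.WLocU
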