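import Mathlib
import Groth.Agent.H48.WLocU
import Groth.Agent.H48.IdLoc

/-!
# `A → A_{T,c}` identifies local rings (helper48)
-/

set_option autoImplicit false
universe u

open PrimeSpectrum

namespace Groth.Agent.H48.AwLoc

open Groth.Agent.H48.LCSpec Groth.Agent.H48.WLocC Groth.Agent.H48.WLocU Groth.Agent.H48.IdLoc

variable {A : Type u} [CommRing A] {T : Type u} [TopologicalSpace T]
  (c : T → PrimeSpectrum A)
  (hc : ∀ f : A, IsClopen (c ⁻¹' (PrimeSpectrum.basicOpen f : Set (PrimeSpectrum A))))
  [CompactSpace T] [T2Space T] [TotallyDisconnectedSpace T]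

theorem apply_notMem_of_mem_SW (y : PrimeSpectrum (Aw c hc)) (s : SW c hc) :
    (s : LocallyConstant T A) (psi c hc y).2 ∉ (psi c hc y).1.asIdeal := by
  rw [← algebraMap_mem_iff]
  intro hmem
  exact y.2.ne_top (Ideal.eq_top_of_isUnit_mem _ hmem (IsLocalization.map_units (Aw c hc) s))

theorem algebraMap_base_mem_iff (y : PrimeSpectrum (Aw c hc)) (a : A) :
    algebraMap A (Aw c hc) a ∈ y.asIdeal ↔ a ∈ (psi c hc y).1.asIdeal := by
  rw [IsScalarTower.algebraMap_apply A (LocallyConstant T A) (Aw c hc), algebraMap_mem_iff]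
  rfl

theorem locSurj_Aw : LocSurj A (Aw c hc) := by
  intro y b
  obtain ⟨⟨r, s⟩, rfl⟩ := IsLocalization.mk'_surjective (SW c hc) b
  have hU1 : IsClopen (r ⁻¹' {r (psi c hc y).2}) := r.isLocallyConstant.isClopen_fiber _
  have hU2 : IsClopen ((s : LocallyConstant T A) ⁻¹' {(s : LocallyConstant T A) (psi c hc y).2}) :=
    (s : LocallyConstant T A).isLocallyConstant.isClopen_fiber _
  have hU : IsClopen (r ⁻¹' {r (psi c hc y).2} ∩
      (s : LocallyConstant T A) ⁻¹' {(s : LocallyConstant T A) (psi c hc y).2}) := hU1.inter hU2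
  refine ⟨algebraMap _ (Aw c hc) (LocallyConstant.charFn A hU), ?_, r (psi c hc y).2,
    (s : LocallyConstant T A) (psi c hc y).2, ?_, ?_⟩
  · rw [algebraMap_mem_iff, charFn_apply_of_mem hU ⟨rfl, rfl⟩]
    exact fun h => (psi c hc y).1.2.ne_top ((Ideal.eq_top_iff_one _).mpr h)
  · rw [algebraMap_base_mem_iff]
    exact apply_notMem_of_mem_SW c hc y s
  · have h2 : LocallyConstant.charFn A hU *
        (algebraMap A (LocallyConstant T A) ((s : LocallyConstant T A) (psi c hc y).2) * r) =
        LocallyConstant.charFn A hU *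
        (algebraMap A (LocallyConstant T A) (r (psi c hc y).2) * (s : LocallyConstant T A)) := by
      ext t'
      simp only [LocallyConstant.mul_apply]
      by_cases h : t' ∈ r ⁻¹' {r (psi c hc y).2} ∩
          (s : LocallyConstant T A) ⁻¹' {(s : LocallyConstant T A) (psi c hc y).2}
      · have h3 : r t' = r (psi c hc y).2 := h.1
        have h4 : (s : LocallyConstant T A) t' = (s : LocallyConstant T A) (psi c hc y).2 := h.2
        rw [h3, h4]
        show _ * ((s : LocallyConstant T A) (psi c hc y).2 * r (psi c hc y).2) =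
          _ * (r (psi c hc y).2 * (s : LocallyConstant T A) (psi c hc y).2)
        rw [mul_comm ((s : LocallyConstant T A) (psi c hc y).2)]
      · rw [charFn_apply_of_notMem hU h, zero_mul, zero_mul]
    have h5 := congrArg (algebraMap (LocallyConstant T A) (Aw c hc)) h2
    simp only [map_mul] at h5
    rw [← IsScalarTower.algebraMap_apply A (LocallyConstant T A) (Aw c hc),
      ← IsScalarTower.algebraMap_apply A (LocallyConstant T A) (Aw c hc)] at h5
    have h6 : IsLocalization.mk' (Aw c hc) r s * algebraMap _ (Aw c hc) (s : LocallyConstant T A) =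
        algebraMap _ (Aw c hc) r := IsLocalization.mk'_spec _ r s
    rw [← h6] at h5
    have hu : IsUnit (algebraMap _ (Aw c hc) (s : LocallyConstant T A)) :=
      IsLocalization.map_units (Aw c hc) s
    apply hu.mul_left_injective
    show _ * _ = _ * _
    calc algebraMap _ (Aw c hc) (LocallyConstant.charFn A hU) *
          (algebraMap A (Aw c hc) ((s : LocallyConstant T A) (psi c hc y).2) *
            IsLocalization.mk' (Aw c hc) r s) * algebraMap _ (Aw c hc) (s : LocallyConstant T A)
        = algebraMap _ (Aw c hc) (LocallyConstant.charFn A hU) *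
          (algebraMap A (Aw c hc) ((s : LocallyConstant T A) (psi c hc y).2) *
            (IsLocalization.mk' (Aw c hc) r s *
              algebraMap _ (Aw c hc) (s : LocallyConstant T A))) := by ring
      _ = algebraMap _ (Aw c hc) (LocallyConstant.charFn A hU) *
          (algebraMap A (Aw c hc) (r (psi c hc y).2) *
            algebraMap _ (Aw c hc) (s : LocallyConstant T A)) := h5
      _ = algebraMap _ (Aw c hc) (LocallyConstant.charFn A hU) *
          algebraMap A (Aw c hc) (r (psi c hc y).2) *
            algebraMap _ (Aw c hc) (s : LocallyConstant T A) := by ring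

theorem locInj_Aw : LocInj A (Aw c hc) := by
  intro y a w hw hwa
  obtain ⟨⟨r, s⟩, rfl⟩ := IsLocalization.mk'_surjective (SW c hc) w
  rw [IsScalarTower.algebraMap_apply A (LocallyConstant T A) (Aw c hc), mul_comm,
    IsLocalization.mul_mk'_eq_mk'_of_mul, IsLocalization.mk'_eq_zero_iff] at hwa
  obtain ⟨s', hs'⟩ := hwa
  have h1 := congrArg (fun f : LocallyConstant T A => f (psi c hc y).2) hs'
  simp only [LocallyConstant.mul_apply, LocallyConstant.zero_apply] at h1
  have h1' : (s' : LocallyConstant T A) (psi c hc y).2 * (a * r (psi c hc y).2) = 0 := h1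
  -- `r t ∉ x'`
  have hr : r (psi c hc y).2 ∉ (psi c hc y).1.asIdeal := by
    rw [← algebraMap_mem_iff]
    intro hmem
    rw [← IsLocalization.mk'_spec (Aw c hc) r s] at hmem
    rcases y.2.mem_or_mem hmem with h2 | h2
    · exact hw h2
    · exact y.2.ne_top (Ideal.eq_top_of_isUnit_mem _ h2 (IsLocalization.map_units (Aw c hc) s))
  refine ⟨(s' : LocallyConstant T A) (psi c hc y).2 * r (psi c hc y).2, ?_, ?_⟩
  · rw [algebraMap_base_mem_iff]
    intro hmem
    rcases (psi c hc y).1.2.mem_or_mem hmem with h2 | h2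
    · exact apply_notMem_of_mem_SW c hc y s' h2
    · exact hr h2
  · rw [mul_assoc, mul_comm (r (psi c hc y).2) a]
    exact h1'

theorem identifiesLocalRings_Aw : EtPBC.IdentifiesLocalRings A (Aw c hc) :=
  identifiesLocalRings_of_loc (locSurj_Aw c hc) (locInj_Aw c hc)

end Groth.Agent.H48.AwLoc
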