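import Mathlib
import Groth.Agent.H48.AwLoc
import Groth.Agent.H48.WLocT2
import Groth.Agent.S0699

/-!
# Maps identifying local rings become ind-Zariski after w-localization (helper48)
-/

set_option autoImplicit false
universe u

open PrimeSpectrum Topology

namespace Groth.Agent.H48.IdLocW

open Groth.Agent.H48.LCSpec Groth.Agent.H48.WLocC Groth.Agent.H48.WLocU Groth.Agent.H48.IdLoc
  Groth.Agent.H48.AwLoc

section converse

variable {A B : Type u} [CommRing A] [CommRing B] [Algebra A B]

theorem locSurj_of_identifiesLocalRings (h : EtPBC.IdentifiesLocalRings A B) : LocSurj A B := by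
  intro q b
  obtain ⟨z, hz⟩ := (h q).2 (algebraMap B (Localization.AtPrime q.asIdeal) b)
  obtain ⟨⟨a, s⟩, rfl⟩ := IsLocalization.mk'_surjective
    (q.asIdeal.comap (algebraMap A B)).primeCompl z
  rw [Localization.localRingHom_mk', IsLocalization.mk'_eq_iff_eq_mul, ← map_mul,
    IsLocalization.eq_iff_exists q.asIdeal.primeCompl] at hz
  obtain ⟨w, hw⟩ := hz
  have hw' : (w : B) * algebraMap A B a = (w : B) * (b * algebraMap A B (s : A)) := hw
  refine ⟨w, w.2, a, s, s.2, ?_⟩
  rw [hw', mul_comm b]

theorem locInj_of_identifiesLocalRings (h : EtPBC.IdentifiesLocalRings A B) : LocInj A B := by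
  intro q a w hw hwa
  have h0 : algebraMap B (Localization.AtPrime q.asIdeal) (algebraMap A B a) = 0 := by
    rw [IsLocalization.map_eq_zero_iff q.asIdeal.primeCompl]
    exact ⟨⟨w, hw⟩, hwa⟩
  have h2 : algebraMap A (Localization.AtPrime (q.asIdeal.comap (algebraMap A B))) a = 0 := by
    apply (h q).1
    rw [Localization.localRingHom_to_map, h0, map_zero]
  rw [IsLocalization.map_eq_zero_iff (q.asIdeal.comap (algebraMap A B)).primeCompl] at h2
  obtain ⟨s, hs⟩ := h2
  exact ⟨s, s.2, hs⟩

end converse

section tower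

variable {A C B : Type u} [CommRing A] [CommRing C] [CommRing B] [Algebra A C] [Algebra C B]
  [Algebra A B] [IsScalarTower A C B]

theorem locSurj_tower (h : LocSurj A B) : LocSurj C B := by
  intro y b
  obtain ⟨w, hw, a, σ, hσ, h1⟩ := h y b
  refine ⟨w, hw, algebraMap A C a, algebraMap A C σ, ?_, ?_⟩
  · rw [← IsScalarTower.algebraMap_apply]; exact hσ
  · rw [← IsScalarTower.algebraMap_apply, ← IsScalarTower.algebraMap_apply]; exact h1

theorem locInj_tower (h1 : LocSurj A C) (h2 : LocInj A B) : LocInj C B := by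
  intro y a w hw hwa
  obtain ⟨w', hw', a₀, σ₀, hσ₀, h3⟩ := h1 (PrimeSpectrum.comap (algebraMap C B) y) a
  have hw'' : algebraMap C B w' ∉ y.asIdeal := hw'
  have hσ₀' : algebraMap C B (algebraMap A C σ₀) ∉ y.asIdeal := hσ₀
  have h4 : (algebraMap C B w' * w) * algebraMap A B a₀ = 0 := by
    have h5 := congrArg (algebraMap C B) h3
    simp only [map_mul] at h5
    rw [IsScalarTower.algebraMap_apply A C B a₀]
    calc algebraMap C B w' * w * algebraMap C B (algebraMap A C a₀)
        = w * (algebraMap C B w' * algebraMap C B (algebraMap A C a₀)) := by ring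
      _ = w * (algebraMap C B w' * (algebraMap C B (algebraMap A C σ₀) * algebraMap C B a)) := by
          rw [h5]
      _ = algebraMap C B w' * algebraMap C B (algebraMap A C σ₀) * (w * algebraMap C B a) := by ring
      _ = 0 := by rw [hwa, mul_zero]
  obtain ⟨σ₁, hσ₁, hσ₁a⟩ := h2 y a₀ (algebraMap C B w' * w)
    (fun hmem => (y.2.mem_or_mem hmem).elim hw'' hw) h4
  refine ⟨w' * algebraMap A C σ₁ * algebraMap A C σ₀, ?_, ?_⟩
  · rw [map_mul, map_mul]
    intro hmem
    rcases y.2.mem_or_mem hmem with h6 | h6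
    · rcases y.2.mem_or_mem h6 with h7 | h7
      · exact hw'' h7
      · rw [← IsScalarTower.algebraMap_apply] at h7; exact hσ₁ h7
    · exact hσ₀' h6
  · calc w' * algebraMap A C σ₁ * algebraMap A C σ₀ * a
        = algebraMap A C σ₁ * (w' * (algebraMap A C σ₀ * a)) := by ring
      _ = algebraMap A C σ₁ * (w' * algebraMap A C a₀) := by rw [h3]
      _ = w' * algebraMap A C (σ₁ * a₀) := by rw [map_mul]; ring
      _ = 0 := by rw [hσ₁a, map_zero, mul_zero]

end tower

section general

variable {A : Type u} [CommRing A] {T : Type u} [TopologicalSpace T]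
  (c : T → PrimeSpectrum A)
  (hc : ∀ f : A, IsClopen (c ⁻¹' (PrimeSpectrum.basicOpen f : Set (PrimeSpectrum A))))
  [CompactSpace T] [T2Space T] [TotallyDisconnectedSpace T]

theorem homeo_psi (z : PrimeSpectrum (Aw c hc)) :
    homeo (psi c hc z) = PrimeSpectrum.comap (algebraMap (LocallyConstant T A) (Aw c hc)) z := by
  unfold psi
  rw [Homeomorph.apply_symm_apply]

end general

section comparison

variable (A B : Type u) [CommRing A] [CommRing B] [Algebra A B]

/-- `Spec B (constructible) → Spec A` -/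
def cAB : WithConstructibleTopology (PrimeSpectrum B) → PrimeSpectrum A :=
  fun t => PrimeSpectrum.comap (algebraMap A B) (cP B t)

theorem hcAB (f : A) :
    IsClopen (cAB A B ⁻¹' (PrimeSpectrum.basicOpen f : Set (PrimeSpectrum A))) := by
  have heq : cAB A B ⁻¹' (PrimeSpectrum.basicOpen f : Set (PrimeSpectrum A)) =
      cP B ⁻¹' (PrimeSpectrum.basicOpen (algebraMap A B f) : Set (PrimeSpectrum B)) := by
    ext t; rfl
  rw [heq]
  exact hcP B (algebraMap A B f)

/-- the `A`-side model -/
abbrev CW : Type u := Aw (cAB A B) (hcAB A B)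

/-- the w-localization of `B` -/
abbrev BW : Type u := Aw (cP B) (hcP B)

/-- `LC(P_B, A) → LC(P_B, B)` -/
noncomputable def mapLC : LocallyConstant (WithConstructibleTopology (PrimeSpectrum B)) A →ₐ[A]
    LocallyConstant (WithConstructibleTopology (PrimeSpectrum B)) B :=
  LocallyConstant.mapₐ A (Algebra.ofId A B)

theorem mapLC_apply (f : LocallyConstant (WithConstructibleTopology (PrimeSpectrum B)) A)
    (t : WithConstructibleTopology (PrimeSpectrum B)) :
    mapLC A B f t = algebraMap A B (f t) := rfl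

theorem mapLC_hEl (f : A) : mapLC A B (hEl (cAB A B) (hcAB A B) f) =
    hEl (cP B) (hcP B) (algebraMap A B f) := by
  ext t
  by_cases h : f ∈ (cAB A B t).asIdeal
  · rw [mapLC_apply, hEl_apply_of_mem _ _ h,
      hEl_apply_of_mem _ _ (show algebraMap A B f ∈ (cP B t).asIdeal from h), map_one]
  · rw [mapLC_apply, hEl_apply_of_notMem _ _ h,
      hEl_apply_of_notMem _ _ (show algebraMap A B f ∉ (cP B t).asIdeal from h)]

theorem mapLC_mem_SW (s : LocallyConstant (WithConstructibleTopology (PrimeSpectrum B)) A)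
    (hs : s ∈ SW (cAB A B) (hcAB A B)) : mapLC A B s ∈ SW (cP B) (hcP B) := by
  have hle : SW (cAB A B) (hcAB A B) ≤ (SW (cP B) (hcP B)).comap (mapLC A B) := by
    unfold SW
    rw [Submonoid.closure_le]
    rintro _ ⟨f, rfl⟩
    show mapLC A B _ ∈ Submonoid.closure _
    rw [mapLC_hEl]
    exact Submonoid.subset_closure ⟨_, rfl⟩
  exact hle hs

instance : IsScalarTower A B (BW B) := by
  refine IsScalarTower.of_algebraMap_eq (R := A) (S := B) (A := BW B) (fun a => ?_)
  rw [IsScalarTower.algebraMap_apply A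
      (LocallyConstant (WithConstructibleTopology (PrimeSpectrum B)) B) (BW B),
    IsScalarTower.algebraMap_apply B
      (LocallyConstant (WithConstructibleTopology (PrimeSpectrum B)) B) (BW B)]
  congr 1

/-- the comparison map -/
noncomputable def Psi : CW A B →ₐ[A] BW B :=
  IsLocalization.liftAlgHom (M := SW (cAB A B) (hcAB A B))
    (f := (IsScalarTower.toAlgHom A
      (LocallyConstant (WithConstructibleTopology (PrimeSpectrum B)) B) (BW B)).comp (mapLC A B))
    (fun y => IsLocalization.map_units (BW B)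
      (⟨mapLC A B y.1, mapLC_mem_SW A B y.1 y.2⟩ : SW (cP B) (hcP B)))

theorem Psi_algebraMap (f : LocallyConstant (WithConstructibleTopology (PrimeSpectrum B)) A) :
    Psi A B (algebraMap _ (CW A B) f) = algebraMap _ (BW B) (mapLC A B f) := by
  unfold Psi
  rw [IsLocalization.liftAlgHom_apply, IsLocalization.lift_eq]
  rfl

theorem psi_comap_Psi (y : PrimeSpectrum (BW B)) :
    psi (cAB A B) (hcAB A B) (PrimeSpectrum.comap (Psi A B).toRingHom y) =
      (PrimeSpectrum.comap (algebraMap A B) (psi (cP B) (hcP B) y).1,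
        (psi (cP B) (hcP B) y).2) := by
  apply homeo.injective
  rw [homeo_psi, homeo_apply]
  ext f
  rw [mem_pt]
  show Psi A B (algebraMap _ (CW A B) f) ∈ y.asIdeal ↔ _
  rw [Psi_algebraMap, algebraMap_mem_iff]
  rfl

theorem isIndZariski_BW (h : EtPBC.IdentifiesLocalRings A B) : EtPBC.IsIndZariski A (BW B) := by
  letI algCB : Algebra (CW A B) (BW B) := (Psi A B).toRingHom.toAlgebra
  haveI : IsScalarTower A (CW A B) (BW B) :=
    IsScalarTower.of_algebraMap_eq (fun a => ((Psi A B).commutes a).symm)
  have hsurjAB : LocSurj A (BW B) :=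
    (locSurj_of_identifiesLocalRings h).comp (locSurj_Aw (cP B) (hcP B))
  have hinjAB : LocInj A (BW B) :=
    (locInj_of_identifiesLocalRings h).comp (locInj_Aw (cP B) (hcP B))
  have h1 : EtPBC.IdentifiesLocalRings (CW A B) (BW B) :=
    identifiesLocalRings_of_loc (locSurj_tower hsurjAB)
      (locInj_tower (locSurj_Aw (cAB A B) (hcAB A B)) hinjAB)
  have h2 : ProEtW.IsWLocal (PrimeSpectrum (CW A B)) := isWLocal_Aw _ _
  have h3 : ProEtW.IsWLocal (PrimeSpectrum (BW B)) := isWLocal_Aw _ _
  have hcomap : ∀ y : PrimeSpectrum (BW B),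
      psi (cAB A B) (hcAB A B) (PrimeSpectrum.comap (algebraMap (CW A B) (BW B)) y) =
        (PrimeSpectrum.comap (algebraMap A B) (psi (cP B) (hcP B) y).1,
          (psi (cP B) (hcP B) y).2) := psi_comap_Psi A B
  have h4 : ProEtW.IsWLocalMap (PrimeSpectrum.comap (algebraMap (CW A B) (BW B))) := by
    refine ⟨Groth.Agent.H48.WLocT2.isSpectralMap_comap _, fun y hy => ?_⟩
    rw [isClosed_singleton_Aw_iff] at hy
    rw [isClosed_singleton_Aw_iff, hcomap, hy]
    rfl
  have h5 : Function.Bijective
      (PrimeSpectrum.continuous_comap (algebraMap (CW A B) (BW B))).connectedComponentsMap := by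
    obtain ⟨eC, heC⟩ := exists_pi0_homeo (cAB A B) (hcAB A B)
    obtain ⟨eB, heB⟩ := exists_pi0_homeo (cP B) (hcP B)
    have hfun : (PrimeSpectrum.continuous_comap
        (algebraMap (CW A B) (BW B))).connectedComponentsMap = fun q => eC.symm (eB q) := by
      funext q
      obtain ⟨y, rfl⟩ := ConnectedComponents.surjective_coe q
      rw [Continuous.connectedComponentsMap_mk, Homeomorph.eq_symm_apply, heC, heB, hcomap]
    rw [hfun]
    exact eC.symm.bijective.comp eB.bijective
  have hbij := Groth.Agent.S0699.result (CW A B) (BW B) h1 h2 h3 h4 h5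
  exact Groth.Agent.H48.WLocT2.isIndZariski_of_algEquiv
    (AlgEquiv.ofBijective (Psi A B) hbij) (isIndZariski_Aw _ _)

end comparison

end Groth.Agent.H48.IdLocW
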