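import Mathlib
import Groth.Agent.H48.AwLoc
import Groth.Agent.H48.WLocT2
import Groth.Agent.S0699

/-!
# Rings all of whose faithfully flat ind-Zariski algebras have retractions (helper48)
-/

set_option autoImplicit false
universe u

open PrimeSpectrum Topology

namespace Groth.Agent.H48.WLocR

open Groth.Agent.H48.LCSpec Groth.Agent.H48.WLocC Groth.Agent.H48.WLocU Groth.Agent.H48.IdLoc
  Groth.Agent.H48.WLocT Groth.Agent.H48.AwLoc

section topo

theorem isWLocal_of_isClosedEmbedding {X Y : Type u} [TopologicalSpace X] [TopologicalSpace Y]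
    [SpectralSpace X] {f : X → Y} (hf : Topology.IsClosedEmbedding f) (hY : ProEtW.IsWLocal Y) :
    ProEtW.IsWLocal X := by
  obtain ⟨-, hc, hu⟩ := hY
  have hcl : ∀ x : X, IsClosed ({x} : Set X) ↔ IsClosed ({f x} : Set Y) := by
    intro x
    constructor
    · intro h
      have := hf.isClosedMap _ h
      rwa [Set.image_singleton] at this
    · intro h
      have h1 : ({x} : Set X) = f ⁻¹' {f x} := by
        ext z
        simp only [Set.mem_singleton_iff, Set.mem_preimage]
        exact ⟨fun h => h ▸ rfl, fun h => hf.injective h⟩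
      rw [h1]
      exact h.preimage hf.continuous
  refine ⟨inferInstance, ?_, ?_⟩
  · have : {x : X | IsClosed ({x} : Set X)} = f ⁻¹' {y : Y | IsClosed ({y} : Set Y)} := by
      ext x
      exact hcl x
    rw [this]
    exact hc.preimage hf.continuous
  · intro x
    obtain ⟨y, ⟨hy1, hy2⟩, hy3⟩ := hu (f x)
    have hy : y ∈ Set.range f := hy2.mem_closed hf.isClosed_range ⟨x, rfl⟩
    obtain ⟨x₀, rfl⟩ := hy
    refine ⟨x₀, ⟨(hcl x₀).2 hy1, hf.isInducing.specializes_iff.1 hy2⟩, ?_⟩
    rintro z ⟨hz1, hz2⟩
    exact hf.injective (hy3 (f z) ⟨(hcl z).1 hz1, hf.isInducing.specializes_iff.2 hz2⟩)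

theorem extremallyDisconnected_of_retract {Q T : Type*} [TopologicalSpace Q] [TopologicalSpace T]
    [ExtremallyDisconnected T] (g : T → Q) (s : Q → T) (hg : Continuous g) (hs : Continuous s)
    (hgs : ∀ q, g (s q) = q) : ExtremallyDisconnected Q := by
  refine ⟨fun U hU => ?_⟩
  have hW : IsOpen (closure (g ⁻¹' U)) :=
    ExtremallyDisconnected.open_closure _ (hU.preimage hg)
  have heq : closure U = s ⁻¹' (closure (g ⁻¹' U)) := by
    apply Set.Subset.antisymm
    · apply closure_minimal _ (isClosed_closure.preimage hs)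
      intro u hu
      apply subset_closure
      show g (s u) ∈ U
      rw [hgs]; exact hu
    · intro x hx
      have h1 : g (s x) ∈ g '' closure (g ⁻¹' U) := ⟨s x, hx, rfl⟩
      have h2 := image_closure_subset_closure_image hg h1
      rw [hgs] at h2
      exact closure_mono (Set.image_preimage_subset g U) h2
  rw [heq]
  exact hW.preimage hs

end topo

section BTflat

variable {A : Type u} [CommRing A] {T : Type u} [TopologicalSpace T]
  {g : C(T, ConnectedComponents (PrimeSpectrum A))}

/-- the submonoid of good idempotents -/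
def goodSub (A : Type u) [CommRing A] (T : Type u) [TopologicalSpace T]
    (g : C(T, ConnectedComponents (PrimeSpectrum A))) : Submonoid (LocallyConstant T A) where
  carrier := goodIdem A T g
  one_mem' := one_mem_goodIdem
  mul_mem' := mul_mem_goodIdem

theorem mk_goodIdem {e : LocallyConstant T A} (he : e ∈ goodIdem A T g) :
    Ideal.Quotient.mk (idealT A T g) e = 1 := by
  have h1 : Ideal.Quotient.mk (idealT A T g) (1 - e) = 0 :=
    Ideal.Quotient.eq_zero_iff_mem.2 (one_sub_mem_idealT he)
  rw [map_sub, map_one, sub_eq_zero] at h1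
  exact h1.symm

instance isLocalization_BT : IsLocalization (goodSub A T g) (BT A T g) where
  map_units := fun e => by
    have : algebraMap (LocallyConstant T A) (BT A T g) e = 1 := mk_goodIdem e.2
    rw [this]
    exact isUnit_one
  surj := fun z => by
    obtain ⟨f, rfl⟩ := Ideal.Quotient.mk_surjective z
    exact ⟨(f, 1), by simp⟩
  exists_of_eq := fun {x y} h => by
    have h1 : Ideal.Quotient.mk (idealT A T g) (x - y) = 0 := by
      rw [map_sub, sub_eq_zero]; exact h
    rw [Ideal.Quotient.eq_zero_iff_mem, mem_idealT_iff] at h1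
    obtain ⟨e, he, hex⟩ := h1
    refine ⟨⟨e, he⟩, ?_⟩
    rw [mul_sub, sub_eq_zero] at hex
    exact hex

theorem flat_BT [CompactSpace T] : Module.Flat A (BT A T g) := by
  haveI := flat_locallyConstant A T
  haveI : Module.Flat (LocallyConstant T A) (BT A T g) :=
    IsLocalization.flat (BT A T g) (goodSub A T g)
  exact Module.Flat.trans A (LocallyConstant T A) (BT A T g)

theorem faithfullyFlat_BT [CompactSpace T] [T2Space T] [TotallyDisconnectedSpace T]
    (hg : Function.Surjective g) : Module.FaithfullyFlat A (BT A T g) := by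
  haveI := flat_BT (A := A) (T := T) (g := g)
  apply Module.FaithfullyFlat.of_comap_surjective
  intro x
  obtain ⟨t, ht⟩ := hg (ConnectedComponents.mk x)
  have hmem : (x, t) ∈ Set.range (phi (A := A) (T := T) (g := g)) := by
    rw [range_phi]
    exact ht.symm
  obtain ⟨y, hy⟩ := hmem
  refine ⟨y, ?_⟩
  rw [← phi_fst, hy]

end BTflat

section forward

variable (A : Type u) [CommRing A]

/-- the Stonean cover of `π₀(Spec A)` -/
noncomputable def StQ : Stonean.{u} :=
  (CompHaus.of (ConnectedComponents (PrimeSpectrum A))).presentation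

/-- the covering map -/
noncomputable def gQ : C(StQ A, ConnectedComponents (PrimeSpectrum A)) :=
  ⟨fun t => (CompHaus.presentation.π (CompHaus.of (ConnectedComponents (PrimeSpectrum A)))) t,
    (CompHaus.presentation.π
      (CompHaus.of (ConnectedComponents (PrimeSpectrum A)))).hom.hom.continuous⟩

theorem gQ_surjective : Function.Surjective (gQ A) :=
  (CompHaus.epi_iff_surjective _).1
    (CompHaus.presentation.epi_π (CompHaus.of (ConnectedComponents (PrimeSpectrum A))))

theorem forward (h : ProEtW.HasIndZariskiRetractions A) :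
    ProEtW.IsWLocal (PrimeSpectrum A) ∧
      ExtremallyDisconnected (ConnectedComponents (PrimeSpectrum A)) := by
  constructor
  · obtain ⟨σ⟩ := h (Aw (cP A) (hcP A)) (faithfullyFlat_Aw _ _ (cP_bijective A).2)
      (isIndZariski_Aw _ _)
    have hσ : Function.Surjective σ.toRingHom := fun a => ⟨algebraMap A _ a, σ.commutes a⟩
    exact isWLocal_of_isClosedEmbedding
      (PrimeSpectrum.isClosedEmbedding_comap_of_surjective _ σ.toRingHom hσ) (isWLocal_Aw _ _)
  · obtain ⟨σ⟩ := h (BT A (StQ A) (gQ A)) (faithfullyFlat_BT (gQ_surjective A)) isIndZariski_BT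
    let s : ConnectedComponents (PrimeSpectrum A) → StQ A := fun q =>
      eT ((PrimeSpectrum.continuous_comap σ.toRingHom).connectedComponentsMap q)
    have hs : Continuous s :=
      (eT (g := gQ A)).continuous.comp (Continuous.connectedComponentsMap_continuous _)
    have hgs : ∀ q, gQ A (s q) = q := by
      intro q
      obtain ⟨x, rfl⟩ := ConnectedComponents.surjective_coe q
      show gQ A (eT (ConnectedComponents.mk (PrimeSpectrum.comap σ.toRingHom x))) =
        ConnectedComponents.mk x
      rw [g_eT_mk]
      congr 1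
      ext a
      show σ (algebraMap A _ a) ∈ x.asIdeal ↔ a ∈ x.asIdeal
      rw [σ.commutes]
      rfl
    exact extremallyDisconnected_of_retract (gQ A) s (gQ A).continuous hs hgs

end forward

section backward

variable (A B : Type u) [CommRing A] [CommRing B] [Algebra A B]

theorem continuous_cP : Continuous (cP B) := by
  refine ⟨fun U hU => ?_⟩
  exact (Groth.Agent.H38.isOpen_constr_of_isOpen hU :
    IsOpen[constructibleTopology (PrimeSpectrum B)] U)

/-- the closed points of `Spec A` -/
abbrev X0 : Type u := {x : PrimeSpectrum A // IsClosed ({x} : Set (PrimeSpectrum A))}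

/-- points of `Spec B` (constructible topology) over closed points of `Spec A` -/
abbrev Z0 : Type u := {t : WithConstructibleTopology (PrimeSpectrum B) //
  IsClosed ({PrimeSpectrum.comap (algebraMap A B) (cP B t)} : Set (PrimeSpectrum A))}

/-- the projection -/
def piZ (t : Z0 A B) : X0 A := ⟨PrimeSpectrum.comap (algebraMap A B) (cP B t.1), t.2⟩

theorem continuous_piZ : Continuous (piZ A B) :=
  Continuous.subtype_mk ((PrimeSpectrum.continuous_comap _).comp
    ((continuous_cP B).comp continuous_subtype_val)) _

theorem piZ_surjective [Module.FaithfullyFlat A B] : Function.Surjective (piZ A B) := by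
  intro x
  obtain ⟨q, hq⟩ := PrimeSpectrum.comap_surjective_of_faithfullyFlat (A := A) (B := B) x.1
  obtain ⟨t, ht⟩ := (cP_bijective B).2 q
  refine ⟨⟨t, ?_⟩, ?_⟩
  · rw [ht, hq]; exact x.2
  · apply Subtype.ext
    show PrimeSpectrum.comap (algebraMap A B) (cP B t) = x.1
    rw [ht, hq]

theorem backward (hW : ProEtW.IsWLocal (PrimeSpectrum A))
    (hE : ExtremallyDisconnected (ConnectedComponents (PrimeSpectrum A)))
    (hB1 : Module.FaithfullyFlat A B) (hB2 : EtPBC.IsIndZariski A B) :
    Nonempty (B →ₐ[A] A) := by
  obtain ⟨hsp, h0, huniq⟩ := hW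
  -- instances on `X0`
  haveI : CompactSpace (X0 A) := isCompact_iff_compactSpace.1 h0.isCompact
  have hbijA := Groth.Agent.H4.closedPoints_bijective_connectedComponents
    (PrimeSpectrum A) h0 huniq
  have hcontA : Continuous (fun x : X0 A => (ConnectedComponents.mk x.1 :
      ConnectedComponents (PrimeSpectrum A))) :=
    ConnectedComponents.continuous_coe.comp continuous_subtype_val
  let eA : X0 A ≃ₜ ConnectedComponents (PrimeSpectrum A) :=
    Continuous.homeoOfEquivCompactToT2 (f := Equiv.ofBijective _ hbijA) hcontA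
  have heA : ∀ x : X0 A, eA x = ConnectedComponents.mk x.1 := fun x => rfl
  haveI : T2Space (X0 A) := eA.symm.t2Space
  haveI : ExtremallyDisconnected (X0 A) := extremallyDisconnected_of_homeo eA.symm
  haveI : TotallyDisconnectedSpace (X0 A) := inferInstance
  -- `Z0` is compact Hausdorff
  have hZcl : IsClosed {t : WithConstructibleTopology (PrimeSpectrum B) |
      IsClosed ({PrimeSpectrum.comap (algebraMap A B) (cP B t)} : Set (PrimeSpectrum A))} :=
    h0.preimage ((PrimeSpectrum.continuous_comap _).comp (continuous_cP B))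
  haveI : CompactSpace (Z0 A B) := isCompact_iff_compactSpace.1 hZcl.isCompact
  -- the section
  obtain ⟨s, hscont, hπs⟩ := CompactT2.ExtremallyDisconnected.projective (A := X0 A)
    (f := id) (g := piZ A B) continuous_id (continuous_piZ A B) (piZ_surjective A B)
  have hπs' : ∀ x, piZ A B (s x) = x := fun x => congrFun hπs x
  let c : X0 A → PrimeSpectrum B := fun x => cP B (s x).1
  have hcx : ∀ x, PrimeSpectrum.comap (algebraMap A B) (c x) = x.1 :=
    fun x => congrArg Subtype.val (hπs' x)
  have hc : ∀ f : B, IsClopen (c ⁻¹' (PrimeSpectrum.basicOpen f : Set (PrimeSpectrum B))) :=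
    fun f => (hcP B f).preimage (continuous_subtype_val.comp hscont)
  -- the ring `C`
  haveI : IsScalarTower A B (Aw c hc) := by
    refine IsScalarTower.of_algebraMap_eq (R := A) (S := B) (A := Aw c hc) (fun a => ?_)
    rw [IsScalarTower.algebraMap_apply A (LocallyConstant (X0 A) B) (Aw c hc),
      IsScalarTower.algebraMap_apply B (LocallyConstant (X0 A) B) (Aw c hc)]
    congr 1
  have h1 : EtPBC.IdentifiesLocalRings A (Aw c hc) :=
    identifiesLocalRings_of_loc ((locSurj_of_isIndZariski hB2).comp (locSurj_Aw c hc))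
      ((locInj_of_isIndZariski hB2).comp (locInj_Aw c hc))
  have h3 : ProEtW.IsWLocal (PrimeSpectrum (Aw c hc)) := isWLocal_Aw c hc
  have hcomap : ∀ y : PrimeSpectrum (Aw c hc),
      PrimeSpectrum.comap (algebraMap A (Aw c hc)) y =
        PrimeSpectrum.comap (algebraMap A B) (psi c hc y).1 := by
    intro y
    rw [psi_fst]
    rfl
  have hclosed : ∀ y : PrimeSpectrum (Aw c hc), IsClosed ({y} : Set (PrimeSpectrum (Aw c hc))) →
      PrimeSpectrum.comap (algebraMap A (Aw c hc)) y = ((psi c hc y).2).1 := by
    intro y hy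
    rw [isClosed_singleton_Aw_iff] at hy
    rw [hcomap, hy, hcx]
  have h4 : ProEtW.IsWLocalMap (PrimeSpectrum.comap (algebraMap A (Aw c hc))) := by
    refine ⟨Groth.Agent.H48.WLocT2.isSpectralMap_comap _, fun y hy => ?_⟩
    rw [hclosed y hy]
    exact ((psi c hc y).2).2
  have h5 : Function.Bijective
      (PrimeSpectrum.continuous_comap (algebraMap A (Aw c hc))).connectedComponentsMap := by
    obtain ⟨eC, heC⟩ := exists_pi0_homeo c hc
    have hfun : (PrimeSpectrum.continuous_comap (algebraMap A (Aw c hc))).connectedComponentsMap =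
        fun q => eA (eC q) := by
      funext q
      obtain ⟨y, rfl⟩ := ConnectedComponents.surjective_coe q
      rw [Continuous.connectedComponentsMap_mk, heC, heA]
      obtain ⟨y₀, hy₀⟩ := exists_point c hc (psi c hc y).2
      have hsp' := specializes_of_psi c hc hy₀
      have hy₀cl : IsClosed ({y₀} : Set (PrimeSpectrum (Aw c hc))) :=
        (isClosed_singleton_Aw_iff c hc y₀).2 (by rw [hy₀])
      have h6 := mk_eq_of_specializes
        (hsp'.map (PrimeSpectrum.continuous_comap (algebraMap A (Aw c hc))))
      rw [h6, hclosed y₀ hy₀cl, hy₀]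
    rw [hfun]
    exact eA.bijective.comp eC.bijective
  have hbij := Groth.Agent.S0699.result A (Aw c hc) h1 ⟨hsp, h0, huniq⟩ h3 h4 h5
  let e : A ≃ₐ[A] Aw c hc := AlgEquiv.ofBijective (Algebra.ofId A (Aw c hc)) hbij
  exact ⟨e.symm.toAlgHom.comp (IsScalarTower.toAlgHom A B (Aw c hc))⟩

end backward

end Groth.Agent.H48.WLocR
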