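import Mathlib
import Groth.Prelude.Def_PBC
import Groth.Prelude.Def_ProEtW
import Groth.Agent.S0692
import Groth.Agent.S0704
import Groth.Agent.H4.ZarSection
import Groth.Agent.H12.IndEtD
import Groth.Agent.H23.WSq1
import Groth.Agent.H48.WLocR
import Groth.Agent.H48.IdLoc

/-!
# A faithfully flat ind-étale cover which is w-strictly local with extremally disconnected `π₀`
-/

set_option autoImplicit false
open CategoryTheory CategoryTheory.Limits AlgebraicGeometry Opposite Topology
universe u

namespace Groth.Agent.H48.WContr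

open Groth.Agent.H48.WLocT Groth.Agent.H48.WLocR

theorem algebraicResidueExtensions_self (A : Type u) [CommRing A] :
    ProEtW.AlgebraicResidueExtensions A A := by
  intro q hq
  haveI : Nontrivial (A ⧸ q.comap (algebraMap A A)) :=
    Ideal.Quotient.nontrivial_iff.mpr (Ideal.IsPrime.ne_top (Ideal.comap_isPrime _ q))
  haveI : Algebra.IsIntegral (A ⧸ q.comap (algebraMap A A)) (A ⧸ q) := by
    refine ⟨fun x => ?_⟩
    obtain ⟨a, rfl⟩ := Ideal.Quotient.mk_surjective x
    have : Ideal.Quotient.mk q a =
        algebraMap (A ⧸ q.comap (algebraMap A A)) (A ⧸ q) (Ideal.Quotient.mk _ a) := rfl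
    rw [this]
    exact isIntegral_algebraMap
  infer_instance

/-- The properties of `D = C_T` for a w-local ring `C` whose local rings at maximal ideals are
strictly henselian, `T` the Stonean cover of `π₀(Spec C)`. -/
theorem exists_cover_of_wLocal (C : Type u) [CommRing C]
    (hW : ProEtW.IsWLocal (PrimeSpectrum C))
    (hSH : ∀ (m : Ideal C) [m.IsMaximal],
      EtCoh.IsStrictlyHenselianLocalRing (Localization.AtPrime m)) :
    ∃ (D : Type u) (_ : CommRing D) (_ : Algebra C D),
      Module.FaithfullyFlat C D ∧ EtPBC.IsIndZariski C D ∧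
      ProEtW.IsWLocal (PrimeSpectrum D) ∧
      ExtremallyDisconnected (_root_.ConnectedComponents (PrimeSpectrum D)) ∧
      ∀ (m : Ideal D) [m.IsMaximal],
        EtCoh.IsStrictlyHenselianLocalRing (Localization.AtPrime m) := by
  obtain ⟨hY1, hY2, hY3⟩ := Groth.Agent.S0704.result (PrimeSpectrum C) (StQ C) hW (gQ C)
  refine ⟨BT C (StQ C) (gQ C), inferInstance, inferInstance,
    faithfullyFlat_BT (gQ_surjective C), isIndZariski_BT, ?_, ?_, ?_⟩
  · exact Groth.Agent.H48.WLocT2.isWLocal_of_homeomorph (homeoFib (g := gQ C)) hY1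
  · exact extremallyDisconnected_of_homeo (eT (g := gQ C)).symm
  · intro m hm
    let y : PrimeSpectrum (BT C (StQ C) (gQ C)) := ⟨m, hm.isPrime⟩
    have hycl : IsClosed ({y} : Set (PrimeSpectrum (BT C (StQ C) (gQ C)))) :=
      (PrimeSpectrum.isClosed_singleton_iff_isMaximal y).mpr hm
    -- the image is a closed point
    have h1 : IsClosed ({homeoFib (g := gQ C) y} : Set _) := by
      have := (homeoFib (g := gQ C)).isClosed_image.mpr hycl
      rwa [Set.image_singleton] at this
    have h2 : homeoFib (g := gQ C) y ∈ ProEtW.closedPoints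
        {p : PrimeSpectrum C × StQ C // ConnectedComponents.mk p.1 = gQ C p.2} := h1
    rw [hY3] at h2
    have h3 : IsClosed ({(homeoFib (g := gQ C) y).1.1} : Set (PrimeSpectrum C)) := h2
    rw [homeoFib_val, phi_fst] at h3
    haveI hmax : (Ideal.comap (algebraMap C (BT C (StQ C) (gQ C))) m).IsMaximal :=
      (PrimeSpectrum.isClosed_singleton_iff_isMaximal _).mp h3
    have hid := Groth.Agent.H48.IdLoc.identifiesLocalRings_of_isIndZariski
      (isIndZariski_BT (A := C) (T := StQ C) (g := gQ C)) y
    exact Groth.Agent.H4.ZarSection.isStrictlyHenselian_of_ringEquiv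
      (RingEquiv.ofBijective _ hid) (hSH _)

/-- Every ring has a faithfully flat ind-étale cover `D` with `Spec D` w-local, `π₀(Spec D)`
extremally disconnected and all local rings at maximal ideals strictly henselian. -/
theorem exists_cover (A : Type u) [CommRing A] :
    ∃ (D : Type u) (_ : CommRing D) (_ : Algebra A D),
      Module.FaithfullyFlat A D ∧ EtPBC.IsIndEtale A D ∧
      ProEtW.IsWLocal (PrimeSpectrum D) ∧
      ExtremallyDisconnected (_root_.ConnectedComponents (PrimeSpectrum D)) ∧
      ∀ (m : Ideal D) [m.IsMaximal],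
        EtCoh.IsStrictlyHenselianLocalRing (Localization.AtPrime m) := by
  obtain ⟨C, D₀, iC, iD₀, aAC, aAD₀, aCD₀, aAD₀', t1, t2, hff, hind, -, -, hW, -, -, -, -, -, hSH⟩ :=
    Groth.Agent.S0692.result A A (algebraicResidueExtensions_self A)
  obtain ⟨D, iD, aCD, hffD, hizD, hWD, hED, hSHD⟩ := exists_cover_of_wLocal C hW hSH
  letI aAD : Algebra A D := ((algebraMap C D).comp (algebraMap A C)).toAlgebra
  haveI : IsScalarTower A C D := IsScalarTower.of_algebraMap_eq (fun _ => rfl)
  refine ⟨D, iD, aAD, ?_, ?_, hWD, hED, hSHD⟩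
  · exact Module.FaithfullyFlat.trans A C D
  · exact Groth.Agent.H12.IndEt.isIndEtale_trans hind
      (Groth.Agent.H23.WSq.isIndEtale_of_isIndZariski hizD)

end Groth.Agent.H48.WContr
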