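import Mathlib
import Groth.Prelude.Def_EtBase
import Groth.Agent.H3.HenselConverse2
import Groth.Agent.H4.ZarSection

/-!
# Finite algebras over henselian local rings: maximal ideals above a prime, local rings
-/

set_option autoImplicit false
universe u

open IsLocalRing

namespace Groth.Agent.H48.FinWC

section pi

variable {ι : Type u} [Fintype ι] [DecidableEq ι] {R : ι → Type u} [∀ i, CommRing (R i)]
  [∀ i, IsLocalRing (R i)]

omit [Fintype ι] [∀ i, IsLocalRing (R i)] in
theorem single_mul_single_of_ne {i j : ι} (h : i ≠ j) :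
    (Pi.single i (1 : R i) : ∀ k, R k) * Pi.single j (1 : R j) = 0 := by
  funext k
  by_cases hk : k = i
  · subst hk
    simp [Pi.single_eq_of_ne h]
  · simp [Pi.single_eq_of_ne hk]

omit [∀ i, IsLocalRing (R i)] in
theorem exists_index (P : Ideal (∀ i, R i)) [hP : P.IsPrime] :
    ∃ i, (Pi.single i (1 : R i) : ∀ k, R k) ∉ P ∧
      ∀ j, j ≠ i → (Pi.single j (1 : R j) : ∀ k, R k) ∈ P := by
  have hex : ∃ i, (Pi.single i (1 : R i) : ∀ k, R k) ∉ P := by
    by_contra hall
    simp only [not_exists, not_not] at hall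
    have h1 : (1 : ∀ k, R k) ∈ P := by
      rw [← Finset.univ_sum_single (1 : ∀ k, R k)]
      exact Ideal.sum_mem _ fun i _ => hall i
    exact hP.ne_top ((Ideal.eq_top_iff_one _).mpr h1)
  obtain ⟨i, hi⟩ := hex
  refine ⟨i, hi, fun j hj => ?_⟩
  have h0 : (Pi.single i (1 : R i) : ∀ k, R k) * Pi.single j (1 : R j) ∈ P := by
    rw [single_mul_single_of_ne (Ne.symm hj)]; exact zero_mem _
  exact (hP.mem_or_mem h0).resolve_left hi

omit [Fintype ι] in
theorem maximal_eq (N : Ideal (∀ i, R i)) [hN : N.IsMaximal] (i : ι)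
    (hi : (Pi.single i (1 : R i) : ∀ k, R k) ∉ N) :
    N = Ideal.comap (Pi.evalRingHom R i) (maximalIdeal (R i)) := by
  have hle : N ≤ Ideal.comap (Pi.evalRingHom R i) (maximalIdeal (R i)) := by
    intro f hf
    rw [Ideal.mem_comap, mem_maximalIdeal, mem_nonunits_iff]
    rintro ⟨u, hu⟩
    apply hi
    have : (Pi.single i (1 : R i) : ∀ k, R k) = Pi.single i (↑u⁻¹ : R i) * f := by
      funext k
      by_cases hk : k = i
      · subst hk
        have : f k = u := hu.symm
        simp [this]
      · simp [Pi.single_eq_of_ne hk]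
    rw [this]
    exact Ideal.mul_mem_left _ _ hf
  have hne : Ideal.comap (Pi.evalRingHom R i) (maximalIdeal (R i)) ≠ ⊤ :=
    Ideal.comap_ne_top _ (maximalIdeal.isMaximal (R i)).ne_top
  exact hN.eq_of_le hne hle

theorem pi_max_unique (P : Ideal (∀ i, R i)) [hP : P.IsPrime] (N₁ N₂ : Ideal (∀ i, R i))
    [h1 : N₁.IsMaximal] [h2 : N₂.IsMaximal] (hP1 : P ≤ N₁) (hP2 : P ≤ N₂) : N₁ = N₂ := by
  obtain ⟨i, hi, hj⟩ := exists_index P
  have key : ∀ (N : Ideal (∀ i, R i)) [N.IsMaximal], P ≤ N →
      (Pi.single i (1 : R i) : ∀ k, R k) ∉ N := by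
    intro N hN hPN hmem
    have h1 : (1 : ∀ k, R k) ∈ N := by
      rw [← Finset.univ_sum_single (1 : ∀ k, R k)]
      refine Ideal.sum_mem _ fun j _ => ?_
      by_cases hji : j = i
      · subst hji; exact hmem
      · exact hPN (hj j hji)
    exact hN.ne_top ((Ideal.eq_top_iff_one _).mpr h1)
  rw [maximal_eq N₁ i (key N₁ hP1), maximal_eq N₂ i (key N₂ hP2)]

omit [Fintype ι] in
/-- the factor `R i` is the localization of the product at the corresponding maximal ideal -/
theorem isLocalization_eval (i : ι) :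
    letI : Algebra (∀ k, R k) (R i) := (Pi.evalRingHom R i).toAlgebra
    IsLocalization.AtPrime (R i)
      (Ideal.comap (Pi.evalRingHom R i) (maximalIdeal (R i))) := by
  letI : Algebra (∀ k, R k) (R i) := (Pi.evalRingHom R i).toAlgebra
  refine ⟨?_, ?_, ?_⟩
  · rintro ⟨f, hf⟩
    change IsUnit (f i)
    have : f i ∉ maximalIdeal (R i) := hf
    rwa [mem_maximalIdeal, mem_nonunits_iff, not_not] at this
  · intro z
    refine ⟨(Pi.single i z, 1), ?_⟩
    change z * (1 : ∀ k, R k) i = (Pi.single i z : ∀ k, R k) i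
    simp
  · intro f g hfg
    have hfg' : f i = g i := hfg
    refine ⟨⟨Pi.single i 1, ?_⟩, ?_⟩
    · change (Pi.single i (1 : R i) : ∀ k, R k) i ∉ maximalIdeal (R i)
      rw [Pi.single_eq_same]
      exact fun h => (maximalIdeal.isMaximal (R i)).ne_top ((Ideal.eq_top_iff_one _).mpr h)
    · funext k
      by_cases hk : k = i
      · subst hk; simp [hfg']
      · simp [Pi.single_eq_of_ne hk]

omit [Fintype ι] in
theorem isLocalization_eval' (N : Ideal (∀ i, R i)) [hN : N.IsMaximal] (i : ι)
    (hi : (Pi.single i (1 : R i) : ∀ k, R k) ∉ N) :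
    letI : Algebra (∀ k, R k) (R i) := (Pi.evalRingHom R i).toAlgebra
    IsLocalization.AtPrime (R i) N := by
  have h := maximal_eq N i hi
  subst h
  exact isLocalization_eval i

end pi

section hens

variable (H : Type u) [CommRing H] [HenselianLocalRing H] (B' : Type u) [CommRing B']
  [Algebra H B'] [Module.Finite H B']

include H in
theorem max_unique_of_finite (P : Ideal B') [P.IsPrime] (N₁ N₂ : Ideal B') [N₁.IsMaximal]
    [N₂.IsMaximal] (h1 : P ≤ N₁) (h2 : P ≤ N₂) : N₁ = N₂ := by
  classical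
  obtain ⟨ι, hι, R, hR, hloc, ⟨φ⟩⟩ := Groth.Agent.H3.exists_pi_isLocalRing_of_finite H B'
  have hs : Function.Surjective (φ.symm : (∀ i, R i) →+* B') := φ.symm.surjective
  haveI := Ideal.comap_isMaximal_of_surjective (φ.symm : (∀ i, R i) →+* B') hs (K := N₁)
  haveI := Ideal.comap_isMaximal_of_surjective (φ.symm : (∀ i, R i) →+* B') hs (K := N₂)
  have := pi_max_unique (Ideal.comap (φ.symm : (∀ i, R i) →+* B') P)
    (Ideal.comap (φ.symm : (∀ i, R i) →+* B') N₁) (Ideal.comap (φ.symm : (∀ i, R i) →+* B') N₂)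
    (Ideal.comap_mono h1) (Ideal.comap_mono h2)
  exact Ideal.comap_injective_of_surjective _ hs this

theorem isStrictlyHenselian_localization_of_finite [IsSepClosed (ResidueField H)]
    (N : Ideal B') [hN : N.IsMaximal] :
    EtCoh.IsStrictlyHenselianLocalRing (Localization.AtPrime N) := by
  classical
  obtain ⟨ι, hι, R, hR, hloc, ⟨φ⟩⟩ := Groth.Agent.H3.exists_pi_isLocalRing_of_finite H B'
  have hs : Function.Surjective (φ.symm : (∀ i, R i) →+* B') := φ.symm.surjective
  obtain ⟨N', hN'⟩ : ∃ N' : Ideal (∀ i, R i), N' = Ideal.comap (φ.symm : (∀ i, R i) →+* B') N :=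
    ⟨_, rfl⟩
  haveI hN'max : N'.IsMaximal := hN' ▸ Ideal.comap_isMaximal_of_surjective _ hs
  obtain ⟨i, hi, -⟩ := exists_index N'
  letI : Algebra (∀ k, R k) (R i) := (Pi.evalRingHom R i).toAlgebra
  haveI := isLocalization_eval' N' i hi
  -- `Localization.AtPrime N ≃ Localization.AtPrime N' ≃ R i`
  have hmap : N.primeCompl.map (φ : B' ≃+* (∀ i, R i)).toMonoidHom = N'.primeCompl := by
    ext t
    constructor
    · rintro ⟨b, hb, rfl⟩
      change φ b ∉ N'
      rw [hN', Ideal.mem_comap]
      change φ.symm (φ b) ∉ N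
      rw [φ.symm_apply_apply]
      exact hb
    · intro ht
      refine ⟨φ.symm t, ?_, φ.apply_symm_apply t⟩
      change φ.symm t ∉ N
      have : t ∉ N' := ht
      rw [hN', Ideal.mem_comap] at this
      exact this
  let e1 : Localization.AtPrime N ≃+* Localization.AtPrime N' :=
    IsLocalization.ringEquivOfRingEquiv (Localization.AtPrime N) (Localization.AtPrime N') φ hmap
  let e2 : Localization.AtPrime N' ≃ₐ[∀ k, R k] R i :=
    IsLocalization.algEquiv N'.primeCompl _ _
  -- `R i` is strictly henselian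
  letI algH : Algebra H (R i) :=
    (((Pi.evalRingHom R i).comp (φ : B' →+* (∀ i, R i))).comp (algebraMap H B')).toAlgebra
  letI algB : Algebra B' (R i) :=
    ((Pi.evalRingHom R i).comp (φ : B' →+* (∀ i, R i))).toAlgebra
  haveI : IsScalarTower H B' (R i) := IsScalarTower.of_algebraMap_eq (fun _ => rfl)
  haveI : Module.Finite H (R i) := by
    refine Module.Finite.of_surjective (IsScalarTower.toAlgHom H B' (R i)).toLinearMap ?_
    intro z
    refine ⟨φ.symm (Pi.single i z), ?_⟩
    change (φ (φ.symm (Pi.single i z))) i = z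
    rw [φ.apply_symm_apply, Pi.single_eq_same]
  haveI : HenselianLocalRing (R i) := Groth.Agent.H3.henselianLocalRing_of_finite H (R i)
  haveI : IsLocalHom (algebraMap H (R i)) := by
    have hker : RingHom.ker (algebraMap H (R i)) ≤ maximalIdeal H := by
      apply IsLocalRing.le_maximalIdeal
      rw [Ne, Ideal.eq_top_iff_one, RingHom.mem_ker, map_one]
      exact one_ne_zero
    obtain ⟨Q, hQmax, hQ⟩ := Ideal.exists_ideal_over_maximal_of_isIntegral (S := R i)
      (maximalIdeal H) hker
    have hQ' : Q = maximalIdeal (R i) := IsLocalRing.eq_maximalIdeal hQmax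
    rw [hQ'] at hQ
    exact ((IsLocalRing.local_hom_TFAE (algebraMap H (R i))).out 0 4).mpr hQ
  haveI : IsSepClosed (ResidueField (R i)) :=
    Algebra.IsAlgebraic.isSepClosed (F := ResidueField H) (E := ResidueField (R i))
  have hSH : EtCoh.IsStrictlyHenselianLocalRing (R i) := ⟨inferInstance, inferInstance⟩
  exact Groth.Agent.H4.ZarSection.isStrictlyHenselian_of_ringEquiv
    (e1.trans e2.toRingEquiv).symm hSH

end hens

end Groth.Agent.H48.FinWC
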