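import Mathlib

/-!
# Finite finitely presented algebras over zero-dimensional rings with extremally disconnected
spectrum and separably closed residue fields
-/

set_option autoImplicit false
universe u

open PrimeSpectrum

namespace Groth.Agent.H48.FinWC

section top

/-- A continuous open map which is locally injective, into an extremally disconnected space,
has extremally disconnected source. -/
theorem extremallyDisconnected_of_locally_injective {P Q : Type*} [TopologicalSpace P]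
    [TopologicalSpace Q] [ExtremallyDisconnected P] (g : Q → P) (hc : Continuous g)
    (ho : IsOpenMap g)
    (hloc : ∀ q : Q, ∃ W : Set Q, IsOpen W ∧ q ∈ W ∧ Set.InjOn g W) :
    ExtremallyDisconnected Q := by
  refine ⟨fun V hV => ?_⟩
  rw [isOpen_iff_mem_nhds]
  intro q hq
  obtain ⟨W, hWo, hqW, hinj⟩ := hloc q
  have hVW : IsOpen (V ∩ W) := hV.inter hWo
  have hgo : IsOpen (closure (g '' (V ∩ W))) :=
    ExtremallyDisconnected.open_closure _ (ho _ hVW)
  have hO : IsOpen (W ∩ g ⁻¹' closure (g '' (V ∩ W))) := hWo.inter (hgo.preimage hc)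
  have hqcl : q ∈ closure (V ∩ W) := by
    rw [mem_closure_iff]
    intro N hN hqN
    have := mem_closure_iff.mp hq (N ∩ W) (hN.inter hWo) ⟨hqN, hqW⟩
    obtain ⟨z, ⟨hzN, hzW⟩, hzV⟩ := this
    exact ⟨z, hzN, hzV, hzW⟩
  have hqO : q ∈ W ∩ g ⁻¹' closure (g '' (V ∩ W)) :=
    ⟨hqW, image_closure_subset_closure_image hc ⟨q, hqcl, rfl⟩⟩
  refine Filter.mem_of_superset (hO.mem_nhds hqO) ?_
  rintro w ⟨hwW, hw⟩
  by_contra hwn
  -- an open neighbourhood of `w` inside `W` missing `V`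
  have hN : IsOpen (W ∩ (closure V)ᶜ) := hWo.inter isClosed_closure.isOpen_compl
  have hgN : IsOpen (g '' (W ∩ (closure V)ᶜ)) := ho _ hN
  have hmem : g w ∈ g '' (W ∩ (closure V)ᶜ) := ⟨w, ⟨hwW, hwn⟩, rfl⟩
  obtain ⟨y, hy1, hy2⟩ := mem_closure_iff.mp hw _ hgN hmem
  obtain ⟨n, ⟨hnW, hnV⟩, rfl⟩ := hy1
  obtain ⟨v, ⟨hvV, hvW⟩, hvn⟩ := hy2
  have : v = n := hinj hvW hnW hvn
  subst this
  exact hnV (subset_closure hvV)

end top

section vnr

variable {R : Type u} [CommRing R]

/-- In a reduced ring with Hausdorff spectrum, every element of a prime `x` is a multiple of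
an idempotent of `x`. -/
theorem exists_idem_of_mem [IsReduced R] [T2Space (PrimeSpectrum R)] (x : PrimeSpectrum R)
    {a : R} (ha : a ∈ x.asIdeal) :
    ∃ e : R, IsIdempotentElem e ∧ e ∈ x.asIdeal ∧ a * e = a := by
  have hcl : IsClopen (basicOpen a : Set (PrimeSpectrum R)) :=
    ⟨(isCompact_basicOpen a).isClosed, (basicOpen a).2⟩
  obtain ⟨e, he, heq⟩ := exists_idempotent_basicOpen_eq_of_isClopen hcl
  have heq' : basicOpen a = basicOpen e := TopologicalSpace.Opens.ext heq
  refine ⟨e, he, ?_, ?_⟩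
  · by_contra hne
    have : x ∈ (basicOpen e : Set (PrimeSpectrum R)) := hne
    rw [← heq] at this
    exact this ha
  · have hnil : IsNilpotent (a * (1 - e)) := by
      rw [← basicOpen_eq_bot_iff, basicOpen_mul, heq', ← basicOpen_mul]
      have : e * (1 - e) = 0 := by rw [mul_sub, mul_one, he.eq, sub_self]
      rw [this, basicOpen_zero]
    have h0 : a * (1 - e) = 0 := hnil.eq_zero
    rw [mul_sub, mul_one, sub_eq_zero] at h0
    exact h0.symm

/-- join of idempotents -/
theorem idem_join {e e' : R} (he : IsIdempotentElem e) (he' : IsIdempotentElem e') :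
    IsIdempotentElem (e + e' - e * e') ∧ e * (e + e' - e * e') = e ∧
      e' * (e + e' - e * e') = e' := by
  have h1 : e * e = e := he
  have h2 : e' * e' = e' := he'
  refine ⟨?_, ?_, ?_⟩
  · change (e + e' - e * e') * (e + e' - e * e') = e + e' - e * e'
    have : (e + e' - e * e') * (e + e' - e * e') =
        e * e + e' * e' + 2 * (e * e') - 2 * ((e * e) * e') - 2 * (e * (e' * e')) +
          (e * e) * (e' * e') := by ring
    rw [this, h1, h2]; ring
  · have : e * (e + e' - e * e') = e * e + e * e' - (e * e) * e' := by ring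
    rw [this, h1]; ring
  · have : e' * (e + e' - e * e') = e * e' + e' * e' - e * (e' * e') := by ring
    rw [this, h2]; ring

variable {S : Type u} [CommRing S] [Algebra R S]

/-- elements of `m S` are killed by `1 - e` for an idempotent `e ∈ m`. -/
theorem exists_idem_of_mem_map [IsReduced R] [T2Space (PrimeSpectrum R)] (x : PrimeSpectrum R)
    {t : S} (ht : t ∈ x.asIdeal.map (algebraMap R S)) :
    ∃ e : R, IsIdempotentElem e ∧ e ∈ x.asIdeal ∧ t * algebraMap R S e = t := by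
  unfold Ideal.map at ht
  induction ht using Submodule.span_induction with
  | mem t ht =>
    obtain ⟨a, ha, rfl⟩ := ht
    obtain ⟨e, he, hex, hae⟩ := exists_idem_of_mem x ha
    exact ⟨e, he, hex, by rw [← map_mul, hae]⟩
  | zero => exact ⟨0, IsIdempotentElem.zero, zero_mem _, by simp⟩
  | add t t' _ _ h h' =>
    obtain ⟨e, he, hex, hte⟩ := h
    obtain ⟨e', he', hex', hte'⟩ := h'
    obtain ⟨hj, hj1, hj2⟩ := idem_join he he'
    refine ⟨e + e' - e * e', hj, ?_, ?_⟩
    · exact sub_mem (add_mem hex hex') (Ideal.mul_mem_right _ _ hex)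
    · have h1 : t * algebraMap R S (e + e' - e * e') = t := by
        conv_lhs => rw [← hte, mul_assoc, ← map_mul, hj1]
        exact hte
      have h2 : t' * algebraMap R S (e + e' - e * e') = t' := by
        conv_lhs => rw [← hte', mul_assoc, ← map_mul, hj2]
        exact hte'
      rw [add_mul, h1, h2]
  | smul c t _ h =>
    obtain ⟨e, he, hex, hte⟩ := h
    exact ⟨e, he, hex, by rw [smul_eq_mul, mul_assoc, hte]⟩

end vnr

section radicial

/-- closure properties of the set of elements with a `p`-power in the base ring -/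
theorem radicial_span {R S₁ : Type*} [CommRing R] [CommRing S₁] [Algebra R S₁] (p : ℕ)
    (hadd : ∀ (y z : S₁) (n : ℕ), (y + z) ^ (p ^ n) = y ^ (p ^ n) + z ^ (p ^ n))
    (G : Set S₁) (hG : ∀ y ∈ G, ∃ (n : ℕ) (r : R), y ^ (p ^ n) = algebraMap R S₁ r) (y : S₁)
    (hy : y ∈ Submodule.span R G) :
    ∃ (n : ℕ) (r : R), y ^ (p ^ n) = algebraMap R S₁ r := by
  induction hy using Submodule.span_induction with
  | mem y hy => exact hG y hy
  | zero => exact ⟨0, 0, by simp⟩
  | add y z _ _ hy hz =>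
    obtain ⟨n, r, hr⟩ := hy
    obtain ⟨n', r', hr'⟩ := hz
    refine ⟨n + n', r ^ (p ^ n') + r' ^ (p ^ n), ?_⟩
    rw [hadd, map_add, map_pow, map_pow, ← hr, ← hr', ← pow_mul, ← pow_mul, ← pow_add,
      ← pow_add, add_comm n' n]
  | smul a y _ hy =>
    obtain ⟨n, r, hr⟩ := hy
    refine ⟨n, a ^ (p ^ n) * r, ?_⟩
    rw [Algebra.smul_def, mul_pow, hr, map_mul, map_pow]

end radicial

section fibre

variable {R S : Type u} [CommRing R] [CommRing S] [Algebra R S] [Module.Finite R S]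

/-- pure inseparability of the residue extension, in elementary terms -/
theorem exists_pow_sub_mem (𝔮 : Ideal S) [𝔮.IsPrime]
    [hmax : (𝔮.comap (algebraMap R S)).IsMaximal]
    (hsep : letI := Ideal.Quotient.field (𝔮.comap (algebraMap R S));
      IsSepClosed (R ⧸ 𝔮.comap (algebraMap R S)))
    (p : ℕ) (hp : ExpChar (R ⧸ 𝔮.comap (algebraMap R S)) p) (s : S) :
    ∃ (n : ℕ) (r : R), s ^ p ^ n - algebraMap R S r ∈ 𝔮 := by
  letI := Ideal.Quotient.field (𝔮.comap (algebraMap R S))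
  haveI := hsep
  haveI : Algebra.IsIntegral (R ⧸ 𝔮.comap (algebraMap R S)) (S ⧸ 𝔮) :=
    Algebra.IsIntegral.quotient
  haveI : IsPurelyInseparable (R ⧸ 𝔮.comap (algebraMap R S)) (S ⧸ 𝔮) := inferInstance
  obtain ⟨n, y, hy⟩ := IsPurelyInseparable.pow_mem (R ⧸ 𝔮.comap (algebraMap R S)) p
    (Ideal.Quotient.mk 𝔮 s)
  obtain ⟨r, rfl⟩ := Ideal.Quotient.mk_surjective y
  refine ⟨n, r, ?_⟩
  rw [← Ideal.Quotient.eq, map_pow, ← hy]
  rfl

theorem isMaximal_of_comap (hdim : ∀ P : Ideal R, P.IsPrime → P.IsMaximal) (P : Ideal S)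
    (hP : P.IsPrime) : P.IsMaximal :=
  Ideal.isMaximal_of_isIntegral_of_isMaximal_comap P (hdim _ (Ideal.comap_isPrime _ P))

/-- a basic open neighbourhood of `𝔮` isolating it in its fibre -/
theorem exists_basicOpen_fibre (hdim : ∀ P : Ideal R, P.IsPrime → P.IsMaximal)
    (𝔮 : PrimeSpectrum S) :
    ∃ f : S, f ∉ 𝔮.asIdeal ∧ ∀ 𝔮' : PrimeSpectrum S,
      comap (algebraMap R S) 𝔮' = comap (algebraMap R S) 𝔮 → f ∉ 𝔮'.asIdeal → 𝔮' = 𝔮 := by
  have hfin : (comap (algebraMap R S) ⁻¹' {comap (algebraMap R S) 𝔮}).Finite :=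
    Algebra.QuasiFinite.finite_comap_preimage_singleton _
  have hZfin : ((comap (algebraMap R S) ⁻¹' {comap (algebraMap R S) 𝔮}) \ {𝔮}).Finite :=
    hfin.subset Set.sdiff_subset
  have hZcl : IsClosed ((comap (algebraMap R S) ⁻¹' {comap (algebraMap R S) 𝔮}) \ {𝔮}) := by
    have : ((comap (algebraMap R S) ⁻¹' {comap (algebraMap R S) 𝔮}) \ {𝔮}) =
        ⋃ z ∈ ((comap (algebraMap R S) ⁻¹' {comap (algebraMap R S) 𝔮}) \ {𝔮}), {z} :=
      (Set.biUnion_of_singleton _).symm
    rw [this]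
    refine hZfin.isClosed_biUnion fun z _ => ?_
    exact (isClosed_singleton_iff_isMaximal z).mpr (isMaximal_of_comap hdim _ z.2)
  have hmem : 𝔮 ∈ ((comap (algebraMap R S) ⁻¹' {comap (algebraMap R S) 𝔮}) \ {𝔮})ᶜ := by
    simp
  obtain ⟨_, ⟨f, rfl⟩, h𝔮f, hsub⟩ :=
    isTopologicalBasis_basic_opens.exists_subset_of_mem_open hmem hZcl.isOpen_compl
  refine ⟨f, h𝔮f, fun 𝔮' h1 h2 => ?_⟩
  by_contra hne
  exact hsub h2 ⟨h1, hne⟩

omit [Module.Finite R S] in
theorem exists_pow_mem_map (𝔮 : PrimeSpectrum S)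
    (hmax : (𝔮.asIdeal.comap (algebraMap R S)).IsMaximal) (f : S)
    (hf : ∀ 𝔮' : PrimeSpectrum S,
      comap (algebraMap R S) 𝔮' = comap (algebraMap R S) 𝔮 → f ∉ 𝔮'.asIdeal → 𝔮' = 𝔮)
    {s : S} (hs : s ∈ 𝔮.asIdeal) :
    ∃ M : ℕ, (f * s) ^ M ∈ (𝔮.asIdeal.comap (algebraMap R S)).map (algebraMap R S) := by
  change f * s ∈ ((𝔮.asIdeal.comap (algebraMap R S)).map (algebraMap R S)).radical
  rw [Ideal.radical_eq_sInf, Ideal.mem_sInf]
  rintro P ⟨hle, hP⟩
  by_cases hfP : f ∈ P
  · exact Ideal.mul_mem_right _ _ hfP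
  · have hcomap : P.comap (algebraMap R S) = 𝔮.asIdeal.comap (algebraMap R S) :=
      (hmax.eq_of_le (Ideal.comap_ne_top _ hP.ne_top) (Ideal.map_le_iff_le_comap.mp hle)).symm
    have := hf ⟨P, hP⟩ (PrimeSpectrum.ext hcomap) hfP
    have hPq : P = 𝔮.asIdeal := congrArg PrimeSpectrum.asIdeal this
    rw [hPq]
    exact Ideal.mul_mem_left _ _ hs

end fibre

section local_inj

variable {R S : Type u} [CommRing R] [CommRing S] [Algebra R S]

/-- the set `D(f) ∩ V(e)` -/
def Wset (f : S) (e : R) : Set (PrimeSpectrum S) :=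
  {P | f ∉ P.asIdeal ∧ algebraMap R S e ∈ P.asIdeal}

theorem isOpen_Wset (f : S) {e : R} (he : IsIdempotentElem e) : IsOpen (Wset f e) := by
  have : Wset f e = (basicOpen f : Set (PrimeSpectrum S)) ∩
      (basicOpen (algebraMap R S (1 - e)) : Set (PrimeSpectrum S)) := by
    ext P
    constructor
    · rintro ⟨h1, h2⟩
      refine ⟨h1, fun h3 => ?_⟩
      have : (1 : S) ∈ P.asIdeal := by
        have := add_mem h2 h3
        rwa [← map_add, add_sub_cancel, map_one] at this
      exact P.2.ne_top ((Ideal.eq_top_iff_one _).mpr this)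
    · rintro ⟨h1, h2⟩
      refine ⟨h1, ?_⟩
      have h0 : algebraMap R S e * algebraMap R S (1 - e) ∈ P.asIdeal := by
        rw [← map_mul, mul_sub, mul_one, he.eq, sub_self, map_zero]
        exact zero_mem _
      exact (P.2.mem_or_mem h0).resolve_right h2
  rw [this]
  exact (basicOpen f).2.inter (basicOpen _).2

theorem Wset_mono (f : S) {e e' : R} (h : e * e' = e) : Wset f e' ⊆ Wset f e := by
  rintro P ⟨h1, h2⟩
  refine ⟨h1, ?_⟩
  rw [← h, map_mul]
  exact Ideal.mul_mem_left _ _ h2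

/-- `s` has a `p`-power in `R` along `W` -/
def Good (p : ℕ) (f : S) (e : R) (s : S) : Prop :=
  ∃ (n : ℕ) (r : R), ∀ P ∈ Wset f e, s ^ p ^ n - algebraMap R S r ∈ P.asIdeal

theorem Good.mono {p : ℕ} {f : S} {e e' : R} {s : S} (h : e * e' = e) (hg : Good p f e s) :
    Good p f e' s := by
  obtain ⟨n, r, hr⟩ := hg
  exact ⟨n, r, fun P hP => hr P (Wset_mono f h hP)⟩

variable [Module.Finite R S] [IsReduced R] [T2Space (PrimeSpectrum R)]

theorem exists_good (𝔮 : PrimeSpectrum S)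
    [hmax : (𝔮.asIdeal.comap (algebraMap R S)).IsMaximal]
    (hsep : letI := Ideal.Quotient.field (𝔮.asIdeal.comap (algebraMap R S));
      IsSepClosed (R ⧸ 𝔮.asIdeal.comap (algebraMap R S)))
    (p : ℕ) (hp : ExpChar (R ⧸ 𝔮.asIdeal.comap (algebraMap R S)) p) (f : S)
    (hf : ∀ 𝔮' : PrimeSpectrum S,
      comap (algebraMap R S) 𝔮' = comap (algebraMap R S) 𝔮 → f ∉ 𝔮'.asIdeal → 𝔮' = 𝔮)
    (s : S) :
    ∃ e : R, IsIdempotentElem e ∧ e ∈ 𝔮.asIdeal.comap (algebraMap R S) ∧ Good p f e s := by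
  obtain ⟨n, r, hnr⟩ := exists_pow_sub_mem 𝔮.asIdeal hsep p hp s
  obtain ⟨M, hM⟩ := exists_pow_mem_map 𝔮 hmax f hf hnr
  obtain ⟨e, he, hex, hte⟩ := exists_idem_of_mem_map (comap (algebraMap R S) 𝔮) hM
  refine ⟨e, he, hex, n, r, fun P hP => ?_⟩
  have h1 : (f * (s ^ p ^ n - algebraMap R S r)) ^ M ∈ P.asIdeal := by
    rw [← hte]
    exact Ideal.mul_mem_left _ _ hP.2
  have h2 := P.2.mem_of_pow_mem _ h1
  exact (P.2.mem_or_mem h2).resolve_left hP.1

theorem exists_good_finset (𝔮 : PrimeSpectrum S)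
    [hmax : (𝔮.asIdeal.comap (algebraMap R S)).IsMaximal]
    (hsep : letI := Ideal.Quotient.field (𝔮.asIdeal.comap (algebraMap R S));
      IsSepClosed (R ⧸ 𝔮.asIdeal.comap (algebraMap R S)))
    (p : ℕ) (hp : ExpChar (R ⧸ 𝔮.asIdeal.comap (algebraMap R S)) p) (f : S)
    (hf : ∀ 𝔮' : PrimeSpectrum S,
      comap (algebraMap R S) 𝔮' = comap (algebraMap R S) 𝔮 → f ∉ 𝔮'.asIdeal → 𝔮' = 𝔮)
    (a : R) (ha : a ∈ 𝔮.asIdeal.comap (algebraMap R S))
    (G : Finset S) :
    ∃ e : R, IsIdempotentElem e ∧ e ∈ 𝔮.asIdeal.comap (algebraMap R S) ∧ a * e = a ∧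
      ∀ s ∈ G, Good p f e s := by
  classical
  induction G using Finset.induction_on with
  | empty =>
    obtain ⟨e, he, hex, hae⟩ := exists_idem_of_mem (comap (algebraMap R S) 𝔮) ha
    exact ⟨e, he, hex, hae, by simp⟩
  | insert s G _ ih =>
    obtain ⟨e, he, hex, hae, hG⟩ := ih
    obtain ⟨e', he', hex', hs⟩ := exists_good 𝔮 hsep p hp f hf s
    obtain ⟨hj, hj1, hj2⟩ := idem_join he he'
    refine ⟨e + e' - e * e', hj, ?_, ?_, ?_⟩
    · exact sub_mem (add_mem hex hex') (Ideal.mul_mem_right _ _ hex)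
    · conv_lhs => rw [← hae, mul_assoc, hj1]
      exact hae
    · intro t ht
      rcases Finset.mem_insert.mp ht with rfl | ht
      · exact hs.mono hj2
      · exact (hG t ht).mono hj1

omit [Module.Finite R S] [IsReduced R] [T2Space (PrimeSpectrum R)] in
/-- injectivity on `W` from the radicial property -/
theorem injOn_Wset (p : ℕ) (f : S) (e : R)
    (hp : p = 1 ∨ (p.Prime ∧ ∀ P ∈ Wset (R := R) f e, (p : S) ∈ P.asIdeal))
    (G : Finset S) (hspan : Submodule.span R (G : Set S) = ⊤) (hG : ∀ s ∈ G, Good p f e s) :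
    Set.InjOn (comap (algebraMap R S)) (Wset f e) := by
  by_cases hne : (Wset (R := R) f e).Nonempty
  swap
  · intro P hP
    exact absurd ⟨P, hP⟩ hne
  obtain ⟨P₀, hP₀⟩ := hne
  have hppos : 0 < p := by
    rcases hp with h | ⟨hpp, -⟩
    · rw [h]; exact one_pos
    · exact hpp.pos
  let I : Ideal S := vanishingIdeal (Wset (R := R) f e)
  have hI : ∀ P ∈ Wset (R := R) f e, I ≤ P.asIdeal := fun P hP x hx =>
    (mem_vanishingIdeal _ _).mp hx P hP
  haveI : Nontrivial (S ⧸ I) :=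
    Ideal.Quotient.nontrivial_iff.mpr (fun h => P₀.2.ne_top (top_le_iff.mp (h ▸ hI P₀ hP₀)))
  have hadd : ∀ (y z : S ⧸ I) (n : ℕ), (y + z) ^ (p ^ n) = y ^ (p ^ n) + z ^ (p ^ n) := by
    rcases hp with rfl | ⟨hpp, hpW⟩
    · intro y z n; simp
    · haveI : Fact p.Prime := ⟨hpp⟩
      haveI : CharP (S ⧸ I) p := by
        rw [CharP.charP_iff_prime_eq_zero hpp]
        have : ((p : S) : S ⧸ I) = 0 := by
          rw [Ideal.Quotient.eq_zero_iff_mem, mem_vanishingIdeal]
          exact hpW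
        rw [← this]
        simp
      intro y z n
      exact add_pow_char_pow y z p n
  have hall : ∀ s : S, ∃ (n : ℕ) (r : R), s ^ p ^ n - algebraMap R S r ∈ I := by
    intro s
    have hs : Ideal.Quotient.mk I s ∈ Submodule.span R
        ((Ideal.Quotient.mk I) '' (G : Set S)) := by
      have h1 : s ∈ Submodule.span R (G : Set S) := hspan ▸ Submodule.mem_top
      have := Submodule.mem_map_of_mem (f := (Ideal.Quotient.mkₐ R I).toLinearMap) h1
      rw [Submodule.map_span] at this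
      exact this
    obtain ⟨n, r, hr⟩ := radicial_span (R := R) p hadd _ (by
      rintro _ ⟨t, ht, rfl⟩
      obtain ⟨n, r, hr⟩ := hG t ht
      refine ⟨n, r, ?_⟩
      rw [← map_pow]
      change _ = Ideal.Quotient.mk I (algebraMap R S r)
      rw [Ideal.Quotient.eq, mem_vanishingIdeal]
      exact hr) _ hs
    refine ⟨n, r, ?_⟩
    rw [← Ideal.Quotient.eq, map_pow]
    exact hr
  have key : ∀ P₁ ∈ Wset (R := R) f e, ∀ P₂ ∈ Wset (R := R) f e,
      comap (algebraMap R S) P₁ = comap (algebraMap R S) P₂ → P₁.asIdeal ≤ P₂.asIdeal := by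
    intro P₁ h1 P₂ h2 heq s hs
    obtain ⟨n, r, hr⟩ := hall s
    have hr1 := hI P₁ h1 hr
    have hr2 := hI P₂ h2 hr
    have h3 : algebraMap R S r ∈ P₁.asIdeal := by
      have := sub_mem (Ideal.pow_mem_of_mem _ hs (p ^ n) (pow_pos hppos n)) hr1
      rwa [sub_sub_cancel] at this
    have h4 : r ∈ (comap (algebraMap R S) P₁).asIdeal := h3
    rw [heq] at h4
    have h5 : algebraMap R S r ∈ P₂.asIdeal := h4
    have h6 : s ^ p ^ n ∈ P₂.asIdeal := by
      have := add_mem hr2 h5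
      rwa [sub_add_cancel] at this
    exact P₂.2.mem_of_pow_mem _ h6
  intro P₁ h1 P₂ h2 heq
  exact PrimeSpectrum.ext (le_antisymm (key P₁ h1 P₂ h2 heq) (key P₂ h2 P₁ h1 heq.symm))

end local_inj

section main

/-- **Main theorem of this file.** -/
theorem extremallyDisconnected_spec_of_finite (R S : Type u) [CommRing R] [CommRing S]
    [Algebra R S] [Module.Finite R S] [Algebra.FinitePresentation R S] [IsReduced R]
    [T2Space (PrimeSpectrum R)] [ExtremallyDisconnected (PrimeSpectrum R)]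
    (hsep : ∀ (m : Ideal R) [m.IsMaximal], letI := Ideal.Quotient.field m; IsSepClosed (R ⧸ m)) :
    ExtremallyDisconnected (PrimeSpectrum S) := by
  have hdim : ∀ P : Ideal R, P.IsPrime → P.IsMaximal := fun P hP =>
    (isClosed_singleton_iff_isMaximal ⟨P, hP⟩).mp isClosed_singleton
  apply extremallyDisconnected_of_locally_injective (comap (algebraMap R S)) (continuous_comap _)
  · -- open map
    rw [isBasis_basic_opens.isOpenMap_iff]
    rintro _ ⟨_, ⟨f, rfl⟩, rfl⟩
    refine isOpen_of_stableUnderGeneralization_of_isConstructible ?_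
      (isConstructible_comap_image (RingHom.finitePresentation_algebraMap.mpr ‹_›)
        isConstructible_basicOpen)
    intro x y hyx hx
    rwa [specializes_iff_eq.mp hyx]
  · intro 𝔮
    haveI hmax : (𝔮.asIdeal.comap (algebraMap R S)).IsMaximal :=
      hdim _ (Ideal.comap_isPrime _ _)
    obtain ⟨f, hf𝔮, hf⟩ := exists_basicOpen_fibre hdim 𝔮
    obtain ⟨G, hG⟩ := Module.Finite.fg_top (R := R) (M := S)
    have hsep' := hsep (𝔮.asIdeal.comap (algebraMap R S))
    haveI : IsDomain (R ⧸ 𝔮.asIdeal.comap (algebraMap R S)) :=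
      (Ideal.Quotient.isDomain_iff_prime _).mpr (Ideal.comap_isPrime _ _)
    obtain ⟨p, hp⟩ : ∃ p, ExpChar (R ⧸ 𝔮.asIdeal.comap (algebraMap R S)) p :=
      ⟨_, ringExpChar.expChar _⟩
    have hp' := hp
    cases hp' with
    | zero =>
      obtain ⟨e, he, hex, -, hgood⟩ := exists_good_finset 𝔮 hsep' 1 hp f hf 0 (zero_mem _) G
      exact ⟨Wset f e, isOpen_Wset f he, ⟨hf𝔮, hex⟩,
        injOn_Wset 1 f e (Or.inl rfl) G hG hgood⟩
    | prime hpp =>
      have ha : (p : R) ∈ 𝔮.asIdeal.comap (algebraMap R S) := by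
        rw [← Ideal.Quotient.eq_zero_iff_mem, map_natCast]
        exact CharP.cast_eq_zero _ p
      obtain ⟨e, he, hex, hae, hgood⟩ := exists_good_finset 𝔮 hsep' p hp f hf (p : R) ha G
      refine ⟨Wset f e, isOpen_Wset f he, ⟨hf𝔮, hex⟩,
        injOn_Wset p f e (Or.inr ⟨hpp, fun P hP => ?_⟩) G hG hgood⟩
      have : (p : S) = algebraMap R S (p : R) * algebraMap R S e := by
        rw [← map_mul, hae, map_natCast]
      rw [this]
      exact Ideal.mul_mem_left _ _ hP.2

end main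

end Groth.Agent.H48.FinWC
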