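import Mathlib
import Groth.Prelude.Def_EtBase
import Groth.Prelude.Def_ProEtW
import Groth.Agent.H4.WLocalTop
import Groth.Agent.H4.SpectralProd
import Groth.Agent.H4.ZarSection
import Groth.Agent.H48.FinWC1
import Groth.Agent.H48.FinWC2

/-!
# Finite finitely presented algebras over w-contractible rings: assembly
-/

set_option autoImplicit false
universe u

open IsLocalRing PrimeSpectrum

namespace Groth.Agent.H48.FinWC

/-- closed points of a w-local space are homeomorphic to its space of connected components. -/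
noncomputable def closedPtsHomeo (X : Type u) [TopologicalSpace X] (hW : ProEtW.IsWLocal X) :
    {x : X // IsClosed ({x} : Set X)} ≃ₜ ConnectedComponents X := by
  haveI := hW.1
  haveI : T2Space (ConnectedComponents X) := Groth.Agent.H4.connectedComponents_t2_of_spectral
  haveI : CompactSpace {x : X // IsClosed ({x} : Set X)} :=
    isCompact_iff_compactSpace.1 hW.2.1.isCompact
  exact Continuous.homeoOfEquivCompactToT2
    (f := Equiv.ofBijective _
      (Groth.Agent.H4.closedPoints_bijective_connectedComponents X hW.2.1 hW.2.2))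
    (ConnectedComponents.continuous_coe.comp continuous_subtype_val)

/-- `Spec (A ⧸ I)` is homeomorphic to the zero locus of `I`. -/
noncomputable def specQuotHomeo {A : Type u} [CommRing A] (I : Ideal A) :
    PrimeSpectrum (A ⧸ I) ≃ₜ (zeroLocus (I : Set A)) :=
  ((isClosedEmbedding_comap_of_surjective (A ⧸ I) (Ideal.Quotient.mk I)
    Ideal.Quotient.mk_surjective).isEmbedding.toHomeomorph).trans
    (Homeomorph.setCongr (by
      rw [range_comap_of_surjective (A ⧸ I) (Ideal.Quotient.mk I) Ideal.Quotient.mk_surjective,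
        Ideal.mk_ker]))

theorem specQuotHomeo_apply {A : Type u} [CommRing A] (I : Ideal A) (x : PrimeSpectrum (A ⧸ I)) :
    ((specQuotHomeo I x : zeroLocus (I : Set A)) : PrimeSpectrum A) =
      comap (Ideal.Quotient.mk I) x := rfl


/-! ### localisation lemmas -/

theorem map_isMaximal_of_disjoint {B : Type u} [CommRing B] (M : Submonoid B) (B' : Type u)
    [CommRing B'] [Algebra B B'] [IsLocalization M B'] (N : Ideal B) [hN : N.IsMaximal]
    (hd : Disjoint (M : Set B) (N : Set B)) : (N.map (algebraMap B B')).IsMaximal := by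
  have hne : N.map (algebraMap B B') ≠ ⊤ :=
    (IsLocalization.map_algebraMap_ne_top_iff_disjoint M B' N).2 hd
  obtain ⟨N', hN', hle⟩ := Ideal.exists_le_maximal _ hne
  have h1 : N ≤ N'.under B := by
    rw [← IsLocalization.under_map_of_isPrime_disjoint M B' hN.isPrime hd]
    exact Ideal.comap_mono hle
  have h2 : N'.under B = N := (hN.eq_of_le (Ideal.comap_ne_top _ hN'.ne_top) h1).symm
  have h3 : N.map (algebraMap B B') = N' := by
    rw [← h2]; exact IsLocalization.map_under M B' N'
  rw [h3]; exact hN'

theorem disjoint_algebraMapSubmonoid {A B : Type u} [CommRing A] [CommRing B] [Algebra A B]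
    (m : Ideal A) [m.IsPrime] (Q : Ideal B) (h : Q.comap (algebraMap A B) ≤ m) :
    Disjoint (Algebra.algebraMapSubmonoid B m.primeCompl : Set B) (Q : Set B) := by
  rw [Set.disjoint_left]
  rintro _ ⟨a, ha, rfl⟩ hQ
  exact ha (h hQ)

theorem sh_congr {B : Type u} [CommRing B] {I J : Ideal B} [I.IsPrime] [J.IsPrime] (h : I = J) :
    EtCoh.IsStrictlyHenselianLocalRing (Localization.AtPrime I) →
      EtCoh.IsStrictlyHenselianLocalRing (Localization.AtPrime J) := by
  subst h; exact id

section main

variable (A B : Type u) [CommRing A] [CommRing B] [Algebra A B] [Module.Finite A B]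

theorem isClosed_singleton_iff_comap (x : PrimeSpectrum B) :
    IsClosed ({x} : Set (PrimeSpectrum B)) ↔
      IsClosed ({comap (algebraMap A B) x} : Set (PrimeSpectrum A)) := by
  haveI : Algebra.IsIntegral A B := Algebra.IsIntegral.of_finite A B
  rw [isClosed_singleton_iff_isMaximal, isClosed_singleton_iff_isMaximal]
  constructor
  · intro h
    haveI := h
    exact Ideal.isMaximal_comap_of_isIntegral_of_isMaximal (R := A) x.asIdeal
  · intro h
    exact Ideal.isMaximal_of_isIntegral_of_isMaximal_comap (R := A) x.asIdeal h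

theorem closedPoints_eq_preimage :
    {x : PrimeSpectrum B | IsClosed ({x} : Set (PrimeSpectrum B))} =
      comap (algebraMap A B) ⁻¹' {y | IsClosed ({y} : Set (PrimeSpectrum A))} := by
  ext x; exact isClosed_singleton_iff_comap A B x

/-- (a): the spectrum of a finite algebra over a w-local ring with henselian local rings is
w-local. -/
theorem isWLocal_of_finite (hW : ProEtW.IsWLocal (PrimeSpectrum A))
    (hH : ∀ (m : Ideal A) [m.IsMaximal], HenselianLocalRing (Localization.AtPrime m)) :
    ProEtW.IsWLocal (PrimeSpectrum B) := by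
  refine ⟨inferInstance, ?_, ?_⟩
  · rw [closedPoints_eq_preimage A B]
    exact hW.2.1.preimage (continuous_comap _)
  · intro x
    obtain ⟨M₀, hM₀, hxM₀⟩ := Ideal.exists_le_maximal x.asIdeal x.2.ne_top
    refine ⟨⟨M₀, hM₀.isPrime⟩, ⟨(isClosed_singleton_iff_isMaximal _).2 hM₀,
      (le_iff_specializes _ _).1 hxM₀⟩, ?_⟩
    -- uniqueness
    have key : ∀ z₁ z₂ : PrimeSpectrum B, IsClosed ({z₁} : Set (PrimeSpectrum B)) → x ⤳ z₁ →
        IsClosed ({z₂} : Set (PrimeSpectrum B)) → x ⤳ z₂ → z₁ = z₂ := by
      intro z₁ z₂ hz₁ hx₁ hz₂ hx₂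
      have hc₁ := (isClosed_singleton_iff_comap A B z₁).1 hz₁
      have hc₂ := (isClosed_singleton_iff_comap A B z₂).1 hz₂
      have hs₁ : comap (algebraMap A B) x ⤳ comap (algebraMap A B) z₁ :=
        hx₁.map (continuous_comap _)
      have hs₂ : comap (algebraMap A B) x ⤳ comap (algebraMap A B) z₂ :=
        hx₂.map (continuous_comap _)
      have heq : comap (algebraMap A B) z₁ = comap (algebraMap A B) z₂ :=
        (hW.2.2 (comap (algebraMap A B) x)).unique ⟨hc₁, hs₁⟩ ⟨hc₂, hs₂⟩
      obtain ⟨m, hm⟩ : ∃ m : Ideal A, m = z₁.asIdeal.comap (algebraMap A B) := ⟨_, rfl⟩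
      have hm₂ : m = z₂.asIdeal.comap (algebraMap A B) := by
        rw [hm, ← comap_asIdeal, ← comap_asIdeal, heq]
      haveI hmmax : m.IsMaximal := by
        rw [hm, ← comap_asIdeal]; exact (isClosed_singleton_iff_isMaximal _).1 hc₁
      haveI := hH m
      haveI hN₁ : z₁.asIdeal.IsMaximal := (isClosed_singleton_iff_isMaximal _).1 hz₁
      haveI hN₂ : z₂.asIdeal.IsMaximal := (isClosed_singleton_iff_isMaximal _).1 hz₂
      have hP₁ : x.asIdeal ≤ z₁.asIdeal := (le_iff_specializes x z₁).2 hx₁
      have hP₂ : x.asIdeal ≤ z₂.asIdeal := (le_iff_specializes x z₂).2 hx₂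
      have hd₁ := disjoint_algebraMapSubmonoid m z₁.asIdeal hm.ge
      have hd₂ := disjoint_algebraMapSubmonoid m z₂.asIdeal hm₂.ge
      have hdP := disjoint_algebraMapSubmonoid m x.asIdeal
        ((Ideal.comap_mono hP₁).trans hm.ge)
      haveI := map_isMaximal_of_disjoint (Algebra.algebraMapSubmonoid B m.primeCompl)
        (Localization (Algebra.algebraMapSubmonoid B m.primeCompl)) z₁.asIdeal hd₁
      haveI := map_isMaximal_of_disjoint (Algebra.algebraMapSubmonoid B m.primeCompl)
        (Localization (Algebra.algebraMapSubmonoid B m.primeCompl)) z₂.asIdeal hd₂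
      haveI := IsLocalization.isPrime_of_isPrime_disjoint
        (Algebra.algebraMapSubmonoid B m.primeCompl)
        (Localization (Algebra.algebraMapSubmonoid B m.primeCompl)) x.asIdeal x.2 hdP
      have hmax := max_unique_of_finite (Localization.AtPrime m)
        (Localization (Algebra.algebraMapSubmonoid B m.primeCompl))
        (x.asIdeal.map (algebraMap B _)) (z₁.asIdeal.map (algebraMap B _))
        (z₂.asIdeal.map (algebraMap B _)) (Ideal.map_mono hP₁) (Ideal.map_mono hP₂)
      have h1 := IsLocalization.under_map_of_isPrime_disjoint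
        (Algebra.algebraMapSubmonoid B m.primeCompl)
        (Localization (Algebra.algebraMapSubmonoid B m.primeCompl)) z₁.2 hd₁
      have h2 := IsLocalization.under_map_of_isPrime_disjoint
        (Algebra.algebraMapSubmonoid B m.primeCompl)
        (Localization (Algebra.algebraMapSubmonoid B m.primeCompl)) z₂.2 hd₂
      rw [hmax, h2] at h1
      exact PrimeSpectrum.ext h1.symm
    rintro z ⟨hz, hxz⟩
    exact key _ _ hz hxz ((isClosed_singleton_iff_isMaximal _).2 hM₀)
      ((le_iff_specializes _ _).1 hxM₀)

/-- (c): local rings at maximal ideals of a finite algebra are strictly henselian. -/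
theorem isStrictlyHenselian_of_finite
    (hSH : ∀ (m : Ideal A) [m.IsMaximal],
      EtCoh.IsStrictlyHenselianLocalRing (Localization.AtPrime m))
    (n : Ideal B) [hn : n.IsMaximal] :
    EtCoh.IsStrictlyHenselianLocalRing (Localization.AtPrime n) := by
  haveI : Algebra.IsIntegral A B := Algebra.IsIntegral.of_finite A B
  obtain ⟨m, hm⟩ : ∃ m : Ideal A, m = n.comap (algebraMap A B) := ⟨_, rfl⟩
  haveI hmmax : m.IsMaximal := by
    rw [hm]; exact Ideal.isMaximal_comap_of_isIntegral_of_isMaximal (R := A) n
  obtain ⟨hhens, hsep⟩ := hSH m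
  haveI := hhens
  haveI := hsep
  have hd := disjoint_algebraMapSubmonoid m n hm.ge
  haveI hNmax := map_isMaximal_of_disjoint (Algebra.algebraMapSubmonoid B m.primeCompl)
    (Localization (Algebra.algebraMapSubmonoid B m.primeCompl)) n hd
  have hSHN := isStrictlyHenselian_localization_of_finite (Localization.AtPrime m)
    (Localization (Algebra.algebraMapSubmonoid B m.primeCompl))
    (n.map (algebraMap B (Localization (Algebra.algebraMapSubmonoid B m.primeCompl))))
  have e := IsLocalization.localizationLocalizationAtPrimeIsoLocalization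
    (Algebra.algebraMapSubmonoid B m.primeCompl)
    (n.map (algebraMap B (Localization (Algebra.algebraMapSubmonoid B m.primeCompl))))
  have h1 : Ideal.comap (algebraMap B (Localization (Algebra.algebraMapSubmonoid B m.primeCompl)))
      (n.map (algebraMap B (Localization (Algebra.algebraMapSubmonoid B m.primeCompl)))) = n :=
    IsLocalization.under_map_of_isPrime_disjoint
      (Algebra.algebraMapSubmonoid B m.primeCompl)
      (Localization (Algebra.algebraMapSubmonoid B m.primeCompl)) hn.isPrime hd
  exact sh_congr h1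
    (Groth.Agent.H4.ZarSection.isStrictlyHenselian_of_ringEquiv e.symm.toRingEquiv hSHN)

end main

section partB

variable (A B : Type u) [CommRing A] [CommRing B] [Algebra A B] [Module.Finite A B]
  [Algebra.FinitePresentation A B]

omit [Module.Finite A B] [Algebra.FinitePresentation A B] [CommRing B] [Algebra A B] in
theorem zeroLocus_K (hW : ProEtW.IsWLocal (PrimeSpectrum A)) :
    zeroLocus (vanishingIdeal {y : PrimeSpectrum A | IsClosed ({y} : Set (PrimeSpectrum A))} :
      Set A) = {y | IsClosed ({y} : Set (PrimeSpectrum A))} := by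
  rw [zeroLocus_vanishingIdeal_eq_closure]; exact hW.2.1.closure_eq

omit [Algebra.FinitePresentation A B] in
theorem zeroLocus_map_K (hW : ProEtW.IsWLocal (PrimeSpectrum A)) :
    zeroLocus ((vanishingIdeal
      {y : PrimeSpectrum A | IsClosed ({y} : Set (PrimeSpectrum A))}).map (algebraMap A B) :
        Set B) = {x | IsClosed ({x} : Set (PrimeSpectrum B))} := by
  have h := zeroLocus_K A hW
  rw [closedPoints_eq_preimage A B]
  conv_rhs => rw [← h]
  rw [preimage_comap_zeroLocus, Ideal.map, zeroLocus_span]

/-- (b): `π₀ (Spec B)` is extremally disconnected. -/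
theorem extremallyDisconnected_connectedComponents_of_finite
    (hW : ProEtW.IsWLocal (PrimeSpectrum A)) (hWB : ProEtW.IsWLocal (PrimeSpectrum B))
    (hED : ExtremallyDisconnected (ConnectedComponents (PrimeSpectrum A)))
    (hSH : ∀ (m : Ideal A) [m.IsMaximal],
      EtCoh.IsStrictlyHenselianLocalRing (Localization.AtPrime m)) :
    ExtremallyDisconnected (ConnectedComponents (PrimeSpectrum B)) := by
  obtain ⟨K, hK⟩ : ∃ K : Ideal A,
    K = vanishingIdeal {y : PrimeSpectrum A | IsClosed ({y} : Set (PrimeSpectrum A))} := ⟨_, rfl⟩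
  have hzK : zeroLocus (K : Set A) = {y | IsClosed ({y} : Set (PrimeSpectrum A))} :=
    hK ▸ zeroLocus_K A hW
  have hzKB : zeroLocus (K.map (algebraMap A B) : Set B) =
      {x | IsClosed ({x} : Set (PrimeSpectrum B))} := hK ▸ zeroLocus_map_K A B hW
  haveI : IsReduced (A ⧸ K) :=
    (Ideal.isRadical_iff_quotient_reduced K).1 (hK ▸ isRadical_vanishingIdeal _)
  let e₁ : PrimeSpectrum (A ⧸ K) ≃ₜ ConnectedComponents (PrimeSpectrum A) :=
    (specQuotHomeo K).trans ((Homeomorph.setCongr hzK).trans (closedPtsHomeo _ hW))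
  haveI := hW.1
  haveI : T2Space (ConnectedComponents (PrimeSpectrum A)) :=
    Groth.Agent.H4.connectedComponents_t2_of_spectral
  haveI : T2Space (PrimeSpectrum (A ⧸ K)) := e₁.symm.t2Space
  haveI : ExtremallyDisconnected (PrimeSpectrum (A ⧸ K)) :=
    extremallyDisconnected_of_homeo e₁.symm
  have hsep : ∀ (m' : Ideal (A ⧸ K)) [m'.IsMaximal],
      letI := Ideal.Quotient.field m'; IsSepClosed ((A ⧸ K) ⧸ m') := by
    intro m' hm'
    letI := Ideal.Quotient.field m'
    obtain ⟨m, hm⟩ : ∃ m : Ideal A, m = m'.comap (Ideal.Quotient.mk K) := ⟨_, rfl⟩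
    haveI hmmax : m.IsMaximal :=
      hm ▸ Ideal.comap_isMaximal_of_surjective _ Ideal.Quotient.mk_surjective
    letI := Ideal.Quotient.field m
    obtain ⟨hhens, hsepm⟩ := hSH m
    haveI := hhens
    haveI := hsepm
    let g : A →+* (A ⧸ K) ⧸ m' := (Ideal.Quotient.mk m').comp (Ideal.Quotient.mk K)
    have hg : Function.Surjective g :=
      Ideal.Quotient.mk_surjective.comp Ideal.Quotient.mk_surjective
    have hker : RingHom.ker g = m := by
      rw [hm]; ext a; simp [g, RingHom.mem_ker, Ideal.Quotient.eq_zero_iff_mem]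
    let φ : A ⧸ m ≃+* (A ⧸ K) ⧸ m' :=
      (Ideal.quotEquivOfEq hker.symm).trans (RingHom.quotientKerEquivOfSurjective hg)
    let ψ : A ⧸ m ≃+* ResidueField (Localization.AtPrime m) :=
      IsLocalization.AtPrime.equivQuotMaximalIdeal m (Localization.AtPrime m)
    exact Groth.Agent.H4.ZarSection.isSepClosed_of_ringEquiv (ψ.symm.trans φ)
  have hEDS := extremallyDisconnected_spec_of_finite (A ⧸ K) (TensorProduct A (A ⧸ K) B) hsep
  let e₂ : PrimeSpectrum (TensorProduct A (A ⧸ K) B) ≃ₜ
      PrimeSpectrum (B ⧸ K.map (algebraMap A B)) :=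
    homeomorphOfRingEquiv (Algebra.TensorProduct.quotIdealMapEquivQuotTensor B K).symm.toRingEquiv
  let e₃ : PrimeSpectrum (B ⧸ K.map (algebraMap A B)) ≃ₜ ConnectedComponents (PrimeSpectrum B) :=
    (specQuotHomeo _).trans ((Homeomorph.setCongr hzKB).trans (closedPtsHomeo _ hWB))
  exact extremallyDisconnected_of_homeo (e₂.trans e₃)

/-- Finite finitely presented algebras over w-contractible rings: the three conditions. -/
theorem conditions_of_finite
    (hW : ProEtW.IsWLocal (PrimeSpectrum A))
    (hED : ExtremallyDisconnected (ConnectedComponents (PrimeSpectrum A)))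
    (hSH : ∀ (m : Ideal A) [m.IsMaximal],
      EtCoh.IsStrictlyHenselianLocalRing (Localization.AtPrime m)) :
    ProEtW.IsWLocal (PrimeSpectrum B) ∧
      ExtremallyDisconnected (ConnectedComponents (PrimeSpectrum B)) ∧
      ∀ (n : Ideal B) [n.IsMaximal],
        EtCoh.IsStrictlyHenselianLocalRing (Localization.AtPrime n) := by
  have hWB : ProEtW.IsWLocal (PrimeSpectrum B) :=
    isWLocal_of_finite A B hW (fun m _ => (hSH m).1)
  exact ⟨hWB, extremallyDisconnected_connectedComponents_of_finite A B hW hWB hED hSH,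
    fun n _ => isStrictlyHenselian_of_finite A B hSH n⟩

end partB

end Groth.Agent.H48.FinWC
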