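import Mathlib
import Groth.Agent.H48.PtFlat9
import Groth.Prelude.Def_FlatCA

open TensorProduct

namespace Groth.Agent.H48.PtFlat
universe u

open IsLocalRing in
/-- universally injective form of `injective_and_flat_coker_of_local`. -/
theorem lTensor_injective_of_local {R S M N : Type u} [CommRing R] [CommRing S]
    [IsLocalRing R] [IsLocalRing S] [Algebra R S] [IsLocalHom (algebraMap R S)]
    (S₀ : Type u) [CommRing S₀] [Algebra R S₀] [Algebra S₀ S] [IsScalarTower R S₀ S]
    (W : Submonoid S₀) [Algebra.FinitePresentation R S₀] [IsLocalization W S]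
    [AddCommGroup M] [Module S M] [Module R M] [IsScalarTower R S M]
    [Module.FinitePresentation S M]
    [AddCommGroup N] [Module S N] [Module R N] [IsScalarTower R S N]
    [Module.FinitePresentation S N] [Module.Flat R N] (u : M →ₗ[S] N)
    (hu : ∀ x : M, u x ∈ (maximalIdeal R).map (algebraMap R S) • (⊤ : Submodule S N) →
      x ∈ (maximalIdeal R).map (algebraMap R S) • (⊤ : Submodule S M))
    (Q : Type u) [AddCommGroup Q] [Module R Q] :
    Function.Injective ((u.restrictScalars R).lTensor Q) := by
  obtain ⟨hinj, hflat⟩ := injective_and_flat_coker_of_local S₀ W u hu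
  have hrange : LinearMap.range (u.restrictScalars R) = (LinearMap.range u).restrictScalars R := by
    ext y
    exact Iff.rfl
  haveI : Module.Flat R (N ⧸ LinearMap.range (u.restrictScalars R)) := by
    rw [hrange]
    exact Module.Flat.of_linearEquiv
      (Submodule.Quotient.restrictScalarsEquiv R (LinearMap.range u))
  exact LinearMap.lTensor_injective_of_exact_of_flat (LinearMap.range (u.restrictScalars R)).mkQ
    (Submodule.mkQ_surjective _) (u.restrictScalars R) hinj
    (LinearMap.exact_map_mkQ_range (u.restrictScalars R)) Q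

attribute [local instance] Algebra.TensorProduct.rightAlgebra in
open IsLocalRing in
/-- an element acting injectively on the closed fibre module acts injectively modulo `𝔪_R`. -/
theorem smul_mem_of_mem_nzdFiber {R S : Type u} [CommRing R] [IsLocalRing R] [CommRing S]
    [Algebra R S] (N : Type u) [AddCommGroup N] [Module S N] [Module R N] [IsScalarTower R S N]
    (s : S) (hs : s ∈ FlatCA.nzdFiber R S N) (x : N)
    (hx : s • x ∈ (maximalIdeal R).map (algebraMap R S) • (⊤ : Submodule S N)) :
    x ∈ (maximalIdeal R).map (algebraMap R S) • (⊤ : Submodule S N) := by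
  rw [mem_map_smul_top_iff] at hx ⊢
  let κ := (maximalIdeal R).ResidueField
  let e : (κ ⊗[R] S) ⊗[S] N ≃ₗ[κ] κ ⊗[R] N :=
    Algebra.IsPushout.cancelBaseChange R κ S (κ ⊗[R] S) N
  let τ : N → (κ ⊗[R] S) ⊗[S] N := fun y => (1 : κ ⊗[R] S) ⊗ₜ[S] y
  have h1 : ∀ y, s • τ y = τ (s • y) := fun y => by
    change s • ((1 : κ ⊗[R] S) ⊗ₜ[S] y) = (1 : κ ⊗[R] S) ⊗ₜ[S] (s • y)
    rw [TensorProduct.tmul_smul]
  have h2 : ∀ y ∈ maximalIdeal R • (⊤ : Submodule R N), τ y = 0 := by
    intro y hy
    apply e.injective
    rw [map_zero]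
    change e ((1 : κ ⊗[R] S) ⊗ₜ[S] y) = 0
    rw [Algebra.IsPushout.cancelBaseChange_tmul]
    refine Submodule.smul_induction_on hy (fun r hr n _ => ?_) (fun a b ha hb => ?_)
    · rw [TensorProduct.tmul_smul, TensorProduct.smul_tmul', Algebra.smul_def, mul_one,
        Ideal.algebraMap_residueField_eq_zero.mpr hr, TensorProduct.zero_tmul]
    · rw [TensorProduct.tmul_add, ha, hb, add_zero]
  have h3 : ∀ y, τ y = 0 → y ∈ maximalIdeal R • (⊤ : Submodule R N) := by
    intro y hy
    have hy' : (1 : κ) ⊗ₜ[R] y = 0 := by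
      have := congrArg e hy
      rwa [map_zero, Algebra.IsPushout.cancelBaseChange_tmul] at this
    apply FlatLimit.mem_smul_top_of_one_tmul_eq_zero (maximalIdeal R)
    let ι : (R ⧸ maximalIdeal R) ≃ₗ[R] κ := LinearEquiv.ofBijective
      (Algebra.linearMap (R ⧸ maximalIdeal R) κ |>.restrictScalars R)
      (Ideal.bijective_algebraMap_quotient_residueField (maximalIdeal R))
    apply (LinearEquiv.rTensor N ι).injective
    rw [map_zero, LinearEquiv.rTensor_tmul]
    change (algebraMap (R ⧸ maximalIdeal R) κ 1) ⊗ₜ[R] y = 0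
    rw [map_one]
    exact hy'
  apply h3
  have hs' := (mem_nonZeroSMulDivisors_iff (M₀ := S) (M := FlatCA.fiberMod (maximalIdeal R) S N)).mp hs
  exact hs' (τ x) (by
    change s • τ x = 0
    rw [h1]; exact h2 _ hx)

end Groth.Agent.H48.PtFlat

namespace Groth.Agent.H48.PtFlat
universe u

open IsLocalRing in
/-- **S1194**: multiplication by elements acting injectively on the closed fibre, and the
localization at all of them, are universally injective over `R`. -/
theorem univInj_smul_and_toLocalization {R S : Type u} [CommRing R] [IsLocalRing R] [CommRing S]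
    [IsLocalRing S] [Algebra R S] [IsLocalHom (algebraMap R S)]
    (S₀ : Type u) [CommRing S₀] [Algebra R S₀] [Algebra S₀ S] [IsScalarTower R S₀ S]
    (W : Submonoid S₀) [Algebra.FinitePresentation R S₀] [IsLocalization W S]
    (N : Type u) [AddCommGroup N] [Module S N] [Module R N] [IsScalarTower R S N]
    [Module.FinitePresentation S N] [Module.Flat R N] :
    (∀ s ∈ FlatCA.nzdFiber R S N,
      FlatCA.UnivInj R ((LinearMap.lsmul S N s).restrictScalars R)) ∧
    FlatCA.UnivInj R
      ((LocalizedModule.mkLinearMap (FlatCA.nzdFiber R S N) N).restrictScalars R) := by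
  have part1 : ∀ s ∈ FlatCA.nzdFiber R S N,
      FlatCA.UnivInj R ((LinearMap.lsmul S N s).restrictScalars R) := by
    intro s hs Q _ _
    exact lTensor_injective_of_local S₀ W (LinearMap.lsmul S N s)
      (fun x hx => smul_mem_of_mem_nzdFiber N s hs x hx) Q
  refine ⟨part1, ?_⟩
  intro Q _ _
  rw [LinearMap.lTensor_inj_iff_rTensor_inj, injective_iff_map_eq_zero]
  intro z hz
  have key : ∀ z : N ⊗[R] Q,
      ((LocalizedModule.mkLinearMap (FlatCA.nzdFiber R S N) N).restrictScalars R).rTensor Q z =
      AlgebraTensorModule.rTensor R Q (LocalizedModule.mkLinearMap (FlatCA.nzdFiber R S N) N) z := by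
    intro z
    induction z using TensorProduct.induction_on with
    | zero => simp
    | tmul m p => rfl
    | add a b ha hb => simp only [map_add, ha, hb]
  rw [key] at hz
  obtain ⟨t, ht⟩ := (IsLocalizedModule.eq_zero_iff (FlatCA.nzdFiber R S N)
    (AlgebraTensorModule.rTensor R Q
      (LocalizedModule.mkLinearMap (FlatCA.nzdFiber R S N) N))).mp hz
  have key2 : ∀ z : N ⊗[R] Q, (t : S) • z =
      ((LinearMap.lsmul S N (t : S)).restrictScalars R).rTensor Q z := by
    intro z
    induction z using TensorProduct.induction_on with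
    | zero => simp
    | tmul m p => rw [TensorProduct.smul_tmul']; rfl
    | add a b ha hb => rw [smul_add, map_add, ha, hb]
  have h1 := part1 t t.2 Q
  rw [LinearMap.lTensor_inj_iff_rTensor_inj] at h1
  apply h1
  rw [map_zero, ← key2]
  exact ht

end Groth.Agent.H48.PtFlat
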