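import Mathlib
import Groth.Agent.H45.NE_MODEL

/-!
# Affine Noetherian models carrying a compact open (piece (MODELU) of helper29's squad for S1370)
-/

set_option autoImplicit false
set_option linter.style.haveILetI false
universe u
open CategoryTheory CategoryTheory.Limits AlgebraicGeometry TopologicalSpace Opposite
open AlgebraicGeometry.Scheme.Modules
open TensorProduct

namespace Groth.Agent.H48.RAU_MODELU

open Groth.Agent.H48.FlatLimit

attribute [local instance] Algebra.TensorProduct.rightAlgebra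

theorem model_data_aux' (R S M : Type u) [CommRing R] [CommRing S] [Algebra R S]
    [AddCommGroup M] [Module S M] {a b : ℕ} (P : Algebra.Presentation R S (Fin a) (Fin b))
    (C : Type u) [CommRing C] [Algebra C R] [Algebra C S] [IsScalarTower C R S] [P.HasCoeffs C]
    [Algebra.FiniteType ℤ C] {n m : ℕ} (f : (Fin n → S) →ₗ[S] M)
    (g : (Fin m → S) →ₗ[S] (Fin n → S)) (hf : Function.Surjective f) (hfg : Function.Exact g f)
    (q : Fin n → Fin m → MvPolynomial (Fin a) C)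
    (hq : ∀ i j, MvPolynomial.aeval P.val (q i j) = LinearMap.toMatrix' g i j)
    {k : ℕ} (bs : Fin k → S) (r : Fin k → MvPolynomial (Fin a) C)
    (hr : ∀ j, MvPolynomial.aeval P.val (r j) = bs j) :
    ∃ (C : Type u) (_ : CommRing C) (_ : Algebra C R) (_ : Algebra.FiniteType ℤ C)
      (S₀ : Type u) (_ : CommRing S₀) (_ : Algebra C S₀) (_ : Algebra S₀ S) (_ : Algebra C S)
      (_ : IsScalarTower C R S) (_ : IsScalarTower C S₀ S) (_ : Algebra.FiniteType C S₀)
      (_ : Algebra.IsPushout C R S₀ S) (M₀ : Type u) (_ : AddCommGroup M₀) (_ : Module S₀ M₀)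
      (_ : Module C M₀) (_ : IsScalarTower C S₀ M₀) (_ : Module S₀ M) (_ : IsScalarTower S₀ S M)
      (_ : Module.Finite S₀ M₀) (h : M₀ →ₗ[S₀] M), IsBaseChange S h ∧
        ∃ t₀ : Fin k → S₀, ∀ j, algebraMap S₀ S (t₀ j) = bs j := by
  classical
  let A₀ : Matrix (Fin n) (Fin m) (P.ModelOfHasCoeffs C) := fun i j => Ideal.Quotient.mk _ (q i j)
  let ψ : P.ModelOfHasCoeffs C →ₐ[C] S :=
    ((P.tensorModelOfHasCoeffsEquiv C).toAlgHom.restrictScalars C).comp
      Algebra.TensorProduct.includeRight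
  letI algS₀S : Algebra (P.ModelOfHasCoeffs C) S := ψ.toRingHom.toAlgebra
  have hψ : ∀ x, algebraMap (P.ModelOfHasCoeffs C) S x = ψ x := fun _ => rfl
  have e1 : ∀ x : C, algebraMap C S x =
      algebraMap (P.ModelOfHasCoeffs C) S (algebraMap C (P.ModelOfHasCoeffs C) x) := by
    intro x
    rw [hψ, AlgHom.commutes]
  haveI t1 : IsScalarTower C (P.ModelOfHasCoeffs C) S := IsScalarTower.of_algebraMap_eq e1
  haveI po : Algebra.IsPushout C R (P.ModelOfHasCoeffs C) S :=
    Algebra.IsPushout.of_equiv (h := (TensorProduct.isPushout :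
      Algebra.IsPushout C R (P.ModelOfHasCoeffs C) (R ⊗[C] P.ModelOfHasCoeffs C)))
      (P.tensorModelOfHasCoeffsEquiv C) (RingHom.ext fun x => rfl)
  have hA : A₀.map (algebraMap (P.ModelOfHasCoeffs C) S) = LinearMap.toMatrix' g := by
    ext i j
    rw [Matrix.map_apply, hψ, ← hq i j]
    simp only [ψ, A₀, AlgHom.comp_apply, Algebra.TensorProduct.includeRight_apply]
    change (P.tensorModelOfHasCoeffsEquiv C) (1 ⊗ₜ (Ideal.Quotient.mk _ (q i j))) = _
    rw [Algebra.Presentation.tensorModelOfHasCoeffsEquiv_tmul, map_one, one_mul]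
  have hT : ∀ j, algebraMap (P.ModelOfHasCoeffs C) S (Ideal.Quotient.mk _ (r j)) = bs j := by
    intro j
    rw [hψ, ← hr j]
    simp only [ψ, AlgHom.comp_apply, Algebra.TensorProduct.includeRight_apply]
    change (P.tensorModelOfHasCoeffsEquiv C) (1 ⊗ₜ (Ideal.Quotient.mk _ (r j))) = _
    rw [Algebra.Presentation.tensorModelOfHasCoeffsEquiv_tmul, map_one, one_mul]
  letI modS₀M : Module (P.ModelOfHasCoeffs C) M :=
    Module.compHom M (algebraMap (P.ModelOfHasCoeffs C) S)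
  haveI t2 : IsScalarTower (P.ModelOfHasCoeffs C) S M := ⟨fun a b m => by
    rw [Algebra.smul_def, mul_smul]; rfl⟩
  exact ⟨C, inferInstance, inferInstance, inferInstance, P.ModelOfHasCoeffs C, inferInstance,
    inferInstance, algS₀S, inferInstance, inferInstance, t1, inferInstance, po, ModelMod A₀,
    inferInstance, inferInstance, inferInstance, inferInstance, modS₀M, t2, inferInstance,
    modelMap f g hfg A₀ hA, isBaseChange_modelMap f g hfg A₀ hA hf,
    fun j => Ideal.Quotient.mk _ (r j), hT⟩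

theorem exists_model_data' (R S M : Type u) [CommRing R] [CommRing S] [Algebra R S]
    [Algebra.FinitePresentation R S] [AddCommGroup M] [Module S M]
    [Module.FinitePresentation S M] {k : ℕ} (bs : Fin k → S) :
    ∃ (C : Type u) (_ : CommRing C) (_ : Algebra C R) (_ : Algebra.FiniteType ℤ C)
      (S₀ : Type u) (_ : CommRing S₀) (_ : Algebra C S₀) (_ : Algebra S₀ S) (_ : Algebra C S)
      (_ : IsScalarTower C R S) (_ : IsScalarTower C S₀ S) (_ : Algebra.FiniteType C S₀)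
      (_ : Algebra.IsPushout C R S₀ S) (M₀ : Type u) (_ : AddCommGroup M₀) (_ : Module S₀ M₀)
      (_ : Module C M₀) (_ : IsScalarTower C S₀ M₀) (_ : Module S₀ M) (_ : IsScalarTower S₀ S M)
      (_ : Module.Finite S₀ M₀) (h : M₀ →ₗ[S₀] M), IsBaseChange S h ∧
        ∃ t₀ : Fin k → S₀, ∀ j, algebraMap S₀ S (t₀ j) = bs j := by
  classical
  let P := Algebra.Presentation.ofFinitePresentation R S
  obtain ⟨n, m, f, g, hf, hfg⟩ := Module.FinitePresentation.exists_fin' S M
  have hsurj : Function.Surjective (algebraMap P.Ring S) := P.algebraMap_surjective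
  choose p hp using fun i j => hsurj (LinearMap.toMatrix' g i j)
  choose pb hpb using fun j => hsurj (bs j)
  let s : Set R := (⋃ i, ⋃ j, ((p i j).coeffs : Set R)) ∪ (⋃ j, ((pb j).coeffs : Set R))
  have hs : s.Finite := Set.Finite.union
    (Set.finite_iUnion fun i => Set.finite_iUnion fun j => Finset.finite_toSet _)
    (Set.finite_iUnion fun j => Finset.finite_toSet _)
  haveI : Algebra.FiniteType P.Core (Algebra.adjoin P.Core s) :=
    Algebra.FiniteType.adjoin_of_finite hs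
  haveI ftC : Algebra.FiniteType ℤ (Algebra.adjoin P.Core s) :=
    Algebra.FiniteType.trans (S := P.Core) inferInstance inferInstance
  have hq : ∀ i j, p i j ∈ Set.range
      (MvPolynomial.map (algebraMap (Algebra.adjoin P.Core s) R)) := by
    intro i j
    rw [MvPolynomial.mem_range_map_iff_coeffs_subset]
    intro x hx
    have hxs : x ∈ s := Or.inl (Set.mem_iUnion.mpr ⟨i, Set.mem_iUnion.mpr ⟨j, hx⟩⟩)
    exact ⟨⟨x, Algebra.subset_adjoin hxs⟩, rfl⟩
  have hqb : ∀ j, pb j ∈ Set.range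
      (MvPolynomial.map (algebraMap (Algebra.adjoin P.Core s) R)) := by
    intro j
    rw [MvPolynomial.mem_range_map_iff_coeffs_subset]
    intro x hx
    have hxs : x ∈ s := Or.inr (Set.mem_iUnion.mpr ⟨j, hx⟩)
    exact ⟨⟨x, Algebra.subset_adjoin hxs⟩, rfl⟩
  choose q hq using hq
  choose qb hqb using hqb
  refine model_data_aux' R S M P (Algebra.adjoin P.Core s) f g hf hfg q ?_ bs qb ?_
  · intro i j
    rw [← hp i j, ← hq i j, Algebra.Generators.algebraMap_apply, MvPolynomial.aeval_map_algebraMap]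
  · intro j
    rw [← hpb j, ← hqb j, Algebra.Generators.algebraMap_apply, MvPolynomial.aeval_map_algebraMap]


open Groth.Agent.H22 Groth.Agent.H8 Groth.Agent.H22.QCohLimits Groth.Agent.H45.NE_MODEL

set_option maxHeartbeats 1000000 in
/-- (MODELU) -/
theorem exists_noetherian_model_affine_open {X S : Scheme.{u}} [IsAffine X] [IsAffine S]
    (f : X ⟶ S) [LocallyOfFinitePresentation f] (F : X.Modules) [F.IsQuasicoherent]
    (hF : CohB1.IsFP F) (U : X.Opens) (hU : IsCompact (U : Set X)) :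
    ∃ (S₀ X₀ : Scheme.{u}) (h : S ⟶ S₀) (f₀ : X₀ ⟶ S₀) (eX : X ⟶ X₀) (F₀ : X₀.Modules)
      (U₀ : X₀.Opens), IsNoetherian S₀ ∧ LocallyOfFiniteType f₀ ∧ QuasiCompact f₀ ∧
        IsPullback eX f f₀ h ∧ Coh.IsCoh F₀ ∧
        Nonempty (F ≅ (Scheme.Modules.pullback eX).obj F₀) ∧ eX ⁻¹ᵁ U₀ = U := by
  classical
  -- the compact open as a finite union of basic opens
  obtain ⟨s, hsfin, hsU⟩ :=
    (isCompact_and_isOpen_iff_finite_and_eq_biUnion_basicOpen (X := X) (U := (U : Set X))).mp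
      ⟨hU, U.isOpen⟩
  obtain ⟨k, bs, -, hbs⟩ := hsfin.fin_param
  have hUeq : U = ⨆ j, X.basicOpen (bs j) := by
    apply Opens.ext
    rw [hsU, ← hbs]
    ext x
    simp only [Set.mem_iUnion, Set.mem_range, SetLike.mem_coe, exists_prop, Opens.coe_iSup]
    constructor
    · rintro ⟨_, ⟨j, rfl⟩, hx⟩
      exact ⟨j, hx⟩
    · rintro ⟨j, hx⟩
      exact ⟨_, ⟨j, rfl⟩, hx⟩
  letI algRA : Algebra Γ(S, ⊤) Γ(X, ⊤) := f.appTop.hom.toAlgebra
  haveI : Algebra.FinitePresentation Γ(S, ⊤) Γ(X, ⊤) := by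
    have h1 : RingHom.FinitePresentation f.appTop.hom :=
      (HasRingHomProperty.iff_of_isAffine (P := @LocallyOfFinitePresentation)).1 inferInstance
    exact h1
  haveI : SheafOfModules.IsFinitePresentation (R := X.ringCatSheaf) F := hF
  haveI : Module.FinitePresentation Γ(X, ⊤) Γ(F, ⊤) :=
    Groth.Agent.H8.finitePresentation_sections_of_isAffineOpen F (isAffineOpen_top X)
  obtain ⟨C, _, _, hCft, B₀, _, _, _, _, _, _, hB₀ft, hpo, M₀, _, _, _, _, _, _, hM₀fin, h,
    hbc, t₀, ht₀⟩ := exists_model_data' Γ(S, ⊤) Γ(X, ⊤) Γ(F, ⊤) bs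
  haveI : IsNoetherianRing C := Algebra.FiniteType.isNoetherianRing ℤ C
  haveI : IsNoetherianRing (CommRingCat.of C) := ‹IsNoetherianRing C›
  let a : CommRingCat.of C ⟶ Γ(S, ⊤) := CommRingCat.ofHom (algebraMap C Γ(S, ⊤))
  let b : CommRingCat.of B₀ ⟶ Γ(X, ⊤) := CommRingCat.ofHom (algebraMap B₀ Γ(X, ⊤))
  let c : CommRingCat.of C ⟶ CommRingCat.of B₀ := CommRingCat.ofHom (algebraMap C B₀)
  haveI : Module.Finite (CommRingCat.of B₀) (ModuleCat.of B₀ M₀) := hM₀fin
  refine ⟨Spec (CommRingCat.of C), Spec (CommRingCat.of B₀), S.isoSpec.hom ≫ Spec.map a,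
    Spec.map c, X.isoSpec.hom ≫ Spec.map b, tilde (ModuleCat.of B₀ M₀),
    ⨆ j, (Spec (CommRingCat.of B₀)).basicOpen
      ((Scheme.ΓSpecIso (CommRingCat.of B₀)).inv.hom (t₀ j)), inferInstance, ?_,
    inferInstance, ?_, isCoh_tilde (CommRingCat.of B₀) (ModuleCat.of B₀ M₀), ?_, ?_⟩
  · -- finite type
    rw [HasRingHomProperty.Spec_iff (P := @LocallyOfFiniteType)]
    exact RingHom.finiteType_algebraMap.2 hB₀ft
  · -- the pullback square
    have hpo' : IsPushout a c (CommRingCat.ofHom (algebraMap Γ(S, ⊤) Γ(X, ⊤))) b :=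
      CommRingCat.isPushout_of_isPushout C Γ(S, ⊤) B₀ Γ(X, ⊤)
    have hpb := isPullback_SpecMap_of_isPushout a c _ b hpo'
    have hnat : Spec.map (CommRingCat.ofHom (algebraMap Γ(S, ⊤) Γ(X, ⊤))) ≫ S.isoSpec.inv =
        X.isoSpec.inv ≫ f := Scheme.isoSpec_inv_naturality f
    refine IsPullback.of_iso hpb.flip X.isoSpec.symm (Iso.refl _) S.isoSpec.symm (Iso.refl _)
      ?_ ?_ ?_ ?_
    · simp
    · exact hnat
    · simp
    · simp
  · -- the module
    have hU' := isAffineOpen_top X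
    have hij : X.isoSpec.hom ≫ hU'.fromSpec = 𝟙 X := by
      rw [IsAffineOpen.fromSpec_top, Iso.hom_inv_id]
    let G : (Spec Γ(X, ⊤)).Modules := F.restrict hU'.fromSpec
    haveI hGq : G.IsQuasicoherent := Scheme.Modules.isQuasicoherent_restrictFunctor hU'.fromSpec F
    let iso : restrictFunctor hU'.fromSpec ⋙ restrictFunctor X.isoSpec.hom ≅ 𝟭 X.Modules :=
      (restrictFunctorComp _ _).symm ≪≫ restrictFunctorCongr hij ≪≫ restrictFunctorId
    let α : (restrictFunctor X.isoSpec.hom).obj G ≅ F := iso.app F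
    let β : (restrictFunctor X.isoSpec.hom).obj G ≅ (Scheme.Modules.pullback X.isoSpec.hom).obj G :=
      (restrictFunctorIsoPullback X.isoSpec.hom).app G
    haveI : IsIso G.fromTildeΓ := Scheme.Modules.isIso_fromTildeΓ_of_isQuasicoherent G
    let γ : tilde ((modulesSpecToSheaf.obj G).presheaf.obj (op ⊤)) ≅ G := asIso G.fromTildeΓ
    let ε₁ : ((modulesSpecToSheaf.obj G).presheaf.obj (op ⊤)) ≅
        ModuleCat.of Γ(X, ⊤) Γ(F, ⊤) :=
      (Groth.Agent.H8.sectionsRestrictEquiv hU' F).toModuleIso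
    let ε₂ : ModuleCat.of Γ(X, ⊤) (TensorProduct B₀ Γ(X, ⊤) M₀) ≅
        ModuleCat.of Γ(X, ⊤) Γ(F, ⊤) := hbc.equiv.toModuleIso
    obtain ⟨ζ⟩ := Groth.Agent.S2265.result B₀ Γ(X, ⊤) M₀
    let κ := (pullbackComp X.isoSpec.hom (Spec.map b)).app (tilde (ModuleCat.of B₀ M₀))
    exact ⟨α.symm ≪≫ β ≪≫ (Scheme.Modules.pullback X.isoSpec.hom).mapIso
      (γ.symm ≪≫ (tilde.functor Γ(X, ⊤)).mapIso (ε₁ ≪≫ ε₂.symm) ≪≫ ζ.symm) ≪≫ κ⟩
  · -- the open
    rw [Scheme.Hom.preimage_iSup, hUeq]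
    congr 1
    funext j
    rw [Scheme.preimage_basicOpen_top]
    congr 1
    have h1 : (X.isoSpec.hom ≫ Spec.map b).appTop =
        (Spec.map b).appTop ≫ X.isoSpec.hom.appTop := Scheme.Hom.comp_appTop _ _
    have h2 : X.isoSpec.hom.appTop = (Scheme.ΓSpecIso Γ(X, ⊤)).hom := by
      rw [Scheme.isoSpec_hom]
      exact Scheme.toSpecΓ_appTop X
    have h3 : (Scheme.ΓSpecIso (CommRingCat.of B₀)).inv ≫ (Spec.map b).appTop ≫
        (Scheme.ΓSpecIso Γ(X, ⊤)).hom = b := by
      rw [Scheme.ΓSpecIso_naturality, Iso.inv_hom_id_assoc]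
    rw [h1, h2, ← ht₀ j]
    exact congrArg (fun φ : CommRingCat.of B₀ ⟶ Γ(X, ⊤) => φ.hom (t₀ j)) h3

end Groth.Agent.H48.RAU_MODELU
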