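import Groth.Prelude.Def_FlatCA
import Mathlib.RingTheory.Ideal.MinimalPrime.Localization
import Mathlib.RingTheory.Localization.Ideal
import Mathlib.RingTheory.Localization.AtPrime.Basic

/-!
Helper lemmas on weakly associated primes (`FlatCA.weakAss`, `FlatCA.ass`).
-/

set_option autoImplicit false
universe u v

namespace Groth.Agent.H48

open Submodule

variable {R : Type u} [CommRing R] {M : Type v} [AddCommGroup M] [Module R M]

theorem ann_ne_top {m : M} (hm : m ≠ 0) : (span R {m}).annihilator ≠ ⊤ := by
  intro htop
  have h1 : (1 : R) ∈ (span R {m}).annihilator := by rw [htop]; trivial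
  rw [mem_annihilator_span_singleton, one_smul] at h1
  exact hm h1

theorem ann_eq_top_iff {m : M} : (span R {m}).annihilator = ⊤ ↔ m = 0 := by
  constructor
  · intro h
    by_contra hm
    exact ann_ne_top hm h
  · rintro rfl
    rw [Ideal.eq_top_iff_one, mem_annihilator_span_singleton, smul_zero]

/-- An element of a prime minimal over `I` has a power multiplied into `I` by an element outside
the prime. -/
theorem exists_mul_pow_mem_of_mem_minimalPrimes {I p : Ideal R} (hp : p ∈ I.minimalPrimes)
    {x : R} (hx : x ∈ p) : ∃ s ∉ p, ∃ n : ℕ, s * x ^ n ∈ I := by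
  haveI : p.IsPrime := hp.1.1
  have hrad := IsLocalization.AtPrime.radical_map_of_mem_minimalPrimes
    (Localization.AtPrime p) p I hp
  have hx' : algebraMap R (Localization.AtPrime p) x ∈
      (I.map (algebraMap R (Localization.AtPrime p))).radical := by
    rw [hrad]; exact Ideal.mem_map_of_mem _ hx
  obtain ⟨n, hn⟩ := hx'
  rw [← map_pow, IsLocalization.algebraMap_mem_map_algebraMap_iff p.primeCompl] at hn
  obtain ⟨s, hs, hsx⟩ := hn
  exact ⟨s, hs, n, hsx⟩

section Loc

variable (S : Submonoid R)

theorem localizedModule_mk_eq_zero_iff (m : M) (s : S) :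
    LocalizedModule.mk m s = 0 ↔ ∃ u : S, (u : R) • m = 0 := by
  rw [← LocalizedModule.zero_mk (1 : S), LocalizedModule.mk_eq]
  constructor
  · rintro ⟨u, hu⟩
    refine ⟨u, ?_⟩
    simpa [Submonoid.smul_def] using hu
  · rintro ⟨u, hu⟩
    refine ⟨u, ?_⟩
    simp [Submonoid.smul_def, hu]

/-- Restricted to `R`, the annihilator of `m/s` in the localized module. -/
theorem mem_ann_mk_iff (m : M) (s : S) (r : R) :
    r ∈ (span R {LocalizedModule.mk m s}).annihilator ↔ ∃ u : S, (u : R) • r • m = 0 := by
  rw [mem_annihilator_span_singleton, LocalizedModule.smul'_mk, localizedModule_mk_eq_zero_iff]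

/-- The annihilator of `m/s` over the localized ring is the extension of the annihilator of `m`. -/
theorem ann_mk (m : M) (s : S) :
    (span (Localization S) {LocalizedModule.mk m s}).annihilator =
      Ideal.map (algebraMap R (Localization S)) (span R {m}).annihilator := by
  ext x
  induction x using Localization.induction_on with | _ y
  obtain ⟨r, t⟩ := y
  rw [mem_annihilator_span_singleton, LocalizedModule.mk_smul_mk,
    localizedModule_mk_eq_zero_iff, Localization.mk_eq_mk',
    IsLocalization.mk'_mem_map_algebraMap_iff S]
  constructor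
  · rintro ⟨u, hu⟩
    refine ⟨u, u.2, ?_⟩
    rw [mem_annihilator_span_singleton, mul_smul]
    exact hu
  · rintro ⟨u, hu, h⟩
    refine ⟨⟨u, hu⟩, ?_⟩
    rw [mem_annihilator_span_singleton, mul_smul] at h
    exact h

/-- The annihilator over `R` of an element of the localized module is the contraction of its
annihilator over the localized ring. -/
theorem ann_restrict_eq_comap (y : LocalizedModule S M) :
    (span R {y}).annihilator =
      Ideal.comap (algebraMap R (Localization S)) (span (Localization S) {y}).annihilator := by
  ext r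
  rw [Ideal.mem_comap, mem_annihilator_span_singleton, mem_annihilator_span_singleton,
    algebraMap_smul]

end Loc

section Transfer

variable {A : Type u} [CommRing A] [Algebra R A] {N : Type v} [AddCommGroup N] [Module A N]
  [Module R N] [IsScalarTower R A N]

theorem ann_eq_comap_of_tower (y : N) :
    (span R {y}).annihilator =
      Ideal.comap (algebraMap R A) (span A {y}).annihilator := by
  ext r
  rw [Ideal.mem_comap, mem_annihilator_span_singleton, mem_annihilator_span_singleton,
    algebraMap_smul]

variable (R A N) in
theorem weakAss_eq_image_comap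
    (h : ∀ J : Ideal A, (J.comap (algebraMap R A)).minimalPrimes =
      Ideal.comap (algebraMap R A) '' J.minimalPrimes) :
    FlatCA.weakAss R N = Ideal.comap (algebraMap R A) '' FlatCA.weakAss A N := by
  ext p
  constructor
  · rintro ⟨m, hp⟩
    rw [ann_eq_comap_of_tower (A := A), h] at hp
    obtain ⟨q, hq, rfl⟩ := hp
    exact ⟨q, ⟨m, hq⟩, rfl⟩
  · rintro ⟨q, ⟨m, hq⟩, rfl⟩
    refine ⟨m, ?_⟩
    rw [ann_eq_comap_of_tower (A := A), h]
    exact ⟨q, hq, rfl⟩

end Transfer

end Groth.Agent.H48
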