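import Mathlib
import Groth.Agent.S0112
import Groth.Agent.S0113

/-!
# Descent of properties along fppf covers of the source

`of_comp_fppf`: if `P` is a morphism property induced by a ring hom property `Q` which descends
along flat finitely presented ring maps that are surjective on spectra, then for `f : X ⟶ Y`
surjective, flat and locally of finite presentation, `P (f ≫ q)` implies `P q`.
-/

open CategoryTheory AlgebraicGeometry

namespace Groth.Agent.H48.FppfSource

universe u

/-- Ring form: finite presentation descends along a flat finitely presented ring map which is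
surjective on spectra. -/
theorem finitePresentation_of_comp {R A B : Type u} [CommRing R] [CommRing A] [CommRing B]
    (α : R →+* A) (β : A →+* B) (hβflat : β.Flat) (hβfp : β.FinitePresentation)
    (hsurj : Function.Surjective (PrimeSpectrum.comap β))
    (hcomp : (β.comp α).FinitePresentation) : α.FinitePresentation := by
  letI := α.toAlgebra
  letI := β.toAlgebra
  letI := (β.comp α).toAlgebra
  haveI : IsScalarTower R A B := .of_algebraMap_eq fun _ => rfl
  haveI : Module.Flat A B := hβflat
  haveI : Algebra.FinitePresentation A B := hβfp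
  haveI : Algebra.FinitePresentation R B := hcomp
  haveI : Module.FaithfullyFlat A B := Module.FaithfullyFlat.of_comap_surjective hsurj
  exact (Groth.Agent.S0112.result (R := R) (A := A) (B := B) : Algebra.FinitePresentation R A)

/-- Ring form: finite type descends along a flat finitely presented ring map which is
surjective on spectra. -/
theorem finiteType_of_comp {R A B : Type u} [CommRing R] [CommRing A] [CommRing B]
    (α : R →+* A) (β : A →+* B) (hβflat : β.Flat) (hβfp : β.FinitePresentation)
    (hsurj : Function.Surjective (PrimeSpectrum.comap β))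
    (hcomp : (β.comp α).FiniteType) : α.FiniteType := by
  letI := α.toAlgebra
  letI := β.toAlgebra
  letI := (β.comp α).toAlgebra
  haveI : IsScalarTower R A B := .of_algebraMap_eq fun _ => rfl
  haveI : Module.Flat A B := hβflat
  haveI : Algebra.FinitePresentation A B := hβfp
  haveI : Algebra.FiniteType R B := hcomp
  haveI : Module.FaithfullyFlat A B := Module.FaithfullyFlat.of_comap_surjective hsurj
  exact (Groth.Agent.S0113.result (R := R) (A := A) (B := B) : Algebra.FiniteType R A)

/-- Descent of a local ring hom property along an fppf cover of the source. -/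
theorem of_comp_fppf {P : MorphismProperty Scheme.{u}}
    {Q : ∀ {R S : Type u} [CommRing R] [CommRing S], (R →+* S) → Prop}
    [HasRingHomProperty P Q] (hQ : RingHom.StableUnderCompositionWithLocalizationAwaySource Q)
    (hdesc : ∀ {R A B : Type u} [CommRing R] [CommRing A] [CommRing B] (α : R →+* A)
      (β : A →+* B), β.Flat → β.FinitePresentation →
      Function.Surjective (PrimeSpectrum.comap β) → Q (β.comp α) → Q α)
    {X Y S : Scheme.{u}} (f : X ⟶ Y) (q : Y ⟶ S) [Surjective f] [Flat f]
    [LocallyOfFinitePresentation f] (h : P (f ≫ q)) : P q := by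
  rw [HasRingHomProperty.iff_exists_appLE (P := P) hQ]
  intro y
  obtain ⟨x, rfl⟩ := f.surjective y
  obtain ⟨U, hU, hqU, -⟩ := TopologicalSpace.Opens.isBasis_iff_nbhd.mp S.isBasis_affineOpens
    (TopologicalSpace.Opens.mem_top (q (f x)))
  obtain ⟨V, hV, hyV, eV⟩ := TopologicalSpace.Opens.isBasis_iff_nbhd.mp Y.isBasis_affineOpens
    (show f x ∈ q ⁻¹ᵁ U from hqU)
  obtain ⟨W, hW, hxW, eW⟩ := TopologicalSpace.Opens.isBasis_iff_nbhd.mp X.isBasis_affineOpens
    (show x ∈ f ⁻¹ᵁ V from hyV)
  let O : Y.Opens := ⟨f '' (W : Set X), f.isOpenMap _ W.2⟩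
  obtain ⟨a, haO, hya⟩ := hV.exists_basicOpen_le (V := O) ⟨f x, x, hxW, rfl⟩ hyV
  have hV' : IsAffineOpen (Y.basicOpen a) := hV.basicOpen a
  have hW' : IsAffineOpen (X.basicOpen (f.appLE V W eW a)) := hW.basicOpen _
  have hW'eq : X.basicOpen (f.appLE V W eW a) = W ⊓ f ⁻¹ᵁ (Y.basicOpen a) :=
    Scheme.basicOpen_appLE f W V eW a
  have eW' : X.basicOpen (f.appLE V W eW a) ≤ f ⁻¹ᵁ (Y.basicOpen a) :=
    hW'eq.le.trans inf_le_right
  have eV' : Y.basicOpen a ≤ q ⁻¹ᵁ U := (Y.basicOpen_le a).trans eV
  refine ⟨⟨U, hU⟩, ⟨Y.basicOpen a, hV'⟩, hya, eV', ?_⟩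
  apply hdesc (q.appLE U (Y.basicOpen a) eV').hom
    (f.appLE (Y.basicOpen a) (X.basicOpen (f.appLE V W eW a)) eW').hom
  · exact f.flat_appLE hV' hW' eW'
  · exact f.finitePresentation_appLE hV' hW' eW'
  · intro 𝔭
    have hy' : hV'.fromSpec 𝔭 ∈ (Y.basicOpen a : Set Y) := by
      rw [← hV'.range_fromSpec]
      exact Set.mem_range_self 𝔭
    obtain ⟨x', hx'W, hx'⟩ := haO hy'
    have hx'W' : x' ∈ (X.basicOpen (f.appLE V W eW a) : Set X) := by
      rw [hW'eq]
      refine ⟨hx'W, ?_⟩
      show f x' ∈ Y.basicOpen a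
      rw [hx']
      exact hy'
    rw [← hW'.range_fromSpec] at hx'W'
    obtain ⟨𝔮, h𝔮⟩ := hx'W'
    refine ⟨𝔮, ?_⟩
    apply hV'.fromSpec.isOpenEmbedding.injective
    have key := IsAffineOpen.SpecMap_appLE_fromSpec f hV' hW' eW'
    rw [← hx', ← h𝔮]
    exact congr($(key) 𝔮)
  · rw [← CommRingCat.hom_comp, Scheme.Hom.appLE_comp_appLE]
    exact HasRingHomProperty.appLE P (f ≫ q) h ⟨U, hU⟩ ⟨_, hW'⟩ _

/-- Local finite type descends along an fppf cover of the source. -/
theorem locallyOfFiniteType_of_comp_fppf {X Y S : Scheme.{u}} (f : X ⟶ Y) (q : Y ⟶ S)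
    [Surjective f] [Flat f] [LocallyOfFinitePresentation f] [LocallyOfFiniteType (f ≫ q)] :
    LocallyOfFiniteType q :=
  of_comp_fppf (P := @LocallyOfFiniteType)
    (RingHom.finiteType_stableUnderComposition.stableUnderCompositionWithLocalizationAway
      RingHom.finiteType_holdsForLocalizationAway).1 finiteType_of_comp f q inferInstance

/-- Local finite presentation descends along an fppf cover of the source. -/
theorem locallyOfFinitePresentation_of_comp_fppf {X Y S : Scheme.{u}} (f : X ⟶ Y) (q : Y ⟶ S)
    [Surjective f] [Flat f] [LocallyOfFinitePresentation f]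
    [LocallyOfFinitePresentation (f ≫ q)] : LocallyOfFinitePresentation q :=
  of_comp_fppf (P := @LocallyOfFinitePresentation)
    (RingHom.finitePresentation_stableUnderComposition.stableUnderCompositionWithLocalizationAway
      RingHom.finitePresentation_holdsForLocalizationAway).1 finitePresentation_of_comp f q
      inferInstance

/-- Quasi-compactness descends along a surjective morphism on the source. -/
theorem quasiCompact_of_comp_surjective {X Y S : Scheme.{u}} (p : X ⟶ Y) (q : Y ⟶ S)
    [Surjective p] [QuasiCompact (p ≫ q)] : QuasiCompact q := by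
  rw [quasiCompact_iff_forall_isAffineOpen]
  intro U hU
  have h := (quasiCompact_iff_forall_isAffineOpen.mp
    (inferInstance : QuasiCompact (p ≫ q))) U hU
  have himg : (q ⁻¹ᵁ U : Set Y) = p '' ((p ≫ q) ⁻¹ᵁ U : Set X) := by
    ext y
    constructor
    · intro hy
      obtain ⟨x, rfl⟩ := p.surjective y
      exact ⟨x, hy, rfl⟩
    · rintro ⟨x, hx, rfl⟩
      exact hx
  rw [himg]
  exact h.image p.continuous

/-- Quasi-separatedness descends along a surjective quasi-compact morphism on the source. -/
theorem quasiSeparated_of_comp_surjective {X Y S : Scheme.{u}} (p : X ⟶ Y) (q : Y ⟶ S)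
    [Surjective p] [QuasiCompact p] [QuasiSeparated (p ≫ q)] : QuasiSeparated q := by
  rw [HasAffineProperty.eq_targetAffineLocally (P := @QuasiSeparated)]
  intro U
  refine (isQuasiSeparated_iff_quasiSeparatedSpace _ (q ⁻¹ᵁ U.1).2).mp ?_
  have hqs : IsQuasiSeparated ((p ≫ q) ⁻¹ᵁ U.1 : Set X) :=
    (p ≫ q).isQuasiSeparated_preimage U.2.isQuasiSeparated
  intro K₁ K₂ hK₁ hK₁o hK₁c hK₂ hK₂o hK₂c
  have h1 : IsCompact (p ⁻¹' K₁) := QuasiCompact.isCompact_preimage (f := p) K₁ hK₁o hK₁c
  have h2 : IsCompact (p ⁻¹' K₂) := QuasiCompact.isCompact_preimage (f := p) K₂ hK₂o hK₂c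
  have h12 := hqs (p ⁻¹' K₁) (p ⁻¹' K₂) (fun x hx => hK₁ hx) (hK₁o.preimage p.continuous) h1
    (fun x hx => hK₂ hx) (hK₂o.preimage p.continuous) h2
  have himg : K₁ ∩ K₂ = p '' (p ⁻¹' K₁ ∩ p ⁻¹' K₂) := by
    rw [← Set.preimage_inter, Set.image_preimage_eq _ p.surjective]
  rw [himg]
  exact h12.image p.continuous

end Groth.Agent.H48.FppfSource
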