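import Mathlib
import Groth.Prelude.Def_DDual2
set_option autoImplicit false
universe w₁ w₂ v₁ v₂ u₁ u₂ u
open CategoryTheory Limits
attribute [local instance] HasDerivedCategory.standard

namespace Groth.Agent.H48.Inv_CORE

/-- (CORE) an `A`-linear shift-commuting autoequivalence `T` of `D(A)` whose quasi-inverse maps
modules to modules and which preserves finiteness of cohomology maps dualizing complexes to
dualizing complexes. -/
theorem CORE (A : Type u) [CommRing A] [IsNoetherianRing A]
    (T T' : Dual.D A ⥤ Dual.D A) [T.CommShift ℤ] [T.Additive] [T.Linear A]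
    (e₁ : T ⋙ T' ≅ 𝟭 (Dual.D A)) (e₂ : T' ⋙ T ≅ 𝟭 (Dual.D A))
    (hsingle : ∀ M : ModuleCat.{u} A, ∃ N : ModuleCat.{u} A,
      Nonempty (T'.obj ((DerivedCategory.singleFunctor (ModuleCat.{u} A) 0).obj M) ≅
        (DerivedCategory.singleFunctor (ModuleCat.{u} A) 0).obj N))
    (hfin : ∀ (K : Dual.D A) (i : ℤ), Module.Finite A (Dual.HD A K i) →
      Module.Finite A (Dual.HD A (T.obj K) i))
    (ω : Dual.D A) (hω : Dual.IsDualizing A ω) : Dual.IsDualizing A (T.obj ω) := by
  haveI hTf : T.Faithful := Functor.Faithful.of_comp_iso e₁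
  haveI hT'f : T'.Faithful := Functor.Faithful.of_comp_iso e₂
  haveI hTfull : T.Full := Functor.Full.of_comp_faithful_iso e₁
  refine ⟨inferInstance, ?_, ?_, ?_, ?_⟩
  · -- finite injective dimension
    obtain ⟨a, b, h⟩ := hω.finite_injective_dimension
    refine ⟨a, b, fun M _ _ i hi => ⟨fun f g => ?_⟩⟩
    obtain ⟨N, ⟨φ⟩⟩ := hsingle (ModuleCat.of A M)
    let c := (T.commShiftIso i).app ω
    rw [← cancel_mono c.inv]
    apply T'.map_injective
    rw [← cancel_epi φ.inv, ← cancel_mono ((e₁.app ((shiftFunctor (Dual.D A) i).obj ω)).hom)]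
    exact (h N i hi).elim _ _
  · intro i
    exact hfin ω i (hω.finite_cohomology i)
  · -- A → End(Tω) bijective
    have hcomp : (fun a : A => a • (𝟙 (T.obj ω))) =
        (fun f : ω ⟶ ω => T.map f) ∘ (fun a : A => a • (𝟙 ω)) := by
      funext a
      show a • 𝟙 (T.obj ω) = T.map (a • 𝟙 ω)
      rw [Functor.map_smul, CategoryTheory.Functor.map_id]
    rw [hcomp]
    refine Function.Bijective.comp ⟨T.map_injective, T.map_surjective⟩ hω.toEnd_bijective
  · intro i hi
    refine ⟨fun f g => ?_⟩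
    let c := (T.commShiftIso i).app ω
    rw [← cancel_mono c.inv]
    obtain ⟨f', hf'⟩ := T.map_surjective (f ≫ c.inv)
    obtain ⟨g', hg'⟩ := T.map_surjective (g ≫ c.inv)
    rw [← hf', ← hg', (hω.ext_self_subsingleton i hi).elim f' g']

end Groth.Agent.H48.Inv_CORE
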