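import Mathlib
import Groth.Prelude.Def_EtRam

/-!
# (P4) for S7155: the generic Artin–Schreier computation (pure field algebra)
-/

set_option autoImplicit false
universe u
open IsLocalRing

namespace Groth.Agent.H48.AS55P4

section

variable {p : ℕ} [hp : Fact p.Prime] {F : Type u} [Field F] [CharP F p]

/-- `x` is, modulo `℘(F)`, of the form `r / ϖ ^ k` with `r ∈ R`. -/
def InT (p : ℕ) (R : Subring F) (ϖ : F) (k : ℕ) (x : F) : Prop :=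
  ∃ w r : F, r ∈ R ∧ x = (w ^ p - w) + r / ϖ ^ k

theorem wp_add (w₁ w₂ : F) :
    (w₁ + w₂) ^ p - (w₁ + w₂) = (w₁ ^ p - w₁) + (w₂ ^ p - w₂) := by
  rw [add_pow_char]; ring

theorem InT.add {R : Subring F} {ϖ : F} {k : ℕ} {x y : F} (hx : InT p R ϖ k x)
    (hy : InT p R ϖ k y) : InT p R ϖ k (x + y) := by
  obtain ⟨w₁, r₁, hr₁, rfl⟩ := hx
  obtain ⟨w₂, r₂, hr₂, rfl⟩ := hy
  refine ⟨w₁ + w₂, r₁ + r₂, R.add_mem hr₁ hr₂, ?_⟩
  rw [wp_add, add_div]; ring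

omit [CharP F p] in
theorem InT.of_div {R : Subring F} {ϖ : F} (hϖR : ϖ ∈ R) (hϖ0 : ϖ ≠ 0) {k j : ℕ} (hkj : k ≤ j)
    {r : F} (hr : r ∈ R) : InT p R ϖ j (r / ϖ ^ k) := by
  refine ⟨0, ϖ ^ (j - k) * r, R.mul_mem (R.pow_mem hϖR _) hr, ?_⟩
  have h0 : (0 : F) ^ p - 0 = 0 := by
    rw [sub_zero]; exact zero_pow hp.out.ne_zero
  rw [h0, zero_add]
  have : ϖ ^ j = ϖ ^ (j - k) * ϖ ^ k := by rw [← pow_add, Nat.sub_add_cancel hkj]
  rw [this]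
  field_simp

theorem InT.mono {R : Subring F} {ϖ : F} (hϖR : ϖ ∈ R) (hϖ0 : ϖ ≠ 0) {k j : ℕ} (hkj : k ≤ j)
    {x : F} (hx : InT p R ϖ k x) : InT p R ϖ j x := by
  obtain ⟨w, r, hr, rfl⟩ := hx
  obtain ⟨w', r', hr', h'⟩ := InT.of_div (p := p) hϖR hϖ0 hkj hr
  refine ⟨w + w', r', hr', ?_⟩
  rw [h', wp_add]; ring

omit [CharP F p] in
theorem InT.of_mem {R : Subring F} {ϖ : F} (hϖR : ϖ ∈ R) (hϖ0 : ϖ ≠ 0) (j : ℕ)
    {r : F} (hr : r ∈ R) : InT p R ϖ j r := by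
  have := InT.of_div (p := p) hϖR hϖ0 (Nat.zero_le j) hr
  simpa using this

omit hp [CharP F p] in
theorem InT.wp {R : Subring F} {ϖ : F} (k : ℕ) (w : F) : InT p R ϖ k (w ^ p - w) :=
  ⟨w, 0, R.zero_mem, by simp⟩

theorem InT.sum {R : Subring F} {ϖ : F} (k : ℕ) {ι : Type*} (S : Finset ι) (f : ι → F)
    (h : ∀ m ∈ S, InT p R ϖ k (f m)) : InT p R ϖ k (∑ m ∈ S, f m) := by
  classical
  induction S using Finset.induction_on with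
  | empty =>
    refine ⟨0, 0, R.zero_mem, ?_⟩
    simp [zero_pow hp.out.ne_zero]
  | insert a s ha ih =>
    rw [Finset.sum_insert ha]
    exact (h a (Finset.mem_insert_self a s)).add
      (ih fun m hm => h m (Finset.mem_insert_of_mem hm))

/-- Frobenius telescoping. -/
theorem frob_tel (t : F) (d : ℕ) : ∃ w : F, t ^ (p ^ d) = (w ^ p - w) + t := by
  induction d with
  | zero => exact ⟨0, by simp [zero_pow hp.out.ne_zero]⟩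
  | succ d ih =>
    obtain ⟨w, hw⟩ := ih
    refine ⟨t ^ (p ^ d) + w, ?_⟩
    rw [wp_add, pow_succ, pow_mul]
    linear_combination hw

/-- the key computation. -/
theorem key {R : Subring F} {πF ϖ β : F} {N n' : ℕ} (hϖ0 : ϖ ≠ 0) (hπFR : πF ∈ R)
    (hβR : β ∈ R) (hϖ : ϖ ^ (p ^ N) = πF + πF ^ n' * β) (hn' : 1 ≤ n')
    (huinv : (1 + πF ^ (n' - 1) * β)⁻¹ ∈ R)
    {x : F} (hx : x ∈ R) {m : ℕ} (hm : m < n') {d : ℕ} (hd : d ≤ N) :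
    ∃ w err : F, err ∈ R ∧
      x ^ (p ^ d) / πF ^ m = (w ^ p - w) + x / ϖ ^ (p ^ (N - d) * m) + err := by
  obtain ⟨u, hu⟩ : ∃ u : F, u = 1 + πF ^ (n' - 1) * β := ⟨_, rfl⟩
  have hϖu : ϖ ^ (p ^ N) = πF * u := by
    rw [hϖ, hu, mul_add, mul_one, ← mul_assoc, ← pow_succ', Nat.sub_add_cancel hn']
  have hπu0 : πF * u ≠ 0 := by
    rw [← hϖu]; exact pow_ne_zero _ hϖ0
  have hπF0 : πF ≠ 0 := left_ne_zero_of_mul hπu0
  have hu0 : u ≠ 0 := right_ne_zero_of_mul hπu0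
  have huR : u ∈ R := by
    rw [hu]; exact R.add_mem R.one_mem (R.mul_mem (R.pow_mem hπFR _) hβR)
  rw [← hu] at huinv
  have hgeom : u ^ m - 1 = πF ^ m * (πF ^ (n' - 1 - m) * β * ∑ j ∈ Finset.range m, u ^ j) := by
    rw [← mul_geom_sum]
    have h1 : u - 1 = πF ^ (n' - 1) * β := by rw [hu]; ring
    have h2 : πF ^ (n' - 1) = πF ^ m * πF ^ (n' - 1 - m) := by
      rw [← pow_add]; congr 1; omega
    rw [h1, h2]; ring
  obtain ⟨e, he⟩ : ∃ e : ℕ, e = p ^ (N - d) * m := ⟨_, rfl⟩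
  have hepd : e * p ^ d = p ^ N * m := by
    rw [he, mul_right_comm, ← pow_add, Nat.sub_add_cancel hd]
  obtain ⟨w, hw⟩ := frob_tel (p := p) (x / ϖ ^ e) d
  refine ⟨w, (πF ^ (n' - 1 - m) * β * ∑ j ∈ Finset.range m, u ^ j) * x ^ (p ^ d) * (u⁻¹) ^ m,
    ?_, ?_⟩
  · exact R.mul_mem (R.mul_mem (R.mul_mem (R.mul_mem (R.pow_mem hπFR _) hβR)
      (R.sum_mem fun j _ => R.pow_mem huR j)) (R.pow_mem hx _)) (R.pow_mem huinv _)
  · rw [← he, ← hw]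
    have h1 : (x / ϖ ^ e) ^ (p ^ d) = x ^ (p ^ d) / (πF * u) ^ m := by
      rw [div_pow, ← pow_mul, hepd, pow_mul, hϖu]
    rw [h1, mul_pow, inv_pow]
    obtain ⟨G, hG⟩ : ∃ G : F, G = πF ^ (n' - 1 - m) * β * ∑ j ∈ Finset.range m, u ^ j :=
      ⟨_, rfl⟩
    rw [← hG] at hgeom ⊢
    have hP0 : πF ^ m ≠ 0 := pow_ne_zero _ hπF0
    have hU0 : u ^ m ≠ 0 := pow_ne_zero _ hu0
    field_simp
    linear_combination (x ^ p ^ d) * hgeom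

/-- iterating the perfectness hypothesis. -/
theorem perf_iter (R₀ : Subring F) (πF : F) (hπF : πF ∈ R₀)
    (hperf : ∀ a ∈ R₀, ∃ a' ∈ R₀, ∃ a'' ∈ R₀, a = a' ^ p + πF * a'') (N : ℕ) :
    ∀ a ∈ R₀, ∃ a' ∈ R₀, ∃ a'' ∈ R₀, a = a' ^ (p ^ N) + πF * a'' := by
  induction N with
  | zero => exact fun a ha => ⟨a, ha, 0, R₀.zero_mem, by simp⟩
  | succ N ih =>
    intro a ha
    obtain ⟨a', ha', a'', ha'', rfl⟩ := ih a ha
    obtain ⟨b', hb', b'', hb'', rfl⟩ := hperf a' ha'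
    refine ⟨b', hb', πF ^ (p ^ N - 1) * b'' ^ (p ^ N) + a'',
      R₀.add_mem (R₀.mul_mem (R₀.pow_mem hπF _) (R₀.pow_mem hb'' _)) ha'', ?_⟩
    have h1 : πF ^ (p ^ N) = πF * πF ^ (p ^ N - 1) := by
      rw [← pow_succ', Nat.sub_add_cancel (Nat.one_le_pow _ _ hp.out.pos)]
    rw [add_pow_char_pow, mul_pow, ← pow_mul, ← pow_succ', h1]
    ring

/-- the `η`-part. -/
theorem eta_part {R₀ R : Subring F} (hR₀ : R₀ ≤ R) {πF ϖ β : F} {N n' : ℕ} (hϖ0 : ϖ ≠ 0)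
    (hπF : πF ∈ R₀) (hϖR : ϖ ∈ R)
    (hβR : β ∈ R) (hϖ : ϖ ^ (p ^ N) = πF + πF ^ n' * β) (hn' : 1 ≤ n')
    (huinv : (1 + πF ^ (n' - 1) * β)⁻¹ ∈ R)
    (hperf : ∀ a ∈ R₀, ∃ a' ∈ R₀, ∃ a'' ∈ R₀, a = a' ^ p + πF * a'') :
    ∀ n : ℕ, n < n' → ∀ a ∈ R₀, InT p R ϖ n (a / πF ^ n) := by
  have hπF0 : πF ≠ 0 := by
    rintro rfl
    rw [zero_pow (by omega : n' ≠ 0), zero_mul, add_zero] at hϖ
    exact hϖ0 (pow_eq_zero_iff (pow_ne_zero _ hp.out.ne_zero) |>.1 hϖ)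
  intro n
  induction n with
  | zero =>
    intro _ a ha
    rw [pow_zero, div_one]
    exact InT.of_mem hϖR hϖ0 0 (hR₀ ha)
  | succ n ih =>
    intro hn a ha
    obtain ⟨a', ha', a'', ha'', rfl⟩ := perf_iter R₀ πF hπF hperf N a ha
    have hsplit : (a' ^ (p ^ N) + πF * a'') / πF ^ (n + 1) =
        a' ^ (p ^ N) / πF ^ (n + 1) + a'' / πF ^ n := by
      rw [add_div, pow_succ']
      congr 1
      field_simp
    rw [hsplit]
    refine InT.add ?_ (InT.mono hϖR hϖ0 (Nat.le_succ n) (ih (by omega) a'' ha''))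
    obtain ⟨w, err, herr, h⟩ := key (p := p) hϖ0 (hR₀ hπF) hβR hϖ hn' huinv (hR₀ ha') hn
      (le_refl N)
    rw [h]
    refine ((InT.wp (n + 1) w).add ?_).add (InT.of_mem hϖR hϖ0 _ herr)
    exact InT.of_div hϖR hϖ0 (by simp) (hR₀ ha')

end

/-- (P4) the generic computation. -/
theorem comp_all (p : ℕ) (hp : p.Prime) (F : Type u) [Field F] [CharP F p] (R R₀ : Subring F) (hR₀ : R₀ ≤ R)
    (πF ϖ β : F) (N n' : ℕ) (hπF0 : πF ≠ 0) (hϖ0 : ϖ ≠ 0) (hπF : πF ∈ R₀) (hϖR : ϖ ∈ R) (hβR : β ∈ R)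
    (hϖ : ϖ ^ (p ^ N) = πF + πF ^ n' * β) (hn' : 1 ≤ n') (huinv : (1 + πF ^ (n' - 1) * β)⁻¹ ∈ R)
    (hperf : ∀ a ∈ R₀, ∃ a' ∈ R₀, ∃ a'' ∈ R₀, a = a' ^ p + πF * a'')
    (b₀ : F) (hb₀ : b₀ ∈ R) (nη : ℕ) (aη : F) (haη : aη ∈ R₀)
    (S : Finset ℕ) (c : ℕ → F) (i : ℕ → ℕ) (hc : ∀ m ∈ S, c m ∈ R)
    (mstar : ℕ) (hmstar : mstar ∈ S) (hpos : ∀ m ∈ S, 0 < m)
    (hmax : ∀ m ∈ S, m ≠ mstar → m * p ^ (i mstar) < mstar * p ^ (i m))
    (hN : ∀ m ∈ S, i m < N) (hNη : nη < p ^ (N - i mstar)) (hn'S : ∀ m ∈ S, m < n') (hn'η : nη < n') :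
    ∃ (w r : F), r ∈ R ∧
      b₀ + aη / πF ^ nη + ∑ m ∈ S, c m ^ (p ^ i m) / πF ^ m =
        (w ^ p - w) + (c mstar + ϖ * r) / ϖ ^ (p ^ (N - i mstar) * mstar) := by
  classical
  haveI : Fact p.Prime := ⟨hp⟩
  obtain ⟨E, hE⟩ : ∃ E : ℕ, E = p ^ (N - i mstar) * mstar := ⟨_, rfl⟩
  have hppos : ∀ k : ℕ, 0 < p ^ k := fun k => pow_pos hp.pos k
  have hEpos : p ^ (N - i mstar) ≤ E := by
    rw [hE]; exact Nat.le_mul_of_pos_right _ (hpos mstar hmstar)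
  have hE1 : 1 ≤ E := le_trans (hppos _) hEpos
  -- (1)
  have h1 : InT p R ϖ (E - 1) b₀ := InT.of_mem hϖR hϖ0 _ hb₀
  -- (2)
  have h2 : InT p R ϖ (E - 1) (aη / πF ^ nη) :=
    InT.mono hϖR hϖ0 (by omega)
      (eta_part hR₀ hϖ0 hπF hϖR hβR hϖ hn' huinv hperf nη hn'η aη haη)
  -- (3)
  have h3 : ∀ m ∈ S.erase mstar, InT p R ϖ (E - 1) (c m ^ (p ^ i m) / πF ^ m) := by
    intro m hm
    obtain ⟨hne, hmS⟩ := Finset.mem_erase.1 hm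
    obtain ⟨w, err, herr, h⟩ := key (p := p) hϖ0 (hR₀ hπF) hβR hϖ hn' huinv (hc m hmS)
      (hn'S m hmS) (hN m hmS).le
    rw [h]
    refine ((InT.wp _ w).add ?_).add (InT.of_mem hϖR hϖ0 _ herr)
    refine InT.of_div hϖR hϖ0 ?_ (hc m hmS)
    -- e_m < E
    have hlt := hmax m hmS hne
    have hNm := hN m hmS
    have hNs := hN mstar hmstar
    have key1 : p ^ (N - i m) * m * (p ^ (i m) * p ^ (i mstar)) <
        E * (p ^ (i m) * p ^ (i mstar)) := by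
      have e1 : p ^ (N - i m) * m * (p ^ (i m) * p ^ (i mstar)) =
          p ^ N * (m * p ^ (i mstar)) := by
        have : p ^ N = p ^ (N - i m) * p ^ (i m) := by
          rw [← pow_add, Nat.sub_add_cancel hNm.le]
        rw [this]; ring
      have e2 : E * (p ^ (i m) * p ^ (i mstar)) = p ^ N * (mstar * p ^ (i m)) := by
        have : p ^ N = p ^ (N - i mstar) * p ^ (i mstar) := by
          rw [← pow_add, Nat.sub_add_cancel hNs.le]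
        rw [hE, this]; ring
      rw [e1, e2]
      exact Nat.mul_lt_mul_of_pos_left hlt (hppos N)
    have := lt_of_mul_lt_mul_right key1 (Nat.zero_le _)
    omega
  -- (4)
  obtain ⟨w₀, err₀, herr₀, h4⟩ := key (p := p) hϖ0 (hR₀ hπF) hβR hϖ hn' huinv
    (hc mstar hmstar) (hn'S mstar hmstar) (hN mstar hmstar).le
  rw [← hE] at h4 ⊢
  have hrest : InT p R ϖ (E - 1)
      (b₀ + aη / πF ^ nη + ((w₀ ^ p - w₀) + err₀) +
        ∑ m ∈ S.erase mstar, c m ^ (p ^ i m) / πF ^ m) :=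
    ((h1.add h2).add ((InT.wp _ w₀).add (InT.of_mem hϖR hϖ0 _ herr₀))).add
      (InT.sum _ _ _ h3)
  obtain ⟨w, r, hr, hwr⟩ := hrest
  refine ⟨w, r, hr, ?_⟩
  rw [← Finset.add_sum_erase S _ hmstar, h4]
  have hϖE : ϖ ^ E = ϖ ^ (E - 1) * ϖ := by
    rw [← pow_succ, Nat.sub_add_cancel hE1]
  have hsplit : (c mstar + ϖ * r) / ϖ ^ E = c mstar / ϖ ^ E + r / ϖ ^ (E - 1) := by
    rw [add_div, hϖE]
    congr 1
    have : ϖ ^ (E - 1) ≠ 0 := pow_ne_zero _ hϖ0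
    field_simp
  rw [hsplit]
  linear_combination hwr

end Groth.Agent.H48.AS55P4
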