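import Mathlib
import Groth.Prelude.Def_EtRam
import Groth.Agent.H10.ValDVR
import Groth.Agent.H78.ValExt
import Groth.Agent.S7132

/-!
# (P5) for S7155: in type (C), `ϖ` is a uniformizer of `W`
-/

set_option autoImplicit false
set_option maxHeartbeats 1000000
set_option linter.style.haveILetI false
set_option linter.unusedSectionVars false
set_option linter.unusedVariables false
universe u
open IsLocalRing Polynomial

namespace Groth.Agent.H48.AS55P5

/-- (P5) type (C): `ϖ` is a uniformizer of `W`. -/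
theorem uniformizer_of_typeC (p : ℕ) (hp : p.Prime) (B L M' : Type u) [CommRing B] [IsDomain B]
    [IsDiscreteValuationRing B] [Field L] [Algebra B L] [IsFractionRing B L] [CharP L p] [Field M']
    [Algebra L M'] [Algebra B M'] [IsScalarTower B L M'] [FiniteDimensional L M']
    (N : ℕ) (hfr : Module.finrank L M' ≤ p * p ^ N)
    (πB : B) (hπB : maximalIdeal B = Ideal.span {πB})
    (W : ValuationSubring M') (hW : EtRam.Dominates B (algebraMap B M') W)
    (ϖ u : M') (hu : W.valuation u = 1) (hϖ : ϖ ^ (p ^ N) = algebraMap B M' πB * u)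
    (cstar : B) (hc : ∀ y : B, residue B cstar ≠ residue B y ^ p)
    (ζ r : M') (hr : r ∈ W) (m₁ : ℕ) (hm₁ : 0 < m₁)
    (hζ : ζ ^ p - ζ = (algebraMap B M' cstar + ϖ * r) / ϖ ^ (p * m₁)) :
    ∀ x : M', W.valuation x < 1 → ∃ w ∈ W, x = ϖ * w := by
  classical
  haveI : Fact p.Prime := ⟨hp⟩
  haveI hdvrW : IsDiscreteValuationRing W :=
    Groth.Agent.H10.ValDVR.isDVR_of_dominates_finite B L M' W hW
  letI algBW : Algebra B W := (RingHom.codRestrict (algebraMap B M') W hW.1).toAlgebra
  haveI : IsScalarTower B W M' := IsScalarTower.of_algebraMap_eq (fun _ => rfl)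
  have hinjBM' : Function.Injective (algebraMap B M') := by
    rw [IsScalarTower.algebraMap_eq B L M']
    exact (algebraMap L M').injective.comp (IsFractionRing.injective B L)
  have hinjBW : Function.Injective (algebraMap B W) := fun a b hab =>
    hinjBM' (congrArg Subtype.val hab)
  haveI : IsLocalHom (algebraMap B W) := by
    constructor
    intro c hc'
    by_contra hcu
    have h1 := hW.2 c ((mem_maximalIdeal c).mpr hcu)
    have h2 : W.valuation ((algebraMap B W c : W) : M') = 1 :=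
      (ValuationSubring.valuation_eq_one_iff W _).mp hc'
    exact absurd h2 (ne_of_lt h1)
  obtain ⟨hfinres, hef⟩ := Groth.Agent.S7132.result B W L M' hinjBW
  set v := W.valuation with hv
  set q := p ^ N with hq
  have hqpos : 0 < q := pow_pos hp.pos N
  -- πB
  have hπB0 : πB ≠ 0 := by
    rintro rfl
    have : maximalIdeal B = ⊥ := by rw [hπB]; exact Ideal.span_singleton_eq_bot.2 rfl
    exact IsDiscreteValuationRing.not_a_field B this
  have hπBmem : πB ∈ maximalIdeal B := by rw [hπB]; exact Ideal.mem_span_singleton_self _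
  set π' : M' := algebraMap B M' πB with hπ'
  have hπ'0 : π' ≠ 0 := fun h => hπB0 (hinjBM' (by rw [← hπ', h, map_zero]))
  have hvπ : v π' < 1 := hW.2 πB hπBmem
  have hu0 : u ≠ 0 := by
    intro h; rw [h, map_zero] at hu; exact zero_ne_one hu
  have hϖ0 : ϖ ≠ 0 := by
    intro h
    rw [h, zero_pow hqpos.ne'] at hϖ
    exact mul_ne_zero hπ'0 hu0 hϖ.symm
  have hvϖq : v ϖ ^ q = v π' := by
    rw [← map_pow, hϖ, map_mul, hu, mul_one]
  have hvϖ : v ϖ < 1 := by
    by_contra hge
    push Not at hge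
    have : 1 ≤ v ϖ ^ q := one_le_pow₀ hge
    rw [hvϖq] at this
    exact absurd hvπ (not_lt.mpr this)
  have hϖW : ϖ ∈ W := (W.valuation_le_one_iff _).mp hvϖ.le
  have hBW : ∀ c : B, algebraMap B M' c ∈ W := hW.1
  -- the element y
  have hp2 : 2 ≤ p := hp.two_le
  set y : M' := ϖ ^ m₁ * ζ with hy
  have hkey : y ^ p = ϖ ^ (m₁ * (p - 1)) * y + (algebraMap B M' cstar + ϖ * r) := by
    have hpow : ϖ ^ (p * m₁) ≠ 0 := pow_ne_zero _ hϖ0
    have h1 : ϖ ^ (p * m₁) * (ζ ^ p - ζ) = algebraMap B M' cstar + ϖ * r := by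
      rw [hζ]; field_simp
    have h2 : ϖ ^ (p * m₁) = ϖ ^ (m₁ * (p - 1)) * ϖ ^ m₁ := by
      rw [← pow_add]; congr 1
      have : p = (p - 1) + 1 := by omega
      calc p * m₁ = ((p - 1) + 1) * m₁ := by rw [← this]
        _ = m₁ * (p - 1) + m₁ := by ring
    have h3 : y ^ p = ϖ ^ (p * m₁) * ζ ^ p := by
      rw [hy, mul_pow, ← pow_mul, mul_comm m₁ p]
    rw [h3, ← h1, hy, h2]; ring
  have hcrW : algebraMap B M' cstar + ϖ * r ∈ W := add_mem (hBW _) (mul_mem hϖW hr)
  have hyW : y ∈ W := by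
    rw [← W.valuation_le_one_iff]
    by_contra hgt
    push Not at hgt
    have h1 : v (y ^ p) ≤ max (v (ϖ ^ (m₁ * (p - 1)) * y)) (v (algebraMap B M' cstar + ϖ * r)) := by
      rw [hkey]; exact v.map_add _ _
    have h2 : v (ϖ ^ (m₁ * (p - 1)) * y) ≤ v y := by
      rw [map_mul, map_pow]
      calc v ϖ ^ (m₁ * (p - 1)) * v y ≤ 1 * v y :=
            mul_le_mul_left (pow_le_one₀ zero_le hvϖ.le) _
        _ = v y := one_mul _
    have h3 : v (algebraMap B M' cstar + ϖ * r) ≤ v y :=
      ((W.valuation_le_one_iff _).mpr hcrW).trans hgt.le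
    have h4 : v (y ^ p) ≤ v y := h1.trans (max_le h2 h3)
    rw [map_pow] at h4
    have h5 : v y < v y ^ p := by
      have : p = (p - 1) + 1 := by omega
      rw [this, pow_succ]
      have h6 : 1 < v y ^ (p - 1) := one_lt_pow₀ hgt (by omega)
      calc v y = 1 * v y := (one_mul _).symm
        _ < v y ^ (p - 1) * v y := by
          exact mul_lt_mul_of_pos_right h6 (lt_trans zero_lt_one hgt)
    exact absurd h5 (not_lt.mpr h4)
  -- residues
  set yW : W := ⟨y, hyW⟩ with hyW'
  set ϖW : W := ⟨ϖ, hϖW⟩ with hϖW'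
  set rW : W := ⟨r, hr⟩ with hrW'
  have hidW : yW ^ p = ϖW ^ (m₁ * (p - 1)) * yW + (algebraMap B W cstar + ϖW * rW) := by
    apply Subtype.ext
    exact hkey
  have hϖWmem : ϖW ∈ maximalIdeal W := (ValuationSubring.valuation_lt_one_iff W _).mpr hvϖ
  have hresϖ : residue W ϖW = 0 := (residue_eq_zero_iff _).mpr hϖWmem
  have hexp : m₁ * (p - 1) ≠ 0 := Nat.mul_ne_zero hm₁.ne' (by omega)
  have hresy : (residue W yW) ^ p =
      algebraMap (ResidueField B) (ResidueField W) (residue B cstar) := by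
    have := congrArg (residue W) hidW
    rw [map_pow, map_add, map_mul, map_pow, hresϖ, zero_pow hexp, zero_mul, zero_add, map_add,
      map_mul, hresϖ, zero_mul, add_zero] at this
    rw [this]
    rfl
  have hbres : ∀ z : ResidueField B, z ^ p ≠ residue B cstar := by
    intro z hz
    obtain ⟨c, rfl⟩ := residue_surjective z
    exact hc c hz.symm
  have hirr : Irreducible (X ^ p - Polynomial.C (residue B cstar) : (ResidueField B)[X]) :=
    X_pow_sub_C_irreducible_of_prime hp hbres
  have hmin : minpoly (ResidueField B) (residue W yW) =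
      X ^ p - Polynomial.C (residue B cstar) := by
    symm
    refine minpoly.eq_of_irreducible_of_monic hirr ?_ (monic_X_pow_sub_C _ hp.ne_zero)
    rw [map_sub, map_pow, aeval_X, aeval_C, hresy, sub_self]
  have hpf : p ≤ Module.finrank (ResidueField B) (ResidueField W) := by
    have h3 : (minpoly (ResidueField B) (residue W yW)).natDegree ≤
        Module.finrank (ResidueField B) (ResidueField W) := minpoly.natDegree_le (residue W yW)
    rw [hmin, natDegree_X_pow_sub_C] at h3
    exact h3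
  -- ramification index
  obtain ⟨t, ht⟩ := IsDiscreteValuationRing.exists_irreducible W
  have hϖW0 : ϖW ≠ 0 := fun h => hϖ0 (congrArg Subtype.val h)
  obtain ⟨j, uj, huj⟩ := IsDiscreteValuationRing.eq_unit_mul_pow_irreducible hϖW0 ht
  have huW : u ∈ W := (W.valuation_le_one_iff _).mp hu.le
  have huWunit : IsUnit (⟨u, huW⟩ : W) := (ValuationSubring.valuation_eq_one_iff W _).mpr hu
  obtain ⟨uW, huW'⟩ := huWunit
  have hπW : algebraMap B W πB * (uW : W) = ϖW ^ q := by
    apply Subtype.ext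
    rw [huW']
    exact hϖ.symm
  have hπW2 : algebraMap B W πB = ((uj ^ q * uW⁻¹ : Wˣ) : W) * t ^ (j * q) := by
    have h1 : algebraMap B W πB = ϖW ^ q * ((uW⁻¹ : Wˣ) : W) := by
      rw [← hπW, mul_assoc, Units.mul_inv, mul_one]
    rw [h1, huj, mul_pow, ← pow_mul, Units.val_mul, Units.val_pow_eq_pow_val]
    ring
  have he := Groth.Agent.H78.ValExt.ram_eq (R := B) (S := W) πB hπB t ht.maximalIdeal_eq
    ht.ne_zero (uj ^ q * uW⁻¹) (j * q) hπW2
  rw [he] at hef
  have hj1 : j = 1 := by
    have hj0 : j ≠ 0 := by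
      rintro rfl
      rw [pow_zero, mul_one] at huj
      have : IsUnit ϖW := by rw [huj]; exact uj.isUnit
      exact ((mem_maximalIdeal _).mp hϖWmem) this
    have h1 : j * q * p ≤ p * q :=
      (Nat.mul_le_mul_left _ hpf).trans (hef.trans hfr)
    have h2 : j * (p * q) ≤ 1 * (p * q) := by
      calc j * (p * q) = j * q * p := by ring
        _ ≤ p * q := h1
        _ = 1 * (p * q) := (one_mul _).symm
    have h3 := Nat.le_of_mul_le_mul_right h2 (Nat.mul_pos hp.pos hqpos)
    omega
  rw [hj1, pow_one] at huj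
  -- conclude
  intro x hx
  have hxW : x ∈ W := (W.valuation_le_one_iff x).mp hx.le
  have hxmem : (⟨x, hxW⟩ : W) ∈ maximalIdeal W :=
    (ValuationSubring.valuation_lt_one_iff W _).mpr hx
  rw [ht.maximalIdeal_eq, Ideal.mem_span_singleton] at hxmem
  obtain ⟨w, hw⟩ := hxmem
  have ht' : t = ((uj⁻¹ : Wˣ) : W) * ϖW := by
    rw [huj, ← mul_assoc, Units.inv_mul, one_mul]
  refine ⟨(((uj⁻¹ : Wˣ) : W) * w : W), (((uj⁻¹ : Wˣ) : W) * w).2, ?_⟩
  have := congrArg Subtype.val hw
  rw [ht'] at this
  simp only [MulMemClass.coe_mul] at this ⊢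
  rw [this]; ring

end Groth.Agent.H48.AS55P5
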