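import Mathlib
import Groth.Agent.S0820
import Groth.Agent.S0012
import Groth.Agent.S0019
import Groth.Agent.S9523
import Groth.Agent.H22.SerreH1
import Groth.Agent.H45.AffineVanishing
import Groth.Agent.H82.HHAction
import Groth.Agent.H8.DevMain2
import Groth.Agent.S9522
import Groth.Agent.S0027
import Groth.Agent.H22.Chev_SUPP

/-!
# Chevalley's theorem (helper48): a Noetherian scheme receiving a finite surjective morphism from
an affine scheme is affine.  Assembly following Stacks 01YQ.
-/

set_option autoImplicit false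
set_option linter.style.haveILetI false
universe u
open CategoryTheory CategoryTheory.Limits AlgebraicGeometry TopologicalSpace

namespace Groth.Agent.H48.Chev

open Groth.Agent.H82.HHA (abMap)

/-- The property `H¹(X, F) = 0`. -/
def P (X : Scheme.{u}) (F : X.Modules) : Prop := Subsingleton (Coh.HH X F 1)

variable {X : Scheme.{u}}

theorem P_of_retract {K K' : X.Modules} (s : K ⟶ K') (r : K' ⟶ K) (hsr : s ≫ r = 𝟙 K)
    (h : P X K') : P X K := by
  have hinj : Function.Injective (Sheaf.H.map (abMap s) 1) := by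
    intro x y hxy
    have key : ∀ z : Coh.HH X K 1, Sheaf.H.map (abMap r) 1 (Sheaf.H.map (abMap s) 1 z) = z := by
      intro z
      rw [← Sheaf.H.map_comp_apply]
      have : abMap s ≫ abMap r = 𝟙 _ := by
        have h1 : (Groth.Agent.H22.SerreH1.toAbF X).map (s ≫ r) =
            (Groth.Agent.H22.SerreH1.toAbF X).map (𝟙 K) := congrArg _ hsr
        rw [Functor.map_comp, CategoryTheory.Functor.map_id] at h1
        exact h1
      rw [this, Sheaf.H.map_id_apply]
    rw [← key x, ← key y, hxy]
  haveI : Subsingleton (Coh.HH X K' 1) := h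
  exact hinj.subsingleton

theorem P_of_iso {M N : X.Modules} (e : Nonempty (M ≅ N)) (h : P X M) : P X N := by
  obtain ⟨e⟩ := e
  exact P_of_retract e.inv e.hom e.inv_hom_id h

theorem P_of_isZero {M : X.Modules} (h : IsZero M) : P X M := by
  have h0 : IsZero ((Groth.Agent.H22.SerreH1.toAbF X).obj M) :=
    Functor.map_isZero (Groth.Agent.H22.SerreH1.toAbF X) h
  exact Groth.Agent.H22.SerreH1.ext_subsingleton_of_isZero h0 _ 1

theorem P_ext (S : ShortComplex X.Modules) (hS : S.ShortExact) (h1 : P X S.X₁) (h3 : P X S.X₃) :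
    P X S.X₂ :=
  Groth.Agent.H22.SerreH1.subsingleton_H1_of_shortExact S hS h1 h3

theorem P_coprod (F : X.Modules) (r : ℕ) (hr : 1 ≤ r) (h : P X (∐ fun _ : Fin r => F)) : P X F := by
  refine P_of_retract (Sigma.ι (fun _ : Fin r => F) ⟨0, hr⟩) (Sigma.desc (fun _ => 𝟙 F)) ?_ h
  simp

theorem P_push {Y : Scheme.{u}} (f : Y ⟶ X) [IsAffineHom f] [IsAffine Y] (H : Y.Modules)
    [H.IsQuasicoherent] : P X ((Coh.push f).obj H) := by
  obtain ⟨e⟩ := Groth.Agent.S0012.result f H 1
  haveI : Subsingleton (Coh.HH Y H 1) := Groth.Agent.H45.AffineVanishing.subsingleton_HH H 0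
  exact e.symm.injective.subsingleton

/-- `I ^ 1 = I` for ideal sheaves. -/
theorem stalk_iso (J : X.IdealSheafData) (G : X.Modules) [G.IsQuasicoherent] (ξ : X)
    (hξ : ξ ∉ (J.support : Set X)) :
    IsIso ((TopCat.Presheaf.stalkFunctor _ ξ).map (Dual3.idealMulι J G).mapPresheaf) := by
  have h1 : J ^ 1 = J := pow_one J
  have hb := Groth.Agent.H8.Dev.stalkMap_idealMulι_bijective J 1 G ξ hξ
  rw [h1] at hb
  exact (ConcreteCategory.isIso_iff_bijective _).mpr hb

section Main

variable {Y : Scheme.{u}} (f : Y ⟶ X) [IsFinite f] [Surjective f] [IsAffine Y] [IsNoetherian X]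

include f in
/-- `P` for direct images of quasi-coherent ideals of integral closed subschemes. -/
theorem P_push_ideal (T : Closeds X) :
    ∀ (Z : Scheme.{u}) (i : Z ⟶ X), IsClosedImmersion i → IsIntegral Z → Set.range ⇑i = (T : Set X) →
      ∀ (I : Z.Modules) (ι : I ⟶ Coh.structureModule Z), Mono ι → Coh.IsQCoh I →
        P X ((Coh.push i).obj I) := by
  induction T using WellFoundedLT.induction with
  | ind T IH =>
  intro Z i hi hZ hrange I ι hι hI
  haveI := hi
  haveI := hZ
  haveI := hι
  haveI : I.IsQuasicoherent := hI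
  haveI : IsLocallyNoetherian Z := LocallyOfFiniteType.isLocallyNoetherian i
  -- coherence
  have hIcoh : Coh.IsCoh I := by
    refine ⟨hI, ?_⟩
    apply Groth.Agent.H8.isFiniteType_of_forall_affine_finite
    intro U
    haveI : IsNoetherianRing Γ(Z, (U : Z.Opens)) := IsLocallyNoetherian.component_noetherian U
    haveI : Module.Finite Γ(Z, (U : Z.Opens)) Γ(Coh.structureModule Z, (U : Z.Opens)) :=
      Groth.Agent.H8.finite_sections_of_isCoh _ (Groth.Agent.H8.isCoh_structureModule Z) U.2
    haveI : IsNoetherian Γ(Z, (U : Z.Opens)) Γ(Coh.structureModule Z, (U : Z.Opens)) :=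
      isNoetherian_of_isNoetherianRing_of_finite _ _
    exact Module.Finite.of_injective (Groth.Agent.H8.appₗ ι (U : Z.Opens))
      (Groth.Agent.H8.appₗ_injective_of_mono ι (U : Z.Opens))
  have hpushcoh : Coh.IsCoh ((Coh.push i).obj I) := Groth.Agent.S0019.result i I hIcoh
  -- generic point
  set ξ : X := i (genericPoint Z) with hξdef
  have hξT : ξ ∈ (T : Set X) := by rw [← hrange]; exact ⟨_, rfl⟩
  have hcl : closure {ξ} = (T : Set X) := by
    have h1 : closure {genericPoint Z} = (Set.univ : Set Z) := (genericPoint_spec Z).def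
    have h2 : closure (i '' {genericPoint Z}) = i '' closure {genericPoint Z} :=
      (i.isClosedEmbedding.closure_image_eq _)
    rw [Set.image_singleton] at h2
    rw [hξdef, h2, h1, Set.image_univ, hrange]
  have hirr : IsIrreducible (T : Set X) := by
    rw [← hcl]
    exact isIrreducible_singleton.closure
  -- apply the dévissage lemma
  refine Groth.Agent.S9522.result X (T : Set X) T.2 hirr ξ ⟨hξT, hcl⟩ (P X)
    (fun M N e h => P_of_iso e h) (fun M h => P_of_isZero h)
    (fun S hS _ _ _ h1 h3 => P_ext S hS h1 h3)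
    (fun F r _ hr h => P_coprod F r hr h) ?_ ?_ ((Coh.push i).obj I) hpushcoh ?_
  · -- h₃ : smaller integral closed subschemes
    intro Z' i' hi' hZ' hsub hne I' ι' hι' hI'
    haveI := hi'
    have hcl' : IsClosed (Set.range ⇑i') := i'.isClosedEmbedding.isClosed_range
    refine IH ⟨Set.range ⇑i', hcl'⟩ ?_ Z' i' hi' hZ' rfl I' ι' hι' hI'
    exact lt_of_le_of_ne hsub (fun h => hne (congrArg (fun C : Closeds X => (C : Set X)) h))
  · -- h₄
    obtain ⟨FY, hFY, hsuppFY, hkill⟩ := Groth.Agent.S0820.result f Z i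
    haveI : FY.IsQuasicoherent := hFY.1
    have hGcoh : Coh.IsCoh ((Coh.push f).obj FY) := Groth.Agent.S0019.result f FY hFY
    haveI : ((Coh.push f).obj FY).IsQuasicoherent := hGcoh.1
    refine ⟨(Coh.push f).obj FY, hGcoh, hsuppFY.trans hrange, hkill, ?_⟩
    intro J hJ
    haveI hq : ((Dual3.idealMul J).obj ((Coh.push f).obj FY)).IsQuasicoherent :=
      Groth.Agent.H36.IdealMul.isQuasicoherent_idealMul J _
    refine ⟨(Dual3.idealMul J).obj ((Coh.push f).obj FY), 𝟙 _, inferInstance, hq, ?_, ?_⟩
    · rw [Category.id_comp]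
      exact stalk_iso J _ ξ hJ
    · obtain ⟨e, -⟩ := Groth.Agent.S9523.result f FY hFY.1 J
      haveI : ((Dual3.idealMul (J.comap f)).obj FY).IsQuasicoherent :=
        Groth.Agent.H36.IdealMul.isQuasicoherent_idealMul (J.comap f) FY
      exact P_of_iso ⟨e.symm⟩ (P_push f _)
  · -- support
    rw [← hrange]
    exact Groth.Agent.H22.ChevSUPP.support_push_subset_range i I

include f in
theorem P_coh [Nonempty X] (F : X.Modules) (hF : Coh.IsCoh F) : P X F := by
  refine Groth.Agent.S0027.result X (P X) (fun M N e h => P_of_iso e h)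
    (fun S hS _ _ _ h1 h3 => P_ext S hS h1 h3) ?_ F hF
  intro Z i hi hZ I ι hι hI
  haveI := hi
  exact P_push_ideal f ⟨Set.range ⇑i, i.isClosedEmbedding.isClosed_range⟩ Z i hi hZ rfl I ι hι hI

include f in
theorem main : IsAffine X := by
  by_cases hne : Nonempty X
  · haveI := hne
    haveI : IsLocallyNoetherian X := inferInstance
    apply Groth.Agent.H22.SerreH1.isAffine_of_QI
    intro J i hi hJ
    haveI := hi
    haveI : J.IsQuasicoherent := hJ
    have hJcoh : Coh.IsCoh J := by
      refine ⟨hJ, ?_⟩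
      apply Groth.Agent.H8.isFiniteType_of_forall_affine_finite
      intro U
      haveI : IsNoetherianRing Γ(X, (U : X.Opens)) := IsLocallyNoetherian.component_noetherian U
      haveI : Module.Finite Γ(X, (U : X.Opens)) Γ(Coh.structureModule X, (U : X.Opens)) :=
        Groth.Agent.H8.finite_sections_of_isCoh _ (Groth.Agent.H8.isCoh_structureModule X) U.2
      haveI : IsNoetherian Γ(X, (U : X.Opens)) Γ(Coh.structureModule X, (U : X.Opens)) :=
        isNoetherian_of_isNoetherianRing_of_finite _ _
      exact Module.Finite.of_injective (Groth.Agent.H8.appₗ i (U : X.Opens))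
        (Groth.Agent.H8.appₗ_injective_of_mono i (U : X.Opens))
    exact P_coh f J hJcoh
  · haveI : IsEmpty X := not_nonempty_iff.mp hne
    infer_instance

end Main

end Groth.Agent.H48.Chev
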