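import Mathlib
import Groth.Agent.Lead.AdicExt
import Groth.Agent.Lead.CompleteNoetherian
import Groth.Agent.H48.AdicExact
import Groth.Agent.H48.StalkLocal2

/-!
# Unramified / étale local homomorphisms and completions

For a local homomorphism `A → B` of Noetherian local rings and a compatible map `Â → B̂` of the
completions: `A → B` is unramified (resp. étale) as a homomorphism of local rings iff `Â → B̂` is an
unramified (resp. étale) ring map; in the étale case `B̂` is finite free over `Â`.
-/

set_option autoImplicit false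
universe u

namespace Groth.Agent.H48

open IsLocalRing

section Complete

variable {R S : Type u} [CommRing R] [CommRing S] [IsLocalRing R] [IsLocalRing S] [Algebra R S]
  [IsLocalHom (algebraMap R S)]

/-- Lift a basis of the residue field extension. -/
theorem exists_lift_basis [Module.Finite (ResidueField R) (ResidueField S)]
    (hm : (maximalIdeal R).map (algebraMap R S) = maximalIdeal S) :
    ∃ (n : ℕ) (d : Fin n → S), 0 < n ∧
      Function.Surjective
        ((maximalIdeal R • ⊤ : Submodule R S).mkQ ∘ₗ Fintype.linearCombination R d) ∧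
      ∀ c : Fin n → R, Fintype.linearCombination R d c ∈ (maximalIdeal R • ⊤ : Submodule R S) →
        ∀ i, c i ∈ maximalIdeal R := by
  classical
  let b := Module.finBasis (ResidueField R) (ResidueField S)
  have hpos : 0 < Module.finrank (ResidueField R) (ResidueField S) := Module.finrank_pos
  choose d hd using fun i => residue_surjective (b i)
  have hres : ∀ c : Fin (Module.finrank (ResidueField R) (ResidueField S)) → R,
      residue S (Fintype.linearCombination R d c) = ∑ i, residue R (c i) • b i := by
    intro c
    rw [Fintype.linearCombination_apply, map_sum]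
    refine Finset.sum_congr rfl fun i _ => ?_
    rw [Algebra.smul_def, map_mul, hd i, Algebra.smul_def]
    rfl
  have hmem : ∀ y : S, y ∈ (maximalIdeal R • ⊤ : Submodule R S) ↔ residue S y = 0 := by
    intro y
    rw [Ideal.smul_top_eq_map, hm, Submodule.restrictScalars_mem, residue_eq_zero_iff]
  refine ⟨_, d, hpos, ?_, ?_⟩
  · intro y
    obtain ⟨x, rfl⟩ := Submodule.mkQ_surjective _ y
    choose c hc using fun i => residue_surjective (b.repr (residue S x) i)
    refine ⟨c, ?_⟩
    rw [LinearMap.comp_apply, Submodule.mkQ_apply, Submodule.mkQ_apply, Submodule.Quotient.eq,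
      hmem, map_sub, hres, sub_eq_zero]
    simp_rw [hc]
    exact b.sum_repr _
  · intro c hc i
    rw [hmem, hres] at hc
    have := Fintype.linearIndependent_iff.mp b.linearIndependent _ hc i
    exact (residue_eq_zero_iff _).mp this

/-- Complete Nakayama: lifted generators generate. -/
theorem surjective_linearCombination_of_complete [IsAdicComplete (maximalIdeal R) R]
    [IsAdicComplete (maximalIdeal S) S]
    (hm : (maximalIdeal R).map (algebraMap R S) = maximalIdeal S) {n : ℕ} (d : Fin n → S)
    (hs : Function.Surjective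
      ((maximalIdeal R • ⊤ : Submodule R S).mkQ ∘ₗ Fintype.linearCombination R d)) :
    Function.Surjective (Fintype.linearCombination R d) := by
  haveI hH : IsHausdorff (maximalIdeal R) S := by
    have h1 : IsHausdorff ((maximalIdeal R).map (algebraMap R S)) S := by
      rw [hm]; infer_instance
    exact IsHausdorff.map_algebraMap_iff.mp h1
  haveI : IsPrecomplete (maximalIdeal R) (Fin n → R) := Lead.AdicExt.isPrecomplete_pi _ n
  exact surjective_of_mkQ_comp_surjective hs

end Complete

/-- Freeness criterion: a surjection `R^n → M` which is injective modulo the maximal ideal has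
trivial kernel, provided `M` is flat over a base `A` whose (ideal) extension is the maximal
ideal of `R`. -/
theorem ker_eq_bot_of_flat_base {A R M : Type u} [CommRing A] [CommRing R] [Algebra A R]
    [IsLocalRing R] [IsNoetherianRing R]
    [AddCommGroup M] [Module A M] [Module R M] [IsScalarTower A R M] [Module.Flat A M]
    (𝔞 : Ideal A) (hm : 𝔞.map (algebraMap A R) = maximalIdeal R)
    {n : ℕ} (f : (Fin n → R) →ₗ[R] M) (hf : Function.Surjective f)
    (hli : ∀ c : Fin n → R, f c ∈ (maximalIdeal R • ⊤ : Submodule R M) →
      ∀ i, c i ∈ maximalIdeal R) :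
    LinearMap.ker f = ⊥ := by
  classical
  apply Submodule.eq_bot_of_le_smul_of_le_jacobson_bot (maximalIdeal R) (LinearMap.ker f)
    (IsNoetherian.noetherian _) ?_ (IsLocalRing.maximalIdeal_le_jacobson _)
  intro x hx
  have hx0 : f x = 0 := hx
  have hxi : ∀ i, x i ∈ maximalIdeal R := hli x (by rw [hx0]; exact zero_mem _)
  have hxm : x ∈ (maximalIdeal R • ⊤ : Submodule R (Fin n → R)) := by
    rw [pi_eq_sum_univ x]
    exact Submodule.sum_mem _ fun i _ => Submodule.smul_mem_smul (hxi i) Submodule.mem_top
  -- pass to `A`-modules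
  let KA : Submodule A (Fin n → R) := (LinearMap.ker f).restrictScalars A
  let i : KA →ₗ[A] (Fin n → R) := KA.subtype
  let g : (Fin n → R) →ₗ[A] M := f.restrictScalars A
  have hig : Function.Exact i g := by
    intro y
    constructor
    · intro hy
      exact ⟨⟨y, hy⟩, rfl⟩
    · rintro ⟨z, rfl⟩
      exact z.2
  have hxA : i ⟨x, hx⟩ ∈ (𝔞 • ⊤ : Submodule A (Fin n → R)) := by
    have h1 := Ideal.smul_restrictScalars (R := A) (S := R) 𝔞 (⊤ : Submodule R (Fin n → R))
    rw [hm, Submodule.restrictScalars_top] at h1
    rw [← h1]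
    exact hxm
  have hkey := mem_smul_top_of_flat (R := A) i g KA.subtype_injective hf hig 𝔞 ⟨x, hx⟩ hxA
  -- transfer back
  have : ∀ y : KA, y ∈ (𝔞 • ⊤ : Submodule A KA) →
      (y : Fin n → R) ∈ maximalIdeal R • LinearMap.ker f := by
    intro y hy
    refine Submodule.smul_induction_on hy ?_ ?_
    · intro a ha k _
      have : ((a • k : KA) : Fin n → R) = algebraMap A R a • (k : Fin n → R) := by
        rw [algebraMap_smul]; rfl
      rw [this]
      refine Submodule.smul_mem_smul ?_ k.2
      rw [← hm]
      exact Ideal.mem_map_of_mem _ ha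
    · intro y z hy hz
      exact Submodule.add_mem _ hy hz
  exact this ⟨x, hx⟩ hkey

section Completion

variable (A B : Type u) [CommRing A] [CommRing B] [IsLocalRing A] [IsLocalRing B]
  [IsNoetherianRing A] [IsNoetherianRing B] [Algebra A B] [IsLocalHom (algebraMap A B)]

local notation "Cpl[" R "]" => AdicCompletion (IsLocalRing.maximalIdeal R) R

theorem isLocalHom_completion (ψ : Cpl[A] →+* Cpl[B])
    (hψ : ψ.comp (algebraMap A Cpl[A]) = (algebraMap B Cpl[B]).comp (algebraMap A B)) :
    IsLocalHom ψ := by
  apply ((IsLocalRing.local_hom_TFAE ψ).out 0 2 rfl rfl).mpr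
  rw [AdicCompletion.maximalIdeal_eq_map (R := A), Ideal.map_map, hψ, ← Ideal.map_map,
    AdicCompletion.maximalIdeal_eq_map (R := B)]
  exact Ideal.map_mono (IsLocalRing.map_maximalIdeal_le (algebraMap A B))

theorem map_maximalIdeal_completion (ψ : Cpl[A] →+* Cpl[B])
    (hψ : ψ.comp (algebraMap A Cpl[A]) = (algebraMap B Cpl[B]).comp (algebraMap A B)) :
    (maximalIdeal Cpl[A]).map ψ =
      ((maximalIdeal A).map (algebraMap A B)).map (algebraMap B Cpl[B]) := by
  rw [AdicCompletion.maximalIdeal_eq_map (R := A), Ideal.map_map, hψ, ← Ideal.map_map]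

instance : IsNoetherianRing Cpl[A] :=
  Lead.isNoetherianRing_adicCompletion (maximalIdeal A) (maximalIdeal A).fg_of_isNoetherianRing

variable [Algebra Cpl[A] Cpl[B]] [IsLocalHom (algebraMap Cpl[A] Cpl[B])]
  (hψ : (algebraMap Cpl[A] Cpl[B]).comp (algebraMap A Cpl[A]) = (algebraMap B Cpl[B]).comp (algebraMap A B))

include hψ in
theorem residue_compat :
    (algebraMap (ResidueField Cpl[A]) (ResidueField Cpl[B])).comp
        (ResidueField.map (algebraMap A Cpl[A])) =
      (ResidueField.map (algebraMap B Cpl[B])).comp
        (algebraMap (ResidueField A) (ResidueField B)) := by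
  ext x
  obtain ⟨x, rfl⟩ := residue_surjective x
  show residue Cpl[B] ((algebraMap Cpl[A] Cpl[B]) (algebraMap A Cpl[A] x)) =
    residue Cpl[B] (algebraMap B Cpl[B] (algebraMap A B x))
  exact congrArg _ (RingHom.congr_fun hψ x)

include hψ in
theorem residue_finite_iff :
    Module.Finite (ResidueField A) (ResidueField B) ↔
      Module.Finite (ResidueField Cpl[A]) (ResidueField Cpl[B]) := by
  let eA : ResidueField A ≃+* ResidueField Cpl[A] :=
    RingEquiv.ofBijective _ (AdicCompletion.residueField_map_bijective A)
  let eB : ResidueField B ≃+* ResidueField Cpl[B] :=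
    RingEquiv.ofBijective _ (AdicCompletion.residueField_map_bijective B)
  have he : (algebraMap (ResidueField Cpl[A]) (ResidueField Cpl[B])).comp (eA : _ →+* _) =
      (eB : _ →+* _).comp (algebraMap (ResidueField A) (ResidueField B)) :=
    residue_compat A B hψ
  have he' : (algebraMap (ResidueField A) (ResidueField B)).comp (eA.symm : _ →+* _) =
      (eB.symm : _ →+* _).comp (algebraMap (ResidueField Cpl[A]) (ResidueField Cpl[B])) := by
    ext x
    apply eB.injective
    have := RingHom.congr_fun he (eA.symm x)
    simpa using this.symm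
  exact ⟨fun _ => Module.Finite.of_equiv_equiv eA eB he,
    fun _ => Module.Finite.of_equiv_equiv eA.symm eB.symm he'⟩

include hψ in
theorem residue_separable_iff :
    Algebra.IsSeparable (ResidueField A) (ResidueField B) ↔
      Algebra.IsSeparable (ResidueField Cpl[A]) (ResidueField Cpl[B]) := by
  let eA : ResidueField A ≃+* ResidueField Cpl[A] :=
    RingEquiv.ofBijective _ (AdicCompletion.residueField_map_bijective A)
  let eB : ResidueField B ≃+* ResidueField Cpl[B] :=
    RingEquiv.ofBijective _ (AdicCompletion.residueField_map_bijective B)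
  have he : (algebraMap (ResidueField Cpl[A]) (ResidueField Cpl[B])).comp (eA : _ →+* _) =
      (eB : _ →+* _).comp (algebraMap (ResidueField A) (ResidueField B)) :=
    residue_compat A B hψ
  exact Algebra.IsSeparable.iff_of_equiv_equiv eA eB he

include hψ in
theorem map_maximalIdeal_completion' :
    (maximalIdeal Cpl[A]).map (algebraMap Cpl[A] Cpl[B]) =
      ((maximalIdeal A).map (algebraMap A B)).map (algebraMap B Cpl[B]) :=
  map_maximalIdeal_completion A B (algebraMap Cpl[A] Cpl[B]) hψ

include hψ in
/-- `m_A B = m_B` iff `m_Â B̂ = m_B̂`. -/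
theorem map_maximalIdeal_iff :
    (maximalIdeal A).map (algebraMap A B) = maximalIdeal B ↔
      (maximalIdeal Cpl[A]).map (algebraMap Cpl[A] Cpl[B]) = maximalIdeal Cpl[B] := by
  rw [map_maximalIdeal_completion' A B hψ, AdicCompletion.maximalIdeal_eq_map (R := B)]
  constructor
  · intro h; rw [h]
  · intro h
    haveI : Module.FaithfullyFlat B Cpl[B] := Module.FaithfullyFlat.of_flat_of_isLocalHom
    have := congrArg (Ideal.comap (algebraMap B Cpl[B])) h
    rwa [Ideal.comap_map_eq_self_of_faithfullyFlat,
      Ideal.comap_map_eq_self_of_faithfullyFlat] at this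

include hψ in
/-- If `A → B` is unramified as a local homomorphism, then `B̂` is finite over `Â`. -/
theorem finite_completion_of_unramified
    (h1 : (maximalIdeal A).map (algebraMap A B) = maximalIdeal B)
    (h2 : Module.Finite (ResidueField A) (ResidueField B)) :
    Module.Finite Cpl[A] Cpl[B] := by
  have hm := (map_maximalIdeal_iff A B hψ).mp h1
  haveI := (residue_finite_iff A B hψ).mp h2
  obtain ⟨n, d, -, hs, -⟩ := exists_lift_basis (R := Cpl[A]) (S := Cpl[B]) hm
  exact Module.Finite.of_surjective _ (surjective_linearCombination_of_complete hm d hs)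

include hψ in
theorem completion_unramified_iff :
    ((maximalIdeal A).map (algebraMap A B) = maximalIdeal B ∧
        Module.Finite (ResidueField A) (ResidueField B) ∧
        Algebra.IsSeparable (ResidueField A) (ResidueField B)) ↔
      (Algebra.FiniteType Cpl[A] Cpl[B] ∧ Algebra.FormallyUnramified Cpl[A] Cpl[B]) := by
  constructor
  · rintro ⟨h1, h2, h3⟩
    have hm := (map_maximalIdeal_iff A B hψ).mp h1
    haveI := (residue_separable_iff A B hψ).mp h3
    haveI : Module.Finite Cpl[A] Cpl[B] := finite_completion_of_unramified A B hψ h1 h2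
    haveI : Algebra.FiniteType Cpl[A] Cpl[B] := inferInstance
    haveI : Algebra.EssFiniteType Cpl[A] Cpl[B] := inferInstance
    exact ⟨inferInstance, Algebra.FormallyUnramified.of_map_maximalIdeal hm⟩
  · rintro ⟨hft, hfu⟩
    haveI : Algebra.EssFiniteType Cpl[A] Cpl[B] := inferInstance
    have hm : (maximalIdeal Cpl[A]).map (algebraMap Cpl[A] Cpl[B]) = maximalIdeal Cpl[B] :=
      Algebra.FormallyUnramified.map_maximalIdeal
    exact ⟨(map_maximalIdeal_iff A B hψ).mpr hm,
      (residue_finite_iff A B hψ).mpr inferInstance,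
      (residue_separable_iff A B hψ).mpr inferInstance⟩

include hψ in
theorem isScalarTower_completion : IsScalarTower A Cpl[A] Cpl[B] :=
  IsScalarTower.of_algebraMap_eq fun x => (RingHom.congr_fun hψ x).symm

include hψ in
/-- If `A → B` is étale as a local homomorphism, `B̂` is free of finite positive rank over `Â`. -/
theorem free_completion_of_etale [Module.Flat A B]
    (h1 : (maximalIdeal A).map (algebraMap A B) = maximalIdeal B)
    (h2 : Module.Finite (ResidueField A) (ResidueField B)) :
    ∃ n : ℕ, 0 < n ∧ Nonempty ((Fin n → Cpl[A]) ≃ₗ[Cpl[A]] Cpl[B]) := by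
  have hm := (map_maximalIdeal_iff A B hψ).mp h1
  haveI := (residue_finite_iff A B hψ).mp h2
  obtain ⟨n, d, hn, hs, hli⟩ := exists_lift_basis (R := Cpl[A]) (S := Cpl[B]) hm
  have hsurj := surjective_linearCombination_of_complete hm d hs
  haveI : IsScalarTower A B Cpl[B] := IsScalarTower.of_algebraMap_eq fun x => rfl
  haveI : IsScalarTower A Cpl[A] Cpl[B] := isScalarTower_completion A B hψ
  haveI : Module.Flat A Cpl[B] := Module.Flat.trans A B Cpl[B]
  have hker := ker_eq_bot_of_flat_base (A := A) (R := Cpl[A]) (M := Cpl[B]) (maximalIdeal A)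
    (AdicCompletion.maximalIdeal_eq_map (R := A)).symm (Fintype.linearCombination Cpl[A] d) hsurj hli
  exact ⟨n, hn, ⟨LinearEquiv.ofBijective _ ⟨LinearMap.ker_eq_bot.mp hker, hsurj⟩⟩⟩

include hψ in
theorem completion_etale_iff :
    (Module.Flat A B ∧ (maximalIdeal A).map (algebraMap A B) = maximalIdeal B ∧
        Module.Finite (ResidueField A) (ResidueField B) ∧
        Algebra.IsSeparable (ResidueField A) (ResidueField B)) ↔ Algebra.Etale Cpl[A] Cpl[B] := by
  constructor
  · rintro ⟨hflat, h1, h2, h3⟩
    obtain ⟨hft, hfu⟩ := (completion_unramified_iff A B hψ).mp ⟨h1, h2, h3⟩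
    obtain ⟨n, -, ⟨e⟩⟩ := free_completion_of_etale A B hψ h1 h2
    haveI : Module.Free Cpl[A] Cpl[B] := Module.Free.of_equiv e
    haveI : Module.Finite Cpl[A] Cpl[B] := Module.Finite.equiv e
    haveI : Module.FinitePresentation Cpl[A] Cpl[B] := Module.finitePresentation_of_projective Cpl[A] Cpl[B]
    haveI : Algebra.FinitePresentation Cpl[A] Cpl[B] := inferInstance
    haveI : Algebra.EssFiniteType Cpl[A] Cpl[B] := inferInstance
    haveI : Algebra.FormallyEtale (ResidueField Cpl[A]) (TensorProduct Cpl[A] (ResidueField Cpl[A]) Cpl[B]) :=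
      .of_formallyUnramified_of_field _ _
    haveI : IsLocalization (⊥ : Submonoid Cpl[B]) Cpl[B] := IsLocalization.self bot_le
    haveI : Algebra.FormallySmooth Cpl[A] Cpl[B] :=
      Algebra.FormallySmooth.of_formallySmooth_residueField_tensor
        (R := Cpl[A]) (S := Cpl[B]) (P := Cpl[B]) (⊥ : Submonoid Cpl[B])
    haveI : Algebra.FormallyEtale Cpl[A] Cpl[B] :=
      Algebra.FormallyEtale.iff_formallyUnramified_and_formallySmooth.mpr ⟨hfu, inferInstance⟩
    exact {}
  · intro het
    haveI : Algebra.FormallyUnramified Cpl[A] Cpl[B] := inferInstance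
    haveI : Algebra.FiniteType Cpl[A] Cpl[B] := inferInstance
    obtain ⟨h1, h2, h3⟩ := (completion_unramified_iff A B hψ).mpr ⟨inferInstance, inferInstance⟩
    refine ⟨?_, h1, h2, h3⟩
    haveI : Module.Flat Cpl[A] Cpl[B] := inferInstance
    haveI : IsScalarTower A B Cpl[B] := IsScalarTower.of_algebraMap_eq fun x => rfl
    haveI : IsScalarTower A Cpl[A] Cpl[B] := isScalarTower_completion A B hψ
    haveI : Module.Flat A Cpl[B] := Module.Flat.trans A Cpl[A] Cpl[B]
    haveI : Module.FaithfullyFlat B Cpl[B] := Module.FaithfullyFlat.of_flat_of_isLocalHom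
    exact flat_of_flat_comp_faithfullyFlat A B Cpl[B]

end Completion

end Groth.Agent.H48
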