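import Mathlib
import Groth.Agent.H54.IntegralDim

/-!
# (FDL) fibre dimension bound from a quasi-finite map from a polynomial ring (S1430)
-/

set_option autoImplicit false
universe u

open TensorProduct Polynomial

namespace Groth.Agent.H48.FDS

/-- (QC) a quasi-finite algebra has dimension at most that of the base. -/
theorem ringKrullDim_le_of_quasiFinite' {A B : Type*} [CommRing A] [CommRing B] [Algebra A B]
    [Algebra.QuasiFinite A B] : ringKrullDim B ≤ ringKrullDim A := by
  refine Order.krullDim_le_of_strictMono (PrimeSpectrum.comap (algebraMap A B)) ?_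
  intro P Q hPQ
  have hle : P.asIdeal ≤ Q.asIdeal := le_of_lt hPQ
  have hne : P.asIdeal ≠ Q.asIdeal := fun h => (ne_of_lt hPQ) (PrimeSpectrum.ext h)
  refine lt_of_le_of_ne (Ideal.comap_mono hle) ?_
  intro h
  apply hne
  apply Algebra.QuasiFinite.eq_of_le_of_under_eq (R := A) P.asIdeal Q.asIdeal hle
  exact congrArg PrimeSpectrum.asIdeal h

theorem fiber_dim_le_aux {A S : Type u} [CommRing A] [CommRing S] [Algebra A S] {m : ℕ}
    [Algebra (MvPolynomial (Fin m) A) S] [IsScalarTower A (MvPolynomial (Fin m) A) S]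
    [Algebra.QuasiFinite (MvPolynomial (Fin m) A) S]
    (P : Ideal A) [P.IsPrime] : ringKrullDim (P.Fiber S) ≤ m := by
  have hqf : Algebra.QuasiFinite (MvPolynomial (Fin m) A ⊗[A] P.ResidueField)
      ((MvPolynomial (Fin m) A ⊗[A] P.ResidueField) ⊗[MvPolynomial (Fin m) A] S) :=
    Algebra.QuasiFinite.baseChange
  have h1 : ringKrullDim ((MvPolynomial (Fin m) A ⊗[A] P.ResidueField) ⊗[MvPolynomial (Fin m) A] S) ≤
      ringKrullDim (MvPolynomial (Fin m) A ⊗[A] P.ResidueField) :=
    @ringKrullDim_le_of_quasiFinite' _ _ _ _ _ hqf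
  have h2 : ringKrullDim (MvPolynomial (Fin m) A ⊗[A] P.ResidueField) = m := by
    rw [ringKrullDim_eq_of_ringEquiv
      ((Algebra.TensorProduct.comm A (MvPolynomial (Fin m) A) P.ResidueField).toRingEquiv.trans
        (MvPolynomial.algebraTensorAlgEquiv A P.ResidueField).toRingEquiv)]
    exact Groth.Agent.H54.ringKrullDim_mvPolynomial_field _ m
  have h3 : ringKrullDim (P.Fiber S) =
      ringKrullDim ((MvPolynomial (Fin m) A ⊗[A] P.ResidueField) ⊗[MvPolynomial (Fin m) A] S) := by
    refine ringKrullDim_eq_of_ringEquiv ?_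
    refine (Algebra.TensorProduct.comm A P.ResidueField S).toRingEquiv.trans ?_
    refine (Algebra.TensorProduct.cancelBaseChange A (MvPolynomial (Fin m) A)
      (MvPolynomial (Fin m) A) S P.ResidueField).symm.toRingEquiv.trans ?_
    exact (Algebra.TensorProduct.comm (MvPolynomial (Fin m) A) S
      (MvPolynomial (Fin m) A ⊗[A] P.ResidueField)).toRingEquiv
  rw [h3]
  exact h1.trans h2.le

/-- (FDL) -/
theorem fiber_dim_le_of_quasiFinite {A S : Type u} [CommRing A] [CommRing S] [Algebra A S] {m : ℕ}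
    (φ : MvPolynomial (Fin m) A →ₐ[A] S) (hφ : φ.toRingHom.QuasiFinite)
    (P : Ideal A) [P.IsPrime] : ringKrullDim (P.Fiber S) ≤ m := by
  letI : Algebra (MvPolynomial (Fin m) A) S := φ.toRingHom.toAlgebra
  haveI : IsScalarTower A (MvPolynomial (Fin m) A) S :=
    IsScalarTower.of_algebraMap_eq (fun r => (φ.commutes r).symm)
  haveI : Algebra.QuasiFinite (MvPolynomial (Fin m) A) S := hφ
  exact fiber_dim_le_aux P

end Groth.Agent.H48.FDS
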