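import Mathlib
import Groth.Agent.H75.WRNN_CD

/-!
# (QG) fibrewise quasi-finite `x ↦ c` implies quasi-finite (S1430)
-/

set_option autoImplicit false
universe u

open TensorProduct Polynomial

namespace Groth.Agent.H48.FDS

variable {R S : Type u} [CommRing R] [CommRing S] [Algebra R S]

/-- clearing denominators for one-variable polynomials over a residue field. -/
theorem exists_map_eq_C_mul_poly (p : Ideal R) [p.IsPrime] (g : p.ResidueField[X]) :
    ∃ r : R, r ∉ p ∧ ∃ a : R[X],
      Polynomial.map (algebraMap R p.ResidueField) a = C (algebraMap R p.ResidueField r) * g := by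
  induction g using Polynomial.induction_on' with
  | add g₁ g₂ h₁ h₂ =>
    obtain ⟨r₁, hr₁, a₁, ha₁⟩ := h₁
    obtain ⟨r₂, hr₂, a₂, ha₂⟩ := h₂
    refine ⟨r₁ * r₂, fun h => (Ideal.IsPrime.mem_or_mem inferInstance h).elim hr₁ hr₂,
      C r₂ * a₁ + C r₁ * a₂, ?_⟩
    rw [Polynomial.map_add, Polynomial.map_mul, Polynomial.map_mul, Polynomial.map_C,
      Polynomial.map_C, ha₁, ha₂, map_mul, C_mul]
    ring
  | monomial n c =>
    obtain ⟨r, hr, a, ha⟩ := Groth.Agent.H75.WRNN_CD.exists_mul_eq p c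
    refine ⟨r, hr, monomial n a, ?_⟩
    rw [Polynomial.map_monomial, ha, ← C_mul_monomial]

/-- `Spec κ(p)[X] → Spec R[X]` is injective. -/
theorem comap_map_injective (p : Ideal R) [p.IsPrime] (P₁ P₂ : Ideal p.ResidueField[X])
    [P₁.IsPrime] [P₂.IsPrime]
    (h : P₁.comap (Polynomial.mapRingHom (algebraMap R p.ResidueField)) =
      P₂.comap (Polynomial.mapRingHom (algebraMap R p.ResidueField))) : P₁ = P₂ := by
  have key : ∀ (P₁ P₂ : Ideal p.ResidueField[X]) [P₁.IsPrime] [P₂.IsPrime],
      P₁.comap (Polynomial.mapRingHom (algebraMap R p.ResidueField)) =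
      P₂.comap (Polynomial.mapRingHom (algebraMap R p.ResidueField)) → P₁ ≤ P₂ := by
    intro P₁ P₂ _ _ h g hg
    obtain ⟨r, hr, a, ha⟩ := exists_map_eq_C_mul_poly p g
    have hne : algebraMap R p.ResidueField r ≠ 0 := by
      rw [Ne, Ideal.algebraMap_residueField_eq_zero]
      exact hr
    have h1 : a ∈ P₁.comap (Polynomial.mapRingHom (algebraMap R p.ResidueField)) := by
      rw [Ideal.mem_comap, Polynomial.coe_mapRingHom, ha]
      exact P₁.mul_mem_left _ hg
    rw [h, Ideal.mem_comap, Polynomial.coe_mapRingHom, ha] at h1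
    rcases Ideal.IsPrime.mem_or_mem inferInstance h1 with h2 | h2
    · exfalso
      have hu : IsUnit (C (algebraMap R p.ResidueField r) : p.ResidueField[X]) :=
        Polynomial.isUnit_C.mpr (isUnit_iff_ne_zero.mpr hne)
      exact Ideal.IsPrime.ne_top inferInstance (Ideal.eq_top_of_isUnit_mem _ h2 hu)
    · exact h2
  exact le_antisymm (key P₁ P₂ h) (key P₂ P₁ h.symm)

/-- compatibility of the fibre evaluation with `R[X] → S`. -/
theorem aeval_fiber_comp (c : S) (p : Ideal R) [p.IsPrime] :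
    (Polynomial.aeval (R := p.ResidueField)
      ((1 : p.ResidueField) ⊗ₜ[R] c : p.Fiber S)).toRingHom.comp
        (Polynomial.mapRingHom (algebraMap R p.ResidueField)) =
    (Algebra.TensorProduct.includeRight : S →ₐ[R] p.Fiber S).toRingHom.comp
      (Polynomial.aeval (R := R) c).toRingHom := by
  apply Polynomial.ringHom_ext
  · intro r
    simp only [AlgHom.toRingHom_eq_coe, RingHom.coe_comp, RingHom.coe_coe, Function.comp_apply,
      Polynomial.coe_mapRingHom, Polynomial.map_C, Polynomial.aeval_C,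
      Algebra.TensorProduct.includeRight_apply, Algebra.TensorProduct.algebraMap_apply,
      Algebra.algebraMap_self, RingHom.id_apply]
    rw [Algebra.algebraMap_eq_smul_one r, Algebra.algebraMap_eq_smul_one r,
      TensorProduct.smul_tmul]
  · simp

/-- (QG) -/
theorem quasiFinite_of_forall_fiber [Algebra.FiniteType R S] (c : S)
    (h : ∀ (p : Ideal R) [p.IsPrime], (Polynomial.aeval (R := p.ResidueField)
      ((1 : p.ResidueField) ⊗ₜ[R] c : p.Fiber S)).toRingHom.QuasiFinite) :
    (Polynomial.aeval (R := R) c).toRingHom.QuasiFinite := by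
  letI algA : Algebra R[X] S := (Polynomial.aeval (R := R) c).toRingHom.toAlgebra
  haveI : IsScalarTower R R[X] S := IsScalarTower.of_algebraMap_eq (fun r => by
    rw [RingHom.algebraMap_toAlgebra]
    simp)
  haveI : Algebra.FiniteType R[X] S := Algebra.FiniteType.of_restrictScalars_finiteType R R[X] S
  show Algebra.QuasiFinite R[X] S
  rw [Algebra.QuasiFinite.iff_finite_primesOver]
  intro P hP
  -- the prime of `R` below
  obtain ⟨p, hp⟩ : ∃ p : Ideal R, p = P.comap (algebraMap R R[X]) := ⟨_, rfl⟩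
  haveI hpprime : p.IsPrime := hp ▸ Ideal.comap_isPrime _ _
  -- the fibre evaluation
  obtain ⟨ψ, hψ⟩ : ∃ ψ : p.ResidueField[X] →+* p.Fiber S, ψ = (Polynomial.aeval (R := p.ResidueField)
      ((1 : p.ResidueField) ⊗ₜ[R] c : p.Fiber S)).toRingHom := ⟨_, rfl⟩
  have hψqf : ψ.QuasiFinite := hψ ▸ h p
  have hcomp : ψ.comp (Polynomial.mapRingHom (algebraMap R p.ResidueField)) =
      (Algebra.TensorProduct.includeRight : S →ₐ[R] p.Fiber S).toRingHom.comp
        (algebraMap R[X] S) := by
    rw [hψ]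
    exact aeval_fiber_comp c p
  -- every prime over `P` comes from a prime of the fibre
  have hlift : ∀ Q ∈ P.primesOver S, ∃ Q' : PrimeSpectrum (p.Fiber S),
      Q'.asIdeal.comap (Algebra.TensorProduct.includeRight : S →ₐ[R] p.Fiber S).toRingHom = Q := by
    intro Q hQ
    haveI := hQ.1
    have hQP : P = Q.comap (algebraMap R[X] S) := hQ.2.1
    have hQp : Q ∈ p.primesOver S := by
      refine ⟨hQ.1, ⟨?_⟩⟩
      rw [hp, hQP, Ideal.under_def, Ideal.comap_comap, ← IsScalarTower.algebraMap_eq]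
    refine ⟨PrimeSpectrum.primesOverOrderIsoFiber R S p ⟨Q, hQp⟩, ?_⟩
    have h1 := PrimeSpectrum.coe_primesOverOrderIsoFiber_symm_apply (R := R) (S := S) p
      (PrimeSpectrum.primesOverOrderIsoFiber R S p ⟨Q, hQp⟩)
    rw [OrderIso.symm_apply_apply] at h1
    exact h1.symm
  by_cases hne : (P.primesOver S).Nonempty
  swap
  · rw [Set.not_nonempty_iff_eq_empty] at hne
    rw [hne]
    exact Set.finite_empty
  obtain ⟨Q₀, hQ₀⟩ := hne
  obtain ⟨Q₀', hQ₀'⟩ := hlift Q₀ hQ₀
  -- the finite set of primes of the fibre over the image of `Q₀'`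
  have hfin : (PrimeSpectrum.comap ψ ⁻¹' {PrimeSpectrum.comap ψ Q₀'}).Finite := by
    letI := ψ.toAlgebra
    haveI : Algebra.QuasiFinite p.ResidueField[X] (p.Fiber S) := hψqf
    exact Algebra.QuasiFinite.finite_comap_preimage_singleton (R := p.ResidueField[X])
      (S := p.Fiber S) (PrimeSpectrum.comap ψ Q₀')
  refine (hfin.image (fun Q' : PrimeSpectrum (p.Fiber S) => Q'.asIdeal.comap
    (Algebra.TensorProduct.includeRight : S →ₐ[R] p.Fiber S).toRingHom)).subset ?_
  intro Q hQ
  obtain ⟨Q', hQ'⟩ := hlift Q hQ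
  refine ⟨Q', ?_, hQ'⟩
  rw [Set.mem_preimage, Set.mem_singleton_iff]
  apply PrimeSpectrum.ext
  apply comap_map_injective p
  have e1 : ∀ (Q : Ideal S) (Q' : PrimeSpectrum (p.Fiber S)), Q ∈ P.primesOver S →
      Q'.asIdeal.comap (Algebra.TensorProduct.includeRight : S →ₐ[R] p.Fiber S).toRingHom = Q →
      ((PrimeSpectrum.comap ψ Q').asIdeal).comap
        (Polynomial.mapRingHom (algebraMap R p.ResidueField)) = P := by
    intro Q Q' hQ hQ'
    rw [PrimeSpectrum.comap_asIdeal, Ideal.comap_comap, hcomp, ← Ideal.comap_comap, hQ']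
    exact hQ.2.1.symm
  rw [e1 Q Q' hQ hQ', e1 Q₀ Q₀' hQ₀ hQ₀']

end Groth.Agent.H48.FDS
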