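import Mathlib

/-!
# Compactness of the constructible topology on a prime spectrum, elementary form (S1362)
-/

set_option autoImplicit false

open Topology

namespace Groth.Agent.H48.WRNN

/-- (CC) compactness of the constructible topology, elementary form. -/
theorem exists_finset_cover {A : Type*} [CommRing A] {ι : Type*} (U : ι → Set (PrimeSpectrum A))
    (hU : ∀ i, ∀ p ∈ U i, ∃ (f : A) (a : Finset A), f ∉ p.asIdeal ∧ (↑a : Set A) ⊆ p.asIdeal ∧
        ∀ q : PrimeSpectrum A, f ∉ q.asIdeal → (↑a : Set A) ⊆ q.asIdeal → q ∈ U i)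
    (hcov : ∀ p, ∃ i, p ∈ U i) : ∃ t : Finset ι, ∀ p, ∃ i ∈ t, p ∈ U i := by
  classical
  -- the basic constructible sets
  have hbasic : ∀ (f : A) (a : Finset A),
      IsOpen[constructibleTopology (PrimeSpectrum A)]
        ({q : PrimeSpectrum A | f ∉ q.asIdeal ∧ (↑a : Set A) ⊆ q.asIdeal}) := by
    intro f a
    have h1 : IsOpen[constructibleTopology (PrimeSpectrum A)]
        ((PrimeSpectrum.basicOpen f : Set (PrimeSpectrum A))) :=
      IsCompact.isOpen_constructibleTopology_of_isOpen (PrimeSpectrum.isCompact_basicOpen f)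
        (PrimeSpectrum.basicOpen f).isOpen
    have h2 : IsOpen[constructibleTopology (PrimeSpectrum A)]
        (PrimeSpectrum.zeroLocus (↑a : Set A)) := by
      apply IsCompact.isOpen_constructibleTopology_of_isClosed _
        (PrimeSpectrum.isClosed_zeroLocus _)
      have : (PrimeSpectrum.zeroLocus (↑a : Set A))ᶜ =
          ⋃ g ∈ a, (PrimeSpectrum.basicOpen g : Set (PrimeSpectrum A)) := by
        ext q
        simp only [Set.mem_compl_iff, PrimeSpectrum.mem_zeroLocus, Set.mem_iUnion,
          SetLike.mem_coe, PrimeSpectrum.mem_basicOpen, exists_prop, Set.not_subset]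
      rw [this]
      exact a.isCompact_biUnion fun g _ => PrimeSpectrum.isCompact_basicOpen g
    have h3 := @IsOpen.inter _ (constructibleTopology (PrimeSpectrum A)) _ _ h1 h2
    convert h3 using 1
    ext q
    simp only [Set.mem_ofPred_eq, Set.mem_inter_iff, SetLike.mem_coe, PrimeSpectrum.mem_basicOpen,
      PrimeSpectrum.mem_zeroLocus]
  -- openness of each U i
  have hopen : ∀ i, IsOpen[constructibleTopology (PrimeSpectrum A)] (U i) := by
    intro i
    rw [@isOpen_iff_forall_mem_open _ (constructibleTopology (PrimeSpectrum A))]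
    intro p hp
    obtain ⟨f, a, hf, ha, hsub⟩ := hU i p hp
    exact ⟨{q : PrimeSpectrum A | f ∉ q.asIdeal ∧ (↑a : Set A) ⊆ q.asIdeal},
      fun q hq => hsub q hq.1 hq.2, hbasic f a, ⟨hf, ha⟩⟩
  have hcomp : @CompactSpace (PrimeSpectrum A) (constructibleTopology (PrimeSpectrum A)) := by
    have h := compactSpace_withConstructibleTopology (X := PrimeSpectrum A)
    exact @Function.Surjective.compactSpace (WithConstructibleTopology (PrimeSpectrum A))
      (PrimeSpectrum A) _ (constructibleTopology (PrimeSpectrum A)) _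
      (WithTopology.continuous_ofTopology _) h (WithTopology.ofTopology_surjective _)
  have huniv : @IsCompact _ (constructibleTopology (PrimeSpectrum A))
      (Set.univ : Set (PrimeSpectrum A)) :=
    @isCompact_univ _ (constructibleTopology (PrimeSpectrum A)) hcomp
  obtain ⟨t, ht⟩ := @IsCompact.elim_finite_subcover _ (constructibleTopology (PrimeSpectrum A))
    _ _ huniv U hopen (fun p _ => by
      obtain ⟨i, hi⟩ := hcov p
      exact Set.mem_iUnion.mpr ⟨i, hi⟩)
  refine ⟨t, fun p => ?_⟩
  have := ht (Set.mem_univ p)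
  simp only [Set.mem_iUnion, exists_prop] at this
  exact this

end Groth.Agent.H48.WRNN
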