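import Mathlib
import Groth.Agent.H48.WRNNDefs
import Groth.Agent.H54.IntegralDim
import Groth.Agent.H75.WRNN_CD

/-!
# (DIM) and (START) for S1362
-/

set_option autoImplicit false
universe u

open TensorProduct

namespace Groth.Agent.H48.WRNN

variable {R S : Type u} [CommRing R] [CommRing S] [Algebra R S]

/-- (DIM) -/
theorem exists_relation {m d : ℕ} (hmd : d < m) (p : Ideal R) [p.IsPrime]
    (hdim : ringKrullDim (p.Fiber S) ≤ d) (x : Fin m → S)
    (hint : (fibEval (S := S) p x).toRingHom.IsIntegral) :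
    ∃ G : MvPolynomial (Fin m) R, MvPolynomial.map (algebraMap R p.ResidueField) G ≠ 0 ∧
      (1 : p.ResidueField) ⊗ₜ[R] MvPolynomial.aeval x G = (0 : p.Fiber S) := by
  have hninj : ¬ Function.Injective (fibEval (S := S) p x) := by
    intro hinj
    have h1 := Groth.Agent.H54.ringKrullDim_eq_of_ringHom_isIntegral_of_injective
      (fibEval (S := S) p x).toRingHom hint hinj
    rw [Groth.Agent.H54.ringKrullDim_mvPolynomial_field] at h1
    rw [h1] at hdim
    have h2 : (m : WithBot ℕ∞) ≤ (d : WithBot ℕ∞) := hdim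
    have h3 : m ≤ d := by exact_mod_cast h2
    omega
  rw [injective_iff_map_eq_zero] at hninj
  push Not at hninj
  obtain ⟨g, hg0, hgne⟩ := hninj
  obtain ⟨r, hr, G, hG⟩ := Groth.Agent.H75.WRNN_CD.exists_map_eq_C_mul p g
  refine ⟨G, ?_, ?_⟩
  · rw [hG]
    refine mul_ne_zero ?_ hgne
    rw [Ne, MvPolynomial.C_eq_zero, Ideal.algebraMap_residueField_eq_zero]
    exact hr
  · rw [← fibEval_map, hG, map_mul, hg0, mul_zero]

/-- (START) -/
theorem exists_fibInt_start [Algebra.FiniteType R S] (d : ℕ) :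
    ∃ (m : ℕ) (x : Fin m → S), d ≤ m ∧ FibInt R x := by
  obtain ⟨n, f, hf⟩ := Algebra.FiniteType.iff_quotient_mvPolynomial''.mp
    (inferInstance : Algebra.FiniteType R S)
  refine ⟨n + d, Fin.append (fun i => f (MvPolynomial.X i)) (fun _ => 0), by omega, ?_⟩
  intro p hp
  apply RingHom.isIntegral_of_surjective
  intro z
  change ∃ a, (fibEval (S := S) p _) a = z
  induction z using TensorProduct.induction_on with
  | zero => exact ⟨0, map_zero _⟩
  | tmul c s =>
    obtain ⟨g, rfl⟩ := hf s
    refine ⟨MvPolynomial.C c * MvPolynomial.map (algebraMap R p.ResidueField)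
      (MvPolynomial.rename (Fin.castAdd d) g), ?_⟩
    rw [map_mul, fibEval_map, MvPolynomial.aeval_rename]
    have h1 : (Fin.append (fun i => f (MvPolynomial.X i)) (fun _ : Fin d => (0 : S))) ∘
        Fin.castAdd d = fun i => f (MvPolynomial.X i) := by
      funext i
      simp [Fin.append_left]
    rw [h1]
    have h2 : MvPolynomial.aeval (fun i => f (MvPolynomial.X i)) g = f g := by
      conv_rhs => rw [MvPolynomial.aeval_unique f]
      rfl
    rw [h2, fibEval, MvPolynomial.aeval_C, Algebra.TensorProduct.algebraMap_apply,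
      Algebra.TensorProduct.tmul_mul_tmul]
    simp
  | add z w hz hw =>
    obtain ⟨a, rfl⟩ := hz
    obtain ⟨b, rfl⟩ := hw
    exact ⟨a + b, map_add _ _ _⟩

end Groth.Agent.H48.WRNN
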