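import Mathlib
import Groth.Agent.H48.WRNNDefs

/-!
# Nagata substitution for S1362
-/

set_option autoImplicit false
universe u

open TensorProduct

namespace Groth.Agent.H48.WRNN

section weights

open List Nat in
theorem sum_pow_mul_ne {n e : ℕ} (he : 1 < e) (v w : Fin (n + 1) →₀ ℕ)
    (vlt : ∀ i, v i < e) (wlt : ∀ i, w i < e) (ne : v ≠ w) :
    ∑ x : Fin (n + 1), e ^ x.1 * v x ≠ ∑ x : Fin (n + 1), e ^ x.1 * w x := by
  intro h
  refine ne <| Finsupp.ext <| congrFun <| List.ofFn_inj.mp ?_
  have h1 : ∀ l ∈ List.ofFn v, l < e := by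
    intro l hl
    rw [List.mem_ofFn] at hl
    obtain ⟨i, rfl⟩ := hl
    exact vlt i
  have h2 : ∀ l ∈ List.ofFn w, l < e := by
    intro l hl
    rw [List.mem_ofFn] at hl
    obtain ⟨i, rfl⟩ := hl
    exact wlt i
  apply Nat.ofDigits_inj_of_len_eq he (by simp) h1 h2
  simpa only [Nat.ofDigits_eq_sum_mapIdx, List.mapIdx_eq_ofFn, List.get_ofFn, List.length_ofFn,
    Fin.val_cast, mul_comm, List.sum_ofFn] using! h

end weights

section poly

variable {k : Type*} [Field k] {n : ℕ}

/-- the monic part of the image of a monomial. -/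
noncomputable def nagMon (k : Type*) [Field k] {n : ℕ} (e : ℕ) (v : Fin (n + 1) →₀ ℕ) :
    Polynomial (MvPolynomial (Fin n) k) :=
  Polynomial.X ^ (v 0) *
    ∏ j : Fin n, (Polynomial.C (MvPolynomial.X j) + Polynomial.X ^ (e ^ (j.1 + 1))) ^ (v j.succ)

theorem nagata_monomial (e : ℕ) (v : Fin (n + 1) →₀ ℕ) (a : k) :
    nagata k n e (MvPolynomial.monomial v a) =
      Polynomial.C (MvPolynomial.C a) * nagMon k e v := by
  rw [nagata, MvPolynomial.aeval_monomial, Finsupp.prod_fintype _ _ (fun i => pow_zero _),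
    Fin.prod_univ_succ, nagMon]
  simp only [Fin.cases_zero, Fin.cases_succ]
  rfl

theorem nagMon_monic {e : ℕ} (he : 1 < e) (v : Fin (n + 1) →₀ ℕ) : (nagMon k e v).Monic := by
  rw [nagMon]
  refine (Polynomial.monic_X_pow _).mul (Polynomial.monic_prod_of_monic _ _ fun j _ => ?_)
  refine Polynomial.Monic.pow ?_ _
  rw [add_comm]
  exact Polynomial.monic_X_pow_add_C _ (pow_ne_zero _ (by omega))

theorem nagMon_natDegree {e : ℕ} (he : 1 < e) (v : Fin (n + 1) →₀ ℕ) :
    (nagMon k e v).natDegree = ∑ i : Fin (n + 1), e ^ i.1 * v i := by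
  have hm : ∀ j : Fin n, (Polynomial.C (MvPolynomial.X j : MvPolynomial (Fin n) k) +
      Polynomial.X ^ (e ^ (j.1 + 1))).Monic := by
    intro j
    rw [add_comm]
    exact Polynomial.monic_X_pow_add_C _ (pow_ne_zero _ (by omega))
  rw [nagMon, Polynomial.Monic.natDegree_mul (Polynomial.monic_X_pow _)
    (Polynomial.monic_prod_of_monic _ _ fun j _ => (hm j).pow _),
    Polynomial.natDegree_prod_of_monic _ _ (fun j _ => (hm j).pow _), Fin.sum_univ_succ]
  simp only [Polynomial.natDegree_X_pow, Fin.val_zero, pow_zero, one_mul, Fin.val_succ]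
  congr 1
  refine Finset.sum_congr rfl fun j _ => ?_
  rw [(hm j).natDegree_pow, add_comm (Polynomial.C _), Polynomial.natDegree_X_pow_add_C, mul_comm]

theorem nagata_monomial_degree {e : ℕ} (he : 1 < e) (v : Fin (n + 1) →₀ ℕ) {a : k} (ha : a ≠ 0) :
    (nagata k n e (MvPolynomial.monomial v a)).degree =
      ((∑ i : Fin (n + 1), e ^ i.1 * v i : ℕ) : WithBot ℕ) := by
  rw [nagata_monomial, Polynomial.degree_C_mul (by simpa using ha),
    Polynomial.degree_eq_natDegree (nagMon_monic he v).ne_zero, nagMon_natDegree he v]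

theorem nagata_monomial_leadingCoeff {e : ℕ} (he : 1 < e) (v : Fin (n + 1) →₀ ℕ) (a : k) :
    (nagata k n e (MvPolynomial.monomial v a)).leadingCoeff = MvPolynomial.C a := by
  rw [nagata_monomial, Polynomial.leadingCoeff_mul, Polynomial.leadingCoeff_C,
    (nagMon_monic he v).leadingCoeff, mul_one]

/-- (NAG) -/
theorem isUnit_leadingCoeff_nagata {e : ℕ}
    (f : MvPolynomial (Fin (n + 1)) k) (hf : f ≠ 0) (he : f.totalDegree < e) (he2 : 2 ≤ e) :
    IsUnit (nagata k n e f).leadingCoeff := by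
  classical
  have he1 : 1 < e := by omega
  obtain ⟨v, hv, hmax⟩ := Finset.exists_max_image f.support
    (fun v => ∑ i : Fin (n + 1), e ^ i.1 * v i) (MvPolynomial.support_nonempty.mpr hf)
  have hlt : ∀ u ∈ f.support, ∀ i, u i < e := fun u hu i =>
    lt_of_le_of_lt ((MvPolynomial.monomial_le_degreeOf i hu).trans
      (MvPolynomial.degreeOf_le_totalDegree f i)) he
  have hc : f.coeff v ≠ 0 := MvPolynomial.mem_support_iff.mp hv
  have hdecomp : f = MvPolynomial.monomial v (f.coeff v) +
      ∑ u ∈ f.support.erase v, MvPolynomial.monomial u (f.coeff u) := by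
    conv_lhs => rw [← MvPolynomial.support_sum_monomial_coeff f]
    exact (Finset.add_sum_erase _ (fun u => MvPolynomial.monomial u (f.coeff u)) hv).symm
  have hdeg : (∑ u ∈ f.support.erase v,
      nagata k n e (MvPolynomial.monomial u (f.coeff u))).degree <
      (nagata k n e (MvPolynomial.monomial v (f.coeff v))).degree := by
    refine (Polynomial.degree_sum_le _ _).trans_lt ?_
    rw [Finset.sup_lt_iff]
    · intro u hu
      obtain ⟨huv, hu'⟩ := Finset.mem_erase.mp hu
      rw [nagata_monomial_degree he1 u (MvPolynomial.mem_support_iff.mp hu'),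
        nagata_monomial_degree he1 v hc]
      have h1 := hmax u hu'
      have h2 := sum_pow_mul_ne he1 u v (hlt u hu') (hlt v hv) huv
      exact_mod_cast lt_of_le_of_ne h1 h2
    · rw [nagata_monomial_degree he1 v hc]
      exact WithBot.bot_lt_coe _
  have hlead : (nagata k n e f).leadingCoeff = MvPolynomial.C (f.coeff v) := by
    conv_lhs => rw [hdecomp, map_add, map_sum]
    rw [Polynomial.leadingCoeff_add_of_degree_lt' hdeg, nagata_monomial_leadingCoeff he1]
  rw [hlead]
  exact (isUnit_iff_ne_zero.mpr hc).map MvPolynomial.C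

end poly

section integrality

variable {k B : Type*} [Field k] [CommRing B] [Algebra k B] {n e : ℕ}

theorem eval₂_nagata (y : Fin (n + 1) → B) (f : MvPolynomial (Fin (n + 1)) k) :
    Polynomial.eval₂ (MvPolynomial.aeval (fun j : Fin n => y j.succ - y 0 ^ (e ^ (j.1 + 1))) :
      MvPolynomial (Fin n) k →ₐ[k] B).toRingHom (y 0) (nagata k n e f) =
      MvPolynomial.aeval y f := by
  have hcomp : (Polynomial.eval₂RingHom (MvPolynomial.aeval
      (fun j : Fin n => y j.succ - y 0 ^ (e ^ (j.1 + 1))) :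
      MvPolynomial (Fin n) k →ₐ[k] B).toRingHom (y 0)).comp (nagata k n e).toRingHom =
      (MvPolynomial.aeval y : MvPolynomial (Fin (n + 1)) k →ₐ[k] B).toRingHom := by
    apply MvPolynomial.ringHom_ext
    · intro a
      simp [nagata, Polynomial.algebraMap_apply]
    · intro i
      refine Fin.cases ?_ (fun j => ?_) i
      · simp [nagata]
      · simp [nagata]
  exact congrArg (fun g => g f) hcomp

/-- (NAGI) -/
theorem isIntegralElem_of_nagata
    (y : Fin (n + 1) → B) (f : MvPolynomial (Fin (n + 1)) k) (hf : f ≠ 0)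
    (he : f.totalDegree < e) (he2 : 2 ≤ e) (h0 : MvPolynomial.aeval y f = 0) :
    (MvPolynomial.aeval (fun j : Fin n => y j.succ - y 0 ^ (e ^ (j.1 + 1))) :
      MvPolynomial (Fin n) k →ₐ[k] B).toRingHom.IsIntegralElem (y 0) := by
  obtain ⟨u, hu⟩ := isUnit_leadingCoeff_nagata f hf he he2
  refine ⟨Polynomial.C (↑u⁻¹ : MvPolynomial (Fin n) k) * nagata k n e f, ?_, ?_⟩
  · apply Polynomial.monic_C_mul_of_mul_leadingCoeff_eq_one
    rw [← hu]
    exact u.inv_mul
  · rw [Polynomial.eval₂_mul, eval₂_nagata, h0, mul_zero]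

/-- (NAGT) -/
theorem isIntegral_aeval_of_nagata
    (y : Fin (n + 1) → B)
    (hint : (MvPolynomial.aeval y : MvPolynomial (Fin (n + 1)) k →ₐ[k] B).toRingHom.IsIntegral)
    (f : MvPolynomial (Fin (n + 1)) k) (hf : f ≠ 0)
    (he : f.totalDegree < e) (he2 : 2 ≤ e) (h0 : MvPolynomial.aeval y f = 0) :
    (MvPolynomial.aeval (fun j : Fin n => y j.succ - y 0 ^ (e ^ (j.1 + 1))) :
      MvPolynomial (Fin n) k →ₐ[k] B).toRingHom.IsIntegral := by
  intro b
  have hy0 := isIntegralElem_of_nagata y f hf he he2 h0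
  obtain ⟨ψ', hψ'⟩ : ∃ ψ' : MvPolynomial (Fin n) k →ₐ[k] B,
      ψ' = MvPolynomial.aeval (fun j : Fin n => y j.succ - y 0 ^ (e ^ (j.1 + 1))) := ⟨_, rfl⟩
  rw [← hψ'] at hy0 ⊢
  letI : Algebra (MvPolynomial (Fin n) k) B := ψ'.toRingHom.toAlgebra
  have halg : ∀ g, algebraMap (MvPolynomial (Fin n) k) B g = ψ' g := fun g => rfl
  change IsIntegral (MvPolynomial (Fin n) k) b
  have hy0' : y 0 ∈ integralClosure (MvPolynomial (Fin n) k) B := hy0
  have hyj : ∀ j : Fin n, y j.succ ∈ integralClosure (MvPolynomial (Fin n) k) B := by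
    intro j
    have : y j.succ = algebraMap (MvPolynomial (Fin n) k) B (MvPolynomial.X j) +
        y 0 ^ (e ^ (j.1 + 1)) := by
      rw [halg, hψ', MvPolynomial.aeval_X]
      ring
    rw [this]
    exact Subalgebra.add_mem _ (Subalgebra.algebraMap_mem _ _) (Subalgebra.pow_mem _ hy0' _)
  have hyi : ∀ i, y i ∈ integralClosure (MvPolynomial (Fin n) k) B := by
    intro i
    refine Fin.cases hy0' hyj i
  have hrange : ∀ g : MvPolynomial (Fin (n + 1)) k,
      (MvPolynomial.aeval y : MvPolynomial (Fin (n + 1)) k →ₐ[k] B) g ∈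
        integralClosure (MvPolynomial (Fin n) k) B := by
    intro g
    induction g using MvPolynomial.induction_on with
    | C a =>
      have : (MvPolynomial.aeval y : MvPolynomial (Fin (n + 1)) k →ₐ[k] B) (MvPolynomial.C a) =
          algebraMap (MvPolynomial (Fin n) k) B (MvPolynomial.C a) := by
        rw [halg, MvPolynomial.aeval_C, ← MvPolynomial.algebraMap_eq, AlgHom.commutes]
      rw [this]
      exact Subalgebra.algebraMap_mem _ _
    | add p q hp hq =>
      rw [map_add]
      exact Subalgebra.add_mem _ hp hq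
    | mul_X p i hp =>
      rw [map_mul, MvPolynomial.aeval_X]
      exact Subalgebra.mul_mem _ hp (hyi i)
  obtain ⟨P, hP, hPb⟩ := hint b
  have hIC : IsIntegral (integralClosure (MvPolynomial (Fin n) k) B) b := by
    refine ⟨P.map ((MvPolynomial.aeval y : MvPolynomial (Fin (n + 1)) k →ₐ[k] B).toRingHom.codRestrict
      (integralClosure (MvPolynomial (Fin n) k) B) hrange), hP.map _, ?_⟩
    rw [Polynomial.eval₂_map]
    exact hPb
  exact isIntegral_trans b hIC

end integrality

end Groth.Agent.H48.WRNN
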