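import Mathlib
import Groth.Agent.H48.WRNNDefs
import Groth.Agent.H48.WRNNNagata
import Groth.Agent.H48.WRNNCC
import Groth.Agent.H48.WRNNDimStart
import Groth.Agent.H75.WRNN_OPEN

/-!
# The descent step for S1362
-/

set_option autoImplicit false
universe u
open TensorProduct

namespace Groth.Agent.H48.WRNN

variable {R S : Type u} [CommRing R] [CommRing S] [Algebra R S]

/-- (DESC) -/
theorem fibInt_descent {m d : ℕ} (hmd : d ≤ m)
    (hdim : ∀ (p : Ideal R) [p.IsPrime], ringKrullDim (p.Fiber S) ≤ d)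
    (x : Fin (m + 1) → S) (hx : FibInt R x) : ∃ x' : Fin m → S, FibInt R x' := by
  classical
  -- relations at every prime
  have hrel : ∀ p : PrimeSpectrum R, ∃ G : MvPolynomial (Fin (m + 1)) R, p ∈ relLocus x G := by
    intro p
    obtain ⟨G, hG1, hG2⟩ := exists_relation (d := d) (by omega) p.asIdeal (hdim p.asIdeal) x
      (hx p.asIdeal)
    exact ⟨G, hG1, hG2⟩
  obtain ⟨t, ht⟩ := exists_finset_cover (fun G : MvPolynomial (Fin (m + 1)) R => relLocus x G)
    (fun G => Groth.Agent.H75.WRNN_OPEN.relLocus_constructible x G) hrel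
  obtain ⟨e, he⟩ : ∃ e : ℕ, e = 2 + t.sup MvPolynomial.totalDegree := ⟨_, rfl⟩
  refine ⟨fun j : Fin m => x j.succ - x 0 ^ (e ^ (j.1 + 1)), ?_⟩
  intro q hq
  obtain ⟨G, hGt, hG1, hG2⟩ := ht ⟨q, hq⟩
  have hdeg : (MvPolynomial.map (algebraMap R q.ResidueField) G).totalDegree < e := by
    have h1 : (MvPolynomial.map (algebraMap R q.ResidueField) G).totalDegree ≤ G.totalDegree :=
      Finset.sup_mono (MvPolynomial.support_map_subset (algebraMap R q.ResidueField) G)
    have h2 : G.totalDegree ≤ t.sup MvPolynomial.totalDegree := Finset.le_sup (f := MvPolynomial.totalDegree) hGt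
    omega
  have h0 : MvPolynomial.aeval (fun i => (1 : q.ResidueField) ⊗ₜ[R] x i)
      (MvPolynomial.map (algebraMap R q.ResidueField) G) = (0 : q.Fiber S) := by
    have := fibEval_map q x G
    rw [fibEval] at this
    rw [this]
    exact hG2
  have key := isIntegral_aeval_of_nagata (k := q.ResidueField) (B := q.Fiber S) (e := e)
    (fun i => (1 : q.ResidueField) ⊗ₜ[R] x i) (hx q) _ hG1 hdeg (by omega) h0
  have hfun : (fun j : Fin m => (1 : q.ResidueField) ⊗ₜ[R] x j.succ -
      ((1 : q.ResidueField) ⊗ₜ[R] x 0 : q.Fiber S) ^ (e ^ (j.1 + 1))) =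
      fun j : Fin m => (1 : q.ResidueField) ⊗ₜ[R] (x j.succ - x 0 ^ (e ^ (j.1 + 1))) := by
    funext j
    rw [TensorProduct.tmul_sub, Algebra.TensorProduct.tmul_pow, one_pow]
  rw [hfun] at key
  exact key

end Groth.Agent.H48.WRNN
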