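import Mathlib
import Groth.Agent.H48.WRNNDefs
import Groth.Agent.H48.WRNNNagata
import Groth.Agent.H48.WRNNCC
import Groth.Agent.H48.WRNNDimStart
import Groth.Agent.H48.WRNNDesc
import Groth.Agent.H75.WRNN_OPEN
import Groth.Agent.H75.WRNN_CD
import Groth.Agent.H20.WRNN_END
import Groth.Agent.H48.FDS_FDL
import Groth.Agent.H48.FDS_QG
import Groth.Agent.H75.FDS_SWAP
import Groth.Agent.H75.FDS_QF
import Groth.Agent.H75.FDS_QR
import Groth.Agent.H83.FDS_QA
import Groth.Agent.H83.FDS_QB

/-!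
# S1430: stability of fibre dimension under `x ↦ a^n + b`
-/

set_option autoImplicit false
universe u

open TensorProduct Polynomial

namespace Groth.Agent.H48.FDS

open Groth.Agent.H48.WRNN

/-- (QC) a quasi-finite algebra has dimension at most that of the base. -/
theorem ringKrullDim_le_of_quasiFinite {A B : Type*} [CommRing A] [CommRing B] [Algebra A B]
    [Algebra.QuasiFinite A B] : ringKrullDim B ≤ ringKrullDim A := by
  refine Order.krullDim_le_of_strictMono (PrimeSpectrum.comap (algebraMap A B)) ?_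
  intro P Q hPQ
  have hle : P.asIdeal ≤ Q.asIdeal := le_of_lt hPQ
  have hne : P.asIdeal ≠ Q.asIdeal := fun h => (ne_of_lt hPQ) (PrimeSpectrum.ext h)
  refine lt_of_le_of_ne (Ideal.comap_mono hle) ?_
  intro h
  apply hne
  apply Algebra.QuasiFinite.eq_of_le_of_under_eq (R := A) P.asIdeal Q.asIdeal hle
  exact congrArg PrimeSpectrum.asIdeal h

/-- (P7) S1362 with `≤ d`. -/
theorem exists_quasiFinite_of_fiber_dim_le {A S : Type u} [CommRing A] [CommRing S] [Algebra A S]
    [Algebra.FiniteType A S] (d : ℕ)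
    (hdim : ∀ (p : Ideal A) [p.IsPrime], ringKrullDim (p.Fiber S) ≤ d) :
    ∃ x : Fin d → S, (MvPolynomial.aeval x : MvPolynomial (Fin d) A →ₐ[A] S).toRingHom.QuasiFinite := by
  obtain ⟨m, x, hm, hx⟩ := exists_fibInt_start (R := A) (S := S) d
  have key : ∀ k : ℕ, ∀ x : Fin (d + k) → S, FibInt A x → ∃ x' : Fin d → S, FibInt A x' := by
    intro k
    induction k with
    | zero => intro x hx; exact ⟨x, hx⟩
    | succ k ih =>
      intro x hx
      obtain ⟨x', hx'⟩ := fibInt_descent (m := d + k) (d := d) (by omega) hdim x hx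
      exact ih x' hx'
  obtain ⟨k, rfl⟩ : ∃ k, m = d + k := ⟨m - d, by omega⟩
  obtain ⟨x', hx'⟩ := key k x hx
  exact ⟨x', Groth.Agent.H20.WRNN_END.quasiFinite_of_fibInt x' hx'⟩

/-- integrality over `k[z]` with `z` integral over `k` gives integrality over `k`. -/
theorem isIntegral_of_isIntegralElem_aeval {k D σ : Type*} [CommRing k] [CommRing D] [Algebra k D]
    (z : σ → D) (hz : ∀ i, IsIntegral k (z i)) (x : D)
    (hx : (MvPolynomial.aeval z : MvPolynomial σ k →ₐ[k] D).toRingHom.IsIntegralElem x) :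
    IsIntegral k x := by
  have hrange : ∀ g : MvPolynomial σ k,
      (MvPolynomial.aeval z : MvPolynomial σ k →ₐ[k] D) g ∈ integralClosure k D := by
    intro g
    induction g using MvPolynomial.induction_on with
    | C a =>
      rw [MvPolynomial.aeval_C]
      exact Subalgebra.algebraMap_mem _ _
    | add p q hp hq =>
      rw [map_add]
      exact Subalgebra.add_mem _ hp hq
    | mul_X p i hp =>
      rw [map_mul, MvPolynomial.aeval_X]
      exact Subalgebra.mul_mem _ hp (hz i)
  obtain ⟨P, hP, hPx⟩ := hx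
  have hIC : IsIntegral (integralClosure k D) x := by
    refine ⟨P.map ((MvPolynomial.aeval z : MvPolynomial σ k →ₐ[k] D).toRingHom.codRestrict
      (integralClosure k D) hrange), hP.map _, ?_⟩
    rw [Polynomial.eval₂_map]
    exact hPx
  exact isIntegral_trans x hIC

/-- (QD) field level. -/
theorem quasiFinite_pow_add_of_relation {k B : Type u} [Field k] [CommRing B] [Algebra k B]
    [Algebra.FiniteType k B] (a b : B)
    (ha : (Polynomial.aeval (R := k) a).toRingHom.QuasiFinite)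
    (G : MvPolynomial (Fin 2) k) (hG : G ≠ 0) (hrel : MvPolynomial.aeval ![a, -b] G = 0)
    (n : ℕ) (hn : G.totalDegree < n) (hn2 : 2 ≤ n) :
    (Polynomial.aeval (R := k) (a ^ n + b)).toRingHom.QuasiFinite := by
  have hdim : ringKrullDim B ≤ 1 := by
    have h1 : @ringKrullDim B _ ≤ ringKrullDim k[X] := by
      letI := (Polynomial.aeval (R := k) a).toRingHom.toAlgebra
      haveI : Algebra.QuasiFinite k[X] B := ha
      exact ringKrullDim_le_of_quasiFinite
    rw [Polynomial.ringKrullDim_of_isNoetherianRing, ringKrullDim_eq_zero_of_field] at h1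
    simpa using h1
  refine Groth.Agent.H83.FDS_QB.quasiFinite_of_transcendental hdim _ ?_
  intro Q hQ hQmax
  have hatr := Groth.Agent.H83.FDS_QA.transcendental_of_quasiFinite a ha Q hQmax
  intro hcalg
  apply hatr
  -- relation in the quotient
  have hfun : (fun i => (Ideal.Quotient.mkₐ k Q) ((![a, -b] : Fin 2 → B) i)) =
      ![Ideal.Quotient.mk Q a, -Ideal.Quotient.mk Q b] := by
    funext i
    fin_cases i <;> simp
  have hrelQ : MvPolynomial.aeval ![Ideal.Quotient.mk Q a, -Ideal.Quotient.mk Q b] G = 0 := by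
    have h := MvPolynomial.comp_aeval_apply (R := k) (f := ![a, -b]) (Ideal.Quotient.mkₐ k Q) G
    rw [hrel, map_zero, hfun] at h
    exact h.symm
  have hint := isIntegralElem_of_nagata (k := k) (B := B ⧸ Q) (n := 1) (e := n)
    ![Ideal.Quotient.mk Q a, -Ideal.Quotient.mk Q b] G hG hn hn2 hrelQ
  have hcint : IsIntegral k (Ideal.Quotient.mk Q (a ^ n + b)) := hcalg.isIntegral
  have hz : ∀ j : Fin 1, IsIntegral k
      ((![Ideal.Quotient.mk Q a, -Ideal.Quotient.mk Q b] : Fin 2 → B ⧸ Q) j.succ -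
        (![Ideal.Quotient.mk Q a, -Ideal.Quotient.mk Q b] : Fin 2 → B ⧸ Q) 0 ^ (n ^ (j.1 + 1))) := by
    intro j
    fin_cases j
    have : ((![Ideal.Quotient.mk Q a, -Ideal.Quotient.mk Q b] : Fin 2 → B ⧸ Q) (Fin.succ 0) -
        (![Ideal.Quotient.mk Q a, -Ideal.Quotient.mk Q b] : Fin 2 → B ⧸ Q) 0 ^ (n ^ (0 + 1))) =
        -(Ideal.Quotient.mk Q (a ^ n + b)) := by
      simp only [zero_add, pow_one, map_add, map_pow]
      simp
      ring
    have h2 := hcint.neg
    rw [← this] at h2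
    exact h2
  have hfinal := isIntegral_of_isIntegralElem_aeval _ hz _ hint
  exact hfinal.isAlgebraic

/-- (CQ) the relative claim in fibre dimension zero. -/
theorem exists_pow_add_quasiFinite {R S : Type u} [CommRing R] [CommRing S] [Algebra R S]
    [Algebra.FiniteType R S] (a b : S)
    (ha : (Polynomial.aeval (R := R) a).toRingHom.QuasiFinite) :
    ∃ n₀ : ℕ, ∀ n ≥ n₀, (Polynomial.aeval (R := R) (a ^ n + b)).toRingHom.QuasiFinite := by
  classical
  have hfun : ∀ (p : Ideal R) [p.IsPrime],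
      (fun i => (1 : p.ResidueField) ⊗ₜ[R] ((![a, -b] : Fin 2 → S) i)) =
      (![(1 : p.ResidueField) ⊗ₜ[R] a, -((1 : p.ResidueField) ⊗ₜ[R] b)] : Fin 2 → p.Fiber S) := by
    intro p _
    funext i
    fin_cases i
    · simp
    · simp [TensorProduct.tmul_neg]
  have hrel : ∀ p : PrimeSpectrum R, ∃ G : MvPolynomial (Fin 2) R, p ∈ relLocus ![a, -b] G := by
    intro p
    have hq := Groth.Agent.H75.FDS_QF.quasiFinite_fiber_of_quasiFinite a ha p.asIdeal
    obtain ⟨g, hg0, hg⟩ := Groth.Agent.H75.FDS_QR.exists_relation_field (k := p.asIdeal.ResidueField)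
      (B := p.asIdeal.Fiber S) ((1 : p.asIdeal.ResidueField) ⊗ₜ[R] a)
      (-((1 : p.asIdeal.ResidueField) ⊗ₜ[R] b)) hq
    obtain ⟨r, hr, G, hG⟩ := Groth.Agent.H75.WRNN_CD.exists_map_eq_C_mul p.asIdeal g
    refine ⟨G, ?_, ?_⟩
    · rw [hG]
      refine mul_ne_zero ?_ hg0
      rw [Ne, MvPolynomial.C_eq_zero, Ideal.algebraMap_residueField_eq_zero]
      exact hr
    · rw [← fibEval_map, hG, map_mul, fibEval, hfun p.asIdeal, hg, mul_zero]
  obtain ⟨t, ht⟩ := exists_finset_cover (fun G : MvPolynomial (Fin 2) R => relLocus ![a, -b] G)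
    (fun G => Groth.Agent.H75.WRNN_OPEN.relLocus_constructible _ G) hrel
  refine ⟨2 + t.sup MvPolynomial.totalDegree, fun n hn => ?_⟩
  apply quasiFinite_of_forall_fiber
  intro p hp
  obtain ⟨G, hGt, hG1, hG2⟩ := ht ⟨p, hp⟩
  have hdeg : (MvPolynomial.map (algebraMap R p.ResidueField) G).totalDegree < n := by
    have h1 : (MvPolynomial.map (algebraMap R p.ResidueField) G).totalDegree ≤ G.totalDegree :=
      Finset.sup_mono (MvPolynomial.support_map_subset (algebraMap R p.ResidueField) G)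
    have h2 : G.totalDegree ≤ t.sup MvPolynomial.totalDegree :=
      Finset.le_sup (f := MvPolynomial.totalDegree) hGt
    omega
  have h0 : MvPolynomial.aeval
      (![(1 : p.ResidueField) ⊗ₜ[R] a, -((1 : p.ResidueField) ⊗ₜ[R] b)] : Fin 2 → p.Fiber S)
      (MvPolynomial.map (algebraMap R p.ResidueField) G) = 0 := by
    have h := fibEval_map p (![a, -b] : Fin 2 → S) G
    rw [fibEval, hfun p] at h
    rw [h]
    exact hG2
  have key := quasiFinite_pow_add_of_relation (k := p.ResidueField) (B := p.Fiber S)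
    ((1 : p.ResidueField) ⊗ₜ[R] a) ((1 : p.ResidueField) ⊗ₜ[R] b)
    (Groth.Agent.H75.FDS_QF.quasiFinite_fiber_of_quasiFinite a ha p) _ hG1 h0 n hdeg (by omega)
  have heq : ((1 : p.ResidueField) ⊗ₜ[R] a : p.Fiber S) ^ n + (1 : p.ResidueField) ⊗ₜ[R] b =
      (1 : p.ResidueField) ⊗ₜ[R] (a ^ n + b) := by
    rw [TensorProduct.tmul_add, Algebra.TensorProduct.tmul_pow, one_pow]
  rw [heq] at key
  exact key

section glue

variable {R S : Type u} [CommRing R] [CommRing S] [Algebra R S]

/-- the hom `R[X][T_1..T_m] → S`, `X ↦ c`, `T_i ↦ y_i`. -/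
noncomputable abbrev theta₁ {m : ℕ} (y : Fin m → S) (c : S) :
    MvPolynomial (Fin m) (Polynomial R) →+* S :=
  MvPolynomial.eval₂Hom (Polynomial.eval₂RingHom (algebraMap R S) c) y

/-- the hom `R[T_1..T_m][X] → S`, `X ↦ c`, `T_i ↦ y_i`. -/
noncomputable abbrev theta₂ {m : ℕ} (y : Fin m → S) (c : S) :
    Polynomial (MvPolynomial (Fin m) R) →+* S :=
  Polynomial.eval₂RingHom (MvPolynomial.eval₂Hom (algebraMap R S) y) c

theorem aeval_toRingHom_eq_theta₁ {m : ℕ} (y : Fin m → S) (c : S) :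
    letI : Algebra R[X] S := (Polynomial.aeval (R := R) c).toRingHom.toAlgebra
    (MvPolynomial.aeval y : MvPolynomial (Fin m) R[X] →ₐ[R[X]] S).toRingHom = theta₁ y c := by
  letI : Algebra R[X] S := (Polynomial.aeval (R := R) c).toRingHom.toAlgebra
  apply MvPolynomial.ringHom_ext
  · intro g
    simp only [AlgHom.toRingHom_eq_coe, RingHom.coe_coe, MvPolynomial.aeval_C, theta₁,
      MvPolynomial.coe_eval₂Hom, MvPolynomial.eval₂_C]
    rw [RingHom.algebraMap_toAlgebra]
    simp [Polynomial.aeval_def]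
  · intro i
    simp [theta₁]

theorem exists_y [Algebra.FiniteType R S] (d : ℕ) (a : S)
    (ha : ∀ P : PrimeSpectrum R[X],
      letI := (Polynomial.aeval (R := R) a).toRingHom.toAlgebra
      ringKrullDim (P.asIdeal.Fiber S) ≤ d) :
    ∃ y : Fin d → S, (theta₁ (R := R) y a).QuasiFinite := by
  letI algA : Algebra R[X] S := (Polynomial.aeval (R := R) a).toRingHom.toAlgebra
  haveI : IsScalarTower R R[X] S := IsScalarTower.of_algebraMap_eq (fun r => by
    rw [RingHom.algebraMap_toAlgebra]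
    simp)
  haveI : Algebra.FiniteType R[X] S := Algebra.FiniteType.of_restrictScalars_finiteType R R[X] S
  obtain ⟨y, hy⟩ := exists_quasiFinite_of_fiber_dim_le (A := R[X]) (S := S) d
    (fun p hp => ha ⟨p, hp⟩)
  refine ⟨y, ?_⟩
  rw [← aeval_toRingHom_eq_theta₁ y a]
  exact hy

theorem fiber_dim_le_of_theta₁ {d : ℕ} (y : Fin d → S) (c : S)
    (h : (theta₁ (R := R) y c).QuasiFinite) (P : PrimeSpectrum R[X]) :
    letI := (Polynomial.aeval (R := R) c).toRingHom.toAlgebra
    ringKrullDim (P.asIdeal.Fiber S) ≤ d := by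
  letI algC : Algebra R[X] S := (Polynomial.aeval (R := R) c).toRingHom.toAlgebra
  refine fiber_dim_le_of_quasiFinite
    (MvPolynomial.aeval y : MvPolynomial (Fin d) R[X] →ₐ[R[X]] S) ?_ P.asIdeal
  rw [aeval_toRingHom_eq_theta₁ y c]
  exact h

theorem exists_pow_add_theta₂ [Algebra.FiniteType R S] {d : ℕ} (y : Fin d → S) (a b : S)
    (h : (theta₂ (R := R) y a).QuasiFinite) :
    ∃ n₀ : ℕ, ∀ n ≥ n₀, (theta₂ (R := R) y (a ^ n + b)).QuasiFinite := by
  letI algY : Algebra (MvPolynomial (Fin d) R) S :=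
    (MvPolynomial.eval₂Hom (algebraMap R S) y).toAlgebra
  haveI : IsScalarTower R (MvPolynomial (Fin d) R) S := IsScalarTower.of_algebraMap_eq (fun r => by
    rw [RingHom.algebraMap_toAlgebra]
    simp [MvPolynomial.algebraMap_eq])
  haveI : Algebra.FiniteType (MvPolynomial (Fin d) R) S :=
    Algebra.FiniteType.of_restrictScalars_finiteType R (MvPolynomial (Fin d) R) S
  have heq : ∀ c : S, (Polynomial.aeval (R := MvPolynomial (Fin d) R) c).toRingHom =
      theta₂ (R := R) y c := by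
    intro c
    apply Polynomial.ringHom_ext
    · intro g
      simp only [AlgHom.toRingHom_eq_coe, RingHom.coe_coe, Polynomial.aeval_C, theta₂,
        Polynomial.coe_eval₂RingHom, Polynomial.eval₂_C]
      rw [RingHom.algebraMap_toAlgebra]
    · simp [theta₂]
  obtain ⟨n₀, hn₀⟩ := exists_pow_add_quasiFinite (R := MvPolynomial (Fin d) R) a b
    (by rw [heq]; exact h)
  refine ⟨n₀, fun n hn => ?_⟩
  rw [← heq]
  exact hn₀ n hn

/-- S1430, assembled. -/
theorem main [Algebra.FiniteType R S] (d : ℕ) (a b : S)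
    (ha : ∀ P : PrimeSpectrum R[X],
      letI := (Polynomial.aeval (R := R) a).toRingHom.toAlgebra
      ringKrullDim (P.asIdeal.Fiber S) ≤ d) :
    ∃ n₀ : ℕ, ∀ n ≥ n₀, ∀ P : PrimeSpectrum R[X],
      letI := (Polynomial.aeval (R := R) (a ^ n + b)).toRingHom.toAlgebra
      ringKrullDim (P.asIdeal.Fiber S) ≤ d := by
  obtain ⟨y, hy⟩ := exists_y d a ha
  have h2 := (Groth.Agent.H75.FDS_SWAP.quasiFinite_swap (R := R) y a).mp hy
  obtain ⟨n₀, hn₀⟩ := exists_pow_add_theta₂ y a b h2
  refine ⟨n₀, fun n hn P => ?_⟩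
  have h1 := (Groth.Agent.H75.FDS_SWAP.quasiFinite_swap (R := R) y (a ^ n + b)).mpr (hn₀ n hn)
  exact fiber_dim_le_of_theta₁ y _ h1 P

end glue

end Groth.Agent.H48.FDS
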