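import Mathlib

/-!
# Fibrewise exactness: invariance under field extension and base change (helper48)
-/

set_option autoImplicit false
set_option linter.style.haveILetI false

universe u

open TensorProduct

namespace Groth.Agent.H48.FibEx

section defs

variable {R : Type u} [CommRing R] {F G H : Type u} [AddCommGroup F] [Module R F]
  [AddCommGroup G] [Module R G] [AddCommGroup H] [Module R H]

/-- Exactness of the base change to an `R`-algebra `L`. -/
def FibExact (u : F →ₗ[R] G) (v : G →ₗ[R] H) (L : Type u) [CommRing L] [Algebra R L] : Prop :=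
  Function.Exact (u.baseChange L) (v.baseChange L)

/-- ladder lemma at the level of additive maps -/
theorem exact_iff_of_ladder {M₁ M₂ M₃ N₁ N₂ N₃ : Type*} [AddCommGroup M₁] [AddCommGroup M₂]
    [AddCommGroup M₃] [AddCommGroup N₁] [AddCommGroup N₂] [AddCommGroup N₃]
    (f₁ : M₁ → M₂) (f₂ : M₂ → M₃) (g₁ : N₁ → N₂) (g₂ : N₂ → N₃)
    (e₁ : M₁ ≃ N₁) (e₂ : M₂ ≃ N₂) (e₃ : M₃ ≃ N₃) (h0 : e₃ 0 = 0)
    (h₁ : ∀ x, g₁ (e₁ x) = e₂ (f₁ x)) (h₂ : ∀ y, g₂ (e₂ y) = e₃ (f₂ y)) :
    Function.Exact g₁ g₂ ↔ Function.Exact f₁ f₂ := by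
  constructor
  · intro hg y
    constructor
    · intro hy
      have : g₂ (e₂ y) = 0 := by rw [h₂, hy, h0]
      obtain ⟨x, hx⟩ := (hg _).mp this
      refine ⟨e₁.symm x, ?_⟩
      apply e₂.injective
      rw [← h₁, e₁.apply_symm_apply, hx]
    · rintro ⟨x, rfl⟩
      apply e₃.injective
      rw [← h₂, ← h₁, h0]
      exact (hg _).mpr ⟨_, rfl⟩
  · intro hf y
    constructor
    · intro hy
      obtain ⟨y', rfl⟩ := e₂.surjective y
      rw [h₂, ← h0] at hy
      obtain ⟨x, hx⟩ := (hf _).mp (e₃.injective hy)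
      exact ⟨e₁ x, by rw [h₁, hx]⟩
    · rintro ⟨x, rfl⟩
      obtain ⟨x', rfl⟩ := e₁.surjective x
      rw [h₁, h₂, (hf _).mpr ⟨_, rfl⟩, h0]

/-- Fibre exactness is invariant under field extension. -/
theorem fibExact_field_ext (u : F →ₗ[R] G) (v : G →ₗ[R] H) (L L' : Type u) [Field L] [Field L']
    [Algebra R L] [Algebra R L'] [Algebra L L'] [IsScalarTower R L L'] :
    FibExact u v L' ↔ FibExact u v L := by
  unfold FibExact
  rw [← Module.FaithfullyFlat.lTensor_exact_iff_exact L L' (u.baseChange L) (v.baseChange L)]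
  let eF := TensorProduct.AlgebraTensorModule.cancelBaseChange R L L' L' F
  let eG := TensorProduct.AlgebraTensorModule.cancelBaseChange R L L' L' G
  let eH := TensorProduct.AlgebraTensorModule.cancelBaseChange R L L' L' H
  have key : ∀ {X Y : Type u} [AddCommGroup X] [Module R X] [AddCommGroup Y] [Module R Y]
      (w : X →ₗ[R] Y) (x : L' ⊗[L] (L ⊗[R] X)),
      w.baseChange L' (TensorProduct.AlgebraTensorModule.cancelBaseChange R L L' L' X x) =
        TensorProduct.AlgebraTensorModule.cancelBaseChange R L L' L' Y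
          ((w.baseChange L).lTensor L' x) := by
    intro X Y _ _ _ _ w x
    induction x using TensorProduct.induction_on with
    | zero => simp
    | tmul a y =>
      induction y using TensorProduct.induction_on with
      | zero => simp
      | tmul b z =>
        simp [TensorProduct.AlgebraTensorModule.cancelBaseChange_tmul]
      | add y₁ y₂ h₁ h₂ =>
        rw [TensorProduct.tmul_add, map_add, map_add, map_add, map_add, h₁, h₂]
    | add x₁ x₂ h₁ h₂ =>
      rw [map_add, map_add, map_add, map_add, h₁, h₂]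
  exact exact_iff_of_ladder _ _ _ _ eF.toEquiv eG.toEquiv eH.toEquiv (map_zero eH)
    (fun x => key u x) (fun x => key v x)

end defs

section bc

variable {R R' : Type u} [CommRing R] [CommRing R'] [Algebra R R']
  {F G H : Type u} [AddCommGroup F] [Module R F] [AddCommGroup G] [Module R G]
  [AddCommGroup H] [Module R H]
  {F' G' H' : Type u} [AddCommGroup F'] [Module R F'] [Module R' F'] [IsScalarTower R R' F']
  [AddCommGroup G'] [Module R G'] [Module R' G'] [IsScalarTower R R' G']
  [AddCommGroup H'] [Module R H'] [Module R' H'] [IsScalarTower R R' H']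

/-- The comparison isomorphism `L ⊗[R] F ≃ L ⊗[R'] F'` for a base change `F → F'`. -/
noncomputable def bcEquiv {iF : F →ₗ[R] F'} (hF : IsBaseChange R' iF)
    (L : Type u) [CommRing L] [Algebra R L] [Algebra R' L] [IsScalarTower R R' L] :
    L ⊗[R] F ≃ₗ[L] L ⊗[R'] F' :=
  (IsBaseChange.comp hF (TensorProduct.isBaseChange R' F' L)).equiv

theorem bcEquiv_tmul {iF : F →ₗ[R] F'} (hF : IsBaseChange R' iF)
    (L : Type u) [CommRing L] [Algebra R L] [Algebra R' L] [IsScalarTower R R' L] (s : L) (x : F) :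
    bcEquiv hF L (s ⊗ₜ[R] x) = s ⊗ₜ[R'] iF x := by
  unfold bcEquiv
  rw [IsBaseChange.equiv_tmul]
  simp [TensorProduct.smul_tmul']

/-- Fibre exactness is compatible with base change of the data. -/
theorem fibExact_baseChange (u : F →ₗ[R] G) (v : G →ₗ[R] H) (u' : F' →ₗ[R'] G')
    (v' : G' →ₗ[R'] H') {iF : F →ₗ[R] F'} {iG : G →ₗ[R] G'} {iH : H →ₗ[R] H'}
    (hF : IsBaseChange R' iF) (hG : IsBaseChange R' iG) (hH : IsBaseChange R' iH)
    (hu : ∀ x, u' (iF x) = iG (u x)) (hv : ∀ y, v' (iG y) = iH (v y))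
    (L : Type u) [CommRing L] [Algebra R L] [Algebra R' L] [IsScalarTower R R' L] :
    FibExact u' v' L ↔ FibExact u v L := by
  unfold FibExact
  refine exact_iff_of_ladder _ _ _ _ (bcEquiv hF L).toEquiv (bcEquiv hG L).toEquiv
    (bcEquiv hH L).toEquiv (map_zero (bcEquiv hH L)) ?_ ?_
  · intro x
    show u'.baseChange L (bcEquiv hF L x) = bcEquiv hG L (u.baseChange L x)
    induction x using TensorProduct.induction_on with
    | zero => simp
    | tmul s x =>
      rw [bcEquiv_tmul, LinearMap.baseChange_tmul, LinearMap.baseChange_tmul, bcEquiv_tmul, hu]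
    | add x₁ x₂ h₁ h₂ => rw [map_add, map_add, map_add, map_add, h₁, h₂]
  · intro x
    show v'.baseChange L (bcEquiv hG L x) = bcEquiv hH L (v.baseChange L x)
    induction x using TensorProduct.induction_on with
    | zero => simp
    | tmul s x =>
      rw [bcEquiv_tmul, LinearMap.baseChange_tmul, LinearMap.baseChange_tmul, bcEquiv_tmul, hv]
    | add x₁ x₂ h₁ h₂ => rw [map_add, map_add, map_add, map_add, h₁, h₂]

end bc

section locus

variable {R : Type u} [CommRing R] {F G H : Type u} [AddCommGroup F] [Module R F]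
  [AddCommGroup G] [Module R G] [AddCommGroup H] [Module R H]

/-- Field-extension invariance, with the extension given by a ring homomorphism. -/
theorem fibExact_of_ringHom (u : F →ₗ[R] G) (v : G →ₗ[R] H) (L L' : Type u) [Field L] [Field L']
    [Algebra R L] [Algebra R L'] (φ : L →+* L')
    (hφ : ∀ r, φ (algebraMap R L r) = algebraMap R L' r) :
    FibExact u v L' ↔ FibExact u v L := by
  letI : Algebra L L' := φ.toAlgebra
  haveI : IsScalarTower R L L' := IsScalarTower.of_algebraMap_eq (fun r => (hφ r).symm)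
  exact fibExact_field_ext u v L L'

/-- The locus of primes with exact fibre sequence. -/
def locus (u : F →ₗ[R] G) (v : G →ₗ[R] H) : Set (PrimeSpectrum R) :=
  {p | FibExact u v p.asIdeal.ResidueField}

variable {R' : Type u} [CommRing R'] [Algebra R R']
  {F' G' H' : Type u} [AddCommGroup F'] [Module R F'] [Module R' F'] [IsScalarTower R R' F']
  [AddCommGroup G'] [Module R G'] [Module R' G'] [IsScalarTower R R' G']
  [AddCommGroup H'] [Module R H'] [Module R' H'] [IsScalarTower R R' H']

theorem locus_baseChange (u : F →ₗ[R] G) (v : G →ₗ[R] H) (u' : F' →ₗ[R'] G')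
    (v' : G' →ₗ[R'] H') {iF : F →ₗ[R] F'} {iG : G →ₗ[R] G'} {iH : H →ₗ[R] H'}
    (hF : IsBaseChange R' iF) (hG : IsBaseChange R' iG) (hH : IsBaseChange R' iH)
    (hu : ∀ x, u' (iF x) = iG (u x)) (hv : ∀ y, v' (iG y) = iH (v y)) :
    locus u' v' = PrimeSpectrum.comap (algebraMap R R') ⁻¹' locus u v := by
  ext p'
  show FibExact u' v' p'.asIdeal.ResidueField ↔
    FibExact u v (p'.asIdeal.comap (algebraMap R R')).ResidueField
  rw [fibExact_baseChange u v u' v' hF hG hH hu hv p'.asIdeal.ResidueField]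
  refine fibExact_of_ringHom u v _ _
    (Ideal.ResidueField.map (p'.asIdeal.comap (algebraMap R R')) p'.asIdeal (algebraMap R R') rfl)
    (fun r => ?_)
  rw [Ideal.ResidueField.map_algebraMap]
  exact (IsScalarTower.algebraMap_apply R R' p'.asIdeal.ResidueField r).symm

end locus

end Groth.Agent.H48.FibEx
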