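import Mathlib
import Groth.Agent.H11.FibreExact
import Groth.Agent.H48.FibEx1

/-!
# Fibrewise exactness: generic dichotomy over a domain (helper48)
-/

set_option autoImplicit false
set_option linter.style.haveILetI false

universe u

open TensorProduct

namespace Groth.Agent.H48.FibEx

open Groth.Agent.H11

section tools

variable {R : Type u} [CommRing R]

/-- A generically free module whose base change to a nontrivial algebra (in which `f` is a unit)
vanishes is `f`-power torsion. -/
theorem torsion_of_subsingleton_tensor {M : Type u} [AddCommGroup M] [Module R M] {f : R}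
    (h : GFree R M f) (κ : Type u) [CommRing κ] [Nontrivial κ] [Algebra R κ]
    (hu : IsUnit (algebraMap R κ f)) (hs : Subsingleton (κ ⊗[R] M)) (m : M) :
    ∃ k : ℕ, f ^ k • m = 0 := by
  obtain ⟨ι, b, hb, hsp⟩ := h
  have hcok : ∀ q : M, ∃ (k : ℕ) (p : ι →₀ R), Finsupp.linearCombination R b p = f ^ k • q := by
    intro q
    obtain ⟨k, hk⟩ := hsp q
    obtain ⟨c, hc⟩ := (Finsupp.mem_span_range_iff_exists_finsupp).mp hk
    exact ⟨k, c, by rw [Finsupp.linearCombination_apply]; exact hc⟩
  have hinj := lTensor_injective_of_torsion_coker κ (Finsupp.linearCombination R b) hb f hcok hu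
  have hemp : IsEmpty ι := by
    by_contra hne
    rw [not_isEmpty_iff] at hne
    obtain ⟨i⟩ := hne
    let ψ : κ ⊗[R] (ι →₀ R) →ₗ[κ] κ :=
      LinearMap.liftBaseChange κ ((Algebra.linearMap R κ).comp (Finsupp.lapply i))
    have h1 : ψ ((1 : κ) ⊗ₜ[R] Finsupp.single i 1) = 1 := by
      simp [ψ]
    have h2 : ((1 : κ) ⊗ₜ[R] (Finsupp.single i (1 : R))) = 0 := by
      apply hinj
      exact Subsingleton.elim _ _
    rw [h2, map_zero] at h1
    exact zero_ne_one h1
  obtain ⟨k, hk⟩ := hsp m
  refine ⟨k, ?_⟩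
  have : Set.range b = ∅ := Set.range_eq_empty b
  rw [this, Submodule.span_empty] at hk
  exact hk

variable {B : Type u} [CommRing B] [Algebra R B] {N : Type u} [AddCommGroup N] [Module B N]
  [Module R N] [IsScalarTower R B N]

/-- If `N ⧸ W` is generically free then `κ ⊗ W → κ ⊗ N` is injective. -/
theorem lTensor_subtype_injective_of_gfree (W : Submodule B N) {f : R}
    (h : GFree R (N ⧸ W) f) (κ : Type u) [CommRing κ] [Algebra R κ]
    (hu : IsUnit (algebraMap R κ f)) :
    Function.Injective ((W.subtype.restrictScalars R).lTensor κ) := by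
  have hrel : GFRel R (W.restrictScalars R) ⊤ f :=
    GFRel.of_gfree (X₀ := N) (X := N ⧸ W) LinearMap.id (W.mkQ.restrictScalars R)
      (Submodule.mkQ_surjective W) (fun _ => Submodule.mem_top)
      (fun x => by
        show x ∈ W.restrictScalars R ↔ W.mkQ x = 0
        rw [Submodule.mkQ_apply, Submodule.Quotient.mk_eq_zero]
        exact Iff.rfl)
      (fun z _ => ⟨z, by simp⟩) h
  exact lTensor_subtype_injective_of_gfrel (W.restrictScalars R) hrel κ hu

end tools

section dichotomy

variable {R : Type u} [CommRing R] {B : Type u} [CommRing B] [Algebra R B]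

theorem lTensor_apply_eq_zero_of_forall {X Y : Type u} [AddCommGroup X] [Module R X]
    [AddCommGroup Y] [Module R Y] (w : X →ₗ[R] Y) (hw : ∀ x, w x = 0) (κ : Type u) [CommRing κ]
    [Algebra R κ] (t : κ ⊗[R] X) : w.lTensor κ t = 0 := by
  have : w = 0 := LinearMap.ext hw
  rw [this, LinearMap.lTensor_zero, LinearMap.zero_apply]

/-- If `W` and `N ⧸ W` are generically free and a map onto `W` vanishes after base change to `κ`,
then `W` is `f`-power torsion. -/
theorem torsion_of_lTensor_eq_zero {N : Type u} [AddCommGroup N] [Module B N]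
    [Module R N] [IsScalarTower R B N] (W : Submodule B N) {f : R} (hW : GFree R W f)
    (hNW : GFree R (N ⧸ W) f) (κ : Type u) [CommRing κ] [Nontrivial κ] [Algebra R κ]
    (hu : IsUnit (algebraMap R κ f)) {X : Type u} [AddCommGroup X] [Module B X] [Module R X]
    [IsScalarTower R B X] (g : X →ₗ[B] N) (hg : LinearMap.range g = W)
    (hzero : ∀ t : κ ⊗[R] X, (g.restrictScalars R).lTensor κ t = 0) :
    ∀ w ∈ W, ∃ k : ℕ, f ^ k • w = 0 := by
  have hmem : ∀ x, g x ∈ W := fun x => hg ▸ ⟨x, rfl⟩
  let g' : X →ₗ[B] W := g.codRestrict W hmem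
  have hg' : Function.Surjective (g'.restrictScalars R) := by
    rintro ⟨w, hw⟩
    rw [← hg] at hw
    obtain ⟨x, rfl⟩ := hw
    exact ⟨x, rfl⟩
  have hsurj := LinearMap.lTensor_surjective κ hg'
  have hinj := lTensor_subtype_injective_of_gfree W hNW κ hu
  have hcomp : (W.subtype.restrictScalars R).comp (g'.restrictScalars R) = g.restrictScalars R :=
    LinearMap.ext fun _ => rfl
  have hs : Subsingleton (κ ⊗[R] W) := by
    refine ⟨fun a b => ?_⟩
    have h0 : ∀ t : κ ⊗[R] W, t = 0 := by
      intro t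
      obtain ⟨s, rfl⟩ := hsurj t
      apply hinj
      rw [map_zero, ← LinearMap.comp_apply, ← LinearMap.lTensor_comp, hcomp]
      exact hzero s
    rw [h0 a, h0 b]
  intro w hw
  obtain ⟨k, hk⟩ := torsion_of_subsingleton_tensor hW κ hu hs ⟨w, hw⟩
  exact ⟨k, congrArg Subtype.val hk⟩

variable {F G H : Type u} [AddCommGroup F] [Module B F] [Module R F] [IsScalarTower R B F]
  [AddCommGroup G] [Module B G] [Module R G] [IsScalarTower R B G]
  [AddCommGroup H] [Module B H] [Module R H] [IsScalarTower R B H]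

/-- The torsion condition equivalent to fibrewise exactness over `D(f)`. -/
def TorsCond (u : F →ₗ[B] G) (v : G →ₗ[B] H) (f : R) : Prop :=
  (∀ z : G, v z = 0 → ∃ (k : ℕ) (x : F), f ^ k • z = u x) ∧ (∀ x : F, ∃ k : ℕ, f ^ k • v (u x) = 0)

theorem fibExact_of_torsCond (u : F →ₗ[B] G) (v : G →ₗ[B] H) {f : R}
    (ha : GFree R (H ⧸ LinearMap.range v) f) (hT : TorsCond u v f)
    (κ : Type u) [CommRing κ] [Algebra R κ] (hu : IsUnit (algebraMap R κ f)) :
    FibExact (u.restrictScalars R) (v.restrictScalars R) κ := by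
  obtain ⟨φ, hφ⟩ : ∃ φ : κ, φ * algebraMap R κ f = 1 := ⟨↑hu.unit⁻¹, IsUnit.val_inv_mul hu⟩
  unfold FibExact
  intro y
  constructor
  · intro hy
    have hinj := lTensor_subtype_injective_of_gfree (LinearMap.range v) ha κ hu
    have hv' : ((LinearMap.range v).subtype.restrictScalars R).comp
        (v.rangeRestrict.restrictScalars R) = v.restrictScalars R := LinearMap.ext fun _ => rfl
    have hy' : ((v.rangeRestrict.restrictScalars R).lTensor κ) y = 0 := by
      apply hinj
      rw [map_zero, ← LinearMap.comp_apply, ← LinearMap.lTensor_comp, hv']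
      exact hy
    have hexact : Function.Exact ((LinearMap.ker v).subtype.restrictScalars R)
        (v.rangeRestrict.restrictScalars R) := by
      intro y
      constructor
      · intro h
        exact ⟨⟨y, by rw [LinearMap.mem_ker]; exact congrArg Subtype.val h⟩, rfl⟩
      · rintro ⟨w, rfl⟩
        exact Subtype.ext w.2
    have hex := lTensor_exact κ hexact
      (LinearMap.surjective_rangeRestrict v : Function.Surjective (v.rangeRestrict.restrictScalars R))
    obtain ⟨t, rfl⟩ := (hex y).mp hy'
    have hall : ∀ t : κ ⊗[R] (LinearMap.ker v),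
        (((LinearMap.ker v).subtype.restrictScalars R).lTensor κ) t ∈
          LinearMap.range ((u.restrictScalars R).baseChange κ) := by
      intro t
      induction t using TensorProduct.induction_on with
      | zero => rw [map_zero]; exact zero_mem _
      | tmul c x =>
        obtain ⟨k, x', hk⟩ := hT.1 x.1 x.2
        rw [LinearMap.lTensor_tmul]
        refine ⟨(c * φ ^ k) ⊗ₜ[R] x', ?_⟩
        rw [LinearMap.baseChange_tmul]
        show (c * φ ^ k) ⊗ₜ[R] (u x') = c ⊗ₜ[R] (x : G)
        rw [← hk]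
        exact tmul_pow_smul f φ hφ c k _
      | add a b ha hb => rw [map_add]; exact add_mem ha hb
    exact LinearMap.mem_range.mp (hall t)
  · rintro ⟨t, rfl⟩
    induction t using TensorProduct.induction_on with
    | zero => simp
    | tmul c x =>
      rw [LinearMap.baseChange_tmul, LinearMap.baseChange_tmul]
      show c ⊗ₜ[R] (v (u x)) = 0
      obtain ⟨k, hk⟩ := hT.2 x
      rw [← tmul_pow_smul f φ hφ c k (v (u x)), hk, TensorProduct.tmul_zero]
    | add a b ha hb => rw [map_add, map_add, ha, hb, add_zero]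

theorem torsCond_of_fibExact (u : F →ₗ[B] G) (v : G →ₗ[B] H) {f : R}
    (hb : GFree R ((G ⧸ LinearMap.range u) ⧸
      LinearMap.range ((LinearMap.range u).mkQ ∘ₗ (LinearMap.ker v).subtype)) f)
    (hc : GFree R (LinearMap.range ((LinearMap.range u).mkQ ∘ₗ (LinearMap.ker v).subtype)) f)
    (hd' : GFree R (H ⧸ LinearMap.range (v ∘ₗ u)) f)
    (hd : GFree R (LinearMap.range (v ∘ₗ u)) f)
    (κ : Type u) [CommRing κ] [Nontrivial κ] [Algebra R κ] (hu : IsUnit (algebraMap R κ f))
    (hex : FibExact (u.restrictScalars R) (v.restrictScalars R) κ) : TorsCond u v f := by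
  unfold FibExact at hex
  constructor
  · -- first condition
    have hzero : ∀ t : κ ⊗[R] (LinearMap.ker v),
        ((((LinearMap.range u).mkQ ∘ₗ (LinearMap.ker v).subtype).restrictScalars R).lTensor κ) t
          = 0 := by
      intro t
      have hcomp : (((LinearMap.range u).mkQ ∘ₗ (LinearMap.ker v).subtype).restrictScalars R) =
          ((LinearMap.range u).mkQ.restrictScalars R).comp
            ((LinearMap.ker v).subtype.restrictScalars R) := LinearMap.ext fun _ => rfl
      rw [hcomp, LinearMap.lTensor_comp, LinearMap.comp_apply]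
      have h1 : ((v.restrictScalars R).baseChange κ)
          ((((LinearMap.ker v).subtype.restrictScalars R).lTensor κ) t) = 0 := by
        have := lTensor_apply_eq_zero_of_forall
          ((v.restrictScalars R).comp ((LinearMap.ker v).subtype.restrictScalars R))
          (fun x => x.2) κ t
        rw [LinearMap.lTensor_comp, LinearMap.comp_apply] at this
        exact this
      obtain ⟨s, hs⟩ := (hex _).mp h1
      rw [← hs]
      have := lTensor_apply_eq_zero_of_forall
        (((LinearMap.range u).mkQ.restrictScalars R).comp (u.restrictScalars R))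
        (fun x => by
          show (LinearMap.range u).mkQ (u x) = 0
          rw [Submodule.mkQ_apply, Submodule.Quotient.mk_eq_zero]
          exact ⟨x, rfl⟩) κ s
      rw [LinearMap.lTensor_comp, LinearMap.comp_apply] at this
      exact this
    have key := torsion_of_lTensor_eq_zero
      (LinearMap.range ((LinearMap.range u).mkQ ∘ₗ (LinearMap.ker v).subtype)) hc hb κ hu
      ((LinearMap.range u).mkQ ∘ₗ (LinearMap.ker v).subtype) rfl hzero
    intro z hz
    obtain ⟨k, hk⟩ := key ((LinearMap.range u).mkQ z) ⟨⟨z, hz⟩, rfl⟩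
    rw [Submodule.mkQ_apply, ← Submodule.Quotient.mk_smul, Submodule.Quotient.mk_eq_zero] at hk
    obtain ⟨x, hx⟩ := hk
    exact ⟨k, x, hx.symm⟩
  · -- second condition
    have hzero : ∀ t : κ ⊗[R] F, (((v ∘ₗ u).restrictScalars R).lTensor κ) t = 0 := by
      intro t
      have hcomp : ((v ∘ₗ u).restrictScalars R) =
          (v.restrictScalars R).comp (u.restrictScalars R) := LinearMap.ext fun _ => rfl
      rw [hcomp, LinearMap.lTensor_comp, LinearMap.comp_apply]
      exact hex.apply_apply_eq_zero t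
    have key := torsion_of_lTensor_eq_zero (LinearMap.range (v ∘ₗ u)) hd hd' κ hu
      (v ∘ₗ u) rfl hzero
    intro x
    exact key (v (u x)) ⟨x, rfl⟩

/-- **Dichotomy**: with the five auxiliary modules generically free with respect to `f`, the
fibre sequence is exact at all points of `D(f)` or at none. -/
theorem fibExact_iff_torsCond (u : F →ₗ[B] G) (v : G →ₗ[B] H) {f : R}
    (ha : GFree R (H ⧸ LinearMap.range v) f)
    (hb : GFree R ((G ⧸ LinearMap.range u) ⧸
      LinearMap.range ((LinearMap.range u).mkQ ∘ₗ (LinearMap.ker v).subtype)) f)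
    (hc : GFree R (LinearMap.range ((LinearMap.range u).mkQ ∘ₗ (LinearMap.ker v).subtype)) f)
    (hd' : GFree R (H ⧸ LinearMap.range (v ∘ₗ u)) f)
    (hd : GFree R (LinearMap.range (v ∘ₗ u)) f)
    (κ : Type u) [CommRing κ] [Nontrivial κ] [Algebra R κ] (hu : IsUnit (algebraMap R κ f)) :
    FibExact (u.restrictScalars R) (v.restrictScalars R) κ ↔ TorsCond u v f :=
  ⟨torsCond_of_fibExact u v hb hc hd' hd κ hu, fun hT => fibExact_of_torsCond u v ha hT κ hu⟩

end dichotomy

section domain

variable {R : Type u} [CommRing R] [IsDomain R] [IsNoetherianRing R] {B : Type u} [CommRing B]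
  [Algebra R B] [Algebra.FiniteType R B]
  {F G H : Type u} [AddCommGroup F] [Module B F] [Module R F] [IsScalarTower R B F]
  [Module.Finite B F]
  [AddCommGroup G] [Module B G] [Module R G] [IsScalarTower R B G] [Module.Finite B G]
  [AddCommGroup H] [Module B H] [Module R H] [IsScalarTower R B H] [Module.Finite B H]

/-- Generic dichotomy over a Noetherian domain. -/
theorem exists_dichotomy_domain (u : F →ₗ[B] G) (v : G →ₗ[B] H) :
    ∃ f : R, f ≠ 0 ∧
      ((∀ (κ : Type u) [CommRing κ] [Nontrivial κ] [Algebra R κ], IsUnit (algebraMap R κ f) →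
          FibExact (u.restrictScalars R) (v.restrictScalars R) κ) ∨
        (∀ (κ : Type u) [CommRing κ] [Nontrivial κ] [Algebra R κ], IsUnit (algebraMap R κ f) →
          ¬ FibExact (u.restrictScalars R) (v.restrictScalars R) κ)) := by
  haveI : IsNoetherianRing B := Algebra.FiniteType.isNoetherianRing R B
  haveI : IsNoetherian B G := isNoetherian_of_isNoetherianRing_of_finite B G
  haveI : IsNoetherian B H := isNoetherian_of_isNoetherianRing_of_finite B H
  haveI : IsNoetherian B (G ⧸ LinearMap.range u) := inferInstance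
  obtain ⟨f₁, hf₁, h₁⟩ := exists_gfree (R := R) (S := B) (M := H ⧸ LinearMap.range v)
  obtain ⟨f₂, hf₂, h₂⟩ := exists_gfree (R := R) (S := B) (M := (G ⧸ LinearMap.range u) ⧸
      LinearMap.range ((LinearMap.range u).mkQ ∘ₗ (LinearMap.ker v).subtype))
  obtain ⟨f₃, hf₃, h₃⟩ := exists_gfree (R := R) (S := B)
    (M := LinearMap.range ((LinearMap.range u).mkQ ∘ₗ (LinearMap.ker v).subtype))
  obtain ⟨f₄, hf₄, h₄⟩ := exists_gfree (R := R) (S := B) (M := H ⧸ LinearMap.range (v ∘ₗ u))
  obtain ⟨f₅, hf₅, h₅⟩ := exists_gfree (R := R) (S := B) (M := LinearMap.range (v ∘ₗ u))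
  obtain ⟨f, hf⟩ : ∃ f : R, f = f₁ * f₂ * f₃ * f₄ * f₅ := ⟨_, rfl⟩
  have hf0 : f ≠ 0 := by
    rw [hf]
    exact mul_ne_zero (mul_ne_zero (mul_ne_zero (mul_ne_zero hf₁ hf₂) hf₃) hf₄) hf₅
  have ha := h₁.of_dvd (g := f) ⟨f₂ * f₃ * f₄ * f₅, by rw [hf]; ring⟩
  have hb := h₂.of_dvd (g := f) ⟨f₁ * f₃ * f₄ * f₅, by rw [hf]; ring⟩
  have hc := h₃.of_dvd (g := f) ⟨f₁ * f₂ * f₄ * f₅, by rw [hf]; ring⟩
  have hd' := h₄.of_dvd (g := f) ⟨f₁ * f₂ * f₃ * f₅, by rw [hf]; ring⟩
  have hd := h₅.of_dvd (g := f) ⟨f₁ * f₂ * f₃ * f₄, by rw [hf]; ring⟩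
  refine ⟨f, hf0, ?_⟩
  by_cases hT : TorsCond u v f
  · left
    intro κ _ _ _ hu
    exact (fibExact_iff_torsCond u v ha hb hc hd' hd κ hu).mpr hT
  · right
    intro κ _ _ _ hu hex
    exact hT ((fibExact_iff_torsCond u v ha hb hc hd' hd κ hu).mp hex)

end domain

end Groth.Agent.H48.FibEx
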