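import Mathlib
import Groth.Agent.H48.FibEx2

/-!
# Fibrewise exactness: the Noetherian case (helper48)
-/

set_option autoImplicit false
set_option linter.style.haveILetI false

universe u

open TensorProduct PrimeSpectrum

namespace Groth.Agent.H48.FibEx

section induction

variable {R : Type u} [CommRing R] [IsNoetherianRing R]

theorem isConstructible_zeroLocus_of_noetherian (I : Ideal R) :
    Topology.IsConstructible (zeroLocus (I : Set R)) := by
  rw [← Topology.isConstructible_compl]
  exact (isRetrocompact_zeroLocus_compl_of_fg (IsNoetherian.noetherian I)).isConstructible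
    (isClosed_zeroLocus _).isOpen_compl

omit [IsNoetherianRing R] in
theorem zeroLocus_sup_span_singleton (I : Ideal R) (a : R) :
    zeroLocus ((I ⊔ Ideal.span {a} : Ideal R) : Set R) =
      zeroLocus (I : Set R) ∩ zeroLocus {a} := by
  rw [← zeroLocus_span {a}]
  exact zeroLocus_sup I (Ideal.span {a})

omit [IsNoetherianRing R] in
theorem lt_sup_span_singleton {I : Ideal R} {a : R} (ha : a ∉ I) : I < I ⊔ Ideal.span {a} := by
  refine lt_of_le_of_ne le_sup_left (fun h => ha ?_)
  rw [h]
  exact Ideal.mem_sup_right (Ideal.mem_span_singleton_self a)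

/-- Noetherian induction for constructibility. -/
theorem isConstructible_of_forall_prime (E : Set (PrimeSpectrum R))
    (h : ∀ (I : Ideal R) [I.IsPrime], ∃ f : R, f ∉ I ∧
      ((∀ p : PrimeSpectrum R, I ≤ p.asIdeal → f ∉ p.asIdeal → p ∈ E) ∨
        (∀ p : PrimeSpectrum R, I ≤ p.asIdeal → f ∉ p.asIdeal → p ∉ E))) :
    Topology.IsConstructible E := by
  have key : ∀ I : Ideal R, Topology.IsConstructible (E ∩ zeroLocus (I : Set R)) := by
    intro I
    induction I using IsNoetherian.induction with
    | hgt I IH =>
      by_cases htop : I = ⊤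
      · rw [htop]
        simp
      by_cases hprime : Ideal.IsPrime I
      · obtain ⟨f, hfI, hf⟩ := @h I hprime
        have hJ := IH _ (lt_sup_span_singleton hfI)
        rw [zeroLocus_sup_span_singleton] at hJ
        have hsplit : E ∩ zeroLocus (I : Set R) =
            (E ∩ (zeroLocus (I : Set R) ∩ (basicOpen f : Set (PrimeSpectrum R)))) ∪
              (E ∩ (zeroLocus (I : Set R) ∩ zeroLocus {f})) := by
          ext p
          simp only [Set.mem_inter_iff, Set.mem_union, mem_zeroLocus, SetLike.mem_coe,
            mem_basicOpen, Set.singleton_subset_iff]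
          tauto
        rw [hsplit]
        refine Topology.IsConstructible.union ?_ hJ
        have hVD : Topology.IsConstructible
            (zeroLocus (I : Set R) ∩ (basicOpen f : Set (PrimeSpectrum R))) :=
          (isConstructible_zeroLocus_of_noetherian I).inter isConstructible_basicOpen
        rcases hf with hall | hnone
        · have : E ∩ (zeroLocus (I : Set R) ∩ (basicOpen f : Set (PrimeSpectrum R))) =
              zeroLocus (I : Set R) ∩ (basicOpen f : Set (PrimeSpectrum R)) := by
            ext p
            simp only [Set.mem_inter_iff, mem_zeroLocus, SetLike.mem_coe, mem_basicOpen]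
            constructor
            · exact fun h => h.2
            · exact fun h => ⟨hall p h.1 h.2, h⟩
          rw [this]
          exact hVD
        · have : E ∩ (zeroLocus (I : Set R) ∩ (basicOpen f : Set (PrimeSpectrum R))) = ∅ := by
            ext p
            simp only [Set.mem_inter_iff, mem_zeroLocus, SetLike.mem_coe, mem_basicOpen,
              Set.mem_empty_iff_false, iff_false]
            exact fun h => hnone p h.2.1 h.2.2 h.1
          rw [this]
          exact Topology.IsConstructible.empty
      · rw [Ideal.isPrime_iff] at hprime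
        push Not at hprime
        obtain ⟨a, b, hab, ha, hb⟩ := hprime htop
        have h1 := IH _ (lt_sup_span_singleton ha)
        have h2 := IH _ (lt_sup_span_singleton hb)
        rw [zeroLocus_sup_span_singleton] at h1 h2
        have hsplit : E ∩ zeroLocus (I : Set R) =
            (E ∩ (zeroLocus (I : Set R) ∩ zeroLocus {a})) ∪
              (E ∩ (zeroLocus (I : Set R) ∩ zeroLocus {b})) := by
          ext p
          simp only [Set.mem_inter_iff, Set.mem_union, mem_zeroLocus, SetLike.mem_coe,
            Set.singleton_subset_iff]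
          constructor
          · rintro ⟨hE, hI⟩
            rcases p.2.mem_or_mem (hI hab) with h | h
            · exact Or.inl ⟨hE, hI, h⟩
            · exact Or.inr ⟨hE, hI, h⟩
          · rintro (⟨hE, hI, -⟩ | ⟨hE, hI, -⟩) <;> exact ⟨hE, hI⟩
        rw [hsplit]
        exact h1.union h2
  have := key ⊥
  simpa using this

end induction

section pushout

/-- Base change of a module along `S₀ → S` is base change along `C → R` when `S = R ⊗[C] S₀`. -/
theorem isBaseChange_of_isPushout (C R S₀ S M₀ M : Type u) [CommRing C] [CommRing R]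
    [Algebra C R] [CommRing S₀] [Algebra C S₀] [CommRing S] [Algebra R S] [Algebra S₀ S]
    [Algebra C S] [IsScalarTower C R S] [IsScalarTower C S₀ S] [Algebra.IsPushout C R S₀ S]
    [AddCommGroup M₀] [Module S₀ M₀] [Module C M₀] [IsScalarTower C S₀ M₀]
    [AddCommGroup M] [Module S M] [Module R M] [IsScalarTower R S M] [Module S₀ M]
    [IsScalarTower S₀ S M] [Module C M] [IsScalarTower C R M] [IsScalarTower C S₀ M]
    (h : M₀ →ₗ[S₀] M) (hbc : IsBaseChange S h) : IsBaseChange R (h.restrictScalars C) := by
  refine IsBaseChange.of_equiv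
    ((Algebra.IsPushout.cancelBaseChange C R S₀ S M₀).symm ≪≫ₗ (hbc.equiv.restrictScalars R))
    (fun x => ?_)
  rw [LinearEquiv.trans_apply, Algebra.IsPushout.cancelBaseChange_symm_tmul, map_one]
  show hbc.equiv (1 ⊗ₜ[S₀] x) = h x
  rw [IsBaseChange.equiv_tmul, one_smul]

end pushout

section primeAux

variable {R : Type u} [CommRing R] {B : Type u} [CommRing B] [Algebra R B]
  {F G H : Type u} [AddCommGroup F] [Module B F] [Module R F] [IsScalarTower R B F]
  [Module.Finite B F]
  [AddCommGroup G] [Module B G] [Module R G] [IsScalarTower R B G] [Module.Finite B G]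
  [AddCommGroup H] [Module B H] [Module R H] [IsScalarTower R B H] [Module.Finite B H]

/-- Generic dichotomy after base change to a Noetherian domain `R'`, with `S' = R' ⊗[R] B`
given abstractly as a pushout. -/
theorem exists_dichotomy_of_isPushout (R' S' : Type u) [CommRing R'] [IsDomain R']
    [IsNoetherianRing R'] [Algebra R R'] [CommRing S'] [Algebra R' S'] [Algebra B S']
    [Algebra R S'] [IsScalarTower R R' S'] [IsScalarTower R B S'] [Algebra.IsPushout R R' B S']
    [Algebra.FiniteType R' S'] (u : F →ₗ[B] G) (v : G →ₗ[B] H) :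
    ∃ f' : R', f' ≠ 0 ∧
      ((∀ (κ : Type u) [Field κ] [Algebra R κ] [Algebra R' κ] [IsScalarTower R R' κ],
          IsUnit (algebraMap R' κ f') →
          FibExact (u.restrictScalars R) (v.restrictScalars R) κ) ∨
        (∀ (κ : Type u) [Field κ] [Algebra R κ] [Algebra R' κ] [IsScalarTower R R' κ],
          IsUnit (algebraMap R' κ f') →
          ¬ FibExact (u.restrictScalars R) (v.restrictScalars R) κ)) := by
  haveI : SMulCommClass B R' S' := ⟨fun b r s => by
    simp only [Algebra.smul_def]; ring⟩
  obtain ⟨f', hf', hdich⟩ := exists_dichotomy_domain (R := R') (B := S')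
    (F := S' ⊗[B] F) (G := S' ⊗[B] G) (H := S' ⊗[B] H) (u.baseChange S') (v.baseChange S')
  have hF : IsBaseChange R' ((TensorProduct.mk B S' F 1).restrictScalars R) :=
    isBaseChange_of_isPushout R R' B S' F (S' ⊗[B] F) (TensorProduct.mk B S' F 1)
      (TensorProduct.isBaseChange B F S')
  have hG : IsBaseChange R' ((TensorProduct.mk B S' G 1).restrictScalars R) :=
    isBaseChange_of_isPushout R R' B S' G (S' ⊗[B] G) (TensorProduct.mk B S' G 1)
      (TensorProduct.isBaseChange B G S')
  have hH : IsBaseChange R' ((TensorProduct.mk B S' H 1).restrictScalars R) :=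
    isBaseChange_of_isPushout R R' B S' H (S' ⊗[B] H) (TensorProduct.mk B S' H 1)
      (TensorProduct.isBaseChange B H S')
  have hiff : ∀ (κ : Type u) [Field κ] [Algebra R κ] [Algebra R' κ] [IsScalarTower R R' κ],
      FibExact ((u.baseChange S').restrictScalars R') ((v.baseChange S').restrictScalars R') κ ↔
        FibExact (u.restrictScalars R) (v.restrictScalars R) κ := by
    intro κ _ _ _ _
    exact fibExact_baseChange (u.restrictScalars R) (v.restrictScalars R)
      ((u.baseChange S').restrictScalars R') ((v.baseChange S').restrictScalars R') hF hG hH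
      (fun x => LinearMap.baseChange_tmul _ _ _) (fun x => LinearMap.baseChange_tmul _ _ _) κ
  refine ⟨f', hf', ?_⟩
  rcases hdich with hall | hnone
  · left
    intro κ _ _ _ _ hu
    exact (hiff κ).mp (hall κ hu)
  · right
    intro κ _ _ _ _ hu hex
    exact hnone κ hu ((hiff κ).mpr hex)

end primeAux

section prime

attribute [local instance] Algebra.TensorProduct.rightAlgebra

variable {R : Type u} [CommRing R] [IsNoetherianRing R] {B : Type u} [CommRing B]
  [Algebra R B] [Algebra.FiniteType R B]
  {F G H : Type u} [AddCommGroup F] [Module B F] [Module R F] [IsScalarTower R B F]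
  [Module.Finite B F]
  [AddCommGroup G] [Module B G] [Module R G] [IsScalarTower R B G] [Module.Finite B G]
  [AddCommGroup H] [Module B H] [Module R H] [IsScalarTower R B H] [Module.Finite B H]

/-- Dichotomy on `V(I) ∩ D(f)` for a prime `I`. -/
theorem exists_dichotomy_prime (u : F →ₗ[B] G) (v : G →ₗ[B] H) (I : Ideal R) [I.IsPrime] :
    ∃ f : R, f ∉ I ∧
      ((∀ p : PrimeSpectrum R, I ≤ p.asIdeal → f ∉ p.asIdeal →
          p ∈ locus (u.restrictScalars R) (v.restrictScalars R)) ∨
        (∀ p : PrimeSpectrum R, I ≤ p.asIdeal → f ∉ p.asIdeal →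
          p ∉ locus (u.restrictScalars R) (v.restrictScalars R))) := by
  obtain ⟨f', hf', hdich⟩ := exists_dichotomy_of_isPushout (R := R) (B := B) (R ⧸ I) ((R ⧸ I) ⊗[R] B) u v
  obtain ⟨f, rfl⟩ := Ideal.Quotient.mk_surjective f'
  have hfI : f ∉ I := fun h => hf' (Ideal.Quotient.eq_zero_iff_mem.mpr h)
  have key : ∀ p : PrimeSpectrum R, I ≤ p.asIdeal → f ∉ p.asIdeal →
      ∃ (_ : Algebra (R ⧸ I) p.asIdeal.ResidueField)
        (_ : IsScalarTower R (R ⧸ I) p.asIdeal.ResidueField),
        IsUnit (algebraMap (R ⧸ I) p.asIdeal.ResidueField (Ideal.Quotient.mk I f)) := by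
    intro p hIp hfp
    let φ : R ⧸ I →+* p.asIdeal.ResidueField :=
      Ideal.Quotient.lift I (algebraMap R p.asIdeal.ResidueField)
        (fun a ha => Ideal.algebraMap_residueField_eq_zero.mpr (hIp ha))
    letI : Algebra (R ⧸ I) p.asIdeal.ResidueField := φ.toAlgebra
    have tower : IsScalarTower R (R ⧸ I) p.asIdeal.ResidueField :=
      IsScalarTower.of_algebraMap_eq (fun x => rfl)
    refine ⟨inferInstance, tower, ?_⟩
    show IsUnit (φ (Ideal.Quotient.mk I f))
    rw [Ideal.Quotient.lift_mk, isUnit_iff_ne_zero]
    exact fun h => hfp (Ideal.algebraMap_residueField_eq_zero.mp h)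
  refine ⟨f, hfI, ?_⟩
  rcases hdich with hall | hnone
  · left
    intro p hIp hfp
    obtain ⟨_, _, hu⟩ := key p hIp hfp
    exact hall _ hu
  · right
    intro p hIp hfp
    obtain ⟨_, _, hu⟩ := key p hIp hfp
    exact hnone _ hu

/-- **Noetherian case** of the constructibility of fibrewise exactness. -/
theorem isConstructible_locus_of_noetherian (u : F →ₗ[B] G) (v : G →ₗ[B] H) :
    Topology.IsConstructible (locus (u.restrictScalars R) (v.restrictScalars R)) :=
  isConstructible_of_forall_prime _ (fun I _ => exists_dichotomy_prime u v I)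

end prime

end Groth.Agent.H48.FibEx
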