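import Mathlib
import Groth.Agent.H48.FibEx3
import Groth.Agent.H48.FlatLimitMod2

/-!
# Fibrewise exactness: descent to a Noetherian model (helper48)
-/

set_option autoImplicit false
set_option linter.style.haveILetI false

universe u

open TensorProduct PrimeSpectrum

namespace Groth.Agent.H48.FibEx

open Groth.Agent.H48.FlatLimit

theorem isConstructible_preimage_comap {R S : Type u} [CommRing R] [CommRing S] (f : R →+* S)
    {s : Set (PrimeSpectrum R)} (hs : Topology.IsConstructible s) :
    Topology.IsConstructible (comap f ⁻¹' s) := by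
  obtain ⟨D, rfl⟩ := exists_constructibleSetData_iff.mpr hs
  rw [← ConstructibleSetData.toSet_map]
  exact ConstructibleSetData.isConstructible_toSet _

section lifts

variable {P : Type u} [CommRing P]

/-- lifting a map from a finite free module through a surjection -/
theorem exists_lift_of_surjective {n : ℕ} {M N : Type u} [AddCommGroup M] [Module P M]
    [AddCommGroup N] [Module P N] (f : N →ₗ[P] M) (hf : Function.Surjective f)
    (w : (Fin n → P) →ₗ[P] M) : ∃ U : (Fin n → P) →ₗ[P] N, ∀ x, f (U x) = w x := by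
  obtain ⟨U, hU⟩ := Module.projective_lifting_property f w hf
  exact ⟨U, fun x => LinearMap.congr_fun hU x⟩

/-- lifting a map into the kernel through an exact sequence -/
theorem exists_lift_of_exact {m : ℕ} {M N N' : Type u} [AddCommGroup M] [Module P M]
    [AddCommGroup N] [Module P N] [AddCommGroup N'] [Module P N'] (g : N' →ₗ[P] N)
    (f : N →ₗ[P] M) (hgf : Function.Exact g f) (w : (Fin m → P) →ₗ[P] N)
    (hw : ∀ x, f (w x) = 0) : ∃ W : (Fin m → P) →ₗ[P] N', ∀ x, g (W x) = w x := by
  let w' : (Fin m → P) →ₗ[P] LinearMap.range g :=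
    w.codRestrict (LinearMap.range g) (fun x => (hgf (w x)).mp (hw x))
  obtain ⟨W, hW⟩ := exists_lift_of_surjective g.rangeRestrict
    (LinearMap.surjective_rangeRestrict g) w'
  exact ⟨W, fun x => congrArg Subtype.val (hW x)⟩

end lifts

section coeffs

attribute [local instance] MvPolynomial.algebraMvPolynomial

variable {R : Type u} [CommRing R] {a : ℕ}

/-- the set of coefficients of the entries of a matrix of polynomials -/
def matCoeffs {n m : ℕ} (A : Matrix (Fin n) (Fin m) (MvPolynomial (Fin a) R)) : Set R :=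
  ⋃ i, ⋃ j, ((A i j).coeffs : Set R)

theorem matCoeffs_finite {n m : ℕ} (A : Matrix (Fin n) (Fin m) (MvPolynomial (Fin a) R)) :
    (matCoeffs A).Finite :=
  Set.finite_iUnion fun _ => Set.finite_iUnion fun _ => Finset.finite_toSet _

theorem exists_matrix_lift (C : Type u) [CommRing C] [Algebra C R] {n m : ℕ}
    (A : Matrix (Fin n) (Fin m) (MvPolynomial (Fin a) R))
    (h : matCoeffs A ⊆ Set.range (algebraMap C R)) :
    ∃ A₀ : Matrix (Fin n) (Fin m) (MvPolynomial (Fin a) C),
      A₀.map (algebraMap (MvPolynomial (Fin a) C) (MvPolynomial (Fin a) R)) = A := by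
  have h1 : ∀ i j, A i j ∈ Set.range (MvPolynomial.map (algebraMap C R)) := by
    intro i j
    rw [MvPolynomial.mem_range_map_iff_coeffs_subset]
    exact fun x hx => h (Set.mem_iUnion.mpr ⟨i, Set.mem_iUnion.mpr ⟨j, hx⟩⟩)
  choose q hq using h1
  refine ⟨Matrix.of q, ?_⟩
  refine Matrix.ext (fun i j => ?_)
  rw [Matrix.map_apply, MvPolynomial.algebraMap_def]
  exact hq i j

end coeffs

section model

attribute [local instance] MvPolynomial.algebraMvPolynomial

variable {C R : Type u} [CommRing C] [IsNoetherianRing C] [CommRing R] [Algebra C R] {a : ℕ}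
  {F G H : Type u}
  [AddCommGroup F] [Module (MvPolynomial (Fin a) R) F] [Module R F]
  [IsScalarTower R (MvPolynomial (Fin a) R) F]
  [AddCommGroup G] [Module (MvPolynomial (Fin a) R) G] [Module R G]
  [IsScalarTower R (MvPolynomial (Fin a) R) G]
  [AddCommGroup H] [Module (MvPolynomial (Fin a) R) H] [Module R H]
  [IsScalarTower R (MvPolynomial (Fin a) R) H]

omit [IsNoetherianRing C] in
/-- matrix identities descend along an injective map of coefficient rings -/
theorem matrix_mul_eq_of_map {S₀ S : Type u} [CommRing S₀] [CommRing S] (φ : S₀ →+* S)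
    (hφ : Function.Injective φ) {n m k l : ℕ}
    (A : Matrix (Fin n) (Fin m) S₀) (B : Matrix (Fin m) (Fin k) S₀)
    (A' : Matrix (Fin n) (Fin l) S₀) (B' : Matrix (Fin l) (Fin k) S₀)
    (h : A.map φ * B.map φ = A'.map φ * B'.map φ) : A * B = A' * B' := by
  apply Matrix.map_injective hφ
  show (A * B).map φ = (A' * B').map φ
  rw [Matrix.map_mul, Matrix.map_mul]
  exact h

local notation "S₀" => MvPolynomial (Fin a) C
local notation "P" => MvPolynomial (Fin a) R

/-- Constructibility of the locus, given an explicit model of the presentation data over a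
Noetherian coefficient ring `C ⊆ R`. -/
theorem isConstructible_locus_of_model (hinj : Function.Injective (algebraMap C R))
    (u : F →ₗ[P] G) (v : G →ₗ[P] H) {nF mF nG mG nH mH : ℕ}
    (fF : (Fin nF → P) →ₗ[P] F) (gF : (Fin mF → P) →ₗ[P] (Fin nF → P))
    (hfF : Function.Surjective fF) (hgF : Function.Exact gF fF)
    (fG : (Fin nG → P) →ₗ[P] G) (gG : (Fin mG → P) →ₗ[P] (Fin nG → P))
    (hfG : Function.Surjective fG) (hgG : Function.Exact gG fG)
    (fH : (Fin nH → P) →ₗ[P] H) (gH : (Fin mH → P) →ₗ[P] (Fin nH → P))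
    (hfH : Function.Surjective fH) (hgH : Function.Exact gH fH)
    (U : (Fin nF → P) →ₗ[P] (Fin nG → P)) (hU : ∀ x, fG (U x) = u (fF x))
    (W : (Fin mF → P) →ₗ[P] (Fin mG → P)) (hW : ∀ x, gG (W x) = U (gF x))
    (V : (Fin nG → P) →ₗ[P] (Fin nH → P)) (hV : ∀ x, fH (V x) = v (fG x))
    (W' : (Fin mG → P) →ₗ[P] (Fin mH → P)) (hW' : ∀ x, gH (W' x) = V (gG x))
    (AF : Matrix (Fin nF) (Fin mF) S₀) (hAF : AF.map (algebraMap S₀ P) = LinearMap.toMatrix' gF)
    (AG : Matrix (Fin nG) (Fin mG) S₀) (hAG : AG.map (algebraMap S₀ P) = LinearMap.toMatrix' gG)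
    (AH : Matrix (Fin nH) (Fin mH) S₀) (hAH : AH.map (algebraMap S₀ P) = LinearMap.toMatrix' gH)
    (MU : Matrix (Fin nG) (Fin nF) S₀) (hMU : MU.map (algebraMap S₀ P) = LinearMap.toMatrix' U)
    (MW : Matrix (Fin mG) (Fin mF) S₀) (hMW : MW.map (algebraMap S₀ P) = LinearMap.toMatrix' W)
    (MV : Matrix (Fin nH) (Fin nG) S₀) (hMV : MV.map (algebraMap S₀ P) = LinearMap.toMatrix' V)
    (MW' : Matrix (Fin mH) (Fin mG) S₀)
    (hMW' : MW'.map (algebraMap S₀ P) = LinearMap.toMatrix' W') :
    Topology.IsConstructible (locus (u.restrictScalars R) (v.restrictScalars R)) := by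
  classical
  letI mF' : Module S₀ F := Module.compHom F (algebraMap S₀ P)
  haveI tF : IsScalarTower S₀ P F := ⟨fun a b m => by rw [Algebra.smul_def, mul_smul]; rfl⟩
  letI mG' : Module S₀ G := Module.compHom G (algebraMap S₀ P)
  haveI tG : IsScalarTower S₀ P G := ⟨fun a b m => by rw [Algebra.smul_def, mul_smul]; rfl⟩
  letI mH' : Module S₀ H := Module.compHom H (algebraMap S₀ P)
  haveI tH : IsScalarTower S₀ P H := ⟨fun a b m => by rw [Algebra.smul_def, mul_smul]; rfl⟩
  letI cF : Module C F := Module.compHom F (algebraMap C R)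
  haveI ctF : IsScalarTower C R F := ⟨fun a b m => by rw [Algebra.smul_def, mul_smul]; rfl⟩
  letI cG : Module C G := Module.compHom G (algebraMap C R)
  haveI ctG : IsScalarTower C R G := ⟨fun a b m => by rw [Algebra.smul_def, mul_smul]; rfl⟩
  letI cH : Module C H := Module.compHom H (algebraMap C R)
  haveI ctH : IsScalarTower C R H := ⟨fun a b m => by rw [Algebra.smul_def, mul_smul]; rfl⟩
  have tower : ∀ (M : Type u) [AddCommGroup M] [Module P M] [Module R M] [IsScalarTower R P M]
      (c : C) (s : S₀) (m : M),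
      algebraMap S₀ P (c • s) • m = algebraMap C R c • (algebraMap S₀ P s • m) := by
    intro M _ _ _ _ c s m
    rw [Algebra.smul_def, map_mul, mul_smul, ← IsScalarTower.algebraMap_apply C S₀ P,
      IsScalarTower.algebraMap_apply C R P, algebraMap_smul]
  haveI csF : IsScalarTower C S₀ F := ⟨fun c s m => tower F c s m⟩
  haveI csG : IsScalarTower C S₀ G := ⟨fun c s m => tower G c s m⟩
  haveI csH : IsScalarTower C S₀ H := ⟨fun c s m => tower H c s m⟩
  have hφinj : Function.Injective (algebraMap S₀ P) := by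
    rw [MvPolynomial.algebraMap_def]
    exact MvPolynomial.map_injective _ hinj
  have hUW : MU * AF = AG * MW := by
    apply matrix_mul_eq_of_map (algebraMap S₀ P) hφinj
    rw [hMU, hAF, hAG, hMW, ← LinearMap.toMatrix'_comp, ← LinearMap.toMatrix'_comp]
    congr 1
    exact LinearMap.ext (fun x => (hW x).symm)
  have hVW : MV * AG = AH * MW' := by
    apply matrix_mul_eq_of_map (algebraMap S₀ P) hφinj
    rw [hMV, hAG, hAH, hMW', ← LinearMap.toMatrix'_comp, ← LinearMap.toMatrix'_comp]
    congr 1
    exact LinearMap.ext (fun x => (hW' x).symm)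
  let u₀ : ModelMod AF →ₗ[S₀] ModelMod AG := Submodule.mapQ _ _ (Matrix.toLin' MU) (by
    rintro _ ⟨x, rfl⟩
    rw [Submodule.mem_comap, ← Matrix.toLin'_mul_apply, hUW, Matrix.toLin'_mul_apply]
    exact ⟨_, rfl⟩)
  let v₀ : ModelMod AG →ₗ[S₀] ModelMod AH := Submodule.mapQ _ _ (Matrix.toLin' MV) (by
    rintro _ ⟨x, rfl⟩
    rw [Submodule.mem_comap, ← Matrix.toLin'_mul_apply, hVW, Matrix.toLin'_mul_apply]
    exact ⟨_, rfl⟩)
  have hbcF : IsBaseChange R ((modelMap fF gF hgF AF hAF).restrictScalars C) :=
    isBaseChange_of_isPushout C R S₀ P (ModelMod AF) F _ (isBaseChange_modelMap fF gF hgF AF hAF hfF)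
  have hbcG : IsBaseChange R ((modelMap fG gG hgG AG hAG).restrictScalars C) :=
    isBaseChange_of_isPushout C R S₀ P (ModelMod AG) G _ (isBaseChange_modelMap fG gG hgG AG hAG hfG)
  have hbcH : IsBaseChange R ((modelMap fH gH hgH AH hAH).restrictScalars C) :=
    isBaseChange_of_isPushout C R S₀ P (ModelMod AH) H _ (isBaseChange_modelMap fH gH hgH AH hAH hfH)
  have hu₀ : ∀ y : ModelMod AF, (u.restrictScalars R) (((modelMap fF gF hgF AF hAF).restrictScalars C) y) =
      ((modelMap fG gG hgG AG hAG).restrictScalars C) ((u₀.restrictScalars C) y) := by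
    intro y
    obtain ⟨x, rfl⟩ := Submodule.Quotient.mk_surjective _ y
    show u (fF (((Algebra.linearMap S₀ P).compLeft (Fin nF)) x)) =
      fG (((Algebra.linearMap S₀ P).compLeft (Fin nG)) (Matrix.toLin' MU x))
    rw [compLeft_toLin' MU U hMU x, hU]
  have hv₀ : ∀ y : ModelMod AG, (v.restrictScalars R) (((modelMap fG gG hgG AG hAG).restrictScalars C) y) =
      ((modelMap fH gH hgH AH hAH).restrictScalars C) ((v₀.restrictScalars C) y) := by
    intro y
    obtain ⟨x, rfl⟩ := Submodule.Quotient.mk_surjective _ y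
    show v (fG (((Algebra.linearMap S₀ P).compLeft (Fin nG)) x)) =
      fH (((Algebra.linearMap S₀ P).compLeft (Fin nH)) (Matrix.toLin' MV x))
    rw [compLeft_toLin' MV V hMV x, hV]
  have hcons := isConstructible_locus_of_noetherian (R := C) (B := S₀) u₀ v₀
  rw [locus_baseChange (u₀.restrictScalars C) (v₀.restrictScalars C) (u.restrictScalars R)
    (v.restrictScalars R) hbcF hbcG hbcH hu₀ hv₀]
  exact isConstructible_preimage_comap _ hcons

end model

section poly

attribute [local instance] MvPolynomial.algebraMvPolynomial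

variable {R : Type u} [CommRing R] {a : ℕ}
  {F G H : Type u}
  [AddCommGroup F] [Module (MvPolynomial (Fin a) R) F] [Module R F]
  [IsScalarTower R (MvPolynomial (Fin a) R) F] [Module.FinitePresentation (MvPolynomial (Fin a) R) F]
  [AddCommGroup G] [Module (MvPolynomial (Fin a) R) G] [Module R G]
  [IsScalarTower R (MvPolynomial (Fin a) R) G] [Module.FinitePresentation (MvPolynomial (Fin a) R) G]
  [AddCommGroup H] [Module (MvPolynomial (Fin a) R) H] [Module R H]
  [IsScalarTower R (MvPolynomial (Fin a) R) H] [Module.FinitePresentation (MvPolynomial (Fin a) R) H]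

local notation "P" => MvPolynomial (Fin a) R

/-- The polynomial-ring case over an arbitrary base ring. -/
theorem isConstructible_locus_poly (u : F →ₗ[P] G) (v : G →ₗ[P] H) :
    Topology.IsConstructible (locus (u.restrictScalars R) (v.restrictScalars R)) := by
  classical
  obtain ⟨nF, mF, fF, gF, hfF, hgF⟩ := Module.FinitePresentation.exists_fin' P F
  obtain ⟨nG, mG, fG, gG, hfG, hgG⟩ := Module.FinitePresentation.exists_fin' P G
  obtain ⟨nH, mH, fH, gH, hfH, hgH⟩ := Module.FinitePresentation.exists_fin' P H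
  obtain ⟨U, hU⟩ := exists_lift_of_surjective fG hfG (u ∘ₗ fF)
  obtain ⟨W, hW⟩ := exists_lift_of_exact gG fG hgG (U ∘ₗ gF) (fun x => by
    rw [LinearMap.comp_apply, hU, LinearMap.comp_apply, hgF.apply_apply_eq_zero, map_zero])
  obtain ⟨V, hV⟩ := exists_lift_of_surjective fH hfH (v ∘ₗ fG)
  obtain ⟨W', hW'⟩ := exists_lift_of_exact gH fH hgH (V ∘ₗ gG) (fun x => by
    rw [LinearMap.comp_apply, hV, LinearMap.comp_apply, hgG.apply_apply_eq_zero, map_zero])
  let s : Set R := matCoeffs (LinearMap.toMatrix' gF) ∪ matCoeffs (LinearMap.toMatrix' gG) ∪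
    matCoeffs (LinearMap.toMatrix' gH) ∪ matCoeffs (LinearMap.toMatrix' U) ∪
    matCoeffs (LinearMap.toMatrix' W) ∪ matCoeffs (LinearMap.toMatrix' V) ∪
    matCoeffs (LinearMap.toMatrix' W')
  have hs : s.Finite :=
    ((((((matCoeffs_finite _).union (matCoeffs_finite _)).union (matCoeffs_finite _)).union
      (matCoeffs_finite _)).union (matCoeffs_finite _)).union (matCoeffs_finite _)).union
      (matCoeffs_finite _)
  haveI : Algebra.FiniteType ℤ (Algebra.adjoin ℤ s) := Algebra.FiniteType.adjoin_of_finite hs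
  haveI : IsNoetherianRing (Algebra.adjoin ℤ s) :=
    Algebra.FiniteType.isNoetherianRing ℤ (Algebra.adjoin ℤ s)
  have hsub : s ⊆ Set.range (algebraMap (Algebra.adjoin ℤ s) R) :=
    fun x hx => ⟨⟨x, Algebra.subset_adjoin hx⟩, rfl⟩
  obtain ⟨AF, hAF⟩ := exists_matrix_lift (Algebra.adjoin ℤ s) (LinearMap.toMatrix' gF)
    (fun x hx => hsub (by simp only [s, Set.mem_union]; tauto))
  obtain ⟨AG, hAG⟩ := exists_matrix_lift (Algebra.adjoin ℤ s) (LinearMap.toMatrix' gG)
    (fun x hx => hsub (by simp only [s, Set.mem_union]; tauto))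
  obtain ⟨AH, hAH⟩ := exists_matrix_lift (Algebra.adjoin ℤ s) (LinearMap.toMatrix' gH)
    (fun x hx => hsub (by simp only [s, Set.mem_union]; tauto))
  obtain ⟨MU, hMU⟩ := exists_matrix_lift (Algebra.adjoin ℤ s) (LinearMap.toMatrix' U)
    (fun x hx => hsub (by simp only [s, Set.mem_union]; tauto))
  obtain ⟨MW, hMW⟩ := exists_matrix_lift (Algebra.adjoin ℤ s) (LinearMap.toMatrix' W)
    (fun x hx => hsub (by simp only [s, Set.mem_union]; tauto))
  obtain ⟨MV, hMV⟩ := exists_matrix_lift (Algebra.adjoin ℤ s) (LinearMap.toMatrix' V)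
    (fun x hx => hsub (by simp only [s, Set.mem_union]; tauto))
  obtain ⟨MW', hMW'⟩ := exists_matrix_lift (Algebra.adjoin ℤ s) (LinearMap.toMatrix' W')
    (fun x hx => hsub (by simp only [s, Set.mem_union]; tauto))
  exact isConstructible_locus_of_model (C := Algebra.adjoin ℤ s) Subtype.val_injective u v
    fF gF hfF hgF fG gG hfG hgG fH gH hfH hgH U hU W hW V hV W' hW'
    AF hAF AG hAG AH hAH MU hMU MW hMW MV hMV MW' hMW'

end poly

section fp

variable {R B : Type u} [CommRing R] [CommRing B] [Algebra R B] [Algebra.FinitePresentation R B]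
  {F G H : Type u} [AddCommGroup F] [Module B F] [Module R F] [IsScalarTower R B F]
  [Module.FinitePresentation B F]
  [AddCommGroup G] [Module B G] [Module R G] [IsScalarTower R B G]
  [Module.FinitePresentation B G]
  [AddCommGroup H] [Module B H] [Module R H] [IsScalarTower R B H]
  [Module.FinitePresentation B H]

/-- **EGA IV 9.4.2, affine form**: constructibility of the locus of fibrewise exactness. -/
theorem isConstructible_locus_fp (u : F →ₗ[B] G) (v : G →ₗ[B] H) :
    Topology.IsConstructible (locus (u.restrictScalars R) (v.restrictScalars R)) := by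
  classical
  obtain ⟨n, φ, hφ, hker⟩ := (Algebra.FinitePresentation.out : ∃ (n : ℕ)
    (f : MvPolynomial (Fin n) R →ₐ[R] B), Function.Surjective f ∧ (RingHom.ker f.toRingHom).FG)
  letI algPB : Algebra (MvPolynomial (Fin n) R) B := φ.toRingHom.toAlgebra
  have hφa : ∀ x, algebraMap (MvPolynomial (Fin n) R) B x = φ x := fun _ => rfl
  haveI t0 : IsScalarTower R (MvPolynomial (Fin n) R) B :=
    IsScalarTower.of_algebraMap_eq (fun r => by rw [hφa, AlgHom.commutes])
  letI mF : Module (MvPolynomial (Fin n) R) F :=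
    Module.compHom F (algebraMap (MvPolynomial (Fin n) R) B)
  haveI tF : IsScalarTower (MvPolynomial (Fin n) R) B F :=
    ⟨fun a b m => by rw [Algebra.smul_def, mul_smul]; rfl⟩
  letI mG : Module (MvPolynomial (Fin n) R) G :=
    Module.compHom G (algebraMap (MvPolynomial (Fin n) R) B)
  haveI tG : IsScalarTower (MvPolynomial (Fin n) R) B G :=
    ⟨fun a b m => by rw [Algebra.smul_def, mul_smul]; rfl⟩
  letI mH : Module (MvPolynomial (Fin n) R) H :=
    Module.compHom H (algebraMap (MvPolynomial (Fin n) R) B)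
  haveI tH : IsScalarTower (MvPolynomial (Fin n) R) B H :=
    ⟨fun a b m => by rw [Algebra.smul_def, mul_smul]; rfl⟩
  have tower : ∀ (M : Type u) [AddCommGroup M] [Module B M] [Module R M] [IsScalarTower R B M]
      (r : R) (p : MvPolynomial (Fin n) R) (m : M),
      algebraMap (MvPolynomial (Fin n) R) B (r • p) • m =
        r • (algebraMap (MvPolynomial (Fin n) R) B p • m) := by
    intro M _ _ _ _ r p m
    rw [hφa, map_smul, smul_assoc, hφa]
  haveI rF : IsScalarTower R (MvPolynomial (Fin n) R) F := ⟨fun r p m => tower F r p m⟩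
  haveI rG : IsScalarTower R (MvPolynomial (Fin n) R) G := ⟨fun r p m => tower G r p m⟩
  haveI rH : IsScalarTower R (MvPolynomial (Fin n) R) H := ⟨fun r p m => tower H r p m⟩
  haveI fpB : Module.FinitePresentation (MvPolynomial (Fin n) R) B :=
    Module.finitePresentation_of_surjective (Algebra.linearMap (MvPolynomial (Fin n) R) B) hφ
      (by
        have : LinearMap.ker (Algebra.linearMap (MvPolynomial (Fin n) R) B) =
            RingHom.ker φ.toRingHom := by
          ext x
          rfl
        rw [this]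
        exact hker)
  haveI fpF : Module.FinitePresentation (MvPolynomial (Fin n) R) F :=
    Module.FinitePresentation.trans (MvPolynomial (Fin n) R) F B
  haveI fpG : Module.FinitePresentation (MvPolynomial (Fin n) R) G :=
    Module.FinitePresentation.trans (MvPolynomial (Fin n) R) G B
  haveI fpH : Module.FinitePresentation (MvPolynomial (Fin n) R) H :=
    Module.FinitePresentation.trans (MvPolynomial (Fin n) R) H B
  exact isConstructible_locus_poly (u.restrictScalars (MvPolynomial (Fin n) R))
    (v.restrictScalars (MvPolynomial (Fin n) R))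

end fp

end Groth.Agent.H48.FibEx
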