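import Mathlib
import Groth.Agent.H66.FlatFP

/-! Flat finite type algebra, locally finitely presented, over a ring embedding in a finite product
of local rings ⇒ finitely presented algebra (plumbing on top of `H66.FlatFP`).  (helper48) -/

set_option autoImplicit false
set_option linter.style.haveILetI false

universe u

namespace Groth.Agent.H48.FlatFPAlg

/-- `P → S` surjective, `P` f.p. over `R`; if `S_M` is an f.p. `R_M`-algebra then the localized
`P`-module `S` is f.p. over `P_M`. -/
theorem finitePresentation_localizedModule_of_surjective
    {R P S : Type u} [CommRing R] [CommRing P] [CommRing S] [Algebra R P] [Algebra R S]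
    [Algebra P S] [IsScalarTower R P S] [Algebra.FinitePresentation R P]
    (hsurj : Function.Surjective (algebraMap P S)) (M : Submonoid R)
    (hfp : Algebra.FinitePresentation (Localization M)
      (Localization (Algebra.algebraMapSubmonoid S M))) :
    Module.FinitePresentation (Localization (Algebra.algebraMapSubmonoid P M))
      (LocalizedModule (Algebra.algebraMapSubmonoid P M) S) := by
  have hMs : Algebra.algebraMapSubmonoid S (Algebra.algebraMapSubmonoid P M) =
      Algebra.algebraMapSubmonoid S M := by
    ext x
    simp only [Algebra.algebraMapSubmonoid, Submonoid.mem_map]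
    constructor
    · rintro ⟨y, ⟨r, hr, rfl⟩, rfl⟩
      exact ⟨r, hr, IsScalarTower.algebraMap_apply R P S r⟩
    · rintro ⟨r, hr, rfl⟩
      exact ⟨algebraMap R P r, ⟨r, hr, rfl⟩, (IsScalarTower.algebraMap_apply R P S r).symm⟩
  have hle : Algebra.algebraMapSubmonoid P M ≤
      (Algebra.algebraMapSubmonoid S M).comap (algebraMap P S) := by
    rw [← hMs]; exact Submonoid.le_comap_map _
  haveI hloc : IsLocalization ((Algebra.algebraMapSubmonoid P M).map (algebraMap P S))
      (Localization (Algebra.algebraMapSubmonoid S M)) := by
    have : (Algebra.algebraMapSubmonoid P M).map (algebraMap P S) =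
        Algebra.algebraMapSubmonoid S M := hMs
    rw [this]; infer_instance
  let ψ : Localization (Algebra.algebraMapSubmonoid P M) →+*
      Localization (Algebra.algebraMapSubmonoid S M) :=
    IsLocalization.map _ (algebraMap P S) hle
  have hψsurj : Function.Surjective ψ :=
    IsLocalization.map_surjective_of_surjective (Algebra.algebraMapSubmonoid P M)
      (Localization (Algebra.algebraMapSubmonoid P M))
      (Localization (Algebra.algebraMapSubmonoid S M)) hsurj
  letI aPS : Algebra (Localization (Algebra.algebraMapSubmonoid P M))
      (Localization (Algebra.algebraMapSubmonoid S M)) := ψ.toAlgebra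
  haveI t1 : IsScalarTower P (Localization (Algebra.algebraMapSubmonoid P M))
      (Localization (Algebra.algebraMapSubmonoid S M)) := .of_algebraMap_eq' (by
    ext x
    simp only [RingHom.comp_apply, RingHom.algebraMap_toAlgebra, ψ, IsLocalization.map_eq]
    exact IsScalarTower.algebraMap_apply P S _ x)
  -- the algebra hom over `R_M`
  have hcomm : ψ.comp (algebraMap (Localization M) (Localization (Algebra.algebraMapSubmonoid P M)))
      = algebraMap (Localization M) (Localization (Algebra.algebraMapSubmonoid S M)) := by
    apply IsLocalization.ringHom_ext M
    ext r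
    simp only [RingHom.comp_apply, RingHom.algebraMap_toAlgebra, ψ, IsLocalization.map_eq]
    rw [← IsScalarTower.algebraMap_apply R P S]
  let ψA : Localization (Algebra.algebraMapSubmonoid P M) →ₐ[Localization M]
      Localization (Algebra.algebraMapSubmonoid S M) :=
    { ψ with commutes' := fun r => RingHom.congr_fun hcomm r }
  haveI : Algebra.FinitePresentation (Localization M)
      (Localization (Algebra.algebraMapSubmonoid P M)) := by
    haveI : IsLocalization (M.map (algebraMap R P))
        (Localization (Algebra.algebraMapSubmonoid P M)) :=
      inferInstanceAs (IsLocalization (Algebra.algebraMapSubmonoid P M) _)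
    have h1 := RingHom.finitePresentation_localizationPreserves (algebraMap R P) M
      (Localization M) (Localization (Algebra.algebraMapSubmonoid P M))
      (RingHom.finitePresentation_algebraMap.mpr inferInstance)
    exact RingHom.finitePresentation_algebraMap.mp h1
  have hker : (RingHom.ker ψA.toRingHom).FG :=
    Algebra.FinitePresentation.ker_fG_of_surjective ψA hψsurj
  haveI hfpS : Module.FinitePresentation (Localization (Algebra.algebraMapSubmonoid P M))
      (Localization (Algebra.algebraMapSubmonoid S M)) := by
    refine Module.finitePresentation_of_surjective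
      (Algebra.linearMap (Localization (Algebra.algebraMapSubmonoid P M))
        (Localization (Algebra.algebraMapSubmonoid S M))) hψsurj ?_
    have hk : LinearMap.ker (Algebra.linearMap (Localization (Algebra.algebraMapSubmonoid P M))
        (Localization (Algebra.algebraMapSubmonoid S M))) = RingHom.ker ψA.toRingHom := by
      ext x; rfl
    rw [hk]; exact hker
  -- identify the localized module
  haveI hloc2 : IsLocalization
      (Algebra.algebraMapSubmonoid S (Algebra.algebraMapSubmonoid P M))
      (Localization (Algebra.algebraMapSubmonoid S M)) := by
    rw [hMs]; infer_instance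
  haveI : IsLocalizedModule (Algebra.algebraMapSubmonoid P M)
      (IsScalarTower.toAlgHom P S (Localization (Algebra.algebraMapSubmonoid S M))).toLinearMap :=
    inferInstance
  let e := IsLocalizedModule.iso (Algebra.algebraMapSubmonoid P M)
      (IsScalarTower.toAlgHom P S (Localization (Algebra.algebraMapSubmonoid S M))).toLinearMap
  let e' := e.extendScalarsOfIsLocalization (Algebra.algebraMapSubmonoid P M)
    (Localization (Algebra.algebraMapSubmonoid P M))
  exact Module.FinitePresentation.of_equiv e'.symm

/-- Stacks 053G-type: flat finite type algebra, locally f.p., `R ↪ ∏ R_{p_j}` ⇒ f.p. -/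
theorem finitePresentation_algebra_of_flat {R S : Type u} [CommRing R] [CommRing S]
    [Algebra R S] [Algebra.FiniteType R S] [Module.Flat R S] (s : Finset (PrimeSpectrum R))
    (hs : Function.Injective fun r : R => fun p : s =>
      algebraMap R (Localization.AtPrime p.1.asIdeal) r)
    (hloc : ∀ (p : Ideal R) [p.IsPrime],
      Algebra.FinitePresentation (Localization.AtPrime p)
        (Localization (Algebra.algebraMapSubmonoid S p.primeCompl))) :
    Algebra.FinitePresentation R S := by
  obtain ⟨n, φ, hφ⟩ := Algebra.FiniteType.iff_quotient_mvPolynomial''.mp ‹Algebra.FiniteType R S›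
  letI : Algebra (MvPolynomial (Fin n) R) S := φ.toRingHom.toAlgebra
  haveI : IsScalarTower R (MvPolynomial (Fin n) R) S := .of_algebraMap_eq' (by
    ext r
    simp [RingHom.algebraMap_toAlgebra])
  have hsurj : Function.Surjective (algebraMap (MvPolynomial (Fin n) R) S) := hφ
  haveI : Module.Finite (MvPolynomial (Fin n) R) S :=
    Module.Finite.of_surjective (Algebra.linearMap (MvPolynomial (Fin n) R) S) hsurj
  haveI : Module.FinitePresentation (MvPolynomial (Fin n) R) S :=
    Groth.Agent.H66.FlatFP.finitePresentation_of_flat s hs (fun p _ =>
      finitePresentation_localizedModule_of_surjective hsurj p.primeCompl (hloc p))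
  have hker : (LinearMap.ker (Algebra.linearMap (MvPolynomial (Fin n) R) S)).FG :=
    Module.FinitePresentation.fg_ker _ hsurj
  refine Algebra.FinitePresentation.of_surjective (f := φ) hφ ?_
  have hk : LinearMap.ker (Algebra.linearMap (MvPolynomial (Fin n) R) S) =
      RingHom.ker φ.toRingHom := by
    ext x; rfl
  rw [← hk]; exact hker

end Groth.Agent.H48.FlatFPAlg
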