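import Mathlib
import Groth.Prelude.Def_SGA1

set_option autoImplicit false
universe u
open CategoryTheory CategoryTheory.Limits AlgebraicGeometry
open scoped TensorProduct

namespace Groth.Agent.H48.FreeFlat_ALG1

/-- the ring hom `B ⊗[ℤ] B → B`, `x ⊗ y ↦ x * τ y`. -/
noncomputable def mu {B : Type u} [CommRing B] (τ : B →+* B) : B ⊗[ℤ] B →ₐ[ℤ] B :=
  Algebra.TensorProduct.productMap (AlgHom.id ℤ B) τ.toIntAlgHom

theorem mu_tmul {B : Type u} [CommRing B] (τ : B →+* B) (x y : B) :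
    mu τ (x ⊗ₜ[ℤ] y) = x * τ y := by
  simp [mu]

/-- (ALG1) -/
theorem exists_dual_system {B : Type u} [CommRing B] {G : Type u} [Group G] [Finite G]
    (σ : G → (B →+* B)) (hσ1 : σ 1 = RingHom.id B)
    (hfree : ∀ g : G, g ≠ 1 → Ideal.span (Set.range fun b : B => σ g b - b) = ⊤) :
    ∃ (n : ℕ) (x y : Fin n → B), (∑ j, x j * y j = 1) ∧
      ∀ h : G, h ≠ 1 → ∑ j, x j * σ h (y j) = 0 := by
  classical
  haveI : Fintype G := Fintype.ofFinite G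
  -- step 1: for g ≠ 1 an element ε with μ_1 ε = 1 and μ_g ε = 0
  have step1 : ∀ g : G, g ≠ 1 → ∃ ε : B ⊗[ℤ] B, mu (σ 1) ε = 1 ∧ mu (σ g) ε = 0 := by
    intro g hg
    have hsurj : Function.Surjective (mu (σ 1) : B ⊗[ℤ] B →+* B) := by
      intro b
      exact ⟨b ⊗ₜ[ℤ] 1, by simp [mu_tmul]⟩
    have hle : Ideal.span (Set.range fun b : B => σ g b - b) ≤
        Ideal.map (mu (σ 1) : B ⊗[ℤ] B →+* B) (RingHom.ker (mu (σ g) : B ⊗[ℤ] B →+* B)) := by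
      rw [Ideal.span_le]
      rintro _ ⟨b, rfl⟩
      refine (Ideal.mem_map_iff_of_surjective _ hsurj).mpr ⟨σ g b ⊗ₜ[ℤ] 1 - 1 ⊗ₜ[ℤ] b, ?_, ?_⟩
      · rw [RingHom.mem_ker]
        show mu (σ g) (σ g b ⊗ₜ[ℤ] 1 - 1 ⊗ₜ[ℤ] b) = 0
        rw [map_sub, mu_tmul, mu_tmul]
        simp
      · show mu (σ 1) (σ g b ⊗ₜ[ℤ] 1 - 1 ⊗ₜ[ℤ] b) = σ g b - b
        rw [map_sub, mu_tmul, mu_tmul, hσ1]
        simp
    rw [hfree g hg, top_le_iff] at hle
    have h1 : (1 : B) ∈ Ideal.map (mu (σ 1) : B ⊗[ℤ] B →+* B)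
        (RingHom.ker (mu (σ g) : B ⊗[ℤ] B →+* B)) := by
      rw [hle]; trivial
    obtain ⟨ε, hε, hε1⟩ := (Ideal.mem_map_iff_of_surjective _ hsurj).mp h1
    exact ⟨ε, hε1, (RingHom.mem_ker).mp hε⟩
  choose! ε hε1 hε0 using step1
  -- step 2: the product
  let e : B ⊗[ℤ] B := ∏ g ∈ Finset.univ.erase (1 : G), ε g
  have he1 : mu (σ 1) e = 1 := by
    show mu (σ 1) (∏ g ∈ Finset.univ.erase (1 : G), ε g) = 1
    rw [map_prod]
    refine Finset.prod_eq_one fun g hg => ?_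
    exact hε1 g (Finset.ne_of_mem_erase hg)
  have he0 : ∀ h : G, h ≠ 1 → mu (σ h) e = 0 := by
    intro h hh
    show mu (σ h) (∏ g ∈ Finset.univ.erase (1 : G), ε g) = 0
    rw [map_prod]
    exact Finset.prod_eq_zero (Finset.mem_erase.mpr ⟨hh, Finset.mem_univ _⟩) (hε0 h hh)
  -- step 3: write e as a sum of pure tensors
  obtain ⟨n, x, y, hxy⟩ := TensorProduct.exists_sum_tmul_eq e
  have hmu : ∀ h : G, mu (σ h) e = ∑ j, x j * σ h (y j) := by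
    intro h
    rw [hxy, map_sum]
    exact Finset.sum_congr rfl fun j _ => mu_tmul _ _ _
  refine ⟨n, x, y, ?_, ?_⟩
  · have := hmu 1
    rw [he1, hσ1] at this
    simpa using this.symm
  · intro h hh
    rw [← hmu h, he0 h hh]

end Groth.Agent.H48.FreeFlat_ALG1
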