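import Mathlib
import Groth.Prelude.Def_SGA1

set_option autoImplicit false
universe u
open CategoryTheory CategoryTheory.Limits AlgebraicGeometry

namespace Groth.Agent.H48.FreeFlat_ALG2

/-- (ALG2) -/
theorem flat_of_dual_system {A B : Type u} [CommRing A] [CommRing B] [Algebra A B]
    {G : Type u} [Group G] [Finite G]
    (σ : G → (B →+* B)) (hσ1 : σ 1 = RingHom.id B)
    (hσmul : ∀ g h : G, (σ g).comp (σ h) = σ (h * g))
    (hA : ∀ (g : G) (a : A), σ g (algebraMap A B a) = algebraMap A B a)
    (hinj : Function.Injective (algebraMap A B))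
    (hrange : ∀ b : B, (∀ g : G, σ g b = b) → b ∈ Set.range (algebraMap A B))
    (n : ℕ) (x y : Fin n → B)
    (hxy1 : ∑ j, x j * y j = 1) (hxy : ∀ h : G, h ≠ 1 → ∑ j, x j * σ h (y j) = 0) :
    Module.Flat A B := by
  classical
  haveI : Fintype G := Fintype.ofFinite G
  have hinv : ∀ (c : B) (g : G), σ g (∑ h, σ h c) = ∑ h, σ h c := by
    intro c g
    rw [map_sum]
    have h1 : ∀ h, σ g (σ h c) = σ (h * g) c := fun h => by
      have := congrArg (fun f : B →+* B => f c) (hσmul g h)
      simpa using this
    simp_rw [h1]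
    exact Fintype.sum_equiv (Equiv.mulRight g) _ _ (fun h => rfl)
  have hex : ∀ c : B, ∃ a : A, algebraMap A B a = ∑ h, σ h c := fun c => hrange _ (hinv c)
  choose tr htr using hex
  have tr_add : ∀ c d, tr (c + d) = tr c + tr d := by
    intro c d
    apply hinj
    rw [map_add, htr, htr, htr]
    simp [Finset.sum_add_distrib]
  have tr_smul : ∀ (a : A) (c : B), tr (a • c) = a • tr c := by
    intro a c
    apply hinj
    rw [htr, smul_eq_mul, map_mul, htr, Finset.mul_sum]
    refine Finset.sum_congr rfl fun h _ => ?_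
    rw [Algebra.smul_def, map_mul, hA]
  let trL : B →ₗ[A] A :=
    { toFun := tr
      map_add' := tr_add
      map_smul' := fun a c => by simpa using tr_smul a c }
  let i : B →ₗ[A] (Fin n → A) := LinearMap.pi (fun j => trL ∘ₗ (LinearMap.mulLeft A (y j)))
  let s : (Fin n → A) →ₗ[A] B := Fintype.linearCombination A x
  have H : s ∘ₗ i = LinearMap.id := by
    ext b
    show Fintype.linearCombination A x (fun j => tr (y j * b)) = b
    rw [Fintype.linearCombination_apply]
    have h2 : ∀ j, tr (y j * b) • x j = ∑ h, x j * σ h (y j) * σ h b := by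
      intro j
      rw [Algebra.smul_def, htr, Finset.sum_mul]
      refine Finset.sum_congr rfl fun h _ => ?_
      rw [map_mul]; ring
    simp_rw [h2]
    rw [Finset.sum_comm]
    have h3 : ∀ h : G, ∑ j, x j * σ h (y j) * σ h b = (∑ j, x j * σ h (y j)) * σ h b := by
      intro h
      rw [Finset.sum_mul]
    simp_rw [h3]
    rw [Finset.sum_eq_single (1 : G)]
    · rw [hσ1]
      simp [hxy1]
    · intro h _ hh
      rw [hxy h hh, zero_mul]
    · intro h
      exact absurd (Finset.mem_univ _) h
  haveI : Module.Projective A B := Module.Projective.of_split i s H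
  infer_instance

end Groth.Agent.H48.FreeFlat_ALG2
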