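import Groth.Prelude.Def_C1
import Groth.Prelude.Def_Cyc
import Groth.Prelude.Def_Pic
import Groth.Agent.H95.SecOrd
import Groth.Agent.H95.C1Cap
import Groth.Agent.H85.CycDivFin
set_option autoImplicit false
universe u
open CategoryTheory AlgebraicGeometry TopologicalSpace Opposite
namespace Groth.Agent.H48.G6_LFS
variable {X D : Scheme.{u}}

open Groth.Agent.H18.TensorGen (IsGen exists_isGen)

/-- (LFS) The support of the divisor of a rational section of an invertible module is locally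
finite. -/
theorem locallyFinite_secDivFun (δ : X → ℤ) (hX : Cyc.IsSetup X δ) {L : X.Modules}
    (hL : PicF.IsInvertible L) (ζ : X) (s : Cyc.secFibre L ζ) (hs : s ≠ 0) (x : X) :
    ∃ U : Set X, IsOpen U ∧ x ∈ U ∧
      {ξ : X | Cyc.secDivFun δ L ζ s ξ ≠ 0 ∧ (closure {ξ} ∩ U).Nonempty}.Finite := by
  obtain ⟨V, τ, hxV, hτ⟩ := exists_isGen hL x
  -- a point whose closure meets an open set lies in it
  have hmem : ∀ (W : Set X), IsOpen W → ∀ ξ : X, (closure {ξ} ∩ W).Nonempty → ξ ∈ W := by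
    intro W hW ξ ⟨y, hy, hyW⟩
    have hsp : ξ ⤳ y := specializes_iff_mem_closure.mpr hy
    exact hsp.mem_open hW hyW
  have hspec : ∀ ξ : X, Cyc.secDivFun δ L ζ s ξ ≠ 0 → ζ ⤳ ξ ∧ δ ξ + 1 = δ ζ := by
    intro ξ hne
    by_contra hcon
    apply hne
    simp only [Cyc.secDivFun]
    rw [dif_neg hcon]
  by_cases hζ : ζ ∈ V
  · obtain ⟨ψ, hψ⟩ := Groth.Agent.H95.SecOrd.exists_eq_smul_mk hτ ζ hζ s
    have hψu : IsUnit ψ := Groth.Agent.H95.SecOrd.isUnit_of_mk_ne_zero ζ hζ s hs ψ hψ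
    have hne : (X.residue ζ ψ : X.residueField ζ) ≠ 0 := (hψu.map (X.residue ζ).hom).ne_zero
    obtain ⟨V', hV'o, hxV', hfin⟩ :=
      Groth.Agent.H85.CycDivFin.divFun_support_locallyFinite δ hX ζ (X.residue ζ ψ) hne x
    refine ⟨(V : Set X) ∩ V', V.isOpen.inter hV'o, ⟨hxV, hxV'⟩, hfin.subset ?_⟩
    rintro ξ ⟨hξne, hξcl⟩
    have hξU := hmem _ (V.isOpen.inter hV'o) ξ hξcl
    have hcond := hspec ξ hξne
    refine ⟨hξU.2, ?_⟩
    have h1 : Cyc.secDivFun δ L ζ s ξ = Cyc.secOrdAt L ζ ξ hcond.1 s := by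
      simp only [Cyc.secDivFun]
      rw [dif_pos hcond]
    have h2 : Cyc.divFun δ ζ (X.residue ζ ψ) ξ = Cyc.ordAt ξ ζ hcond.1 (X.residue ζ ψ) := by
      simp only [Cyc.divFun]
      rw [dif_pos hcond]
    rw [h2, ← Groth.Agent.H95.SecOrd.secOrdAt_eq_of_isGen hτ hcond.1 hξU.1 hζ s ψ hψ, ← h1]
    exact hξne
  · refine ⟨(V : Set X), V.isOpen, hxV, ?_⟩
    convert Set.finite_empty
    ext ξ
    simp only [Set.mem_ofPred_eq, Set.mem_empty_iff_false, iff_false, not_and]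
    intro hξne hξcl
    have hξV := hmem _ V.isOpen ξ hξcl
    exact hζ ((hspec ξ hξne).1.mem_open V.isOpen hξV)

end Groth.Agent.H48.G6_LFS
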