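import Mathlib
import Groth.Prelude.Def_FEt
import Groth.Agent.H68.GalK.Defs

set_option autoImplicit false
universe u
open CategoryTheory CategoryTheory.Limits AlgebraicGeometry
open Groth.Agent.H68.GalK

namespace Groth.Agent.H48.GalK_NTa

variable {K : Type u} [Field K]

/-- (NTa) an automorphism of `K̄/K` fixing all separable elements is trivial. -/
theorem eq_one_of_forall_isSeparable (σ : AlgebraicClosure K ≃ₐ[K] AlgebraicClosure K)
    (h : ∀ a : AlgebraicClosure K, IsSeparable K a → σ a = a) : σ = 1 := by
  have key : (σ : AlgebraicClosure K →+* AlgebraicClosure K) = RingHom.id _ := by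
    apply IsPurelyInseparable.injective_comp_algebraMap
      (separableClosure K (AlgebraicClosure K)) (AlgebraicClosure K) (AlgebraicClosure K)
    ext ⟨a, ha⟩
    have ha' : IsSeparable K a := mem_separableClosure_iff.mp ha
    simpa using h a ha'
  ext a
  exact congrArg (fun f : AlgebraicClosure K →+* AlgebraicClosure K => f a) key

end Groth.Agent.H48.GalK_NTa
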