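import Mathlib
import Groth.Prelude.Def_FEt
import Groth.Agent.H68.GalK.Defs

set_option autoImplicit false
universe u
open CategoryTheory CategoryTheory.Limits AlgebraicGeometry
open Groth.Agent.H68.GalK

namespace Groth.Agent.H48.GalK_TRa

/-- pure algebra core: two ring homs `A → Ω` into an algebraic closure of `K`, compatible with
`K → A` and with the same kernel, differ by a `K`-automorphism of `Ω`. -/
theorem core {K Ω A : Type*} [Field K] [Field Ω] [Algebra K Ω] [IsAlgClosure K Ω] [CommRing A]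
    (c : K →+* A) (gs gt : A →+* Ω) (hs : gs.comp c = algebraMap K Ω)
    (ht : gt.comp c = algebraMap K Ω)
    (hker : RingHom.ker gs = RingHom.ker gt) : ∃ σ : Ω ≃ₐ[K] Ω, ∀ a, σ (gs a) = gt a := by
  let e : gs.range ≃+* gt.range :=
    (RingHom.quotientKerEquivRange gs).symm.trans
      ((Ideal.quotEquivOfEq hker).trans (RingHom.quotientKerEquivRange gt))
  have he : ∀ a, e ⟨gs a, ⟨a, rfl⟩⟩ = ⟨gt a, ⟨a, rfl⟩⟩ := by
    intro a
    have h1 : (RingHom.quotientKerEquivRange gs) (Ideal.Quotient.mk _ a) = ⟨gs a, ⟨a, rfl⟩⟩ := by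
      rfl
    have h2 : (RingHom.quotientKerEquivRange gt) (Ideal.Quotient.mk _ a) = ⟨gt a, ⟨a, rfl⟩⟩ := by
      rfl
    show (RingHom.quotientKerEquivRange gt) ((Ideal.quotEquivOfEq hker)
      ((RingHom.quotientKerEquivRange gs).symm ⟨gs a, ⟨a, rfl⟩⟩)) = _
    rw [← h1, RingEquiv.symm_apply_apply, Ideal.quotEquivOfEq_mk, h2]
  haveI : IsAlgClosed Ω := IsAlgClosure.isAlgClosed K
  haveI : Algebra.IsAlgebraic K Ω := IsAlgClosure.isAlgebraic
  have algS : Algebra.IsAlgebraic gs.range Ω := by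
    refine Algebra.IsAlgebraic.ringHom_of_comp_eq (R := K) (A := Ω)
      ((gs.rangeRestrict).comp c) (RingHom.id Ω) ?_ Function.surjective_id ?_
    · exact RingHom.injective _
    · ext k
      simp [← hs]
      rfl
  have algT : Algebra.IsAlgebraic gt.range Ω := by
    refine Algebra.IsAlgebraic.ringHom_of_comp_eq (R := K) (A := Ω)
      ((gt.rangeRestrict).comp c) (RingHom.id Ω) ?_ Function.surjective_id ?_
    · exact RingHom.injective _
    · ext k
      simp [← ht]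
      rfl
  haveI : IsAlgClosure gs.range Ω := ⟨inferInstance, algS⟩
  haveI : IsAlgClosure gt.range Ω := ⟨inferInstance, algT⟩
  let σ₀ : Ω ≃+* Ω := IsAlgClosure.equivOfEquiv Ω Ω e
  have hσ₀ : ∀ a, σ₀ (gs a) = gt a := by
    intro a
    have := IsAlgClosure.equivOfEquiv_algebraMap Ω Ω e ⟨gs a, ⟨a, rfl⟩⟩
    rw [he] at this
    exact this
  refine ⟨AlgEquiv.ofRingEquiv (f := σ₀) ?_, hσ₀⟩
  intro k
  have h1 : algebraMap K Ω k = gs (c k) := by rw [← hs]; rfl
  have h2 : algebraMap K Ω k = gt (c k) := by rw [← ht]; rfl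
  rw [h1, hσ₀, ← h2, h1]

variable {K : Type u} [Field K]

/-- the ring hom `Γ(Y, ⊤) → Ω` attached to an `Ω`-point. -/
noncomputable def gOf {Ω : Type u} [Field Ω] {Y : Scheme.{u}} (s : Spec (CommRingCat.of Ω) ⟶ Y) :
    Γ(Y, ⊤) →+* Ω :=
  (s.appTop ≫ (Scheme.ΓSpecIso (CommRingCat.of Ω)).hom).hom

theorem comp_toSpecΓ {Ω : Type u} [Field Ω] {Y : Scheme.{u}} (s : Spec (CommRingCat.of Ω) ⟶ Y) :
    s ≫ Y.toSpecΓ = Spec.map (CommRingCat.ofHom (gOf s)) := by
  rw [Scheme.toSpecΓ_naturality, ← SpecMap_ΓSpecIso_hom, ← Spec.map_comp]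
  rfl

theorem ker_gOf {Ω : Type u} [Field Ω] {Y : Scheme.{u}} (s : Spec (CommRingCat.of Ω) ⟶ Y)
    (x : Spec (CommRingCat.of Ω)) :
    RingHom.ker (gOf s) = (Y.toSpecΓ.base (s.base x)).asIdeal := by
  have h1 : Y.toSpecΓ.base (s.base x) = (Spec.map (CommRingCat.ofHom (gOf s))).base x := by
    rw [← comp_toSpecΓ]
    rfl
  rw [h1]
  have hx : x.asIdeal = ⊥ := by
    have := x.isPrime
    exact (Ideal.eq_bot_or_top x.asIdeal).resolve_right this.ne_top
  show _ = Ideal.comap (gOf s) x.asIdeal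
  rw [hx]
  rfl

/-- (TRa) two geometric points with the same image point are Galois-conjugate. -/
theorem exists_smul_eq_of_base_eq (Y : FEt.Cat (Spec (CommRingCat.of K)))
    (s t : FEt.fiberObj (ξ K) Y) (h : ∀ x, s.1.base x = t.1.base x) :
    ∃ σ : Field.absoluteGaloisGroup K, σ • s = t := by
  haveI : IsFinite Y.hom := Y.prop.1
  haveI : IsAffine Y.left :=
    isAffine_of_isAffineHom (Y := Spec (CommRingCat.of K)) Y.hom
  let x0 : Spec (CommRingCat.of (AlgebraicClosure K)) := (⊥ : PrimeSpectrum (AlgebraicClosure K))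
  have hker : RingHom.ker (gOf s.1) = RingHom.ker (gOf t.1) := by
    rw [ker_gOf s.1 x0, ker_gOf t.1 x0, h x0]
  let c : K →+* Γ(Y.left, ⊤) :=
    ((Scheme.ΓSpecIso (CommRingCat.of K)).inv ≫ Y.hom.appTop).hom
  have hc : ∀ (u : Spec (CommRingCat.of (AlgebraicClosure K)) ⟶ Y.left), u ≫ Y.hom = ξ K →
      (gOf u).comp c = algebraMap K (AlgebraicClosure K) := by
    intro u hu
    have h1 : ((Scheme.ΓSpecIso (CommRingCat.of K)).inv ≫ Y.hom.appTop) ≫
        (u.appTop ≫ (Scheme.ΓSpecIso (CommRingCat.of (AlgebraicClosure K))).hom) =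
        CommRingCat.ofHom (algebraMap K (AlgebraicClosure K)) := by
      rw [Category.assoc, ← Category.assoc Y.hom.appTop, ← Scheme.Hom.comp_appTop, hu,
        Scheme.ΓSpecIso_naturality, Iso.inv_hom_id_assoc]
    exact congrArg CommRingCat.Hom.hom h1
  obtain ⟨σ, hσ⟩ := core c (gOf s.1) (gOf t.1) (hc s.1 s.2) (hc t.1 t.2) hker
  refine ⟨σ, Subtype.ext ?_⟩
  show specσ σ ≫ s.1 = t.1
  apply ext_of_isAffine
  rw [← cancel_mono (Scheme.ΓSpecIso (CommRingCat.of (AlgebraicClosure K))).hom,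
    Scheme.Hom.comp_appTop, Category.assoc, Scheme.ΓSpecIso_naturality, ← Category.assoc]
  ext a
  exact hσ a

end Groth.Agent.H48.GalK_TRa
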