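import Mathlib
import Groth.Agent.H48.FlatLimit1

/-!
# Lifting freeness along a nilpotent ideal for flat modules

`free_of_flat_of_free_tensor_quotient`: `J` nilpotent, `N` flat over `R`, `(R/J) ⊗ N` free over
`R/J` ⇒ `N` free over `R` (no finiteness).
-/

open TensorProduct

namespace Groth.Agent.H48.NilFree
universe u
open Groth.Agent.H48.FlatLimit

variable {R : Type u} [CommRing R] (J : Ideal R)

/-- Nakayama for nilpotent ideals (no finiteness). -/
theorem eq_top_of_sup_smul_top {N : Type u} [AddCommGroup N] [Module R N] (hJ : IsNilpotent J)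
    (P : Submodule R N) (h : P ⊔ J • (⊤ : Submodule R N) = ⊤) : P = ⊤ := by
  obtain ⟨n, hn⟩ := hJ
  have key : ∀ k : ℕ, (⊤ : Submodule R N) ≤ P ⊔ J ^ k • (⊤ : Submodule R N) := by
    intro k
    induction k with
    | zero => rw [pow_zero, Ideal.one_eq_top, Submodule.top_smul]; exact le_sup_right
    | succ k ih =>
      refine ih.trans (sup_le le_sup_left ?_)
      calc J ^ k • (⊤ : Submodule R N) = J ^ k • (P ⊔ J • (⊤ : Submodule R N)) := by rw [h]
        _ = J ^ k • P ⊔ J ^ k • (J • (⊤ : Submodule R N)) := Submodule.smul_sup _ _ _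
        _ ≤ P ⊔ J ^ (k + 1) • (⊤ : Submodule R N) := by
          refine sup_le_sup Submodule.smul_le_right ?_
          rw [← Submodule.mul_smul, ← pow_succ]
  have := key n
  rw [hn, Ideal.zero_eq_bot, Submodule.bot_smul, sup_bot_eq] at this
  exact top_le_iff.mp this

theorem eq_bot_of_le_smul {N : Type u} [AddCommGroup N] [Module R N] (hJ : IsNilpotent J)
    (K : Submodule R N) (h : K ≤ J • K) : K = ⊥ := by
  obtain ⟨n, hn⟩ := hJ
  have key : ∀ k : ℕ, K ≤ J ^ k • K := by
    intro k
    induction k with
    | zero => rw [pow_zero, Ideal.one_eq_top, Submodule.top_smul]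
    | succ k ih =>
      calc K ≤ J • K := h
        _ ≤ J • (J ^ k • K) := Submodule.smul_mono le_rfl ih
        _ = J ^ (k + 1) • K := by rw [← Submodule.mul_smul, ← pow_succ']
  have := key n
  rw [hn, Ideal.zero_eq_bot, Submodule.bot_smul] at this
  exact le_bot_iff.mp this

/-- **Lifting freeness along a nilpotent ideal**: a flat module which is free modulo a nilpotent
ideal is free. -/
theorem free_of_flat_of_free_tensor_quotient (hJ : IsNilpotent J)
    (N : Type u) [AddCommGroup N] [Module R N] [Module.Flat R N]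
    [Module.Free (R ⧸ J) ((R ⧸ J) ⊗[R] N)] : Module.Free R N := by
  classical
  let b := Module.Free.chooseBasis (R ⧸ J) ((R ⧸ J) ⊗[R] N)
  let π : N →ₗ[R] (R ⧸ J) ⊗[R] N := TensorProduct.mk R (R ⧸ J) N 1
  have hπ : ∀ z, ∃ y, π y = z := fun z => by
    obtain ⟨y, hy⟩ := exists_one_tmul J z
    exact ⟨y, hy.symm⟩
  choose v hv using fun i => hπ (b i)
  let φ : (Module.Free.ChooseBasisIndex (R ⧸ J) ((R ⧸ J) ⊗[R] N) →₀ R) →ₗ[R] N :=
    Finsupp.linearCombination R v
  -- π ∘ φ in coordinates
  have hπφ : ∀ x, π (φ x) = ∑ i ∈ x.support, (Ideal.Quotient.mk J (x i)) • b i := by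
    intro x
    show π (Finsupp.linearCombination R v x) = _
    rw [Finsupp.linearCombination_apply, Finsupp.sum, map_sum]
    refine Finset.sum_congr rfl fun i _ => ?_
    rw [map_smul, hv, ← Ideal.Quotient.algebraMap_eq, algebraMap_smul]
  have hsurj : Function.Surjective φ := by
    rw [← LinearMap.range_eq_top]
    apply eq_top_of_sup_smul_top J hJ
    rw [eq_top_iff]
    rintro n -
    -- write π n in the basis
    obtain ⟨c, hc⟩ : ∃ c : Module.Free.ChooseBasisIndex (R ⧸ J) ((R ⧸ J) ⊗[R] N) →₀ R,
        π (φ c) = π n := by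
      let r := b.repr (π n)
      choose lift hlift using fun q : R ⧸ J => Ideal.Quotient.mk_surjective q
      let c : Module.Free.ChooseBasisIndex (R ⧸ J) ((R ⧸ J) ⊗[R] N) →₀ R :=
        Finsupp.onFinset r.support (fun i => if i ∈ r.support then lift (r i) else 0)
          (fun i hi => by
            by_contra hne
            simp [hne] at hi)
      refine ⟨c, ?_⟩
      rw [hπφ]
      have hsupp : c.support ⊆ r.support := Finsupp.support_onFinset_subset
      have hci : ∀ i, Ideal.Quotient.mk J (c i) = r i := by
        intro i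
        show Ideal.Quotient.mk J (if i ∈ r.support then lift (r i) else 0) = r i
        split_ifs with hi
        · exact hlift _
        · rw [map_zero]; exact (Finsupp.notMem_support_iff.mp hi).symm
      rw [Finset.sum_subset hsupp (fun i _ hi => by
        rw [Finsupp.notMem_support_iff.mp hi, map_zero, zero_smul])]
      simp_rw [hci]
      exact b.linearCombination_repr (π n)
    have hdiff : n - φ c ∈ J • (⊤ : Submodule R N) := by
      apply mem_smul_top_of_one_tmul_eq_zero J
      show π (n - φ c) = 0
      rw [map_sub, hc, sub_self]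
    have : n = φ c + (n - φ c) := by abel
    rw [this]
    exact Submodule.add_mem_sup (LinearMap.mem_range_self φ c) hdiff
  have hinj : Function.Injective φ := by
    rw [← LinearMap.ker_eq_bot]
    apply eq_bot_of_le_smul J hJ
    refine le_trans ?_ (inf_smul_top_le_smul_of_flat J φ hsurj)
    refine le_inf le_rfl ?_
    intro x hx
    rw [LinearMap.mem_ker] at hx
    have h0 : ∑ i ∈ x.support, (Ideal.Quotient.mk J (x i)) • b i = 0 := by
      rw [← hπφ, hx, map_zero]
    have hxi : ∀ i ∈ x.support, x i ∈ J := by
      intro i hi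
      have := (linearIndependent_iff'.mp b.linearIndependent) x.support
        (fun i => Ideal.Quotient.mk J (x i)) h0 i hi
      exact Ideal.Quotient.eq_zero_iff_mem.mp this
    have hx' : x = ∑ i ∈ x.support, x i • Finsupp.single i (1 : R) := by
      conv_lhs => rw [← Finsupp.sum_single x]
      rw [Finsupp.sum]
      refine Finset.sum_congr rfl fun i _ => ?_
      rw [Finsupp.smul_single, smul_eq_mul, mul_one]
    rw [hx']
    exact Submodule.sum_mem _ fun i hi =>
      Submodule.smul_mem_smul (hxi i hi) Submodule.mem_top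
  exact Module.Free.of_equiv (LinearEquiv.ofBijective φ ⟨hinj, hsurj⟩)

end Groth.Agent.H48.NilFree
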