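import Mathlib
import Groth.Agent.H48.NilFree
import Groth.Agent.H48.FlatLimitMod2
import Groth.Agent.H11.NormFlat
import Groth.Agent.H57.FlatPt6

/-!
# Generic freeness at the unique minimal prime (EGA IV 11.2-type)
-/

set_option autoImplicit false
set_option linter.style.haveILetI false

open TensorProduct

namespace Groth.Agent.H48.GenFreeMin
universe u
open Groth.Agent.H11 Groth.Agent.H48.FlatLimit

/-- Lemma L: base change of a generically free reduction, flat, along a ring where the prime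
becomes nilpotent and `f` a unit, is free. -/
theorem free_baseChange_of_gfree {C : Type u} [CommRing C] (p₀ : Ideal C) (M₀ : Type u)
    [AddCommGroup M₀] [Module C M₀] (f : C)
    (hg : GFree (C ⧸ p₀) (M₀ ⧸ (p₀ • ⊤ : Submodule C M₀)) (Ideal.Quotient.mk p₀ f))
    (T : Type u) [CommRing T] [Algebra C T] (hf : IsUnit (algebraMap C T f))
    (hnil : IsNilpotent (p₀.map (algebraMap C T))) [Module.Flat T (T ⊗[C] M₀)] :
    Module.Free T (T ⊗[C] M₀) := by
  let J : Ideal T := p₀.map (algebraMap C T)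
  let Λ := T ⧸ J
  let R₀ := C ⧸ p₀
  let fb : R₀ := Ideal.Quotient.mk p₀ f
  let R₀f := Localization.Away fb
  let Y := M₀ ⧸ (p₀ • ⊤ : Submodule C M₀)
  letI algR₀Λ : Algebra R₀ Λ := Ideal.Quotient.algebraQuotientOfLEComap Ideal.le_comap_map
  haveI tCR₀Λ : IsScalarTower C R₀ Λ := IsScalarTower.of_algebraMap_eq (fun x => rfl)
  have hunit : IsUnit (algebraMap R₀ Λ fb) := by
    have : algebraMap R₀ Λ fb = algebraMap T Λ (algebraMap C T f) := rfl
    rw [this]
    exact hf.map _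
  letI algR₀fΛ : Algebra R₀f Λ := (IsLocalization.Away.lift fb hunit).toAlgebra
  haveI tR₀R₀fΛ : IsScalarTower R₀ R₀f Λ := IsScalarTower.of_algebraMap_eq
    (fun x => (IsLocalization.Away.lift_eq fb hunit x).symm)
  haveI hfree1 : Module.Free R₀f (R₀f ⊗[R₀] Y) :=
    hg.free_of_isLocalizedModule (Rf := R₀f) (Mf := R₀f ⊗[R₀] Y) (TensorProduct.mk R₀ R₀f Y 1)
  haveI hfree2 : Module.Free Λ (Λ ⊗[R₀f] (R₀f ⊗[R₀] Y)) := inferInstance
  let e4 : Λ ⊗[R₀f] (R₀f ⊗[R₀] Y) ≃ₗ[Λ] Λ ⊗[R₀] Y :=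
    AlgebraTensorModule.cancelBaseChange R₀ R₀f Λ Λ Y
  let e3 : R₀ ⊗[C] M₀ ≃ₗ[R₀] Y :=
    LinearEquiv.extendScalarsOfSurjective Ideal.Quotient.mk_surjective
      (TensorProduct.quotTensorEquivQuotSMul M₀ p₀)
  let e3' : Λ ⊗[R₀] (R₀ ⊗[C] M₀) ≃ₗ[Λ] Λ ⊗[R₀] Y :=
    AlgebraTensorModule.congr (LinearEquiv.refl Λ Λ) e3
  let e2 : Λ ⊗[R₀] (R₀ ⊗[C] M₀) ≃ₗ[Λ] Λ ⊗[C] M₀ :=
    AlgebraTensorModule.cancelBaseChange C R₀ Λ Λ M₀
  let e1 : Λ ⊗[T] (T ⊗[C] M₀) ≃ₗ[Λ] Λ ⊗[C] M₀ :=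
    AlgebraTensorModule.cancelBaseChange C T Λ Λ M₀
  haveI hfree3 : Module.Free (T ⧸ J) ((T ⧸ J) ⊗[T] (T ⊗[C] M₀)) :=
    Module.Free.of_equiv (e4 ≪≫ₗ e3'.symm ≪≫ₗ e2 ≪≫ₗ e1.symm)
  exact Groth.Agent.H48.NilFree.free_of_flat_of_free_tensor_quotient J hnil (T ⊗[C] M₀)

/-- Flatness on a basic open from flatness at its primes. -/
theorem flat_away_of_forall {A : Type u} [CommRing A] (M : Type u) [AddCommGroup M] [Module A M]
    (t : A)
    (h : ∀ (q : Ideal A) [q.IsPrime], t ∉ q → Module.Flat A (LocalizedModule q.primeCompl M)) :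
    Module.Flat A (LocalizedModule (Submonoid.powers t) M) := by
  apply Groth.Agent.H57.flat_localizedModule_of_forall (A := A) (B := A)
  intro P Q _ _ _ _ u hu x hx
  let J : Ideal A := LinearMap.ker (LinearMap.toSpanSingleton A (M ⊗[A] P) x)
  have hJ : ∀ s, s ∈ J ↔ s • x = 0 := fun s => by
    simp [J, LinearMap.mem_ker, LinearMap.toSpanSingleton_apply]
  have hrad : t ∈ J.radical := by
    rw [Ideal.radical_eq_sInf, Ideal.mem_sInf]
    rintro q ⟨hJq, hq⟩
    by_contra htq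
    haveI := hq
    have hflat : Module.Flat A (LocalizedModule q.primeCompl M) := h q htq
    obtain ⟨s, hs⟩ := Groth.Agent.H57.exists_smul_eq_zero_of_lTensor_injective (A := A) (B := A)
      q.primeCompl M u (Module.Flat.lTensor_preserves_injective_linearMap u hu) x hx
    exact s.2 (hJq ((hJ s).mpr hs))
  obtain ⟨n, hn⟩ := hrad
  exact ⟨⟨t ^ n, n, rfl⟩, (hJ _).mp hn⟩

/-- Step 1: flatness at a prime of the base spreads to a basic open neighbourhood. -/
theorem exists_forall_flat {A B : Type u} [CommRing A] [CommRing B] [Algebra A B]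
    [Algebra.FinitePresentation A B] (p : Ideal A) [p.IsPrime]
    (M : Type u) [AddCommGroup M] [Module B M] [Module A M] [IsScalarTower A B M]
    [Module.FinitePresentation B M]
    (hflat : Module.Flat A (LocalizedModule p.primeCompl M)) :
    ∃ t : A, t ∉ p ∧ ∀ (q : Ideal A) [q.IsPrime], t ∉ q →
      Module.Flat A (LocalizedModule q.primeCompl M) := by
  have hopen := Groth.Agent.H57.FlatPt.isOpen_flat_module_locus_tower (A := A) (B := A) (C := B) M
  have hmem : (⟨p, inferInstance⟩ : PrimeSpectrum A) ∈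
      {q : PrimeSpectrum A | Module.Flat A (LocalizedModule q.asIdeal.primeCompl M)} := hflat
  obtain ⟨_, ⟨t, rfl⟩, ht, hsub⟩ :=
    PrimeSpectrum.isTopologicalBasis_basic_opens.exists_subset_of_mem_open hmem hopen
  refine ⟨t, ht, fun q _ htq => ?_⟩
  exact hsub (show (⟨q, inferInstance⟩ : PrimeSpectrum A) ∈
    (PrimeSpectrum.basicOpen t : Set _) from htq)

end Groth.Agent.H48.GenFreeMin
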