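import Mathlib
import Groth.Agent.H48.GenFreeMin

set_option autoImplicit false
set_option linter.style.haveILetI false

open TensorProduct

namespace Groth.Agent.H48.GenFreeMin
universe u
open Groth.Agent.H11 Groth.Agent.H48.FlatLimit

theorem le_of_minimalPrimes_eq_singleton {A : Type u} [CommRing A] (p : Ideal A)
    (hp : minimalPrimes A = {p}) (q : Ideal A) [q.IsPrime] : p ≤ q := by
  obtain ⟨p', hp', hle⟩ := Ideal.exists_minimalPrimes_le (I := (⊥ : Ideal A)) (J := q) bot_le
  have : p' ∈ minimalPrimes A := hp'
  rw [hp, Set.mem_singleton_iff] at this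
  rwa [this] at hle

set_option maxHeartbeats 1000000 in
/-- **Generic freeness at the unique minimal prime** (= S2573). -/
theorem exists_free_away {A B : Type u} [CommRing A] [CommRing B] [Algebra A B]
    [Algebra.FinitePresentation A B] (p : Ideal A) [p.IsPrime] (hp : minimalPrimes A = {p})
    (M : Type u) [AddCommGroup M] [Module B M] [Module A M] [IsScalarTower A B M]
    [Module.FinitePresentation B M]
    (hflat : Module.Flat (Localization.AtPrime p) (LocalizedModule p.primeCompl M)) :
    ∃ t : A, t ∉ p ∧
      Module.Free (Localization.Away t) (LocalizedModule (Submonoid.powers t) M) := by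
  have hflatA : Module.Flat A (LocalizedModule p.primeCompl M) :=
    Module.Flat.trans A (Localization.AtPrime p) _
  obtain ⟨t₁, ht₁, hfl⟩ := exists_forall_flat (B := B) p M hflatA
  obtain ⟨C, _, _, _, S₀, _, _, _, _, _, _, _, _, M₀, _, _, _, _, _, _, _, h, hbc⟩ :=
    exists_model_data A B M
  haveI : IsNoetherianRing C := Algebra.FiniteType.isNoetherianRing ℤ C
  let e₀ : M ≃ₗ[A] A ⊗[C] M₀ :=
    (hbc.equiv.restrictScalars A).symm ≪≫ₗ Algebra.IsPushout.cancelBaseChange C A S₀ B M₀
  obtain ⟨p₀, hp₀⟩ : ∃ p₀ : Ideal C, p₀ = p.comap (algebraMap C A) := ⟨_, rfl⟩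
  haveI : p₀.IsPrime := by rw [hp₀]; exact Ideal.comap_isPrime _ _
  obtain ⟨f, hf, hg⟩ := Groth.Agent.H11.NormFlat.exists_gfree_quot p₀ S₀ M₀
  have hf' : algebraMap C A f ∉ p := by
    intro hmem
    apply hf
    rw [hp₀]
    exact hmem
  obtain ⟨t, htdef⟩ : ∃ t : A, t = t₁ * algebraMap C A f := ⟨_, rfl⟩
  have ht : t ∉ p := by
    rw [htdef]
    intro hmem
    rcases (Ideal.IsPrime.mem_or_mem inferInstance hmem) with h1 | h1
    · exact ht₁ h1
    · exact hf' h1
  refine ⟨t, ht, ?_⟩
  have hflatAt : Module.Flat A (LocalizedModule (Submonoid.powers t) M) :=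
    flat_away_of_forall M t (fun q _ htq => hfl q (fun h1 => htq (by
      rw [htdef]; exact Ideal.mul_mem_right _ _ h1)))
  haveI hflatT : Module.Flat (Localization.Away t) (LocalizedModule (Submonoid.powers t) M) :=
    (Module.flat_iff_of_isLocalization (Localization.Away t) (Submonoid.powers t) _).mpr hflatAt
  let e : LocalizedModule (Submonoid.powers t) M ≃ₗ[Localization.Away t]
      (Localization.Away t) ⊗[C] M₀ :=
    (IsLocalizedModule.isBaseChange (Submonoid.powers t) (Localization.Away t)
      (LocalizedModule.mkLinearMap (Submonoid.powers t) M)).equiv.symm ≪≫ₗ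
    AlgebraTensorModule.congr (LinearEquiv.refl (Localization.Away t) (Localization.Away t)) e₀ ≪≫ₗ
    AlgebraTensorModule.cancelBaseChange C A (Localization.Away t) (Localization.Away t) M₀
  haveI : Module.Flat (Localization.Away t) ((Localization.Away t) ⊗[C] M₀) :=
    Module.Flat.of_linearEquiv e.symm
  have hunit : IsUnit (algebraMap C (Localization.Away t) f) := by
    rw [IsScalarTower.algebraMap_apply C A (Localization.Away t)]
    have h1 : IsUnit (algebraMap A (Localization.Away t) t) :=
      IsLocalization.Away.algebraMap_isUnit t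
    have h3 := congrArg (algebraMap A (Localization.Away t)) htdef
    rw [h3, map_mul] at h1
    exact isUnit_of_mul_isUnit_right h1
  have hnil : IsNilpotent (p₀.map (algebraMap C (Localization.Away t))) := by
    have hle : p₀.map (algebraMap C A) ≤ nilradical A := by
      rw [nilradical_eq_sInf]
      refine le_sInf fun q hq => ?_
      haveI : q.IsPrime := hq
      refine le_trans ?_ (le_of_minimalPrimes_eq_singleton p hp q)
      rw [hp₀]
      exact Ideal.map_comap_le
    have hFG : (p₀.map (algebraMap C A)).FG :=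
      Ideal.FG.map (IsNoetherian.noetherian p₀) (algebraMap C A)
    obtain ⟨n, hn⟩ := hFG.isNilpotent_iff_le_nilradical.mpr hle
    refine ⟨n, ?_⟩
    rw [IsScalarTower.algebraMap_eq C A (Localization.Away t), ← Ideal.map_map, ← Ideal.map_pow,
      hn, Ideal.zero_eq_bot, Ideal.map_bot]
    rfl
  haveI := free_baseChange_of_gfree p₀ M₀ f hg (Localization.Away t) hunit hnil
  exact Module.Free.of_equiv e.symm

end Groth.Agent.H48.GenFreeMin
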