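import Mathlib

set_option autoImplicit false
set_option linter.style.haveILetI false

universe u

namespace Groth.Agent.H48.GrFlatKrull

open TensorProduct

section

variable {A B : Type u} [CommRing A] [CommRing B] [Algebra A B]
  (M : Type u) [AddCommGroup M] [Module B M] [Module A M] [IsScalarTower A B M]

/-- `M ⊗[A] P` is a finite `B`-module if `M` is finite over `B` and `P` is finite over `A`. -/
theorem finite_tensor [Module.Finite B M] (P : Type u) [AddCommGroup P] [Module A P]
    [Module.Finite A P] : Module.Finite B (M ⊗[A] P) := by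
  obtain ⟨n, g, hg⟩ := Module.Finite.exists_fin' A P
  haveI : Module.Finite B (M ⊗[A] (Fin n → A)) :=
    Module.Finite.equiv (TensorProduct.piScalarRight A B M (Fin n)).symm
  refine Module.Finite.of_surjective (AlgebraTensorModule.lTensor B M g) ?_
  rw [AlgebraTensorModule.coe_lTensor]
  exact LinearMap.lTensor_surjective M hg

/-- The image of `(I • ⊤) ⊗ P` in `M ⊗ P` lies in `I • ⊤`. -/
theorem rTensor_subtype_mem_smul_top (I : Ideal B) (P : Type u) [AddCommGroup P] [Module A P]
    (w : ↥(I • (⊤ : Submodule B M)) ⊗[A] P) :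
    LinearMap.rTensor P ((I • (⊤ : Submodule B M)).subtype.restrictScalars A) w ∈
      (I • (⊤ : Submodule B (M ⊗[A] P))) := by
  induction w using TensorProduct.induction_on with
  | zero => simp
  | add x y hx hy => rw [map_add]; exact add_mem hx hy
  | tmul n a =>
    rw [LinearMap.rTensor_tmul]
    show (n : M) ⊗ₜ[A] a ∈ _
    obtain ⟨n, hn⟩ := n
    show n ⊗ₜ[A] a ∈ _
    refine Submodule.smul_induction_on hn (fun r hr m _ => ?_) (fun x y hx hy => ?_)
    · rw [← TensorProduct.smul_tmul']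
      exact Submodule.smul_mem_smul hr Submodule.mem_top
    · rw [TensorProduct.add_tmul]
      exact add_mem hx hy


/-- Abstract exactness step: if `Q = M / N` is flat then elements of `M ⊗ 𝔞` dying in `M` come
from `N ⊗ 𝔞`. -/
theorem exists_rTensor_eq_of_lTensor_eq_zero {N Q : Type u} [AddCommGroup N] [Module A N]
    [AddCommGroup Q] [Module A Q] [Module.Flat A Q] (ι : N →ₗ[A] M) (p : M →ₗ[A] Q)
    (hex : Function.Exact ι p) (hsurj : Function.Surjective p) (𝔞 : Ideal A) (z : M ⊗[A] 𝔞)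
    (hz : LinearMap.lTensor M 𝔞.subtype z = 0) :
    ∃ w : N ⊗[A] 𝔞, LinearMap.rTensor 𝔞 ι w = z := by
  have hcomm : ∀ w : M ⊗[A] 𝔞, LinearMap.lTensor Q 𝔞.subtype
      (LinearMap.rTensor 𝔞 p w) = LinearMap.rTensor A p (LinearMap.lTensor M 𝔞.subtype w) := by
    intro w
    induction w using TensorProduct.induction_on with
    | zero => simp only [map_zero]
    | add x y hx hy => simp only [map_add, hx, hy]
    | tmul m a => simp only [LinearMap.rTensor_tmul, LinearMap.lTensor_tmul]
  have h1 : LinearMap.lTensor Q 𝔞.subtype (LinearMap.rTensor 𝔞 p z) = 0 := by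
    rw [hcomm, hz, map_zero]
  have hinj : Function.Injective (LinearMap.lTensor Q 𝔞.subtype) :=
    Module.Flat.lTensor_preserves_injective_linearMap 𝔞.subtype Subtype.val_injective
  have h2 : LinearMap.rTensor 𝔞 p z = 0 := hinj (h1.trans (map_zero _).symm)
  have hex2 : Function.Exact (LinearMap.rTensor 𝔞 ι) (LinearMap.rTensor 𝔞 p) :=
    rTensor_exact 𝔞 hex hsurj
  exact (hex2 z).mp h2

/-- Submodule form of `exists_rTensor_eq_of_lTensor_eq_zero`. -/
theorem exists_rTensor_subtype_eq (K : Submodule B M) [Module.Flat A (M ⧸ K)] (𝔞 : Ideal A)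
    (z : M ⊗[A] 𝔞) (hz : LinearMap.lTensor M 𝔞.subtype z = 0) :
    ∃ w : ↥K ⊗[A] 𝔞, LinearMap.rTensor 𝔞 (K.subtype.restrictScalars A) w = z := by
  have hex : Function.Exact (K.subtype.restrictScalars A) (K.mkQ.restrictScalars A) := by
    intro x
    show K.mkQ x = 0 ↔ _
    rw [Submodule.mkQ_apply, Submodule.Quotient.mk_eq_zero]
    constructor
    · intro hx; exact ⟨⟨x, hx⟩, rfl⟩
    · rintro ⟨y, rfl⟩; exact y.2
  exact exists_rTensor_eq_of_lTensor_eq_zero M (K.subtype.restrictScalars A)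
    (K.mkQ.restrictScalars A) hex (Submodule.mkQ_surjective _) 𝔞 z hz

/-- If `M / I M` is `A`-flat, elements of `M ⊗ 𝔞` dying in `M` lie in `I • (M ⊗ 𝔞)`. -/
theorem mem_smul_top_of_lTensor_eq_zero (I : Ideal B)
    [Module.Flat A (M ⧸ (I • ⊤ : Submodule B M))] (𝔞 : Ideal A) (z : M ⊗[A] 𝔞)
    (hz : LinearMap.lTensor M 𝔞.subtype z = 0) :
    z ∈ (I • ⊤ : Submodule B (M ⊗[A] 𝔞)) := by
  obtain ⟨w, hw⟩ := exists_rTensor_subtype_eq M (I • ⊤ : Submodule B M) 𝔞 z hz
  rw [← hw]
  exact rTensor_subtype_mem_smul_top M I 𝔞 w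

end

/-- Key step (Krull intersection): `B` Noetherian, `M` finite, all `M / J^k M` flat over `A`.
Every element of `M ⊗ 𝔞` dying in `M` is fixed by some element of `J`. -/
theorem exists_mem_smul_eq_self {A B : Type u} [CommRing A] [CommRing B]
    [Algebra A B] [IsNoetherianRing B] (J : Ideal B) (M : Type u) [AddCommGroup M] [Module B M]
    [Module A M] [IsScalarTower A B M] [Module.Finite B M]
    (h : ∀ k : ℕ, Module.Flat A (M ⧸ (J ^ k • ⊤ : Submodule B M)))
    (𝔞 : Ideal A) (h𝔞 : 𝔞.FG) (z : M ⊗[A] 𝔞) (hz : LinearMap.lTensor M 𝔞.subtype z = 0) :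
    ∃ r ∈ J, r • z = z := by
  haveI : Module.Finite A 𝔞 := Module.Finite.iff_fg.mpr h𝔞
  haveI : Module.Finite B (M ⊗[A] 𝔞) := finite_tensor M 𝔞
  have hmem : z ∈ (⨅ k : ℕ, J ^ k • ⊤ : Submodule B (M ⊗[A] 𝔞)) := by
    rw [Submodule.mem_iInf]
    intro k
    haveI := h k
    exact mem_smul_top_of_lTensor_eq_zero M (J ^ k) 𝔞 z hz
  obtain ⟨r, hr⟩ := (Ideal.mem_iInf_smul_pow_eq_bot_iff J z).mp hmem
  exact ⟨r.1, r.2, hr⟩

/-- **Flatness along `V(J)` from flatness of the truncations** (Noetherian case): `B` Noetherian,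
`M` finite over `B`, all `M / J^k M` flat over `A`.  Then `M_q` is flat over `A` for every prime
`q ⊇ J`. -/
theorem flat_localizedModule_of_forall_flat_quot {A B : Type u} [CommRing A] [CommRing B]
    [Algebra A B] [IsNoetherianRing B] (J : Ideal B) (M : Type u) [AddCommGroup M] [Module B M]
    [Module A M] [IsScalarTower A B M] [Module.Finite B M]
    (h : ∀ k : ℕ, Module.Flat A (M ⧸ (J ^ k • ⊤ : Submodule B M)))
    (q : Ideal B) [q.IsPrime] (hq : J ≤ q) :
    Module.Flat A (LocalizedModule q.primeCompl M) := by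
  rw [Module.Flat.iff_lTensor_injective]
  intro 𝔞 h𝔞
  have key : ∀ z : M ⊗[A] 𝔞, LinearMap.lTensor M 𝔞.subtype z = 0 → ∃ r ∈ J, r • z = z :=
    fun z hz => exists_mem_smul_eq_self J M h 𝔞 h𝔞 z hz
  -- localization
  let g : M →ₗ[B] LocalizedModule q.primeCompl M := LocalizedModule.mkLinearMap q.primeCompl M
  let G := AlgebraTensorModule.rTensor A 𝔞 g
  let G₀ := AlgebraTensorModule.rTensor A A g
  have hcomm : ∀ x : M ⊗[A] 𝔞, LinearMap.lTensor (LocalizedModule q.primeCompl M) 𝔞.subtype (G x) =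
      G₀ (LinearMap.lTensor M 𝔞.subtype x) := by
    intro x
    induction x using TensorProduct.induction_on with
    | zero => simp
    | add x y hx hy => simp only [map_add, hx, hy]
    | tmul m a => rfl
  intro y₁ y₂ hy
  rw [← sub_eq_zero] at hy ⊢
  rw [← map_sub] at hy
  set y := y₁ - y₂
  obtain ⟨⟨x, s⟩, hxs⟩ := IsLocalizedModule.surj q.primeCompl G y
  have h3 : G₀ (LinearMap.lTensor M 𝔞.subtype x) = G₀ 0 := by
    rw [← hcomm, ← hxs, map_zero]
    have : LinearMap.lTensor (LocalizedModule q.primeCompl M) 𝔞.subtype (s • y) =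
        s • LinearMap.lTensor (LocalizedModule q.primeCompl M) 𝔞.subtype y := by
      have := (AlgebraTensorModule.lTensor B (LocalizedModule q.primeCompl M)
        𝔞.subtype).map_smul (s : B) y
      rw [AlgebraTensorModule.coe_lTensor] at this
      exact this
    rw [this, hy, smul_zero]
  obtain ⟨t, ht⟩ := IsLocalizedModule.exists_of_eq (S := q.primeCompl) (f := G₀) h3
  rw [smul_zero] at ht
  have h4 : LinearMap.lTensor M 𝔞.subtype (t • x) = 0 := by
    have := (AlgebraTensorModule.lTensor B M 𝔞.subtype).map_smul (t : B) x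
    rw [AlgebraTensorModule.coe_lTensor] at this
    exact this.trans ht
  obtain ⟨r, hr, hrz⟩ := key (t • x) h4
  have hu : (1 - r) * (t : B) ∈ q.primeCompl := by
    refine mul_mem ?_ t.2
    intro hmem
    exact (Ideal.IsPrime.ne_top ‹_›) ((Ideal.eq_top_iff_one q).mpr
      (by simpa using q.add_mem hmem (hq hr)))
  have h5 : ((1 - r) * (t : B)) • x = 0 := by
    rw [mul_smul, sub_smul, one_smul, sub_eq_zero]
    exact hrz.symm
  have h6 : G x = 0 := by
    have h7 : (⟨(1 - r) * (t : B), hu⟩ : q.primeCompl) • G x = 0 := by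
      show ((1 - r) * (t : B)) • G x = 0
      rw [← map_smul, h5, map_zero]
    exact (IsLocalizedModule.smul_inj G ⟨(1 - r) * (t : B), hu⟩ _ _).mp (h7.trans (smul_zero _).symm)
  rw [h6] at hxs
  exact (IsLocalizedModule.smul_inj G s _ _).mp (hxs.trans (smul_zero _).symm)

end Groth.Agent.H48.GrFlatKrull
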