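import Mathlib
import Groth.Agent.H11.NormFlat

set_option autoImplicit false
set_option linter.style.haveILetI false

universe u

namespace Groth.Agent.H48.GrGenFlat

open TensorProduct Polynomial Groth.Agent.H11 Groth.Agent.H11.NormFlat

/-- Generic freeness of `N / J N` over a domain `A`, where `N` is a finite module over a finite
type `B`-algebra `T` and `B / J` is of finite type over `A`. -/
theorem exists_gfree_quot {A B : Type u} [CommRing A] [IsDomain A] [CommRing B] [Algebra A B]
    (J : Ideal B) [Algebra.FiniteType A (B ⧸ J)]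
    (T : Type u) [CommRing T] [Algebra B T] [Algebra.FiniteType B T]
    (N : Type u) [AddCommGroup N] [Module B N] [Module T N] [IsScalarTower B T N]
    [Module.Finite T N] [Module A N] [IsScalarTower A B N] :
    ∃ f : A, f ≠ 0 ∧ GFree A (N ⧸ (J • ⊤ : Submodule B N)) f := by
  let P : Ideal T := J.map (algebraMap B T)
  letI algA : Algebra A (T ⧸ P) :=
    ((algebraMap (B ⧸ J) (T ⧸ P)).comp (algebraMap A (B ⧸ J))).toAlgebra
  haveI tw : IsScalarTower A (B ⧸ J) (T ⧸ P) := IsScalarTower.of_algebraMap_eq (fun _ => rfl)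
  haveI : Algebra.FiniteType B (T ⧸ P) :=
    Algebra.FiniteType.of_surjective (Ideal.Quotient.mkₐ B P) Ideal.Quotient.mk_surjective
  haveI : Algebra.FiniteType (B ⧸ J) (T ⧸ P) :=
    Algebra.FiniteType.of_restrictScalars_finiteType B (B ⧸ J) (T ⧸ P)
  haveI : Algebra.FiniteType A (T ⧸ P) :=
    Algebra.FiniteType.trans (inferInstance : Algebra.FiniteType A (B ⧸ J)) inferInstance
  letI modA : Module A (N ⧸ (P • ⊤ : Submodule T N)) :=
    Module.compHom _ (algebraMap A (T ⧸ P))
  haveI t1 : IsScalarTower A (T ⧸ P) (N ⧸ (P • ⊤ : Submodule T N)) :=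
    ⟨fun r s x => by
      show (r • s) • x = algebraMap A (T ⧸ P) r • (s • x)
      rw [Algebra.smul_def, mul_smul]⟩
  haveI : Module.Finite T (N ⧸ (P • ⊤ : Submodule T N)) := inferInstance
  haveI : Module.Finite (T ⧸ P) (N ⧸ (P • ⊤ : Submodule T N)) :=
    Module.Finite.of_restrictScalars_finite T _ _
  obtain ⟨f, hf0, hg⟩ := exists_gfree (R := A) (S := T ⧸ P)
    (M := N ⧸ (P • ⊤ : Submodule T N))
  refine ⟨f, hf0, ?_⟩
  have hEq : (P • (⊤ : Submodule T N)).restrictScalars B = J • (⊤ : Submodule B N) := by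
    rw [Ideal.smul_restrictScalars, Submodule.restrictScalars_top]
  let e : (N ⧸ (P • ⊤ : Submodule T N)) ≃ₗ[B] (N ⧸ (J • ⊤ : Submodule B N)) :=
    (Submodule.Quotient.restrictScalarsEquiv B (P • ⊤ : Submodule T N)).symm ≪≫ₗ
      Submodule.quotEquivOfEq _ _ hEq
  have he : ∀ (r : A) (x : N ⧸ (P • ⊤ : Submodule T N)), e (r • x) = r • e x := by
    intro r x
    have h1 : r • x = (algebraMap A B r) • x := by
      show algebraMap A (T ⧸ P) r • x = _
      obtain ⟨n, rfl⟩ := Submodule.Quotient.mk_surjective _ x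
      have h2 : algebraMap A (T ⧸ P) r =
          Ideal.Quotient.mk P (algebraMap B T (algebraMap A B r)) := rfl
      rw [h2, Module.Quotient.mk_smul_mk, algebraMap_smul, ← Submodule.Quotient.mk_smul]
    rw [h1, map_smul, algebraMap_smul]
  let eA : (N ⧸ (P • ⊤ : Submodule T N)) ≃ₗ[A] (N ⧸ (J • ⊤ : Submodule B N)) :=
    { e.toAddEquiv with map_smul' := fun r x => he r x }
  exact gfree_of_linearEquiv eA hg

/-- Generic flatness of the graded pieces from retractions onto a finite module over a finite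
type algebra. -/
theorem flat_gr_of_retractions {A B : Type u} [CommRing A] [IsDomain A] [CommRing B] [Algebra A B]
    (J : Ideal B) [Algebra.FiniteType A (B ⧸ J)]
    (M : Type u) [AddCommGroup M] [Module B M] [Module A M] [IsScalarTower A B M]
    (T : Type u) [CommRing T] [Algebra B T] [Algebra.FiniteType B T]
    (N : Type u) [AddCommGroup N] [Module B N] [Module T N] [IsScalarTower B T N]
    [Module.Finite T N] [Module A N] [IsScalarTower A B N]
    (i : ∀ n : ℕ, ↥(J ^ n • (⊤ : Submodule B M)) →ₗ[B] N)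
    (π : ∀ n : ℕ, N →ₗ[B] ↥(J ^ n • (⊤ : Submodule B M)))
    (hπ : ∀ n, π n ∘ₗ i n = LinearMap.id) :
    ∃ f : A, f ≠ 0 ∧ ∀ (n : ℕ) {A' : Type u} [CommRing A'] [Algebra A A']
      [IsLocalization.Away f A'] {Q : Type u} [AddCommGroup Q] [Module A Q] [Module A' Q]
      [IsScalarTower A A' Q]
      (θ : (↥(J ^ n • (⊤ : Submodule B M)) ⧸
        (J • ⊤ : Submodule B ↥(J ^ n • (⊤ : Submodule B M)))) →ₗ[A] Q)
      [IsLocalizedModule (Submonoid.powers f) θ], Module.Flat A' Q := by
  obtain ⟨f, hf0, hG⟩ := exists_gfree_quot (A := A) J T N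
  refine ⟨f, hf0, fun n A' _ _ _ Q _ _ _ _ θ _ => ?_⟩
  let Kn : Submodule B ↥(J ^ n • (⊤ : Submodule B M)) := J • ⊤
  let KN : Submodule B N := J • ⊤
  let i' : (↥(J ^ n • (⊤ : Submodule B M)) ⧸ Kn) →ₗ[B] (N ⧸ KN) :=
    Submodule.mapQ Kn KN (i n) (Submodule.smul_top_le_comap_smul_top J (i n))
  let π' : (N ⧸ KN) →ₗ[B] (↥(J ^ n • (⊤ : Submodule B M)) ⧸ Kn) :=
    Submodule.mapQ KN Kn (π n) (Submodule.smul_top_le_comap_smul_top J (π n))
  have hπ' : (π'.restrictScalars A) ∘ₗ (i'.restrictScalars A) = LinearMap.id := by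
    apply LinearMap.ext
    intro x
    obtain ⟨x, rfl⟩ := Submodule.Quotient.mk_surjective _ x
    show π' (i' (Submodule.Quotient.mk x)) = Submodule.Quotient.mk x
    simp only [i', π', Submodule.mapQ_apply]
    rw [show π n (i n x) = x from LinearMap.congr_fun (hπ n) x]
  exact flat_of_gfree_retract f hG (i'.restrictScalars A) (π'.restrictScalars A) hπ' θ

/-- **Generic flatness of the associated graded module** `gr_J(M)` over a domain `A`, when `B / J`
is of finite type over `A`, `J` is finitely generated and `M` is a finite `B`-module. -/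
theorem exists_flat_gr {A B : Type u} [CommRing A] [IsDomain A] [CommRing B] [Algebra A B]
    (J : Ideal B) (hJ : J.FG) [Algebra.FiniteType A (B ⧸ J)]
    (M : Type u) [AddCommGroup M] [Module B M] [Module A M] [IsScalarTower A B M]
    [Module.Finite B M] :
    ∃ f : A, f ≠ 0 ∧ ∀ (n : ℕ) {A' : Type u} [CommRing A'] [Algebra A A']
      [IsLocalization.Away f A'] {Q : Type u} [AddCommGroup Q] [Module A Q] [Module A' Q]
      [IsScalarTower A A' Q]
      (θ : (↥(J ^ n • (⊤ : Submodule B M)) ⧸
        (J • ⊤ : Submodule B ↥(J ^ n • (⊤ : Submodule B M)))) →ₗ[A] Q)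
      [IsLocalizedModule (Submonoid.powers f) θ], Module.Flat A' Q := by
  haveI : Algebra.FiniteType B (reesAlgebra J) :=
    (Subalgebra.fg_iff_finiteType _).mp (reesAlgebra.fg hJ)
  have hfgN : ∀ i, ((J.stableFiltration (⊤ : Submodule B M)).N i).FG := fun i =>
    Submodule.FG.smul (Ideal.FG.pow hJ) (Module.Finite.fg_top)
  have hfg : (J.stableFiltration (⊤ : Submodule B M)).submodule.FG :=
    ((J.stableFiltration (⊤ : Submodule B M)).submodule_fg_iff_stable hfgN).mpr
      (J.stableFiltration_stable ⊤)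
  haveI : Module.Finite (reesAlgebra J) (J.stableFiltration (⊤ : Submodule B M)).submodule :=
    Module.Finite.iff_fg.mpr hfg
  exact flat_gr_of_retractions J M (reesAlgebra J)
    (J.stableFiltration (⊤ : Submodule B M)).submodule (reesIncl J M) (reesProj J M)
    (reesProj_comp_reesIncl J M)

end Groth.Agent.H48.GrGenFlat
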