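import Mathlib
import Groth.Agent.H48.GrGenFlat
import Groth.Agent.H48.GrFlatKrull
import Groth.Agent.H73.FlatExt
import Groth.Agent.H57.FlatAtBC

set_option autoImplicit false
set_option linter.style.haveILetI false

universe u

namespace Groth.Agent.H48.GrFlatMain

open TensorProduct Groth.Agent.H48.GrGenFlat Groth.Agent.H48.GrFlatKrull

/-- `A`-flat form of generic flatness of `gr_J(M)`. -/
theorem exists_flat_gr' {A B : Type u} [CommRing A] [IsDomain A] [CommRing B] [Algebra A B]
    (J : Ideal B) (hJ : J.FG) [Algebra.FiniteType A (B ⧸ J)]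
    (M : Type u) [AddCommGroup M] [Module B M] [Module A M] [IsScalarTower A B M]
    [Module.Finite B M] :
    ∃ f : A, f ≠ 0 ∧ ∀ (n : ℕ) {Q : Type u} [AddCommGroup Q] [Module A Q]
      (θ : (↥(J ^ n • (⊤ : Submodule B M)) ⧸
        (J • ⊤ : Submodule B ↥(J ^ n • (⊤ : Submodule B M)))) →ₗ[A] Q)
      [IsLocalizedModule (Submonoid.powers f) θ], Module.Flat A Q := by
  obtain ⟨f, hf0, h⟩ := exists_flat_gr (A := A) J hJ M
  refine ⟨f, hf0, fun n Q _ _ θ _ => ?_⟩
  haveI h1 : Module.Flat (Localization.Away f) (LocalizedModule (Submonoid.powers f)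
      (↥(J ^ n • (⊤ : Submodule B M)) ⧸
        (J • ⊤ : Submodule B ↥(J ^ n • (⊤ : Submodule B M))))) :=
    h n (LocalizedModule.mkLinearMap (Submonoid.powers f) _)
  haveI : Module.Flat A (Localization.Away f) := IsLocalization.flat _ (Submonoid.powers f)
  haveI h2 : Module.Flat A (LocalizedModule (Submonoid.powers f)
      (↥(J ^ n • (⊤ : Submodule B M)) ⧸
        (J • ⊤ : Submodule B ↥(J ^ n • (⊤ : Submodule B M))))) :=
    Module.Flat.trans A (Localization.Away f) _
  exact Module.Flat.of_linearEquiv (IsLocalizedModule.iso (Submonoid.powers f) θ).symm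

/-- If all graded pieces `J^n M / J^{n+1} M` are `A`-flat then all truncations `M / J^k M` are. -/
theorem flat_quot_of_flat_gr {A B : Type u} [CommRing A] [CommRing B] [Algebra A B] (J : Ideal B)
    (M : Type u) [AddCommGroup M] [Module B M] [Module A M] [IsScalarTower A B M]
    (h : ∀ n : ℕ, Module.Flat A (↥(J ^ n • (⊤ : Submodule B M)) ⧸
      (J • ⊤ : Submodule B ↥(J ^ n • (⊤ : Submodule B M)))))
    (k : ℕ) : Module.Flat A (M ⧸ (J ^ k • ⊤ : Submodule B M)) := by
  induction k with
  | zero =>
    have htop : (J ^ 0 • ⊤ : Submodule B M) = ⊤ := by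
      rw [pow_zero, Ideal.one_eq_top, Submodule.top_smul]
    haveI : Subsingleton (M ⧸ (J ^ 0 • ⊤ : Submodule B M)) :=
      Submodule.Quotient.subsingleton_iff.mpr htop
    infer_instance
  | succ k ih =>
    haveI := ih
    haveI := h k
    set K : Submodule B M := J ^ k • ⊤ with hK
    set K₁ : Submodule B M := J ^ (k + 1) • ⊤ with hK₁
    have hmap : Submodule.map K.subtype (J • (⊤ : Submodule B ↥K)) = K₁ := by
      rw [Submodule.map_smul'', Submodule.map_top, Submodule.range_subtype, hK, hK₁,
        ← Submodule.mul_smul, ← pow_succ']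
    have hle : (J • (⊤ : Submodule B ↥K)) ≤ Submodule.comap K.subtype K₁ :=
      Submodule.map_le_iff_le_comap.mp hmap.le
    have hK₁K : K₁ ≤ K := by
      rw [hK, hK₁]
      exact Submodule.smul_mono_left (Ideal.pow_le_pow_right (Nat.le_succ k))
    let g : (↥K ⧸ (J • ⊤ : Submodule B ↥K)) →ₗ[B] (M ⧸ K₁) :=
      Submodule.mapQ _ _ K.subtype hle
    let f : (M ⧸ K₁) →ₗ[B] (M ⧸ K) := Submodule.factor hK₁K
    refine Groth.Agent.H73.flat_of_exact (g.restrictScalars A) (f.restrictScalars A) ?_ ?_ ?_
    · -- injective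
      rw [← LinearMap.ker_eq_bot, LinearMap.ker_eq_bot']
      intro x hx
      obtain ⟨x, rfl⟩ := Submodule.Quotient.mk_surjective _ x
      have hx' : (Submodule.Quotient.mk (x : M) : M ⧸ K₁) = 0 := hx
      rw [Submodule.Quotient.mk_eq_zero, ← hmap] at hx'
      obtain ⟨y, hy, hyx⟩ := hx'
      have : y = x := Subtype.ext hyx
      rw [Submodule.Quotient.mk_eq_zero, ← this]
      exact hy
    · exact Submodule.factor_surjective hK₁K
    · intro y
      obtain ⟨m, rfl⟩ := Submodule.Quotient.mk_surjective _ y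
      show Submodule.factor hK₁K (K₁.mkQ m) = 0 ↔ _
      rw [Submodule.factor_mk, Submodule.mkQ_apply, Submodule.Quotient.mk_eq_zero]
      constructor
      · intro hm
        exact ⟨Submodule.Quotient.mk ⟨m, hm⟩, rfl⟩
      · rintro ⟨x, hx⟩
        obtain ⟨x, rfl⟩ := Submodule.Quotient.mk_surjective _ x
        have h1 : (Submodule.Quotient.mk (x : M) : M ⧸ K₁) = Submodule.Quotient.mk m := hx
        rw [Submodule.Quotient.eq] at h1
        have h2 := hK₁K h1
        have h3 : m = (x : M) - ((x : M) - m) := by abel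
        rw [h3]
        exact K.sub_mem x.2 h2

/-- **Generic flatness along a closed subscheme of finite type** (ring form): `A` a domain, `B` a
Noetherian `A`-algebra, `J` an ideal with `B / J` of finite type over `A`, `M` a finite
`B`-module.  There is `f ≠ 0` in `A` such that `M_q` is `A`-flat for all primes `q ⊇ J` of `B`
not containing `f`. -/
theorem exists_flat_localizedModule {A B : Type u} [CommRing A] [IsDomain A] [CommRing B]
    [Algebra A B] [IsNoetherianRing B] (J : Ideal B) [Algebra.FiniteType A (B ⧸ J)]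
    (M : Type u) [AddCommGroup M] [Module B M] [Module A M] [IsScalarTower A B M]
    [Module.Finite B M] :
    ∃ f : A, f ≠ 0 ∧ ∀ (q : Ideal B) [q.IsPrime], J ≤ q → algebraMap A B f ∉ q →
      Module.Flat A (LocalizedModule q.primeCompl M) := by
  obtain ⟨f, hf0, hgr⟩ := exists_flat_gr' (A := A) J (IsNoetherian.noetherian J) M
  refine ⟨f, hf0, fun q _ hJq hfq => ?_⟩
  let S : Submonoid B := Submonoid.powers (algebraMap A B f)
  let J' : Ideal (Localization S) := J.map (algebraMap B (Localization S))
  haveI : IsNoetherianRing (Localization S) :=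
    IsLocalization.isNoetherianRing S (Localization S) inferInstance
  haveI : Module.Finite (Localization S) (LocalizedModule S M) :=
    Module.Finite.of_isLocalizedModule S (LocalizedModule.mkLinearMap S M)
  have hgr' : ∀ n : ℕ, Module.Flat A
      (↥(J' ^ n • (⊤ : Submodule (Localization S) (LocalizedModule S M))) ⧸
        (J' • ⊤ : Submodule (Localization S)
          ↥(J' ^ n • (⊤ : Submodule (Localization S) (LocalizedModule S M))))) := by
    intro n
    have hK : (J' ^ n • (⊤ : Submodule (Localization S) (LocalizedModule S M))) =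
        (J ^ n • (⊤ : Submodule B M)).localized' (Localization S) S
          (LocalizedModule.mkLinearMap S M) := by
      rw [Submodule.localized'_smul, Ideal.localized'_eq_map, Submodule.localized'_top,
        Ideal.map_pow]
    obtain ⟨θ, hθ⟩ := Groth.Agent.H11.NormFlat.exists_isLocalizedModule_quot S
      (LocalizedModule.mkLinearMap S M) J (J ^ n • ⊤) _ hK
    haveI := hθ
    haveI : IsLocalizedModule (Submonoid.powers f) (θ.restrictScalars A) :=
      IsLocalizedModule.restrictScalars_powers f θ
    exact hgr n (θ.restrictScalars A)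
  have hq' : ∀ k : ℕ, Module.Flat A (LocalizedModule S M ⧸
      (J' ^ k • ⊤ : Submodule (Localization S) (LocalizedModule S M))) :=
    flat_quot_of_flat_gr (A := A) J' (LocalizedModule S M) hgr'
  rw [Module.Flat.iff_lTensor_injective]
  intro 𝔞 h𝔞
  refine Groth.Agent.H57.lTensor_localizedModule_injective_of_forall q.primeCompl M 𝔞.subtype
    (fun x hx => ?_)
  have h1 : LinearMap.lTensor (LocalizedModule S M) 𝔞.subtype
      (AlgebraTensorModule.rTensor A 𝔞 (LocalizedModule.mkLinearMap S M) x) = 0 := by
    rw [Groth.Agent.H57.locTensor_naturality, hx, map_zero]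
  obtain ⟨r', hr', hrx⟩ := exists_mem_smul_eq_self J' (LocalizedModule S M) hq' 𝔞 h𝔞 _ h1
  obtain ⟨⟨⟨j, hj⟩, s⟩, hjs⟩ := (IsLocalization.mem_map_algebraMap_iff S (Localization S)).mp hr'
  have h2 : ((s : B) - j) •
      (AlgebraTensorModule.rTensor A 𝔞 (LocalizedModule.mkLinearMap S M) x) = 0 := by
    rw [← algebraMap_smul (Localization S) ((s : B) - j), map_sub, sub_smul]
    have hjs' : algebraMap B (Localization S) j = r' * algebraMap B (Localization S) s := hjs.symm
    rw [hjs', mul_comm, mul_smul, hrx, sub_self]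
  have h3 : AlgebraTensorModule.rTensor A 𝔞 (LocalizedModule.mkLinearMap S M)
      (((s : B) - j) • x) = 0 := by
    rw [map_smul]; exact h2
  obtain ⟨c, hc⟩ := (IsLocalizedModule.eq_zero_iff S
    (AlgebraTensorModule.rTensor A 𝔞 (LocalizedModule.mkLinearMap S M))).mp h3
  have hpow : ∀ c : S, (c : B) ∉ q := by
    rintro ⟨_, m, rfl⟩ hmem
    exact hfq (Ideal.IsPrime.mem_of_pow_mem ‹_› m hmem)
  have hsj : (s : B) - j ∉ q := by
    intro hmem
    exact hpow s (by simpa using q.add_mem hmem (hJq hj))
  refine ⟨⟨(c : B) * ((s : B) - j), ?_⟩, ?_⟩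
  · intro hmem
    rcases (Ideal.IsPrime.mem_or_mem ‹_› hmem) with h | h
    · exact hpow c h
    · exact hsj h
  · show ((c : B) * ((s : B) - j)) • x = 0
    rw [mul_smul]; exact hc

end Groth.Agent.H48.GrFlatMain
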