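import Mathlib
import Groth.Agent.H48.FlatLimit1

/-!
# Kernels and base change along a pushout, and auxiliary module lemmas (helper48)
-/

set_option autoImplicit false
set_option linter.style.haveILetI false

universe u

open TensorProduct

namespace Groth.Agent.H48.GrLimOmega

/-- The kernel of a surjection of flat modules is flat. -/
lemma flat_ker {R : Type*} [CommRing R] {F M : Type*} [AddCommGroup F] [Module R F]
    [AddCommGroup M] [Module R M]
    [Module.Flat R F] [Module.Flat R M] (π : F →ₗ[R] M) (hπ : Function.Surjective π) :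
    Module.Flat R (LinearMap.ker π) := by
  rw [Module.Flat.iff_rTensor_injective']
  intro I
  have h1 : Function.Injective ((LinearMap.ker π).subtype.lTensor I) :=
    LinearMap.lTensor_injective_of_exact_of_flat π hπ (LinearMap.ker π).subtype
      (Submodule.injective_subtype _) (LinearMap.exact_subtype_ker_map π) I
  have h2 : Function.Injective (LinearMap.rTensor F I.subtype) :=
    Module.Flat.rTensor_preserves_injective_linearMap _ (Submodule.injective_subtype I)
  have h3 : (LinearMap.lTensor R (LinearMap.ker π).subtype) ∘ₗ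
      (LinearMap.rTensor (LinearMap.ker π) I.subtype) =
      (LinearMap.rTensor F I.subtype) ∘ₗ (LinearMap.lTensor I (LinearMap.ker π).subtype) := by
    rw [LinearMap.lTensor_comp_rTensor, LinearMap.rTensor_comp_lTensor]
  have h4 : Function.Injective ((LinearMap.lTensor R (LinearMap.ker π).subtype) ∘ₗ
      (LinearMap.rTensor (LinearMap.ker π) I.subtype)) := by
    rw [h3, LinearMap.coe_comp]
    exact h2.comp h1
  rw [LinearMap.coe_comp] at h4
  exact h4.of_comp

section Omega0

/-- Base change along a pushout of an injection with `R₁`-flat cokernel is injective. -/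
theorem baseChange_injective_of_flat (R₁ R₂ : Type u) {B₁ B₂ : Type u} [CommRing R₁] [CommRing R₂]
    [CommRing B₁] [CommRing B₂]
    [Algebra R₁ R₂] [Algebra R₁ B₁] [Algebra R₂ B₂] [Algebra B₁ B₂] [Algebra R₁ B₂]
    [IsScalarTower R₁ B₁ B₂] [IsScalarTower R₁ R₂ B₂] [Algebra.IsPushout R₁ R₂ B₁ B₂]
    {Y Z : Type u} [AddCommGroup Y] [Module B₁ Y] [Module R₁ Y] [IsScalarTower R₁ B₁ Y]
    [AddCommGroup Z] [Module B₁ Z] [Module R₁ Z] [IsScalarTower R₁ B₁ Z]
    (E : Submodule B₁ Y) (v : Y →ₗ[B₁] Z)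
    (hv : Function.Surjective v) (hE : LinearMap.ker v = E) [Module.Flat R₁ Z] :
    Function.Injective (E.subtype.baseChange B₂) := by
  let eE := Algebra.IsPushout.cancelBaseChange R₁ R₂ B₁ B₂ E
  let eY := Algebra.IsPushout.cancelBaseChange R₁ R₂ B₁ B₂ Y
  let j : E →ₗ[R₁] Y := E.subtype.restrictScalars R₁
  have hj : Function.Injective (j.lTensor R₂) := by
    refine LinearMap.lTensor_injective_of_exact_of_flat (v.restrictScalars R₁) hv j
      (Submodule.injective_subtype E) ?_ R₂
    intro y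
    show v y = 0 ↔ y ∈ Set.range E.subtype
    rw [← LinearMap.mem_ker, hE]
    simp
  have hnat : ∀ z : R₂ ⊗[R₁] E, E.subtype.baseChange B₂ (eE.symm z) = eY.symm (j.lTensor R₂ z) := by
    intro z
    induction z using TensorProduct.induction_on with
    | zero => simp
    | tmul r x =>
      simp only [eE, eY, Algebra.IsPushout.cancelBaseChange_symm_tmul, LinearMap.baseChange_tmul,
        LinearMap.lTensor_tmul]
      rfl
    | add a b ha hb => simp only [map_add, ha, hb]
  intro a b hab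
  obtain ⟨a', rfl⟩ := eE.symm.surjective a
  obtain ⟨b', rfl⟩ := eE.symm.surjective b
  rw [hnat, hnat] at hab
  rw [hj (eY.symm.injective hab)]

/-- **Kernels commute with base change along a pushout when the cokernel of the image is flat
over the base.** -/
theorem ker_baseChange_eq (R₁ R₂ : Type u) {B₁ B₂ : Type u} [CommRing R₁] [CommRing R₂]
    [CommRing B₁] [CommRing B₂]
    [Algebra R₁ R₂] [Algebra R₁ B₁] [Algebra R₂ B₂] [Algebra B₁ B₂] [Algebra R₁ B₂]
    [IsScalarTower R₁ B₁ B₂] [IsScalarTower R₁ R₂ B₂] [Algebra.IsPushout R₁ R₂ B₁ B₂]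
    {F Y Z : Type u} [AddCommGroup F] [Module B₁ F]
    [AddCommGroup Y] [Module B₁ Y] [Module R₁ Y] [IsScalarTower R₁ B₁ Y]
    [AddCommGroup Z] [Module B₁ Z] [Module R₁ Z] [IsScalarTower R₁ B₁ Z]
    (u : F →ₗ[B₁] Y) (v : Y →ₗ[B₁] Z) (huv : Function.Exact u v)
    (hv : Function.Surjective v) [Module.Flat R₁ Z] :
    LinearMap.ker (u.baseChange B₂) = (LinearMap.ker u).baseChange B₂ := by
  set E : Submodule B₁ Y := LinearMap.range u with hE
  let p : F →ₗ[B₁] E := u.rangeRestrict
  have hp : Function.Surjective p := LinearMap.surjective_rangeRestrict u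
  have hup : u = E.subtype ∘ₗ p := LinearMap.ext fun x => rfl
  have hinj : Function.Injective (E.subtype.baseChange B₂) :=
    baseChange_injective_of_flat R₁ R₂ E v hv huv.linearMap_ker_eq
  have hex : Function.Exact (LinearMap.ker u).subtype p := by
    intro y
    constructor
    · intro hy
      refine ⟨⟨y, ?_⟩, rfl⟩
      rw [LinearMap.mem_ker]
      have := congrArg Subtype.val hy
      simpa [p] using this
    · rintro ⟨z, rfl⟩
      apply Subtype.ext
      simp [p]
  have hex2 : Function.Exact ((LinearMap.ker u).subtype.baseChange B₂) (p.baseChange B₂) := by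
    have := lTensor_exact B₂ hex hp
    intro y
    have h1 := this y
    simpa [LinearMap.baseChange_eq_ltensor] using h1
  ext y
  rw [LinearMap.mem_ker, Submodule.baseChange, LinearMap.mem_range]
  have h2 : u.baseChange B₂ y = E.subtype.baseChange B₂ (p.baseChange B₂ y) := by
    conv_lhs => rw [hup, LinearMap.baseChange_comp]
    rfl
  rw [h2]
  constructor
  · intro hy
    have : p.baseChange B₂ y = 0 := hinj (by rw [hy, map_zero])
    exact (hex2 y).mp this
  · intro hy
    rw [(hex2 y).mpr hy, map_zero]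

end Omega0

section Tr

variable {B B₁ B₂ : Type u} [CommRing B] [CommRing B₁] [CommRing B₂] [Algebra B B₁] [Algebra B B₂]
  [Algebra B₁ B₂] [IsScalarTower B B₁ B₂]

variable (B B₁ B₂) in
/-- The transition map between two levels. -/
noncomputable def tr (Y : Type u) [AddCommGroup Y] [Module B Y] : B₁ ⊗[B] Y →ₗ[B₁] B₂ ⊗[B] Y :=
  TensorProduct.AlgebraTensorModule.map (Algebra.linearMap B₁ B₂) LinearMap.id

@[simp]
lemma tr_tmul {Y : Type u} [AddCommGroup Y] [Module B Y] (b : B₁) (y : Y) :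
    tr B B₁ B₂ Y (b ⊗ₜ y) = algebraMap B₁ B₂ b ⊗ₜ y := rfl

lemma tr_baseChange {Y Y' : Type u} [AddCommGroup Y] [Module B Y] [AddCommGroup Y'] [Module B Y']
    (f : Y →ₗ[B] Y') (x : B₁ ⊗[B] Y) :
    tr B B₁ B₂ Y' (f.baseChange B₁ x) = f.baseChange B₂ (tr B B₁ B₂ Y x) := by
  induction x using TensorProduct.induction_on with
  | zero => simp
  | tmul b y => simp
  | add a b ha hb => simp only [map_add, ha, hb]

lemma cancel_tmul {Y : Type u} [AddCommGroup Y] [Module B Y] (b : B₂) (x : B₁ ⊗[B] Y) :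
    TensorProduct.AlgebraTensorModule.cancelBaseChange B B₁ B₂ B₂ Y (b ⊗ₜ x) = b • tr B B₁ B₂ Y x := by
  induction x using TensorProduct.induction_on with
  | zero => simp
  | tmul b₁ y =>
    rw [TensorProduct.AlgebraTensorModule.cancelBaseChange_tmul, tr_tmul,
      TensorProduct.smul_tmul', Algebra.smul_def, smul_eq_mul, mul_comm]
  | add a c ha hc => rw [tmul_add, map_add, ha, hc, map_add, smul_add]

/-- The image of a base-changed submodule under the cancellation isomorphism. -/
lemma map_cancel_baseChange {Y : Type u} [AddCommGroup Y] [Module B Y]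
    (K : Submodule B₁ (B₁ ⊗[B] Y)) :
    (K.baseChange B₂).map
      (TensorProduct.AlgebraTensorModule.cancelBaseChange B B₁ B₂ B₂ Y).toLinearMap =
      Submodule.span B₂ (tr B B₁ B₂ Y '' (K : Set (B₁ ⊗[B] Y))) := by
  rw [Submodule.baseChange_eq_span, Submodule.map_span]
  congr 1
  ext z
  constructor
  · rintro ⟨_, ⟨x, hx, rfl⟩, rfl⟩
    refine ⟨x, hx, ?_⟩
    show tr B B₁ B₂ Y x = TensorProduct.AlgebraTensorModule.cancelBaseChange B B₁ B₂ B₂ Y (1 ⊗ₜ x)
    rw [cancel_tmul, one_smul]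
  · rintro ⟨x, hx, rfl⟩
    refine ⟨1 ⊗ₜ x, ⟨x, hx, rfl⟩, ?_⟩
    show TensorProduct.AlgebraTensorModule.cancelBaseChange B B₁ B₂ B₂ Y (1 ⊗ₜ x) = tr B B₁ B₂ Y x
    rw [cancel_tmul, one_smul]

/-- **(0c)**: the kernel at the upper level is spanned by the kernel at the lower level, when the
cokernel of the image at the lower level is flat over the lower base ring. -/
theorem ker_baseChange_eq_span (R₁ R₂ : Type u) [CommRing R₁] [CommRing R₂]
    [Algebra R₁ R₂] [Algebra R₁ B₁] [Algebra R₂ B₂] [Algebra R₁ B₂]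
    [IsScalarTower R₁ B₁ B₂] [IsScalarTower R₁ R₂ B₂] [Algebra.IsPushout R₁ R₂ B₁ B₂]
    {G Y Z : Type u} [AddCommGroup G] [Module B G]
    [AddCommGroup Y] [Module B Y] [AddCommGroup Z] [Module B Z]
    (f : G →ₗ[B] Y) (v : Y →ₗ[B] Z) (hfv : Function.Exact f v) (hv : Function.Surjective v)
    [Module.Flat R₁ (B₁ ⊗[B] Z)] :
    LinearMap.ker (f.baseChange B₂) =
      Submodule.span B₂ (tr B B₁ B₂ G '' (LinearMap.ker (f.baseChange B₁) : Set (B₁ ⊗[B] G))) := by
  have hex : Function.Exact (f.baseChange B₁) (v.baseChange B₁) := by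
    have := lTensor_exact B₁ hfv hv
    intro y
    simpa [LinearMap.baseChange_eq_ltensor] using this y
  have hsurj : Function.Surjective (v.baseChange B₁) := LinearMap.baseChange_surjective B₁ hv
  have h0 := ker_baseChange_eq R₁ R₂ (B₂ := B₂) (f.baseChange B₁)
    (v.baseChange B₁) hex hsurj
  rw [← map_cancel_baseChange, ← h0]
  ext x
  rw [LinearMap.mem_ker, Submodule.mem_map]
  have hbb := LinearMap.baseChange_baseChange (R := B) (A := B₁) (B := B₂) f
  constructor
  · intro hx
    refine ⟨(TensorProduct.AlgebraTensorModule.cancelBaseChange B B₁ B₂ B₂ G).symm x, ?_, by simp⟩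
    rw [LinearMap.mem_ker, hbb]
    simp [hx]
  · rintro ⟨y, hy, rfl⟩
    rw [LinearMap.mem_ker, hbb] at hy
    have := congrArg (TensorProduct.AlgebraTensorModule.cancelBaseChange B B₁ B₂ B₂ Y) hy
    simpa using this

end Tr

/-- Kernel of the map to the base change along `C → (C ⧸ p)_f`. -/
theorem exists_pow_smul_mem_of_tmul_eq_zero {C : Type u} [CommRing C] (p : Ideal C) (f : C)
    {Y : Type u} [AddCommGroup Y] [Module C Y] (y : Y)
    (h : (1 : Localization.Away (Ideal.Quotient.mk p f)) ⊗ₜ[C] y = 0) :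
    ∃ n : ℕ, f ^ n • y ∈ p • (⊤ : Submodule C Y) := by
  set R' := Localization.Away (Ideal.Quotient.mk p f) with hR'
  let e := TensorProduct.AlgebraTensorModule.cancelBaseChange C (C ⧸ p) R' R' Y
  have h1 : (1 : R') ⊗ₜ[C ⧸ p] ((1 : C ⧸ p) ⊗ₜ[C] y) = 0 := by
    have : e ((1 : R') ⊗ₜ[C ⧸ p] ((1 : C ⧸ p) ⊗ₜ[C] y)) = (1 : R') ⊗ₜ[C] y := by
      simp [e]
    apply e.injective
    rw [this, h, map_zero]
  have h2 : TensorProduct.mk (C ⧸ p) R' ((C ⧸ p) ⊗[C] Y) 1 ((1 : C ⧸ p) ⊗ₜ[C] y) = 0 := h1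
  obtain ⟨⟨c, n, rfl⟩, hc⟩ := (IsLocalizedModule.eq_zero_iff
    (Submonoid.powers (Ideal.Quotient.mk p f))
    (TensorProduct.mk (C ⧸ p) R' ((C ⧸ p) ⊗[C] Y) 1)).mp h2
  refine ⟨n, ?_⟩
  apply Groth.Agent.H48.FlatLimit.mem_smul_top_of_one_tmul_eq_zero p
  have hc' : (Ideal.Quotient.mk p f) ^ n • ((1 : C ⧸ p) ⊗ₜ[C] y) = 0 := hc
  rw [TensorProduct.tmul_smul, ← algebraMap_smul (C ⧸ p) (f ^ n) ((1 : C ⧸ p) ⊗ₜ[C] y),
    Ideal.Quotient.algebraMap_eq, map_pow]
  exact hc'

/-- A finitely generated submodule contained in `U + 𝔪 L` for all maximal `𝔪` is contained in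
`U`. -/
theorem le_of_forall_maximal {A : Type u} [CommRing A] {X : Type u} [AddCommGroup X] [Module A X]
    (L U : Submodule A X) (hL : L.FG) (hUL : U ≤ L)
    (h : ∀ 𝔪 : Ideal A, 𝔪.IsMaximal → L ≤ U ⊔ 𝔪 • L) : L ≤ U := by
  let I : Ideal A :=
    { carrier := {a | ∀ x ∈ L, a • x ∈ U}
      add_mem' := fun {a b} ha hb x hx => by rw [add_smul]; exact U.add_mem (ha x hx) (hb x hx)
      zero_mem' := fun x _ => by rw [zero_smul]; exact U.zero_mem
      smul_mem' := fun c a ha x hx => by
        rw [smul_eq_mul, mul_smul]; exact U.smul_mem c (ha x hx) }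
  have hI : I = ⊤ := by
    by_contra hne
    obtain ⟨𝔪, h𝔪, hI𝔪⟩ := Ideal.exists_le_maximal I hne
    have h1 := h 𝔪 h𝔪
    set Lb : Submodule A (X ⧸ U) := L.map U.mkQ with hLb
    have hfg : Lb.FG := hL.map _
    have hle : Lb ≤ 𝔪 • Lb := by
      rw [hLb, ← Submodule.map_smul'']
      intro y hy
      obtain ⟨x, hx, rfl⟩ := hy
      obtain ⟨u, hu, w, hw, rfl⟩ := Submodule.mem_sup.mp (h1 hx)
      refine ⟨w, hw, ?_⟩
      rw [map_add, Submodule.mkQ_apply, Submodule.mkQ_apply,
        (Submodule.Quotient.mk_eq_zero U).mpr hu, zero_add]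
    obtain ⟨r, hr1, hr0⟩ :=
      Submodule.exists_sub_one_mem_and_smul_eq_zero_of_fg_of_le_smul 𝔪 Lb hfg hle
    have hrI : r ∈ I := by
      intro x hx
      have := hr0 (U.mkQ x) ⟨x, hx, rfl⟩
      rw [← map_smul, Submodule.mkQ_apply, Submodule.Quotient.mk_eq_zero] at this
      exact this
    have : (1 : A) ∈ 𝔪 := by
      have h2 : (1 : A) = r - (r - 1) := by ring
      rw [h2]
      exact 𝔪.sub_mem (hI𝔪 hrI) hr1
    exact h𝔪.ne_top ((Ideal.eq_top_iff_one 𝔪).mpr this)
  intro x hx
  have h1 : (1 : A) ∈ I := by rw [hI]; trivial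
  simpa using h1 x hx

end Groth.Agent.H48.GrLimOmega
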