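import Mathlib

/-!
# Total module of a graded family generated in degree zero (helper48)

`X k` modules over `B`, commuting degree-one maps `σ i k : X k → X (k+1)` (`i : Fin r`), generated
in degree `0`.  Then `⨁ k, X k` is a finite module over `MvPolynomial (Fin r) B`.  Over a Noetherian
`B`, graded submodules are generated in bounded degrees.
-/

set_option autoImplicit false
set_option linter.style.haveILetI false

universe u

open DirectSum

namespace Groth.Agent.H48.GrLimTot

variable {B : Type u} [CommRing B] {r : ℕ} (X : ℕ → Type u) [∀ k, AddCommGroup (X k)]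
  [∀ k, Module B (X k)] (σ : Fin r → ∀ k, X k →ₗ[B] X (k + 1))

/-- The shift endomorphism of the total module. -/
noncomputable def shift (i : Fin r) : Module.End B (⨁ k, X k) :=
  DirectSum.toModule B ℕ _ (fun k => (DirectSum.lof B ℕ X (k + 1)) ∘ₗ σ i k)

lemma shift_lof (i : Fin r) (k : ℕ) (x : X k) :
    shift X σ i (DirectSum.lof B ℕ X k x) = DirectSum.lof B ℕ X (k + 1) (σ i k x) := by
  simp [shift]

variable (hcomm : ∀ i j k, (σ i (k + 1)) ∘ₗ (σ j k) = (σ j (k + 1)) ∘ₗ (σ i k))

include hcomm in
lemma shift_comm (i j : Fin r) : shift X σ i * shift X σ j = shift X σ j * shift X σ i := by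
  apply DirectSum.linearMap_ext
  intro k
  apply LinearMap.ext
  intro x
  simp only [LinearMap.comp_apply, Module.End.mul_apply, shift_lof]
  congr 1
  exact LinearMap.congr_fun (hcomm i j k) x

/-- The commutative subalgebra generated by the shifts. -/
noncomputable def shiftAlg : Subalgebra B (Module.End B (⨁ k, X k)) :=
  Algebra.adjoin B (Set.range (shift X σ))

include hcomm in
lemma isMulCommutative_shiftAlg : IsMulCommutative (shiftAlg X σ) :=
  Algebra.isMulCommutative_adjoin B (by
    rintro _ ⟨i, rfl⟩ _ ⟨j, rfl⟩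
    exact shift_comm X σ hcomm i j)

open scoped IsMulCommutative in
/-- The ring homomorphism from the polynomial ring to endomorphisms of the total module. -/
noncomputable def polyEnd : MvPolynomial (Fin r) B →+* Module.End B (⨁ k, X k) :=
  haveI := isMulCommutative_shiftAlg X σ hcomm
  (shiftAlg X σ).val.toRingHom.comp
    (MvPolynomial.aeval (R := B) (fun i : Fin r =>
      (⟨shift X σ i, Algebra.subset_adjoin ⟨i, rfl⟩⟩ : shiftAlg X σ))).toRingHom

lemma polyEnd_X (i : Fin r) : polyEnd X σ hcomm (MvPolynomial.X i) = shift X σ i := by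
  simp [polyEnd]

lemma polyEnd_C (b : B) : polyEnd X σ hcomm (MvPolynomial.C b) = algebraMap B _ b := by
  simp only [polyEnd, RingHom.comp_apply, AlgHom.toRingHom_eq_coe, RingHom.coe_coe,
    MvPolynomial.aeval_C]
  rfl

/-- The module structure of the total module over the polynomial ring. -/
@[reducible] noncomputable def polyModule : Module (MvPolynomial (Fin r) B) (⨁ k, X k) :=
  Module.compHom _ (polyEnd X σ hcomm)

lemma smul_def (p : MvPolynomial (Fin r) B) (y : ⨁ k, X k) :
    letI := polyModule X σ hcomm
    p • y = polyEnd X σ hcomm p y := rfl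

lemma X_smul (i : Fin r) (y : ⨁ k, X k) :
    letI := polyModule X σ hcomm
    (MvPolynomial.X i : MvPolynomial (Fin r) B) • y = shift X σ i y := by
  rw [smul_def, polyEnd_X]

lemma C_smul (b : B) (y : ⨁ k, X k) :
    letI := polyModule X σ hcomm
    (MvPolynomial.C b : MvPolynomial (Fin r) B) • y = b • y := by
  rw [smul_def, polyEnd_C]
  rfl

lemma isScalarTower_poly :
    letI := polyModule X σ hcomm
    IsScalarTower B (MvPolynomial (Fin r) B) (⨁ k, X k) := by
  letI := polyModule X σ hcomm
  refine ⟨fun b p y => ?_⟩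
  rw [MvPolynomial.smul_eq_C_mul, mul_smul, C_smul]

/-- A `B`-submodule stable under the shifts is a submodule over the polynomial ring. -/
noncomputable def polySubmodule (W : Submodule B (⨁ k, X k))
    (hW : ∀ i, ∀ y ∈ W, shift X σ i y ∈ W) :
    letI := polyModule X σ hcomm
    Submodule (MvPolynomial (Fin r) B) (⨁ k, X k) :=
  letI := polyModule X σ hcomm
  { carrier := W
    add_mem' := W.add_mem
    zero_mem' := W.zero_mem
    smul_mem' := by
      intro p
      induction p using MvPolynomial.induction_on with
      | C b => intro y hy; rw [C_smul]; exact W.smul_mem b hy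
      | add p q hp hq => intro y hy; rw [add_smul]; exact W.add_mem (hp hy) (hq hy)
      | mul_X p i hp => intro y hy; rw [mul_smul, X_smul]; exact hp (hW i y hy) }

lemma mem_polySubmodule (W : Submodule B (⨁ k, X k))
    (hW : ∀ i, ∀ y ∈ W, shift X σ i y ∈ W) (y : ⨁ k, X k) :
    y ∈ polySubmodule X σ hcomm W hW ↔ y ∈ W := Iff.rfl

variable (hgen : ∀ k, (⨆ i, LinearMap.range (σ i k)) = ⊤)

include hgen in
/-- The total module is finite over the polynomial ring. -/
theorem finite_poly [Module.Finite B (X 0)] :
    letI := polyModule X σ hcomm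
    Module.Finite (MvPolynomial (Fin r) B) (⨁ k, X k) := by
  classical
  letI := polyModule X σ hcomm
  haveI := isScalarTower_poly X σ hcomm
  obtain ⟨s, hs⟩ := (Module.Finite.fg_top : (⊤ : Submodule B (X 0)).FG)
  refine ⟨⟨s.image (DirectSum.lof B ℕ X 0), ?_⟩⟩
  set S : Submodule (MvPolynomial (Fin r) B) (⨁ k, X k) :=
    Submodule.span _ ((s.image (DirectSum.lof B ℕ X 0) : Finset _) : Set (⨁ k, X k)) with hS
  have key : ∀ k (x : X k), DirectSum.lof B ℕ X k x ∈ S := by
    intro k
    induction k with
    | zero =>
      intro x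
      have hx : x ∈ Submodule.span B (s : Set (X 0)) := by rw [hs]; trivial
      induction hx using Submodule.span_induction with
      | mem y hy =>
        exact Submodule.subset_span (by
          rw [Finset.coe_image]; exact ⟨y, hy, rfl⟩)
      | zero => rw [map_zero]; exact S.zero_mem
      | add y z _ _ hy hz => rw [map_add]; exact S.add_mem hy hz
      | smul b y _ hy =>
        rw [map_smul, ← C_smul X σ hcomm]
        exact S.smul_mem _ hy
    | succ k ih =>
      intro x
      have hx : x ∈ (⨆ i, LinearMap.range (σ i k)) := by rw [hgen k]; trivial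
      induction hx using Submodule.iSup_induction' with
      | mem i y hy =>
        obtain ⟨z, rfl⟩ := hy
        rw [← shift_lof, ← X_smul X σ hcomm]
        exact S.smul_mem _ (ih z)
      | zero => rw [map_zero]; exact S.zero_mem
      | add y z _ _ hy hz => rw [map_add]; exact S.add_mem hy hz
  rw [eq_top_iff]
  have key2 : ∀ y : ⨁ k, X k, y ∈ S := by
    intro y
    induction y using DirectSum.induction_on with
    | zero => exact S.zero_mem
    | of k x => exact key k x
    | add a b ha hb => exact S.add_mem ha hb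
  exact fun y _ => key2 y

lemma shift_apply_succ (i : Fin r) (y : ⨁ k, X k) (k : ℕ) :
    (shift X σ i y) (k + 1) = σ i k (y k) := by
  induction y using DirectSum.induction_on with
  | zero => simp
  | of j x =>
    have h1 : (DirectSum.of X j x) = DirectSum.lof B ℕ X j x := rfl
    rw [h1, shift_lof]
    by_cases hjk : j = k
    · subst hjk
      rw [DirectSum.lof_eq_of, DirectSum.lof_eq_of, DirectSum.of_eq_same, DirectSum.of_eq_same]
    · rw [DirectSum.lof_eq_of, DirectSum.lof_eq_of, DirectSum.of_eq_of_ne _ _ _ (by omega),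
        DirectSum.of_eq_of_ne _ _ _ (Ne.symm hjk), map_zero]
  | add a b ha hb => simp only [map_add, DirectSum.add_apply, ha, hb]

lemma shift_apply_zero (i : Fin r) (y : ⨁ k, X k) : (shift X σ i y) 0 = 0 := by
  induction y using DirectSum.induction_on with
  | zero => simp
  | of j x =>
    have h1 : (DirectSum.of X j x) = DirectSum.lof B ℕ X j x := rfl
    rw [h1, shift_lof, DirectSum.lof_eq_of, DirectSum.of_eq_of_ne _ _ _ (by omega)]
  | add a b ha hb => simp only [map_add, DirectSum.add_apply, ha, hb, add_zero]

include hcomm hgen in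
/-- **Graded Noetherianity**: over a Noetherian ring, a graded family of submodules stable under
the shifts is generated in bounded degrees. -/
theorem exists_bound [IsNoetherianRing B] [Module.Finite B (X 0)]
    (L : ∀ k, Submodule B (X k)) (hL : ∀ i k, (L k).map (σ i k) ≤ L (k + 1)) :
    ∃ g : ℕ, ∀ k, g ≤ k → L (k + 1) = ⨆ i, (L k).map (σ i k) := by
  classical
  letI := polyModule X σ hcomm
  haveI := isScalarTower_poly X σ hcomm
  haveI := finite_poly X σ hcomm hgen
  haveI : IsNoetherian (MvPolynomial (Fin r) B) (⨁ k, X k) := isNoetherian_of_isNoetherianRing_of_finite _ _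
  -- the total submodule
  let W : Submodule B (⨁ k, X k) :=
    { carrier := {y | ∀ k, y k ∈ L k}
      add_mem' := fun {a b} ha hb k => by
        rw [DirectSum.add_apply]; exact (L k).add_mem (ha k) (hb k)
      zero_mem' := fun k => by rw [DirectSum.zero_apply]; exact (L k).zero_mem
      smul_mem' := fun c y hy k => by
        rw [DirectSum.smul_apply]; exact (L k).smul_mem c (hy k) }
  have hW : ∀ i, ∀ y ∈ W, shift X σ i y ∈ W := by
    intro i y hy k
    cases k with
    | zero => rw [shift_apply_zero]; exact (L 0).zero_mem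
    | succ k => rw [shift_apply_succ]; exact hL i k ⟨y k, hy k, rfl⟩
  let 𝒦 := polySubmodule X σ hcomm W hW
  obtain ⟨t, ht⟩ : 𝒦.FG := IsNoetherian.noetherian 𝒦
  -- the bound
  let g : ℕ := t.sup (fun y => (DFinsupp.support y).sup id)
  have hg : ∀ y ∈ t, ∀ k, g < k → y k = 0 := by
    intro y hy k hk
    by_contra hne
    have hmem : k ∈ DFinsupp.support y := DFinsupp.mem_support_iff.mpr hne
    have h1 : k ≤ (DFinsupp.support y).sup id := Finset.le_sup (f := id) hmem
    have h2 : (DFinsupp.support y).sup id ≤ g := Finset.le_sup (f := fun y => (DFinsupp.support y).sup id) hy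
    omega
  refine ⟨g, fun k hk => le_antisymm ?_ (iSup_le fun i => hL i k)⟩
  -- the submodule of decomposable elements
  let V : Submodule B (⨁ k, X k) :=
    { carrier := {y | y ∈ W ∧ ∀ k, g ≤ k → y (k + 1) ∈ ⨆ i, (L k).map (σ i k)}
      add_mem' := fun {a b} ha hb => ⟨W.add_mem ha.1 hb.1, fun k hk => by
        rw [DirectSum.add_apply]; exact Submodule.add_mem _ (ha.2 k hk) (hb.2 k hk)⟩
      zero_mem' := ⟨W.zero_mem, fun k _ => by
        rw [DirectSum.zero_apply]; exact Submodule.zero_mem _⟩
      smul_mem' := fun c y hy => ⟨W.smul_mem c hy.1, fun k hk => by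
        rw [DirectSum.smul_apply]; exact Submodule.smul_mem _ c (hy.2 k hk)⟩ }
  have hV : ∀ i, ∀ y ∈ V, shift X σ i y ∈ V := by
    intro i y hy
    refine ⟨hW i y hy.1, fun k _ => ?_⟩
    rw [shift_apply_succ]
    exact Submodule.mem_iSup_of_mem i ⟨y k, hy.1 k, rfl⟩
  let 𝒱 := polySubmodule X σ hcomm V hV
  have hle : 𝒦 ≤ 𝒱 := by
    rw [← ht, Submodule.span_le]
    intro y hy
    have hyK : y ∈ 𝒦 := by rw [← ht]; exact Submodule.subset_span hy
    refine ⟨hyK, fun k hk => ?_⟩
    rw [hg y hy (k + 1) (by omega)]
    exact Submodule.zero_mem _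
  intro x hx
  have hxK : DirectSum.lof B ℕ X (k + 1) x ∈ 𝒦 := by
    intro j
    by_cases hj : k + 1 = j
    · subst hj
      rw [DirectSum.lof_eq_of, DirectSum.of_eq_same]; exact hx
    · rw [DirectSum.lof_eq_of, DirectSum.of_eq_of_ne _ _ _ (Ne.symm hj)]; exact (L j).zero_mem
  have h2 := (hle hxK).2 k hk
  rwa [DirectSum.lof_eq_of, DirectSum.of_eq_same] at h2

end Groth.Agent.H48.GrLimTot
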