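import Mathlib
import Groth.Agent.H48.GrLimTot
import Groth.Agent.H48.GrLimOmega
import Groth.Agent.H49.KerFG

/-!
# Abstract graded data and its levels (helper48)

Data over `B`: modules `Q k` with surjections `π k : Q (k+1) → Q k` and commuting degree-one maps
`μ i k : Q k → Q (k+1)`, such that the kernels `G k = ker (π k)` are generated from `G 0` by the
`μ i`.  (Model: `Q k = M / J^k M`.)  For a `B`-algebra `B'` we study the kernels
`L k = ker (B' ⊗ G k → B' ⊗ Q (k+1))`.
-/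

set_option autoImplicit false
set_option linter.style.haveILetI false

universe u

open TensorProduct

namespace Groth.Agent.H48.GrLim

variable {B : Type u} [CommRing B] {r : ℕ}
  (Q : ℕ → Type u) [∀ k, AddCommGroup (Q k)] [∀ k, Module B (Q k)]
  (π : ∀ k, Q (k + 1) →ₗ[B] Q k) (μ : Fin r → ∀ k, Q k →ₗ[B] Q (k + 1))

/-- Axioms of graded data. -/
structure IsGrData : Prop where
  surj : ∀ k, Function.Surjective (π k)
  comm_πμ : ∀ i k, π (k + 1) ∘ₗ μ i (k + 1) = μ i k ∘ₗ π k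
  comm_μ : ∀ i j k, μ i (k + 1) ∘ₗ μ j k = μ j (k + 1) ∘ₗ μ i k
  gen : ∀ k, LinearMap.ker (π (k + 1)) ≤ ⨆ i, (LinearMap.ker (π k)).map (μ i (k + 1))
  zero : Subsingleton (Q 0)

/-- The graded pieces. -/
abbrev G (k : ℕ) : Submodule B (Q (k + 1)) := LinearMap.ker (π k)

variable {Q π μ}

lemma IsGrData.map_mem (h : IsGrData Q π μ) (i : Fin r) (k : ℕ) (x : Q (k + 1))
    (hx : x ∈ G Q π k) : μ i (k + 1) x ∈ G Q π (k + 1) := by
  rw [LinearMap.mem_ker] at hx ⊢
  have := LinearMap.congr_fun (h.comm_πμ i k) x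
  simp only [LinearMap.comp_apply] at this
  rw [this, hx, map_zero]

/-- The degree-one maps on the graded pieces. -/
noncomputable def IsGrData.σ (h : IsGrData Q π μ) (i : Fin r) (k : ℕ) :
    G Q π k →ₗ[B] G Q π (k + 1) :=
  (μ i (k + 1)).restrict (fun x hx => h.map_mem i k x hx)

lemma IsGrData.σ_coe (h : IsGrData Q π μ) (i : Fin r) (k : ℕ) (x : G Q π k) :
    (h.σ i k x : Q (k + 1 + 1)) = μ i (k + 1) x := rfl

lemma IsGrData.subtype_comp_σ (h : IsGrData Q π μ) (i : Fin r) (k : ℕ) :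
    (G Q π (k + 1)).subtype ∘ₗ h.σ i k = μ i (k + 1) ∘ₗ (G Q π k).subtype := rfl

lemma IsGrData.σ_comm (h : IsGrData Q π μ) (i j : Fin r) (k : ℕ) :
    h.σ i (k + 1) ∘ₗ h.σ j k = h.σ j (k + 1) ∘ₗ h.σ i k := by
  apply LinearMap.ext
  intro x
  apply Subtype.ext
  exact LinearMap.congr_fun (h.comm_μ i j (k + 1)) x

lemma IsGrData.σ_gen (h : IsGrData Q π μ) (k : ℕ) :
    (⨆ i, LinearMap.range (h.σ i k)) = ⊤ := by
  rw [eq_top_iff]
  rintro ⟨x, hx⟩ -
  have hx' := h.gen k hx
  induction hx' using Submodule.iSup_induction' with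
  | mem i y hy =>
    obtain ⟨z, hz, rfl⟩ := hy
    exact Submodule.mem_iSup_of_mem i ⟨⟨z, hz⟩, rfl⟩
  | zero =>
    have : (⟨0, hx⟩ : G Q π (k + 1)) = 0 := rfl
    rw [this]; exact Submodule.zero_mem _
  | add y z hy hz ihy ihz =>
    have hy' : y ∈ G Q π (k + 1) := by
      refine (iSup_le fun i => ?_ : (⨆ i, (LinearMap.ker (π k)).map (μ i (k + 1))) ≤ G Q π (k + 1)) hy
      rintro _ ⟨w, hw, rfl⟩
      exact h.map_mem i k w hw
    have hz' : z ∈ G Q π (k + 1) := by
      refine (iSup_le fun i => ?_ : (⨆ i, (LinearMap.ker (π k)).map (μ i (k + 1))) ≤ G Q π (k + 1)) hz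
      rintro _ ⟨w, hw, rfl⟩
      exact h.map_mem i k w hw
    have : (⟨y + z, hx⟩ : G Q π (k + 1)) = ⟨y, hy'⟩ + ⟨z, hz'⟩ := rfl
    rw [this]
    exact Submodule.add_mem _ (ihy hy') (ihz hz')

/-- The structure map `B' ⊗ G k → B' ⊗ Q (k+1)`. -/
noncomputable def ιB (_h : IsGrData Q π μ) (B' : Type u) [CommRing B'] [Algebra B B'] (k : ℕ) :
    B' ⊗[B] G Q π k →ₗ[B'] B' ⊗[B] Q (k + 1) :=
  (G Q π k).subtype.baseChange B'

/-- The kernel at level `B'`. -/
noncomputable def L (h : IsGrData Q π μ) (B' : Type u) [CommRing B'] [Algebra B B'] (k : ℕ) :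
    Submodule B' (B' ⊗[B] G Q π k) := LinearMap.ker (ιB h B' k)

/-- The degree-one maps at level `B'`. -/
noncomputable def σB (h : IsGrData Q π μ) (B' : Type u) [CommRing B'] [Algebra B B']
    (i : Fin r) (k : ℕ) : B' ⊗[B] G Q π k →ₗ[B'] B' ⊗[B] G Q π (k + 1) :=
  (h.σ i k).baseChange B'

section Level

variable (h : IsGrData Q π μ) (B' : Type u) [CommRing B'] [Algebra B B']

lemma exact_ιB (k : ℕ) : Function.Exact (ιB h B' k) ((π k).baseChange B') := by
  have hex : Function.Exact (G Q π k).subtype (π k) := LinearMap.exact_subtype_ker_map (π k)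
  have := lTensor_exact B' hex (h.surj k)
  intro y
  simpa [ιB, LinearMap.baseChange_eq_ltensor] using this y

lemma ιB_σB (i : Fin r) (k : ℕ) (x : B' ⊗[B] G Q π k) :
    ιB h B' (k + 1) (σB h B' i k x) = (μ i (k + 1)).baseChange B' (ιB h B' k x) := by
  simp only [ιB, σB, ← LinearMap.comp_apply, ← LinearMap.baseChange_comp, h.subtype_comp_σ]

lemma L_map_le (i : Fin r) (k : ℕ) : (L h B' k).map (σB h B' i k) ≤ L h B' (k + 1) := by
  rintro _ ⟨x, hx, rfl⟩
  rw [L, SetLike.mem_coe, LinearMap.mem_ker] at hx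
  rw [L, LinearMap.mem_ker, ιB_σB, hx, map_zero]

lemma σB_comm (i j : Fin r) (k : ℕ) :
    σB h B' i (k + 1) ∘ₗ σB h B' j k = σB h B' j (k + 1) ∘ₗ σB h B' i k := by
  simp only [σB, ← LinearMap.baseChange_comp, h.σ_comm i j k]

lemma σB_gen (k : ℕ) : (⨆ i, LinearMap.range (σB h B' i k)) = ⊤ := by
  rw [eq_top_iff]
  have key : ∀ x : B' ⊗[B] G Q π (k + 1), x ∈ (⨆ i, LinearMap.range (σB h B' i k)) := by
    intro x
    induction x using TensorProduct.induction_on with
    | zero => exact Submodule.zero_mem _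
    | tmul b y =>
      have hy : y ∈ (⨆ i, LinearMap.range (h.σ i k)) := by rw [h.σ_gen k]; trivial
      induction hy using Submodule.iSup_induction' with
      | mem i z hz =>
        obtain ⟨w, rfl⟩ := hz
        exact Submodule.mem_iSup_of_mem i ⟨b ⊗ₜ w, rfl⟩
      | zero => rw [tmul_zero]; exact Submodule.zero_mem _
      | add y z _ _ hy hz => rw [tmul_add]; exact Submodule.add_mem _ hy hz
    | add a b ha hb => exact Submodule.add_mem _ ha hb
  exact fun x _ => key x

/-- Bounded generation of the kernels at a Noetherian level. -/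
theorem exists_bound_level [IsNoetherianRing B'] [Module.Finite B (G Q π 0)] :
    ∃ g : ℕ, ∀ k, g ≤ k → L h B' (k + 1) = ⨆ i, (L h B' k).map (σB h B' i k) :=
  Groth.Agent.H48.GrLimTot.exists_bound (fun k => B' ⊗[B] G Q π k) (σB h B')
    (σB_comm h B') (σB_gen h B') (L h B') (L_map_le h B')

/-- The range of the structure map is the kernel of the projection. -/
lemma range_ιB (k : ℕ) :
    LinearMap.range (ιB h B' k) = LinearMap.ker ((π k).baseChange B') :=
  ((exact_ιB h B' k).linearMap_ker_eq).symm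

/-- Flatness of the graded piece at a level over a base ring. -/
theorem flat_range_ιB (R' : Type u) [CommRing R'] [Algebra R' B'] (k : ℕ)
    [Module.Flat R' (B' ⊗[B] Q (k + 1))] [Module.Flat R' (B' ⊗[B] Q k)] :
    Module.Flat R' (LinearMap.range (ιB h B' k)) := by
  rw [range_ιB]
  have := Groth.Agent.H48.GrLimOmega.flat_ker (R := R')
    (((π k).baseChange B').restrictScalars R') (LinearMap.baseChange_surjective B' (h.surj k))
  exact this

/-- **(Ia)**: the kernels are finitely generated when the truncations are flat. -/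
theorem L_fg (R' : Type u) [CommRing R'] [Algebra R' B'] [Algebra.FinitePresentation R' B']
    (k : ℕ) [Module.Finite B (G Q π k)] [Module.FinitePresentation B (Q (k + 1))]
    [Module.Flat R' (B' ⊗[B] Q k)] : (L h B' k).FG :=
  Groth.Agent.H49.KerFG.ker_fg_of_flat_coker (A := R') (B := B') (ιB h B' k)
    ((π k).baseChange B') (LinearMap.baseChange_surjective B' (h.surj k)) (exact_ιB h B' k)

end Level

section Trans

open Groth.Agent.H48.GrLimOmega

variable (h : IsGrData Q π μ) (B₁ B₂ : Type u) [CommRing B₁] [CommRing B₂] [Algebra B B₁]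
  [Algebra B B₂] [Algebra B₁ B₂] [IsScalarTower B B₁ B₂]

lemma tr_mem_L (k : ℕ) (x : B₁ ⊗[B] G Q π k) (hx : x ∈ L h B₁ k) :
    tr B B₁ B₂ (G Q π k) x ∈ L h B₂ k := by
  rw [L, LinearMap.mem_ker] at hx ⊢
  rw [ιB, ← tr_baseChange]
  rw [ιB] at hx
  rw [hx, map_zero]

lemma tr_σB (i : Fin r) (k : ℕ) (x : B₁ ⊗[B] G Q π k) :
    tr B B₁ B₂ (G Q π (k + 1)) (σB h B₁ i k x) = σB h B₂ i k (tr B B₁ B₂ (G Q π k) x) := by
  rw [σB, σB, tr_baseChange]

/-- **(0c)**: the kernels at the upper level are spanned by those at the lower level when the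
truncation at the lower level is flat. -/
theorem L_eq_span (R₁ R₂ : Type u) [CommRing R₁] [CommRing R₂]
    [Algebra R₁ R₂] [Algebra R₁ B₁] [Algebra R₂ B₂] [Algebra R₁ B₂]
    [IsScalarTower R₁ B₁ B₂] [IsScalarTower R₁ R₂ B₂] [Algebra.IsPushout R₁ R₂ B₁ B₂]
    (k : ℕ) [Module.Flat R₁ (B₁ ⊗[B] Q k)] :
    L h B₂ k = Submodule.span B₂ (tr B B₁ B₂ (G Q π k) '' (L h B₁ k : Set (B₁ ⊗[B] G Q π k))) :=
  ker_baseChange_eq_span R₁ R₂ (G Q π k).subtype (π k)
    (LinearMap.exact_subtype_ker_map (π k)) (h.surj k)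

end Trans

end Groth.Agent.H48.GrLim
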