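import Mathlib
import Groth.Agent.H48.GrLimData

/-!
# Bounded generation of the kernels: two-level lemmas (helper48)
-/

set_option autoImplicit false
set_option linter.style.haveILetI false

universe u

open TensorProduct

namespace Groth.Agent.H48.GrLim

open Groth.Agent.H48.GrLimOmega

variable {B : Type u} [CommRing B] {r : ℕ}
  {Q : ℕ → Type u} [∀ k, AddCommGroup (Q k)] [∀ k, Module B (Q k)]
  {π : ∀ k, Q (k + 1) →ₗ[B] Q k} {μ : Fin r → ∀ k, Q k →ₗ[B] Q (k + 1)}

/-- The decomposable part of the kernel in degree `k + 1`. -/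
noncomputable def U (h : IsGrData Q π μ) (B' : Type u) [CommRing B'] [Algebra B B'] (k : ℕ) :
    Submodule B' (B' ⊗[B] G Q π (k + 1)) :=
  ⨆ i, (L h B' k).map (σB h B' i k)

lemma U_le_L (h : IsGrData Q π μ) (B' : Type u) [CommRing B'] [Algebra B B'] (k : ℕ) :
    U h B' k ≤ L h B' (k + 1) :=
  iSup_le fun i => L_map_le h B' i k

/-- Transitions map the decomposable part into the decomposable part. -/
lemma tr_mem_U (h : IsGrData Q π μ) (B₁ B₂ : Type u) [CommRing B₁] [CommRing B₂] [Algebra B B₁]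
    [Algebra B B₂] [Algebra B₁ B₂] [IsScalarTower B B₁ B₂] (k : ℕ)
    (x : B₁ ⊗[B] G Q π (k + 1)) (hx : x ∈ U h B₁ k) :
    tr B B₁ B₂ (G Q π (k + 1)) x ∈ U h B₂ k := by
  rw [U] at hx
  induction hx using Submodule.iSup_induction' with
  | mem i y hy =>
    obtain ⟨z, hz, rfl⟩ := hy
    rw [tr_σB]
    exact Submodule.mem_iSup_of_mem i ⟨_, tr_mem_L h B₁ B₂ k z hz, rfl⟩
  | zero => rw [map_zero]; exact Submodule.zero_mem _
  | add y z _ _ hy hz => rw [map_add]; exact Submodule.add_mem _ hy hz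

/-- **Transfer of the bound** to an upper level when the lower level is flat. -/
theorem bound_transfer (h : IsGrData Q π μ) (B₁ B₂ : Type u) [CommRing B₁] [CommRing B₂]
    [Algebra B B₁] [Algebra B B₂] [Algebra B₁ B₂] [IsScalarTower B B₁ B₂]
    (R₁ R₂ : Type u) [CommRing R₁] [CommRing R₂]
    [Algebra R₁ R₂] [Algebra R₁ B₁] [Algebra R₂ B₂] [Algebra R₁ B₂]
    [IsScalarTower R₁ B₁ B₂] [IsScalarTower R₁ R₂ B₂] [Algebra.IsPushout R₁ R₂ B₁ B₂]
    [∀ k, Module.Flat R₁ (B₁ ⊗[B] Q k)] (k : ℕ)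
    (hb : L h B₁ (k + 1) = U h B₁ k) : L h B₂ (k + 1) = U h B₂ k := by
  refine le_antisymm ?_ (U_le_L h B₂ k)
  rw [L_eq_span h B₁ B₂ R₁ R₂ (k + 1), Submodule.span_le]
  rintro _ ⟨x, hx, rfl⟩
  rw [SetLike.mem_coe, hb] at hx
  exact tr_mem_U h B₁ B₂ k x hx

/-- Elements of the kernel at a flat lower level become decomposable at an upper level where the
bound holds. -/
theorem tr_mem_span_U (h : IsGrData Q π μ) (B₁ B₂ : Type u) [CommRing B₁] [CommRing B₂]
    [Algebra B B₁] [Algebra B B₂] [Algebra B₁ B₂] [IsScalarTower B B₁ B₂]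
    (R₁ R₂ : Type u) [CommRing R₁] [CommRing R₂]
    [Algebra R₁ R₂] [Algebra R₁ B₁] [Algebra R₂ B₂] [Algebra R₁ B₂]
    [IsScalarTower R₁ B₁ B₂] [IsScalarTower R₁ R₂ B₂] [Algebra.IsPushout R₁ R₂ B₁ B₂]
    [∀ k, Module.Flat R₁ (B₁ ⊗[B] Q k)] (k : ℕ)
    (hb : L h B₂ (k + 1) = U h B₂ k) (x : B₁ ⊗[B] G Q π (k + 1)) (hx : x ∈ L h B₁ (k + 1)) :
    tr B B₁ B₂ (G Q π (k + 1)) x ∈
      Submodule.span B₂ (tr B B₁ B₂ (G Q π (k + 1)) '' (U h B₁ k : Set (B₁ ⊗[B] G Q π (k + 1)))) := by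
  have h1 : tr B B₁ B₂ (G Q π (k + 1)) x ∈ U h B₂ k := by
    rw [← hb]; exact tr_mem_L h B₁ B₂ (k + 1) x hx
  set S := Submodule.span B₂
    (tr B B₁ B₂ (G Q π (k + 1)) '' (U h B₁ k : Set (B₁ ⊗[B] G Q π (k + 1)))) with hS
  have h2 : U h B₂ k ≤ S := by
    rw [U]
    refine iSup_le fun i => ?_
    rintro _ ⟨y, hy, rfl⟩
    rw [SetLike.mem_coe, L_eq_span h B₁ B₂ R₁ R₂ k] at hy
    induction hy using Submodule.span_induction with
    | mem z hz =>
      obtain ⟨w, hw, rfl⟩ := hz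
      rw [← tr_σB]
      exact Submodule.subset_span ⟨_, Submodule.mem_iSup_of_mem i ⟨w, hw, rfl⟩, rfl⟩
    | zero => rw [map_zero]; exact S.zero_mem
    | add a b _ _ ha hb => rw [map_add]; exact S.add_mem ha hb
    | smul c a _ ha => rw [map_smul]; exact S.smul_mem c ha
  exact h2 h1

/-- **Kernel analysis**: if the image of `x` at the level of the stratum `(T ⧸ p)_f` lies in the
span of the image of `V`, then `f ^ n • x ∈ V + p X` for some `n`. -/
theorem exists_pow_smul_sub_mem (T : Type u) [CommRing T] (pT : Ideal T) (fT : T)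
    (B₁ B₂ : Type u) [CommRing B₁] [CommRing B₂] [Algebra B B₁] [Algebra B B₂] [Algebra B₁ B₂]
    [IsScalarTower B B₁ B₂]
    [Algebra T B₁] [Algebra (Localization.Away (Ideal.Quotient.mk pT fT)) B₂] [Algebra T B₂]
    [IsScalarTower T B₁ B₂] [IsScalarTower T (Localization.Away (Ideal.Quotient.mk pT fT)) B₂]
    [Algebra.IsPushout T (Localization.Away (Ideal.Quotient.mk pT fT)) B₁ B₂]
    (Y : Type u) [AddCommGroup Y] [Module B Y]
    (V : Submodule B₁ (B₁ ⊗[B] Y)) (x : B₁ ⊗[B] Y)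
    (hx : tr B B₁ B₂ Y x ∈ Submodule.span B₂ (tr B B₁ B₂ Y '' (V : Set (B₁ ⊗[B] Y)))) :
    ∃ n : ℕ, ∃ u ∈ V, fT ^ n • x - u ∈ pT • (⊤ : Submodule T (B₁ ⊗[B] Y)) := by
  classical
  set T' := Localization.Away (Ideal.Quotient.mk pT fT) with hT'
  have hbc₂ : IsBaseChange B₂ (tr B B₁ B₂ Y) :=
    IsBaseChange.of_equiv (TensorProduct.AlgebraTensorModule.cancelBaseChange B B₁ B₂ B₂ Y)
      (fun x => by rw [cancel_tmul, one_smul])
  let e : T' ⊗[T] (B₁ ⊗[B] Y) ≃ₗ[T'] B₂ ⊗[B] Y :=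
    (Algebra.IsPushout.cancelBaseChange T T' B₁ B₂ (B₁ ⊗[B] Y)).symm ≪≫ₗ
      hbc₂.equiv.restrictScalars T'
  have he : ∀ y : B₁ ⊗[B] Y, e (1 ⊗ₜ y) = tr B B₁ B₂ Y y := by
    intro y
    simp only [e, LinearEquiv.trans_apply, Algebra.IsPushout.cancelBaseChange_symm_tmul, map_one,
      LinearEquiv.restrictScalars_apply, IsBaseChange.equiv_tmul, one_smul]
  -- the `T'`-span is stable under `B₂`
  set S' : Submodule T' (B₂ ⊗[B] Y) :=
    Submodule.span T' (tr B B₁ B₂ Y '' (V : Set (B₁ ⊗[B] Y))) with hS'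
  have hstab : ∀ (b : B₂) (z : B₂ ⊗[B] Y), z ∈ S' → b • z ∈ S' := by
    intro b
    have hpo : IsBaseChange T' (IsScalarTower.toAlgHom T B₁ B₂).toLinearMap :=
      Algebra.IsPushout.out
    induction b using hpo.inductionOn with
    | zero => intro z _; rw [zero_smul]; exact S'.zero_mem
    | tmul b₁ =>
      intro z hz
      induction hz using Submodule.span_induction with
      | mem w hw =>
        obtain ⟨v, hv, rfl⟩ := hw
        have : (IsScalarTower.toAlgHom T B₁ B₂).toLinearMap b₁ • tr B B₁ B₂ Y v =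
            tr B B₁ B₂ Y (b₁ • v) := by
          rw [map_smul]
          exact algebraMap_smul B₂ b₁ _
        rw [this]
        exact Submodule.subset_span ⟨_, V.smul_mem b₁ hv, rfl⟩
      | zero => rw [smul_zero]; exact S'.zero_mem
      | add a c _ _ ha hc => rw [smul_add]; exact S'.add_mem ha hc
      | smul t a _ ha => rw [smul_comm]; exact S'.smul_mem t ha
    | smul t b hb => intro z hz; rw [smul_assoc]; exact S'.smul_mem t (hb z hz)
    | add b c hb hc => intro z hz; rw [add_smul]; exact S'.add_mem (hb z hz) (hc z hz)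
  have hx' : tr B B₁ B₂ Y x ∈ S' := by
    have key : ∀ z ∈ Submodule.span B₂ (tr B B₁ B₂ Y '' (V : Set (B₁ ⊗[B] Y))), z ∈ S' := by
      intro z hz
      induction hz using Submodule.span_induction with
      | mem w hw => exact Submodule.subset_span hw
      | zero => exact S'.zero_mem
      | add a c _ _ ha hc => exact S'.add_mem ha hc
      | smul b a _ ha => exact hstab b a ha
    exact key _ hx
  -- back to `T' ⊗[T] X`
  set W : Submodule T (B₁ ⊗[B] Y) := V.restrictScalars T with hW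
  have h1 : ∀ z ∈ S', e.symm z ∈ Submodule.baseChange T' W := by
    intro z hz
    induction hz using Submodule.span_induction with
    | mem w hw =>
      obtain ⟨v, hv, rfl⟩ := hw
      rw [← he, LinearEquiv.symm_apply_apply]
      exact Submodule.tmul_mem_baseChange_of_mem 1 hv
    | zero => rw [map_zero]; exact Submodule.zero_mem _
    | add a c _ _ ha hc => rw [map_add]; exact Submodule.add_mem _ ha hc
    | smul t a _ ha => rw [map_smul]; exact Submodule.smul_mem _ t ha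
  have h2 : (1 : T') ⊗ₜ[T] x ∈ Submodule.baseChange T' W := by
    have := h1 _ hx'
    rwa [← he, LinearEquiv.symm_apply_apply] at this
  have h3 : (1 : T') ⊗ₜ[T] (W.mkQ x) = 0 := by
    obtain ⟨w, hw⟩ := h2
    have h4 : (W.mkQ.baseChange T') ((W.subtype.baseChange T') w) = 0 := by
      rw [← LinearMap.comp_apply, ← LinearMap.baseChange_comp]
      have : W.mkQ ∘ₗ W.subtype = 0 := by
        ext v; simp
      rw [this, LinearMap.baseChange_zero, LinearMap.zero_apply]
    rw [hw, LinearMap.baseChange_tmul] at h4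
    exact h4
  obtain ⟨n, hn⟩ := exists_pow_smul_mem_of_tmul_eq_zero pT fT (W.mkQ x) h3
  refine ⟨n, ?_⟩
  have h5 : (pT • (⊤ : Submodule T ((B₁ ⊗[B] Y) ⧸ W))) =
      (pT • (⊤ : Submodule T (B₁ ⊗[B] Y))).map W.mkQ := by
    rw [Submodule.map_smul'', Submodule.map_top, Submodule.range_mkQ]
  rw [h5] at hn
  obtain ⟨w, hw, hwx⟩ := hn
  have h6 : fT ^ n • x - w ∈ W := by
    rw [← Submodule.Quotient.mk_eq_zero, Submodule.Quotient.mk_sub]
    have : W.mkQ w = fT ^ n • W.mkQ x := hwx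
    rw [Submodule.mkQ_apply, Submodule.mkQ_apply] at this
    rw [Submodule.Quotient.mk_smul, this, sub_self]
  refine ⟨fT ^ n • x - w, h6, ?_⟩
  rw [sub_sub_cancel]
  exact hw

end Groth.Agent.H48.GrLim
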