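import Mathlib

/-!
# Level rings `R ⊗[C] B` and their transitions (helper48)
-/

set_option autoImplicit false
set_option linter.style.haveILetI false

universe u

open TensorProduct

namespace Groth.Agent.H48.GrLimLevel

attribute [local instance] Algebra.TensorProduct.rightAlgebra

variable (C B : Type u) [CommRing C] [CommRing B] [Algebra C B]
  (R₁ R₂ : Type u) [CommRing R₁] [CommRing R₂] [Algebra C R₁] [Algebra C R₂] [Algebra R₁ R₂]
  [IsScalarTower C R₁ R₂]

/-- The algebra structure of an upper level over a lower level. -/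
@[reducible] noncomputable def levelAlgebra : Algebra (R₁ ⊗[C] B) (R₂ ⊗[C] B) :=
  (Algebra.TensorProduct.map (IsScalarTower.toAlgHom C R₁ R₂) (AlgHom.id C B)).toRingHom.toAlgebra

lemma levelAlgebra_apply (x : R₁ ⊗[C] B) :
    letI := levelAlgebra C B R₁ R₂
    algebraMap (R₁ ⊗[C] B) (R₂ ⊗[C] B) x =
      Algebra.TensorProduct.map (IsScalarTower.toAlgHom C R₁ R₂) (AlgHom.id C B) x := rfl

lemma level_tower_B :
    letI := levelAlgebra C B R₁ R₂
    IsScalarTower B (R₁ ⊗[C] B) (R₂ ⊗[C] B) := by
  letI := levelAlgebra C B R₁ R₂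
  refine IsScalarTower.of_algebraMap_eq fun b => ?_
  rw [levelAlgebra_apply, Algebra.TensorProduct.right_algebraMap_apply,
    Algebra.TensorProduct.right_algebraMap_apply, Algebra.TensorProduct.map_tmul]
  simp

lemma level_tower_R :
    letI := levelAlgebra C B R₁ R₂
    IsScalarTower R₁ (R₁ ⊗[C] B) (R₂ ⊗[C] B) := by
  letI := levelAlgebra C B R₁ R₂
  refine IsScalarTower.of_algebraMap_eq fun a => ?_
  rw [levelAlgebra_apply, Algebra.TensorProduct.algebraMap_apply,
    Algebra.TensorProduct.algebraMap_apply, Algebra.TensorProduct.map_tmul]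
  simp

lemma level_tower_C :
    letI := levelAlgebra C B R₁ R₂
    IsScalarTower C (R₁ ⊗[C] B) (R₂ ⊗[C] B) := by
  letI := levelAlgebra C B R₁ R₂
  refine IsScalarTower.of_algebraMap_eq fun a => ?_
  rw [levelAlgebra_apply, Algebra.TensorProduct.algebraMap_apply,
    Algebra.TensorProduct.algebraMap_apply, Algebra.TensorProduct.map_tmul]
  simp [IsScalarTower.algebraMap_apply C R₁ R₂]

lemma level_pushout :
    letI := levelAlgebra C B R₁ R₂
    haveI := level_tower_R C B R₁ R₂
    Algebra.IsPushout R₁ R₂ (R₁ ⊗[C] B) (R₂ ⊗[C] B) := by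
  letI := levelAlgebra C B R₁ R₂
  haveI := level_tower_R C B R₁ R₂
  haveI := level_tower_B C B R₁ R₂
  haveI := level_tower_C C B R₁ R₂
  exact (Algebra.IsPushout.comp_iff C R₁ B (S' := R₁ ⊗[C] B) (T := R₂) (T' := R₂ ⊗[C] B)).mp
    inferInstance

end Groth.Agent.H48.GrLimLevel
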