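import Mathlib

set_option autoImplicit false
set_option linter.style.haveILetI false

universe u

namespace Groth.Agent.H48.GrStrat

open AlgebraicGeometry CategoryTheory

variable {A₀ : Type u} [CommRing A₀]


/-- The locally closed stratum `V(P) ∩ D(F)`. -/
def stratum (P : Ideal A₀) (F : A₀) : Set (PrimeSpectrum A₀) :=
  {q | P ≤ q.asIdeal ∧ F ∉ q.asIdeal}

theorem mem_stratum {P : Ideal A₀} {F : A₀} {q : PrimeSpectrum A₀} :
    q ∈ stratum P F ↔ P ≤ q.asIdeal ∧ F ∉ q.asIdeal := Iff.rfl

/-- An element lying in all minimal primes of `I` other than `p`, but not in `p`. -/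
theorem exists_sep_minimalPrimes [IsNoetherianRing A₀] (I : Ideal A₀) (p : Ideal A₀)
    (hp : p ∈ I.minimalPrimes) :
    ∃ g : A₀, g ∉ p ∧ ∀ q ∈ I.minimalPrimes, q ≠ p → g ∈ q := by
  classical
  haveI : p.IsPrime := hp.1.1
  have hfin : (I.minimalPrimes).Finite := Ideal.finite_minimalPrimes_of_isNoetherianRing A₀ I
  let S : Finset (Ideal A₀) := hfin.toFinset.erase p
  have hex : ∀ q : Ideal A₀, q ∈ S → ∃ a : A₀, a ∈ q ∧ a ∉ p := by
    intro q hq
    have hq' : q ∈ I.minimalPrimes := hfin.mem_toFinset.mp (Finset.mem_of_mem_erase hq)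
    have hne : q ≠ p := Finset.ne_of_mem_erase hq
    by_contra hcon
    push Not at hcon
    have hle : q ≤ p := fun a ha => hcon a ha
    exact hne (le_antisymm hle (hp.2 hq'.1 hle))
  choose! a ha using hex
  refine ⟨∏ q ∈ S, a q, ?_, ?_⟩
  · intro hmem
    obtain ⟨q, hq, hqa⟩ := (Ideal.IsPrime.prod_mem_iff).mp hmem
    exact (ha q hq).2 hqa
  · intro q hq hne
    have hqS : q ∈ S := Finset.mem_erase.mpr ⟨hne, hfin.mem_toFinset.mpr hq⟩
    rw [← Finset.mul_prod_erase S a hqS]
    exact Ideal.mul_mem_right _ _ (ha q hqS).1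

/-- Ordered affine stratification of `V(I)` with good strata, by Noetherian induction. -/
theorem exists_strat [IsNoetherianRing A₀] (Good : Ideal A₀ → A₀ → Prop)
    (hgood : ∀ (p : Ideal A₀) [p.IsPrime], ∃ f₀ : A₀, f₀ ∉ p ∧ ∀ g : A₀, Good p (f₀ * g))
    (I : Ideal A₀) :
    ∃ (m : ℕ) (P : Fin m → Ideal A₀) (F : Fin m → A₀),
      (∀ i j, i ≠ j → Disjoint (stratum (P i) (F i)) (stratum (P j) (F j))) ∧
      (⋃ i, stratum (P i) (F i)) = PrimeSpectrum.zeroLocus (I : Set A₀) ∧
      (∀ i, ∃ U : Set (PrimeSpectrum A₀), IsOpen U ∧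
        U ∩ (⋃ j, ⋃ (_ : i ≤ j), stratum (P j) (F j)) = stratum (P i) (F i)) ∧
      ∀ i, Good (P i) (F i) := by
  induction I using IsNoetherian.induction with
  | hgt I ih =>
  by_cases hI : I = ⊤
  · refine ⟨0, Fin.elim0, Fin.elim0, fun i => i.elim0, ?_, fun i => i.elim0, fun i => i.elim0⟩
    rw [hI, Submodule.top_coe, PrimeSpectrum.zeroLocus_univ]
    exact Set.iUnion_of_empty _
  · obtain ⟨M, hM, hIM⟩ := Ideal.exists_le_maximal I hI
    haveI := hM.isPrime
    obtain ⟨p, hp, -⟩ := Ideal.exists_minimalPrimes_le hIM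
    haveI hpp : p.IsPrime := hp.1.1
    have hIp : I ≤ p := hp.1.2
    obtain ⟨g, hgp, hg⟩ := exists_sep_minimalPrimes I p hp
    obtain ⟨f₀, hf₀, hG⟩ := hgood p
    set f : A₀ := f₀ * g with hf
    have hfp : f ∉ p := fun h => (hpp.mem_or_mem h).elim hf₀ hgp
    -- the new stratum
    have hT₀ : stratum p f = {x | I ≤ x.asIdeal ∧ f ∉ x.asIdeal} := by
      ext x
      constructor
      · rintro ⟨h1, h2⟩
        exact ⟨hIp.trans h1, h2⟩
      · rintro ⟨h1, h2⟩
        refine ⟨?_, h2⟩
        obtain ⟨q, hq, hqx⟩ := Ideal.exists_minimalPrimes_le h1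
        by_cases hqp : q = p
        · rw [← hqp]; exact hqx
        · exact absurd (x.asIdeal.mul_mem_left f₀ (hqx (hg q hq hqp))) h2
    have hlt : I < I ⊔ Ideal.span {f} := by
      refine lt_of_le_of_ne le_sup_left (fun h => hfp (hIp ?_))
      rw [h]
      exact Ideal.mem_sup_right (Ideal.mem_span_singleton_self f)
    obtain ⟨m', P', F', hdisj, hunion, hopen, hgood'⟩ := ih _ hlt
    have hsub : ∀ j, stratum (P' j) (F' j) ⊆ {x | I ≤ x.asIdeal ∧ f ∈ x.asIdeal} := by
      intro j x hx
      have hx' : x ∈ PrimeSpectrum.zeroLocus ((I ⊔ Ideal.span {f} : Ideal A₀) : Set A₀) := by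
        rw [← hunion]; exact Set.mem_iUnion.mpr ⟨j, hx⟩
      rw [PrimeSpectrum.mem_zeroLocus, SetLike.coe_subset_coe] at hx'
      exact ⟨le_sup_left.trans hx',
        hx' (Ideal.mem_sup_right (Ideal.mem_span_singleton_self f))⟩
    refine ⟨m' + 1, Fin.cons p P', Fin.cons f F', ?_, ?_, ?_, ?_⟩
    · intro i j hij
      induction i using Fin.cases with
      | zero =>
        induction j using Fin.cases with
        | zero => exact absurd rfl hij
        | succ j =>
          simp only [Fin.cons_zero, Fin.cons_succ]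
          rw [Set.disjoint_left]
          intro x hx hx'
          exact hx.2 (hsub j hx').2
      | succ i =>
        induction j using Fin.cases with
        | zero =>
          simp only [Fin.cons_zero, Fin.cons_succ]
          rw [Set.disjoint_left]
          intro x hx hx'
          exact hx'.2 (hsub i hx).2
        | succ j =>
          simp only [Fin.cons_succ]
          exact hdisj i j (fun h => hij (by rw [h]))
    · ext x
      rw [Set.mem_iUnion, Fin.exists_fin_succ]
      simp only [Fin.cons_zero, Fin.cons_succ]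
      rw [← Set.mem_iUnion, hunion, hT₀, PrimeSpectrum.mem_zeroLocus, SetLike.coe_subset_coe,
        PrimeSpectrum.mem_zeroLocus, SetLike.coe_subset_coe]
      constructor
      · rintro (⟨h1, -⟩ | h)
        · exact h1
        · exact le_sup_left.trans h
      · intro h
        by_cases hfx : f ∈ x.asIdeal
        · right
          exact sup_le h ((Ideal.span_singleton_le_iff_mem _).mpr hfx)
        · left
          exact ⟨h, hfx⟩
    · intro i
      induction i using Fin.cases with
      | zero =>
        refine ⟨(PrimeSpectrum.basicOpen f : Set (PrimeSpectrum A₀)),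
          (PrimeSpectrum.basicOpen f).isOpen, ?_⟩
        ext x
        simp only [Set.mem_inter_iff, Set.mem_iUnion, Fin.zero_le, exists_prop, true_and,
          Fin.cons_zero]
        rw [Fin.exists_fin_succ]
        simp only [Fin.cons_zero, Fin.cons_succ]
        constructor
        · rintro ⟨hxf, (h | ⟨j, hj⟩)⟩
          · exact h
          · exact absurd (hsub j hj).2 hxf
        · intro h
          exact ⟨h.2, Or.inl h⟩
      | succ k =>
        obtain ⟨U, hU, hUk⟩ := hopen k
        refine ⟨U, hU, ?_⟩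
        simp only [Fin.cons_succ]
        rw [← hUk]
        ext x
        simp only [Set.mem_inter_iff, Set.mem_iUnion, exists_prop]
        rw [Fin.exists_fin_succ]
        simp only [Fin.cons_succ, Fin.succ_le_succ_iff]
        constructor
        · rintro ⟨hxU, (⟨h0, -⟩ | h)⟩
          · exact absurd h0 (Fin.not_le.mpr (Fin.succ_pos k))
          · exact ⟨hxU, h⟩
        · rintro ⟨hxU, h⟩
          exact ⟨hxU, Or.inr h⟩
    · intro i
      induction i using Fin.cases with
      | zero => simp only [Fin.cons_zero]; exact hG g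
      | succ k => simp only [Fin.cons_succ]; exact hgood' k



theorem range_comap_stratum (P : Ideal A₀) (F : A₀) :
    Set.range (PrimeSpectrum.comap (algebraMap A₀ (Localization.Away (Ideal.Quotient.mk P F)))) =
      stratum P F := by
  have hcomp : algebraMap A₀ (Localization.Away (Ideal.Quotient.mk P F)) =
      (algebraMap (A₀ ⧸ P) (Localization.Away (Ideal.Quotient.mk P F))).comp
        (Ideal.Quotient.mk P) := IsScalarTower.algebraMap_eq _ _ _
  ext x
  constructor
  · rintro ⟨y, rfl⟩
    have hy : PrimeSpectrum.comap (algebraMap (A₀ ⧸ P) (Localization.Away (Ideal.Quotient.mk P F))) y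
        ∈ (PrimeSpectrum.basicOpen (Ideal.Quotient.mk P F) : Set (PrimeSpectrum (A₀ ⧸ P))) := by
      rw [← PrimeSpectrum.localization_away_comap_range (Localization.Away (Ideal.Quotient.mk P F))
        (Ideal.Quotient.mk P F)]
      exact ⟨y, rfl⟩
    refine ⟨fun a ha => ?_, fun hF => hy ?_⟩
    · show algebraMap A₀ (Localization.Away (Ideal.Quotient.mk P F)) a ∈ y.asIdeal
      rw [hcomp, RingHom.comp_apply, Ideal.Quotient.eq_zero_iff_mem.mpr ha, map_zero]
      exact Ideal.zero_mem _
    · have hF' : algebraMap A₀ (Localization.Away (Ideal.Quotient.mk P F)) F ∈ y.asIdeal := hF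
      rw [hcomp, RingHom.comp_apply] at hF'
      exact hF'
  · rintro ⟨hP, hF⟩
    have hx : x ∈ Set.range (PrimeSpectrum.comap (Ideal.Quotient.mk P)) := by
      rw [range_comap_of_surjective _ _ Ideal.Quotient.mk_surjective]
      rw [Ideal.mk_ker]
      exact hP
    obtain ⟨z, rfl⟩ := hx
    have hz : z ∈ Set.range
        (PrimeSpectrum.comap (algebraMap (A₀ ⧸ P) (Localization.Away (Ideal.Quotient.mk P F)))) := by
      rw [PrimeSpectrum.localization_away_comap_range (Localization.Away (Ideal.Quotient.mk P F))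
        (Ideal.Quotient.mk P F)]
      exact hF
    obtain ⟨y, rfl⟩ := hz
    refine ⟨y, ?_⟩
    rw [hcomp, PrimeSpectrum.comap_comp]
    rfl

theorem range_specMap_stratum (P : Ideal A₀) (F : A₀) :
    (Set.range (Spec.map (CommRingCat.ofHom
      (algebraMap A₀ (Localization.Away (Ideal.Quotient.mk P F))))) :
        Set (PrimeSpectrum A₀)) = stratum P F :=
  range_comap_stratum P F

theorem isImmersion_specMap_stratum (P : Ideal A₀) (F : A₀) :
    IsImmersion (Spec.map (CommRingCat.ofHom
      (algebraMap A₀ (Localization.Away (Ideal.Quotient.mk P F))))) := by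
  have hcomp : algebraMap A₀ (Localization.Away (Ideal.Quotient.mk P F)) =
      (algebraMap (A₀ ⧸ P) (Localization.Away (Ideal.Quotient.mk P F))).comp
        (Ideal.Quotient.mk P) := IsScalarTower.algebraMap_eq _ _ _
  rw [hcomp, CommRingCat.ofHom_comp, Spec.map_comp]
  haveI : IsClosedImmersion (Spec.map (CommRingCat.ofHom (Ideal.Quotient.mk P))) :=
    IsClosedImmersion.spec_of_surjective _ Ideal.Quotient.mk_surjective
  infer_instance

end Groth.Agent.H48.GrStrat
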