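import Mathlib
import Groth.Agent.H48.GrLimBd
import Groth.Agent.H48.GrLimLevel
import Groth.Agent.H48.GrStratD

/-!
# Bounded generation of the kernels over an arbitrary base with flat truncations (helper48)
-/

set_option autoImplicit false
set_option linter.style.haveILetI false

universe u

open TensorProduct

namespace Groth.Agent.H48.GrLim

open Groth.Agent.H48.GrLimOmega Groth.Agent.H48.GrLimLevel

attribute [local instance] Algebra.TensorProduct.rightAlgebra

variable {C B : Type u} [CommRing C] [CommRing B] [Algebra C B] {r : ℕ}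
  {Q : ℕ → Type u} [∀ k, AddCommGroup (Q k)] [∀ k, Module B (Q k)]
  {π : ∀ k, Q (k + 1) →ₗ[B] Q k} {μ : Fin r → ∀ k, Q k →ₗ[B] Q (k + 1)}

/-- One stratum: bounded generation up to `f`-torsion modulo `p`. -/
theorem stratum_step (h : IsGrData Q π μ) [IsNoetherianRing C] [Algebra.FiniteType C B]
    [∀ k, Module.Finite B (Q k)] (p : Ideal C) (f : C)
    (hR' : ∀ k, Module.Flat (Localization.Away (Ideal.Quotient.mk p f))
      ((Localization.Away (Ideal.Quotient.mk p f) ⊗[C] B) ⊗[B] Q k))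
    (T : Type u) [CommRing T] [Algebra C T]
    (hT : ∀ k, Module.Flat T ((T ⊗[C] B) ⊗[B] Q k)) :
    ∃ g : ℕ, ∀ k, g ≤ k → ∀ x ∈ L h (T ⊗[C] B) (k + 1), ∃ n : ℕ, ∃ u ∈ U h (T ⊗[C] B) k,
      (algebraMap C T f) ^ n • x - u ∈
        (p.map (algebraMap C T)) • (⊤ : Submodule T ((T ⊗[C] B) ⊗[B] G Q π (k + 1))) := by
  set R' := Localization.Away (Ideal.Quotient.mk p f) with hR'def
  set pT : Ideal T := p.map (algebraMap C T) with hpT
  set fT : T := algebraMap C T f with hfT
  set T' := Localization.Away (Ideal.Quotient.mk pT fT) with hT'def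
  -- the ring map `R' → T'`
  let ψ : C ⧸ p →+* T ⧸ pT := Ideal.quotientMap pT (algebraMap C T) Ideal.le_comap_map
  haveI : IsLocalization.Away (ψ (Ideal.Quotient.mk p f)) T' :=
    inferInstanceAs (IsLocalization.Away (Ideal.Quotient.mk pT fT) T')
  let φ : R' →+* T' := IsLocalization.Away.map R' T' ψ (Ideal.Quotient.mk p f)
  letI algRT : Algebra R' T' := φ.toAlgebra
  haveI towCRT : IsScalarTower C R' T' := IsScalarTower.of_algebraMap_eq fun c => by
    show algebraMap C T' c = φ (algebraMap C R' c)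
    rw [IsScalarTower.algebraMap_apply C (C ⧸ p) R', IsScalarTower.algebraMap_apply C (T ⧸ pT) T']
    simp only [φ, IsLocalization.Away.map, IsLocalization.map_eq]
    rfl
  haveI : IsNoetherianRing B := Algebra.FiniteType.isNoetherianRing C B
  haveI : IsNoetherianRing R' := IsLocalization.isNoetherianRing
    (Submonoid.powers (Ideal.Quotient.mk p f)) R' inferInstance
  haveI : IsNoetherianRing (R' ⊗[C] B) := Algebra.FiniteType.isNoetherianRing R' (R' ⊗[C] B)
  obtain ⟨g, hg⟩ := exists_bound_level h (R' ⊗[C] B)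
  refine ⟨g, fun k hk x hx => ?_⟩
  -- level `R' → T'`
  have hb' : L h (T' ⊗[C] B) (k + 1) = U h (T' ⊗[C] B) k := by
    letI := levelAlgebra C B R' T'
    haveI := level_tower_B C B R' T'
    haveI := level_tower_R C B R' T'
    haveI := level_pushout C B R' T'
    exact bound_transfer h (R' ⊗[C] B) (T' ⊗[C] B) R' T' k (hg k hk)
  -- level `T → T'`
  letI := levelAlgebra C B T T'
  haveI := level_tower_B C B T T'
  haveI := level_tower_R C B T T'
  haveI := level_pushout C B T T'
  have h1 := tr_mem_span_U h (T ⊗[C] B) (T' ⊗[C] B) T T' k hb' x hx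
  exact exists_pow_smul_sub_mem T pT fT (T ⊗[C] B) (T' ⊗[C] B) (G Q π (k + 1))
    (U h (T ⊗[C] B) k) x h1

/-- **Phase 1**: if all truncations are flat over `T`, the kernels at level `T` are generated in
bounded degrees.  `hgood` is generic flatness of the truncations on strata. -/
theorem exists_bound_of_flat (h : IsGrData Q π μ) [IsNoetherianRing C] [Algebra.FiniteType C B]
    [∀ k, Module.Finite B (Q k)]
    (hgood : ∀ (p : Ideal C) [p.IsPrime], ∃ f₀ : C, f₀ ∉ p ∧ ∀ g : C, ∀ k,
      Module.Flat (Localization.Away (Ideal.Quotient.mk p (f₀ * g)))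
        ((Localization.Away (Ideal.Quotient.mk p (f₀ * g)) ⊗[C] B) ⊗[B] Q k))
    (T : Type u) [CommRing T] [Algebra C T]
    (hT : ∀ k, Module.Flat T ((T ⊗[C] B) ⊗[B] Q k)) :
    ∃ g : ℕ, ∀ k, g ≤ k → L h (T ⊗[C] B) (k + 1) = U h (T ⊗[C] B) k := by
  classical
  haveI : IsNoetherianRing B := Algebra.FiniteType.isNoetherianRing C B
  obtain ⟨m, P, F, -, hcover, -, hG⟩ := Groth.Agent.H48.GrStrat.exists_strat
    (fun (p : Ideal C) (f : C) => ∀ k,
      Module.Flat (Localization.Away (Ideal.Quotient.mk p f))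
        ((Localization.Away (Ideal.Quotient.mk p f) ⊗[C] B) ⊗[B] Q k)) hgood ⊥
  have hstep := fun i : Fin m => stratum_step h (P i) (F i) (hG i) T hT
  choose gi hgi using hstep
  refine ⟨Finset.univ.sup gi, fun k hk => le_antisymm ?_ (U_le_L h (T ⊗[C] B) k)⟩
  haveI := hT k.succ
  haveI : Algebra.FinitePresentation C B := Algebra.FinitePresentation.of_finiteType.mp inferInstance
  haveI : Module.FinitePresentation B (Q (k + 1 + 1)) := Module.finitePresentation_of_finite B _
  have hfg : (L h (T ⊗[C] B) (k + 1)).FG := L_fg h (T ⊗[C] B) T (k + 1)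
  refine le_of_forall_maximal _ _ hfg (U_le_L h (T ⊗[C] B) k) (fun 𝔪 h𝔪 => ?_)
  -- the stratum of `𝔪 ∩ C`
  haveI := h𝔪.isPrime
  let q : PrimeSpectrum C := ⟨𝔪.comap (algebraMap C (T ⊗[C] B)), inferInstance⟩
  have hq : q ∈ ⋃ i, Groth.Agent.H48.GrStrat.stratum (P i) (F i) := by
    rw [hcover]
    simp
  obtain ⟨i, hPi, hFi⟩ := Set.mem_iUnion.mp hq
  have hki : gi i ≤ k := le_trans (Finset.le_sup (Finset.mem_univ i)) hk
  intro x hx
  obtain ⟨n, u, hu, hw⟩ := hgi i k hki x hx
  set w := (algebraMap C T (F i)) ^ n • x - u with hwdef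
  -- `w ∈ L`
  have hwL : w ∈ L h (T ⊗[C] B) (k + 1) :=
    Submodule.sub_mem _ (Submodule.smul_of_tower_mem _ _ hx) (U_le_L h (T ⊗[C] B) k hu)
  -- flatness: `w ∈ pT • L`
  haveI := hT (k + 1 + 1)
  haveI hflat : Module.Flat T (LinearMap.range (ιB h (T ⊗[C] B) (k + 1))) :=
    flat_range_ιB h (T ⊗[C] B) T (k + 1)
  let πT : ((T ⊗[C] B) ⊗[B] G Q π (k + 1)) →ₗ[T] LinearMap.range (ιB h (T ⊗[C] B) (k + 1)) :=
    (ιB h (T ⊗[C] B) (k + 1)).rangeRestrict.restrictScalars T
  have hπT : Function.Surjective πT := LinearMap.surjective_rangeRestrict _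
  have hker : LinearMap.ker πT = (L h (T ⊗[C] B) (k + 1)).restrictScalars T := by
    ext y
    simp only [πT, LinearMap.mem_ker, LinearMap.restrictScalars_apply,
      Submodule.restrictScalars_mem, L]
    constructor
    · intro hy; simpa using congrArg Subtype.val hy
    · intro hy; exact Subtype.ext (by simpa using hy)
  have hwK : w ∈ LinearMap.ker πT := by
    rw [hker]; exact (Submodule.restrictScalars_mem T _ w).mpr hwL
  have hle := Groth.Agent.H48.FlatLimit.inf_smul_top_le_smul_of_flat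
    ((P i).map (algebraMap C T)) (M := LinearMap.range (ιB h (T ⊗[C] B) (k + 1))) πT hπT
  have hw2 : w ∈ ((P i).map (algebraMap C T)) • LinearMap.ker πT :=
    hle (Submodule.mem_inf.mpr ⟨hwK, hw⟩)
  have hPm : (P i).map (algebraMap C (T ⊗[C] B)) ≤ 𝔪 := Ideal.map_le_iff_le_comap.mpr hPi
  have hw3 : w ∈ 𝔪 • L h (T ⊗[C] B) (k + 1) := by
    refine Submodule.smul_induction_on hw2 (fun t ht l hl => ?_) (fun a b ha hb => ?_)
    · rw [hker] at hl
      rw [← algebraMap_smul (T ⊗[C] B) t l]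
      refine Submodule.smul_mem_smul (hPm ?_) hl
      have : algebraMap T (T ⊗[C] B) t ∈ ((P i).map (algebraMap C T)).map
          (algebraMap T (T ⊗[C] B)) := Ideal.mem_map_of_mem _ ht
      rwa [Ideal.map_map, ← IsScalarTower.algebraMap_eq] at this
    · exact Submodule.add_mem _ ha hb
  -- invert `F i ^ n` modulo `𝔪`
  set a : T ⊗[C] B := algebraMap C (T ⊗[C] B) (F i) with ha
  have ha𝔪 : a ^ n ∉ 𝔪 := fun hmem => hFi (Ideal.mem_comap.mpr (h𝔪.isPrime.mem_of_pow_mem n hmem))
  obtain ⟨y, j, hj, hyj⟩ := h𝔪.exists_inv ha𝔪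
  have hax : a ^ n • x = u + w := by
    rw [hwdef, add_sub_cancel, ha, IsScalarTower.algebraMap_apply C T (T ⊗[C] B), ← map_pow,
      algebraMap_smul]
  have hx1 : x = y • (u + w) + j • x := by
    rw [← hax, ← mul_smul, ← add_smul, hyj, one_smul]
  have hx2 : x = y • u + (y • w + j • x) := by
    conv_lhs => rw [hx1, smul_add]
    exact add_assoc _ _ _
  rw [hx2]
  refine Submodule.add_mem_sup (Submodule.smul_mem _ y hu) (Submodule.add_mem _ ?_ ?_)
  · exact Submodule.smul_mem _ y hw3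
  · exact Submodule.smul_mem_smul hj hx

end Groth.Agent.H48.GrLim
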