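import Mathlib
import Groth.Agent.H48.GrFlatMain

set_option autoImplicit false
set_option linter.style.haveILetI false

universe u

namespace Groth.Agent.H48.GrStrat

open TensorProduct

theorem flat_of_isLocalizedModule_mul {A : Type u} [CommRing A] {H : Type u} [AddCommGroup H]
    [Module A H] (f g : A) (hf : Module.Flat A (LocalizedModule (Submonoid.powers f) H))
    {Q : Type u} [AddCommGroup Q] [Module A Q] (θ : H →ₗ[A] Q)
    [IsLocalizedModule (Submonoid.powers (f * g)) θ] : Module.Flat A Q := by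
  have h1 : Module.Flat A (LocalizedModule (Submonoid.powers (f * g)) H) := by
    refine Groth.Agent.H57.flat_localizedModule_of_forall (A := A) (B := A)
      (Submonoid.powers (f * g)) H (fun P Q _ _ _ _ v hv x hx => ?_)
    obtain ⟨⟨t, k, rfl⟩, ht⟩ := Groth.Agent.H57.exists_smul_eq_zero_of_lTensor_injective
      (A := A) (B := A) (Submonoid.powers f) H v
      (Module.Flat.lTensor_preserves_injective_linearMap v hv) x hx
    refine ⟨⟨(f * g) ^ k, k, rfl⟩, ?_⟩
    have ht' : (f ^ k) • x = 0 := ht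
    show ((f * g) ^ k) • x = 0
    rw [mul_pow, mul_comm, mul_smul, ht', smul_zero]
  exact Module.Flat.of_linearEquiv (IsLocalizedModule.iso (Submonoid.powers (f * g)) θ).symm
/-- Transport of a subquotient along a linear equivalence, in the `map mkQ` encoding. -/
theorem flat_map_mkQ_of_flat_quot {C B₁ : Type u} [CommRing C] [CommRing B₁] [Algebra C B₁]
    {N₁ : Type u} [AddCommGroup N₁] [Module B₁ N₁] [Module C N₁] [IsScalarTower C B₁ N₁]
    {X : Type u} [AddCommGroup X] [Module C X] (e : N₁ ≃ₗ[C] X)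
    (F F' : Submodule B₁ N₁) (G : Submodule B₁ ↥F)
    (hG : G = Submodule.comap F.subtype F')
    (R R' : Submodule C X)
    (hR : Submodule.map e.toLinearMap (F.restrictScalars C) = R)
    (hR' : Submodule.map e.toLinearMap (F'.restrictScalars C) = R')
    (hflat : Module.Flat C (↥F ⧸ G)) :
    Module.Flat C ↥(Submodule.map R'.mkQ R) := by
  let ψ : ↥F →ₗ[C] X ⧸ R' := R'.mkQ ∘ₗ e.toLinearMap ∘ₗ (F.subtype.restrictScalars C)
  have hrange : LinearMap.range ψ = Submodule.map R'.mkQ R := by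
    rw [LinearMap.range_comp, LinearMap.range_comp, ← hR]
    congr 2
    ext x
    simp
  have hker : LinearMap.ker ψ = G.restrictScalars C := by
    ext x
    rw [LinearMap.mem_ker, Submodule.restrictScalars_mem, hG, Submodule.mem_comap]
    show R'.mkQ (e (x : N₁)) = 0 ↔ _
    rw [Submodule.mkQ_apply, Submodule.Quotient.mk_eq_zero, ← hR']
    constructor
    · rintro ⟨y, hy, hye⟩
      have : y = (x : N₁) := e.injective hye
      show (x : N₁) ∈ F'
      rw [← this]; exact hy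
    · intro hx
      exact ⟨(x : N₁), hx, rfl⟩
  let e1 : (↥F ⧸ LinearMap.ker ψ) ≃ₗ[C] LinearMap.range ψ := ψ.quotKerEquivRange
  let e2 : (↥F ⧸ LinearMap.ker ψ) ≃ₗ[C] (↥F ⧸ G.restrictScalars C) :=
    Submodule.quotEquivOfEq _ _ hker
  let e3 : (↥F ⧸ G.restrictScalars C) ≃ₗ[C] (↥F ⧸ G) :=
    Submodule.Quotient.restrictScalarsEquiv C G
  let e4 : LinearMap.range ψ ≃ₗ[C] ↥(Submodule.map R'.mkQ R) := LinearEquiv.ofEq _ _ hrange
  exact Module.Flat.of_linearEquiv ((e3.symm ≪≫ₗ e2.symm ≪≫ₗ e1 ≪≫ₗ e4).symm)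

/-- Localizing the graded pieces: abstract form. -/
theorem flat_gr_localized {A' : Type u} [CommRing A'] {B' : Type u} [CommRing B'] [Algebra A' B']
    {B₁ : Type u} [CommRing B₁] [Algebra B' B₁] [Algebra A' B₁] [IsScalarTower A' B' B₁]
    (fbar : A')
    [IsLocalization (Algebra.algebraMapSubmonoid B' (Submonoid.powers fbar)) B₁]
    {N' N₁ : Type u} [AddCommGroup N'] [Module B' N'] [Module A' N'] [IsScalarTower A' B' N']
    [AddCommGroup N₁] [Module B' N₁] [Module B₁ N₁] [IsScalarTower B' B₁ N₁] [Module A' N₁]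
    [IsScalarTower A' B' N₁] [IsScalarTower A' B₁ N₁]
    (φ : N' →ₗ[B'] N₁)
    [IsLocalizedModule (Algebra.algebraMapSubmonoid B' (Submonoid.powers fbar)) φ]
    (J' : Ideal B') (J₁ : Ideal B₁) (hJ₁ : J₁ = J'.map (algebraMap B' B₁)) (n : ℕ)
    (hflat : ∀ {Q : Type u} [AddCommGroup Q] [Module A' Q]
      (θ : (↥(J' ^ n • (⊤ : Submodule B' N')) ⧸
        (J' • ⊤ : Submodule B' ↥(J' ^ n • (⊤ : Submodule B' N')))) →ₗ[A'] Q)
      [IsLocalizedModule (Submonoid.powers fbar) θ], Module.Flat A' Q) :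
    Module.Flat A' (↥(J₁ ^ n • (⊤ : Submodule B₁ N₁)) ⧸
      (J₁ • ⊤ : Submodule B₁ ↥(J₁ ^ n • (⊤ : Submodule B₁ N₁)))) := by
  subst hJ₁
  set S := Algebra.algebraMapSubmonoid B' (Submonoid.powers fbar) with hS
  have hK : ((J'.map (algebraMap B' B₁)) ^ n • (⊤ : Submodule B₁ N₁)) =
      (J' ^ n • (⊤ : Submodule B' N')).localized' B₁ S φ := by
    rw [Submodule.localized'_smul, Ideal.localized'_eq_map, Submodule.localized'_top,
      Ideal.map_pow]
  obtain ⟨θ, hθ⟩ := Groth.Agent.H11.NormFlat.exists_isLocalizedModule_quot S φ J'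
    (J' ^ n • ⊤) _ hK
  haveI := hθ
  haveI : IsLocalizedModule (Submonoid.powers fbar) (θ.restrictScalars A') :=
    IsLocalizedModule.restrictScalars (Submonoid.powers fbar) θ
  exact hflat (θ.restrictScalars A')

/-- Abstract assembly of the flatness of a stratum piece. -/
theorem flat_piece_aux {A' : Type u} [CommRing A'] {B' : Type u} [CommRing B'] [Algebra A' B']
    {A₁ : Type u} [CommRing A₁] [Algebra A' A₁]
    {B₁ : Type u} [CommRing B₁] [Algebra B' B₁] [Algebra A' B₁] [IsScalarTower A' B' B₁]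
    [Algebra A₁ B₁] [IsScalarTower A' A₁ B₁]
    (f₁ f₂ : A') [IsLocalization.Away (f₁ * f₂) A₁]
    [IsLocalization (Algebra.algebraMapSubmonoid B' (Submonoid.powers (f₁ * f₂))) B₁]
    {N' N₁ : Type u} [AddCommGroup N'] [Module B' N'] [Module A' N'] [IsScalarTower A' B' N']
    [AddCommGroup N₁] [Module B' N₁] [Module B₁ N₁] [IsScalarTower B' B₁ N₁] [Module A' N₁]
    [IsScalarTower A' B' N₁] [IsScalarTower A' B₁ N₁]
    [Module A₁ N₁] [IsScalarTower A₁ B₁ N₁] [IsScalarTower A' A₁ N₁]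
    (φ : N' →ₗ[B'] N₁)
    [IsLocalizedModule (Algebra.algebraMapSubmonoid B' (Submonoid.powers (f₁ * f₂))) φ]
    (J' : Ideal B') (J₁ : Ideal B₁) (hJ₁ : J₁ = J'.map (algebraMap B' B₁)) (n : ℕ)
    (hgr : ∀ {Q : Type u} [AddCommGroup Q] [Module A' Q]
      (θ : (↥(J' ^ n • (⊤ : Submodule B' N')) ⧸
        (J' • ⊤ : Submodule B' ↥(J' ^ n • (⊤ : Submodule B' N')))) →ₗ[A'] Q)
      [IsLocalizedModule (Submonoid.powers f₁) θ], Module.Flat A' Q)
    {X : Type u} [AddCommGroup X] [Module A₁ X] (e : N₁ ≃ₗ[A₁] X)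
    (R R' : Submodule A₁ X)
    (hR : Submodule.map e.toLinearMap
      ((J₁ ^ n • (⊤ : Submodule B₁ N₁)).restrictScalars A₁) = R)
    (hR' : Submodule.map e.toLinearMap
      ((J₁ ^ (n + 1) • (⊤ : Submodule B₁ N₁)).restrictScalars A₁) = R') :
    Module.Flat A₁ ↥(Submodule.map R'.mkQ R) := by
  have h1 : Module.Flat A' (↥(J₁ ^ n • (⊤ : Submodule B₁ N₁)) ⧸
      (J₁ • ⊤ : Submodule B₁ ↥(J₁ ^ n • (⊤ : Submodule B₁ N₁)))) :=
    flat_gr_localized (f₁ * f₂) φ J' J₁ hJ₁ n
      (fun θ => flat_of_isLocalizedModule_mul f₁ f₂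
        (hgr (LocalizedModule.mkLinearMap (Submonoid.powers f₁) _)) θ)
  have h2 : Module.Flat A₁ (↥(J₁ ^ n • (⊤ : Submodule B₁ N₁)) ⧸
      (J₁ • ⊤ : Submodule B₁ ↥(J₁ ^ n • (⊤ : Submodule B₁ N₁)))) :=
    (Module.flat_iff_of_isLocalization A₁ (Submonoid.powers (f₁ * f₂)) _).mpr h1
  set K : Submodule B₁ N₁ := J₁ ^ n • ⊤ with hK
  set K₁ : Submodule B₁ N₁ := J₁ ^ (n + 1) • ⊤ with hK₁
  have hmap : Submodule.map K.subtype (J₁ • (⊤ : Submodule B₁ ↥K)) = K₁ := by
    rw [Submodule.map_smul'', Submodule.map_top, Submodule.range_subtype, hK, hK₁,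
      ← Submodule.mul_smul, ← pow_succ']
  have hG : (J₁ • (⊤ : Submodule B₁ ↥K)) = Submodule.comap K.subtype K₁ := by
    rw [← hmap, Submodule.comap_map_eq_of_injective (Submodule.injective_subtype K)]
  exact flat_map_mkQ_of_flat_quot e K K₁ _ hG R R' hR hR' h2

end Groth.Agent.H48.GrStrat
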