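import Mathlib
import Groth.Agent.H48.GrFlatMain

set_option autoImplicit false
set_option linter.style.haveILetI false

universe u

namespace Groth.Agent.H48.GrStrat

open TensorProduct

attribute [local instance] Algebra.TensorProduct.rightAlgebra

section P1

variable {A₀ : Type u} [CommRing A₀] {B₀ : Type u} [CommRing B₀] [Algebra A₀ B₀]
  (M₀ : Type u) [AddCommGroup M₀] [Module B₀ M₀] [Module A₀ M₀] [IsScalarTower A₀ B₀ M₀]
  (C : Type u) [CommRing C] [Algebra A₀ C]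

/-- The comparison iso `(C ⊗ B₀) ⊗[B₀] M₀ ≃ C ⊗[A₀] M₀`. -/
noncomputable def eC : ((C ⊗[A₀] B₀) ⊗[B₀] M₀) ≃ₗ[C] C ⊗[A₀] M₀ :=
  Algebra.IsPushout.cancelBaseChange A₀ C B₀ (C ⊗[A₀] B₀) M₀

theorem eC_one_tmul (m : M₀) :
    eC M₀ C ((1 : C ⊗[A₀] B₀) ⊗ₜ[B₀] m) = (1 : C) ⊗ₜ[A₀] m :=
  Algebra.IsPushout.cancelBaseChange_tmul A₀ C B₀ (C ⊗[A₀] B₀) M₀ m

theorem eC_tmul (c : C) (b : B₀) (m : M₀) :
    eC M₀ C ((c ⊗ₜ[A₀] b) ⊗ₜ[B₀] m) = c ⊗ₜ[A₀] (b • m) := by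
  have h1 : ((c ⊗ₜ[A₀] b) ⊗ₜ[B₀] m : (C ⊗[A₀] B₀) ⊗[B₀] M₀) =
      c • ((1 : C ⊗[A₀] B₀) ⊗ₜ[B₀] (b • m)) := by
    rw [TensorProduct.tmul_smul, TensorProduct.smul_tmul', TensorProduct.smul_tmul']
    congr 1
    rw [Algebra.smul_def, Algebra.smul_def, Algebra.TensorProduct.right_algebraMap_apply]
    simp [Algebra.TensorProduct.one_def]
  rw [h1, map_smul, eC_one_tmul, TensorProduct.smul_tmul', smul_eq_mul, mul_one]

theorem eC_smul_mem (I₀ : Ideal B₀) (W : Submodule C (C ⊗[A₀] M₀))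
    (hW : ∀ (c : C) (j : B₀) (m : M₀), j ∈ I₀ → c ⊗ₜ[A₀] (j • m) ∈ W)
    (r : C ⊗[A₀] B₀) (hr : r ∈ I₀.map (algebraMap B₀ (C ⊗[A₀] B₀)))
    (y : (C ⊗[A₀] B₀) ⊗[B₀] M₀) : eC M₀ C (r • y) ∈ W := by
  revert y
  refine Submodule.span_induction (p := fun r _ => ∀ y : (C ⊗[A₀] B₀) ⊗[B₀] M₀,
    eC M₀ C (r • y) ∈ W) ?_ ?_ ?_ ?_ hr
  · rintro _ ⟨j, hj, rfl⟩ y
    induction y using TensorProduct.induction_on with
    | zero => rw [smul_zero, map_zero]; exact Submodule.zero_mem _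
    | add y₁ y₂ h₁ h₂ => rw [smul_add, map_add]; exact Submodule.add_mem _ h₁ h₂
    | tmul b m =>
      induction b using TensorProduct.induction_on with
      | zero => rw [zero_tmul, smul_zero, map_zero]; exact Submodule.zero_mem _
      | add b₁ b₂ h₁ h₂ =>
        rw [add_tmul, smul_add, map_add]; exact Submodule.add_mem _ h₁ h₂
      | tmul c b₀ =>
        have h1 : (algebraMap B₀ (C ⊗[A₀] B₀) j) • ((c ⊗ₜ[A₀] b₀) ⊗ₜ[B₀] m) =
            ((c ⊗ₜ[A₀] (j * b₀)) ⊗ₜ[B₀] m : (C ⊗[A₀] B₀) ⊗[B₀] M₀) := by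
          rw [TensorProduct.smul_tmul', smul_eq_mul,
            Algebra.TensorProduct.right_algebraMap_apply,
            Algebra.TensorProduct.tmul_mul_tmul, one_mul]
        rw [h1, eC_tmul]
        exact hW c (j * b₀) m (I₀.mul_mem_right b₀ hj)
  · intro y; rw [zero_smul, map_zero]; exact Submodule.zero_mem _
  · intro r₁ r₂ _ _ h₁ h₂ y
    rw [add_smul, map_add]; exact Submodule.add_mem _ (h₁ y) (h₂ y)
  · intro b r _ h y
    have : (b • r) • y = r • (b • y) := by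
      rw [smul_eq_mul, mul_comm, mul_smul]
    rw [this]; exact h _

theorem one_tmul_mem (I₀ : Ideal B₀) (k : M₀) (hk : k ∈ I₀ • (⊤ : Submodule B₀ M₀)) :
    (1 : C ⊗[A₀] B₀) ⊗ₜ[B₀] k ∈ (I₀.map (algebraMap B₀ (C ⊗[A₀] B₀))) •
      (⊤ : Submodule (C ⊗[A₀] B₀) ((C ⊗[A₀] B₀) ⊗[B₀] M₀)) := by
  refine Submodule.smul_induction_on hk ?_ ?_
  · intro j hj m _
    rw [TensorProduct.tmul_smul, ← algebraMap_smul (C ⊗[A₀] B₀) j]
    exact Submodule.smul_mem_smul (Ideal.mem_map_of_mem _ hj) Submodule.mem_top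
  · intro x y hx hy
    rw [TensorProduct.tmul_add]; exact Submodule.add_mem _ hx hy

theorem map_eC_smul_top (I₀ : Ideal B₀) (K : Submodule B₀ M₀) (hK : K = I₀ • ⊤)
    (F : Submodule (C ⊗[A₀] B₀) ((C ⊗[A₀] B₀) ⊗[B₀] M₀))
    (hF : F = (I₀.map (algebraMap B₀ (C ⊗[A₀] B₀))) • ⊤) :
    Submodule.map (eC M₀ C).toLinearMap (F.restrictScalars C) =
    (K.restrictScalars A₀).baseChange C := by
  apply le_antisymm
  · rintro _ ⟨x, hx, rfl⟩
    have hx' : x ∈ F := hx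
    rw [hF] at hx'
    have hW : ∀ (c : C) (j : B₀) (m : M₀), j ∈ I₀ → c ⊗ₜ[A₀] (j • m) ∈
        (K.restrictScalars A₀).baseChange C := by
      intro c j m hj
      have hjm : j • m ∈ K := by
        rw [hK]; exact Submodule.smul_mem_smul hj Submodule.mem_top
      have hjm' : j • m ∈ K.restrictScalars A₀ := hjm
      exact Submodule.tmul_mem_baseChange_of_mem c hjm'
    generalize (K.restrictScalars A₀).baseChange C = W at hW ⊢
    refine Submodule.smul_induction_on hx' (fun r hr y _ => eC_smul_mem M₀ C I₀ W hW r hr y) ?_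
    intro x y hx hy
    show eC M₀ C (x + y) ∈ W
    rw [map_add]; exact Submodule.add_mem _ hx hy
  · rw [Submodule.baseChange_eq_span, Submodule.span_le]
    rintro _ ⟨k, hk, rfl⟩
    have hk' : k ∈ K := hk
    rw [hK] at hk'
    refine ⟨(1 : C ⊗[A₀] B₀) ⊗ₜ[B₀] k, ?_, eC_one_tmul M₀ C k⟩
    show (1 : C ⊗[A₀] B₀) ⊗ₜ[B₀] k ∈ F
    rw [hF]
    exact one_tmul_mem M₀ C I₀ k hk'

end P1

end Groth.Agent.H48.GrStrat
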