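import Mathlib
import Groth.Agent.H48.GrStratA
import Groth.Agent.H48.GrStratB

set_option autoImplicit false
set_option linter.style.haveILetI false

universe u

namespace Groth.Agent.H48.GrStrat

open TensorProduct

attribute [local instance] Algebra.TensorProduct.rightAlgebra

section Concrete

variable {A₀ : Type u} [CommRing A₀] {B₀ : Type u} [CommRing B₀] [Algebra A₀ B₀] (J₀ : Ideal B₀)
  (M₀ : Type u) [AddCommGroup M₀] [Module B₀ M₀] [Module A₀ M₀] [IsScalarTower A₀ B₀ M₀]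

/-- Generic flatness of the graded pieces over a domain quotient, stratum form. -/
theorem flat_piece_dom (A' : Type u) [CommRing A'] [IsDomain A'] [Algebra A₀ A']
    (hJ₀ : J₀.FG) [Algebra.FiniteType A₀ B₀] [Module.Finite B₀ M₀] :
    ∃ f₁ : A', f₁ ≠ 0 ∧ ∀ (f₂ : A') (A₁ : Type u) [CommRing A₁] [Algebra A₀ A₁] [Algebra A' A₁]
      [IsScalarTower A₀ A' A₁] [IsLocalization.Away (f₁ * f₂) A₁] (n : ℕ),
      Module.Flat A₁
      ↥(Submodule.map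
          (LinearMap.range (LinearMap.baseChange A₁
            ((J₀ ^ (n + 1) • (⊤ : Submodule B₀ M₀)).restrictScalars A₀).subtype)).mkQ
          (LinearMap.range (LinearMap.baseChange A₁
            ((J₀ ^ n • (⊤ : Submodule B₀ M₀)).restrictScalars A₀).subtype))) := by
  haveI : Algebra.FiniteType A' ((A' ⊗[A₀] B₀) ⧸ J₀.map (algebraMap B₀ (A' ⊗[A₀] B₀))) :=
    Algebra.FiniteType.of_surjective (Ideal.Quotient.mkₐ A' _) Ideal.Quotient.mk_surjective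
  obtain ⟨f₁, hf₁, hgr⟩ := Groth.Agent.H48.GrFlatMain.exists_flat_gr' (A := A')
    (B := A' ⊗[A₀] B₀) (J₀.map (algebraMap B₀ (A' ⊗[A₀] B₀))) (hJ₀.map _)
    ((A' ⊗[A₀] B₀) ⊗[B₀] M₀)
  refine ⟨f₁, hf₁, fun f₂ A₁ _ _ _ _ _ n => ?_⟩
  letI algBB : Algebra (A' ⊗[A₀] B₀) (A₁ ⊗[A₀] B₀) :=
    (Algebra.TensorProduct.map (IsScalarTower.toAlgHom A₀ A' A₁)
      (AlgHom.id A₀ B₀)).toRingHom.toAlgebra
  have halg : ∀ x : A' ⊗[A₀] B₀, algebraMap (A' ⊗[A₀] B₀) (A₁ ⊗[A₀] B₀) x =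
      Algebra.TensorProduct.map (IsScalarTower.toAlgHom A₀ A' A₁) (AlgHom.id A₀ B₀) x :=
    fun _ => rfl
  haveI t1 : IsScalarTower A' (A' ⊗[A₀] B₀) (A₁ ⊗[A₀] B₀) :=
    IsScalarTower.of_algebraMap_eq fun a => by
      rw [halg, Algebra.TensorProduct.algebraMap_apply, Algebra.TensorProduct.algebraMap_apply,
        Algebra.TensorProduct.map_tmul]
      simp
  haveI t2 : IsScalarTower B₀ (A' ⊗[A₀] B₀) (A₁ ⊗[A₀] B₀) :=
    IsScalarTower.of_algebraMap_eq fun b => by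
      rw [halg, Algebra.TensorProduct.right_algebraMap_apply,
        Algebra.TensorProduct.right_algebraMap_apply, Algebra.TensorProduct.map_tmul]
      simp
  haveI hloc : IsLocalization
      (Algebra.algebraMapSubmonoid (A' ⊗[A₀] B₀) (Submonoid.powers (f₁ * f₂))) (A₁ ⊗[A₀] B₀) := by
    refine IsLocalization.tensorProduct_tensorProduct A₀ B₀ (Submonoid.powers (f₁ * f₂)) A₁ ?_
    ext b
    simp [halg]
  let φ : ((A' ⊗[A₀] B₀) ⊗[B₀] M₀) →ₗ[A' ⊗[A₀] B₀] ((A₁ ⊗[A₀] B₀) ⊗[B₀] M₀) :=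
    AlgebraTensorModule.rTensor B₀ M₀ (Algebra.linearMap (A' ⊗[A₀] B₀) (A₁ ⊗[A₀] B₀))
  haveI hφ : IsLocalizedModule
      (Algebra.algebraMapSubmonoid (A' ⊗[A₀] B₀) (Submonoid.powers (f₁ * f₂))) φ :=
    inferInstance
  have hJ₁ : J₀.map (algebraMap B₀ (A₁ ⊗[A₀] B₀)) =
      (J₀.map (algebraMap B₀ (A' ⊗[A₀] B₀))).map
        (algebraMap (A' ⊗[A₀] B₀) (A₁ ⊗[A₀] B₀)) := by
    rw [Ideal.map_map, ← IsScalarTower.algebraMap_eq]
  have hR : Submodule.map (eC M₀ A₁).toLinearMap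
      (((J₀.map (algebraMap B₀ (A₁ ⊗[A₀] B₀))) ^ n •
        (⊤ : Submodule (A₁ ⊗[A₀] B₀) ((A₁ ⊗[A₀] B₀) ⊗[B₀] M₀))).restrictScalars A₁) =
      LinearMap.range (LinearMap.baseChange A₁
        ((J₀ ^ n • (⊤ : Submodule B₀ M₀)).restrictScalars A₀).subtype) :=
    map_eC_smul_top M₀ A₁ (J₀ ^ n) (J₀ ^ n • ⊤) rfl _ (by rw [Ideal.map_pow])
  have hR' : Submodule.map (eC M₀ A₁).toLinearMap
      (((J₀.map (algebraMap B₀ (A₁ ⊗[A₀] B₀))) ^ (n + 1) •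
        (⊤ : Submodule (A₁ ⊗[A₀] B₀) ((A₁ ⊗[A₀] B₀) ⊗[B₀] M₀))).restrictScalars A₁) =
      LinearMap.range (LinearMap.baseChange A₁
        ((J₀ ^ (n + 1) • (⊤ : Submodule B₀ M₀)).restrictScalars A₀).subtype) :=
    map_eC_smul_top M₀ A₁ (J₀ ^ (n + 1)) (J₀ ^ (n + 1) • ⊤) rfl _ (by rw [Ideal.map_pow])
  exact flat_piece_aux (A' := A') (B' := A' ⊗[A₀] B₀) (A₁ := A₁) (B₁ := A₁ ⊗[A₀] B₀) f₁ f₂ φ
    (J₀.map (algebraMap B₀ (A' ⊗[A₀] B₀))) (J₀.map (algebraMap B₀ (A₁ ⊗[A₀] B₀))) hJ₁ n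
    (fun θ => hgr n θ) (eC M₀ A₁) _ _ hR hR'

/-- Flatness of the stratum piece `V(p) ∩ D(f₀ g)`. -/
theorem flat_piece [IsNoetherianRing A₀] [Algebra.FiniteType A₀ B₀] [Module.Finite B₀ M₀]
    (p : Ideal A₀) [p.IsPrime] :
    ∃ f₀ : A₀, f₀ ∉ p ∧ ∀ (g : A₀) (n : ℕ),
      Module.Flat (Localization.Away (Ideal.Quotient.mk p (f₀ * g)))
      ↥(Submodule.map
          (LinearMap.range (LinearMap.baseChange
            (Localization.Away (Ideal.Quotient.mk p (f₀ * g)))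
            ((J₀ ^ (n + 1) • (⊤ : Submodule B₀ M₀)).restrictScalars A₀).subtype)).mkQ
          (LinearMap.range (LinearMap.baseChange
            (Localization.Away (Ideal.Quotient.mk p (f₀ * g)))
            ((J₀ ^ n • (⊤ : Submodule B₀ M₀)).restrictScalars A₀).subtype))) := by
  haveI : IsNoetherianRing B₀ := Algebra.FiniteType.isNoetherianRing A₀ B₀
  have hJ₀ : J₀.FG := IsNoetherian.noetherian J₀
  obtain ⟨f₁, hf₁, h⟩ := flat_piece_dom (A₀ := A₀) J₀ M₀ (A₀ ⧸ p) hJ₀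
  obtain ⟨f₀, rfl⟩ := Ideal.Quotient.mk_surjective f₁
  refine ⟨f₀, fun hmem => hf₁ (Ideal.Quotient.eq_zero_iff_mem.mpr hmem), fun g n => ?_⟩
  haveI : IsLocalization.Away (Ideal.Quotient.mk p f₀ * Ideal.Quotient.mk p g)
      (Localization.Away (Ideal.Quotient.mk p (f₀ * g))) := by
    rw [← map_mul]; infer_instance
  exact h (Ideal.Quotient.mk p g) _ n

end Concrete

end Groth.Agent.H48.GrStrat
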