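import Mathlib
import Groth.Agent.H48.GrLimData
import Groth.Agent.H48.GrStratC
import Groth.Agent.H73.FlatExt

/-!
# The concrete graded data of the `J`-adic filtration (helper48)

`Q k = M ⧸ J^k M`, `J = (a₁, …, a_r)`.
-/

set_option autoImplicit false
set_option linter.style.haveILetI false

universe u

open TensorProduct

namespace Groth.Agent.H48.GrLimConc

variable {B : Type u} [CommRing B] {r : ℕ} (a : Fin r → B) (M : Type u) [AddCommGroup M]
  [Module B M]

/-- The ideal generated by the family. -/
abbrev J : Ideal B := Ideal.span (Set.range a)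

/-- The filtration. -/
abbrev F (k : ℕ) : Submodule B M := (J a) ^ k • ⊤

/-- The truncations. -/
abbrev Q (k : ℕ) : Type u := M ⧸ F a M k

lemma F_anti (k : ℕ) : F a M (k + 1) ≤ F a M k :=
  Submodule.smul_mono_left (Ideal.pow_le_pow_right (Nat.le_succ k))

/-- The projections. -/
noncomputable def π (k : ℕ) : Q a M (k + 1) →ₗ[B] Q a M k := Submodule.factor (F_anti a M k)

lemma smul_mem_F (i : Fin r) (k : ℕ) (m : M) (hm : m ∈ F a M k) : a i • m ∈ F a M (k + 1) := by
  rw [F, pow_succ', Submodule.mul_smul]
  exact Submodule.smul_mem_smul (Ideal.subset_span ⟨i, rfl⟩) hm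

/-- Multiplication by the generators. -/
noncomputable def μ (i : Fin r) (k : ℕ) : Q a M k →ₗ[B] Q a M (k + 1) :=
  Submodule.mapQ (F a M k) (F a M (k + 1)) (LinearMap.lsmul B M (a i))
    (fun m hm => smul_mem_F a M i k m hm)

lemma π_mk (k : ℕ) (m : M) : π a M k (Submodule.Quotient.mk m) = Submodule.Quotient.mk m := rfl

lemma μ_mk (i : Fin r) (k : ℕ) (m : M) :
    μ a M i k (Submodule.Quotient.mk m) = Submodule.Quotient.mk (a i • m) := rfl

lemma mem_ker_π (k : ℕ) (m : M) :
    (Submodule.Quotient.mk m : Q a M (k + 1)) ∈ LinearMap.ker (π a M k) ↔ m ∈ F a M k := by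
  rw [LinearMap.mem_ker, π_mk, Submodule.Quotient.mk_eq_zero]

theorem isGrData : Groth.Agent.H48.GrLim.IsGrData (Q a M) (π a M) (μ a M) where
  surj k := Submodule.factor_surjective (F_anti a M k)
  comm_πμ i k := by
    apply Submodule.linearMap_qext
    ext m
    rfl
  comm_μ i j k := by
    apply Submodule.linearMap_qext
    ext m
    show (Submodule.Quotient.mk (a i • a j • m) : Q a M (k + 1 + 1)) =
      Submodule.Quotient.mk (a j • a i • m)
    rw [smul_comm]
  gen k := by
    intro x hx
    obtain ⟨m, rfl⟩ := Submodule.Quotient.mk_surjective _ x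
    rw [mem_ker_π] at hx
    set W : Submodule B (Q a M (k + 1 + 1)) :=
      ⨆ i, (LinearMap.ker (π a M k)).map (μ a M i (k + 1)) with hW
    have key : ∀ m ∈ F a M (k + 1), (Submodule.Quotient.mk m : Q a M (k + 1 + 1)) ∈ W := by
      intro m hm
      rw [F, pow_succ', Submodule.mul_smul] at hm
      refine Submodule.smul_induction_on hm (fun c hc n hn => ?_) (fun x y hx hy => ?_)
      · have key2 : ∀ c ∈ J a, (Submodule.Quotient.mk (c • n) : Q a M (k + 1 + 1)) ∈ W := by
          intro c hc
          induction hc using Submodule.span_induction with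
          | mem c hc =>
            obtain ⟨i, rfl⟩ := hc
            refine Submodule.mem_iSup_of_mem i ⟨Submodule.Quotient.mk n, ?_, rfl⟩
            rw [SetLike.mem_coe, mem_ker_π]
            exact hn
          | zero => rw [zero_smul]; exact W.zero_mem
          | add c d _ _ hc hd => rw [add_smul]; exact W.add_mem hc hd
          | smul c d _ hd =>
            rw [smul_eq_mul, mul_smul]
            exact W.smul_mem c hd
        exact key2 c hc
      · exact W.add_mem hx hy
    exact key m hx
  zero := by
    have htop : F a M 0 = ⊤ := by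
      rw [F, pow_zero, Ideal.one_eq_top, Submodule.top_smul]
    exact Submodule.Quotient.subsingleton_iff.mpr htop

section General

/-- Base change of a quotient module. -/
noncomputable def quotEquiv {C : Type u} [CommRing C] (R : Type u) [CommRing R] [Algebra C R]
    {X : Type u} [AddCommGroup X] [Module C X] (N : Submodule C X) :
    ((R ⊗[C] X) ⧸ LinearMap.range (N.subtype.baseChange R)) ≃ₗ[R] R ⊗[C] (X ⧸ N) :=
  have hsurj : Function.Surjective (N.mkQ.baseChange R) :=
    LinearMap.baseChange_surjective R (Submodule.mkQ_surjective N)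
  have hker : LinearMap.ker (N.mkQ.baseChange R) = LinearMap.range (N.subtype.baseChange R) := by
    have hex : Function.Exact N.subtype N.mkQ := LinearMap.exact_subtype_mkQ N
    have h1 := lTensor_exact R hex (Submodule.mkQ_surjective N)
    ext y
    have h2 := h1 y
    simp only [LinearMap.mem_ker, LinearMap.mem_range, LinearMap.baseChange_eq_ltensor]
    rw [h2]
    rfl
  (Submodule.quotEquivOfEq _ _ hker.symm) ≪≫ₗ (N.mkQ.baseChange R).quotKerEquivOfSurjective hsurj

/-- Extension of flatness along a two-step filtration. -/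
theorem flat_quot_of_flat_piece {R : Type u} [CommRing R] {X : Type u} [AddCommGroup X]
    [Module R X] (V' V : Submodule R X) (hle : V' ≤ V)
    [Module.Flat R ↥(Submodule.map V'.mkQ V)] [Module.Flat R (X ⧸ V)] :
    Module.Flat R (X ⧸ V') := by
  refine Groth.Agent.H73.flat_of_exact (M := ↥(Submodule.map V'.mkQ V)) (N := X ⧸ V')
    (P := X ⧸ V) (Submodule.map V'.mkQ V).subtype (Submodule.factor hle)
    (Submodule.injective_subtype _) (Submodule.factor_surjective hle) ?_
  intro y
  obtain ⟨x, rfl⟩ := Submodule.Quotient.mk_surjective _ y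
  have h0 : Submodule.factor hle (Submodule.Quotient.mk x) = Submodule.Quotient.mk x := rfl
  rw [h0, Submodule.Quotient.mk_eq_zero]
  constructor
  · intro hx
    exact ⟨⟨Submodule.Quotient.mk x, ⟨x, hx, rfl⟩⟩, rfl⟩
  · rintro ⟨⟨z, w, hw, rfl⟩, hz⟩
    have h1 : (Submodule.Quotient.mk w : X ⧸ V') = Submodule.Quotient.mk x := hz
    rw [Submodule.Quotient.eq] at h1
    have : x = w - (w - x) := by abel
    rw [this]
    exact V.sub_mem hw (hle h1)

end General

section Good

variable (C : Type u) [CommRing C] [Algebra C B] [Module C M] [IsScalarTower C B M]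

/-- The images of the filtration steps in the base change. -/
abbrev V (R : Type u) [CommRing R] [Algebra C R] (k : ℕ) : Submodule R (R ⊗[C] M) :=
  LinearMap.range (((F a M k).restrictScalars C).subtype.baseChange R)

lemma V_anti (R : Type u) [CommRing R] [Algebra C R] (k : ℕ) :
    V a M C R (k + 1) ≤ V a M C R k := by
  have hle : (F a M (k + 1)).restrictScalars C ≤ (F a M k).restrictScalars C := F_anti a M k
  have h1 : ((F a M (k + 1)).restrictScalars C).subtype =
      ((F a M k).restrictScalars C).subtype ∘ₗ Submodule.inclusion hle := rfl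
  show LinearMap.range (((F a M (k + 1)).restrictScalars C).subtype.baseChange R) ≤ _
  rw [h1, LinearMap.baseChange_comp]
  exact LinearMap.range_comp_le_range _ _

lemma V_zero (R : Type u) [CommRing R] [Algebra C R] : V a M C R 0 = ⊤ := by
  have htop : F a M 0 = ⊤ := by
    rw [F, pow_zero, Ideal.one_eq_top, Submodule.top_smul]
  have hs : Function.Surjective ((F a M 0).restrictScalars C).subtype := by
    intro m
    exact ⟨⟨m, by rw [Submodule.restrictScalars_mem, htop]; trivial⟩, rfl⟩
  exact LinearMap.range_eq_top.mpr (LinearMap.baseChange_surjective R hs)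

theorem flat_quot_V (R : Type u) [CommRing R] [Algebra C R]
    (hpiece : ∀ n, Module.Flat R ↥(Submodule.map (V a M C R (n + 1)).mkQ (V a M C R n))) (k : ℕ) :
    Module.Flat R ((R ⊗[C] M) ⧸ V a M C R k) := by
  induction k with
  | zero =>
    haveI : Subsingleton ((R ⊗[C] M) ⧸ V a M C R 0) :=
      Submodule.Quotient.subsingleton_iff.mpr (V_zero a M C R)
    infer_instance
  | succ k ih =>
    haveI := ih
    haveI := hpiece k
    exact flat_quot_of_flat_piece (V a M C R (k + 1)) (V a M C R k) (V_anti a M C R k)

theorem flat_quot_V_iff (R : Type u) [CommRing R] [Algebra C R] (k : ℕ) :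
    Module.Flat R ((R ⊗[C] M) ⧸ V a M C R k) ↔ Module.Flat R (R ⊗[C] Q a M k) := by
  let e : ((R ⊗[C] M) ⧸ V a M C R k) ≃ₗ[R] R ⊗[C] Q a M k :=
    quotEquiv R ((F a M k).restrictScalars C) ≪≫ₗ
      TensorProduct.AlgebraTensorModule.congr (LinearEquiv.refl R R)
        (Submodule.Quotient.restrictScalarsEquiv C (F a M k))
  exact ⟨fun _ => Module.Flat.of_linearEquiv e.symm, fun _ => Module.Flat.of_linearEquiv e⟩

/-- Generic flatness of all truncations on a stratum. -/
theorem exists_flat_trunc [IsNoetherianRing C] [Algebra.FiniteType C B] [Module.Finite B M]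
    (p : Ideal C) [p.IsPrime] :
    ∃ f₀ : C, f₀ ∉ p ∧ ∀ (g : C) (k : ℕ),
      Module.Flat (Localization.Away (Ideal.Quotient.mk p (f₀ * g)))
        (Localization.Away (Ideal.Quotient.mk p (f₀ * g)) ⊗[C] Q a M k) := by
  obtain ⟨f₀, hf₀, h⟩ := Groth.Agent.H48.GrStrat.flat_piece (A₀ := C) (J a) M p
  refine ⟨f₀, hf₀, fun g k => ?_⟩
  rw [← flat_quot_V_iff a M C]
  exact flat_quot_V a M C _ (fun n => h g n) k

end Good

end Groth.Agent.H48.GrLimConc
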