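import Mathlib
import Groth.Agent.H48.GrLimBd
import Groth.Agent.H73.FlatExt

/-!
# Base change of the graded pieces between levels (helper48)
-/

set_option autoImplicit false
set_option linter.style.haveILetI false

universe u

open TensorProduct

namespace Groth.Agent.H48.GrLim

open Groth.Agent.H48.GrLimOmega

variable {B : Type u} [CommRing B] {r : ℕ}
  {Q : ℕ → Type u} [∀ k, AddCommGroup (Q k)] [∀ k, Module B (Q k)]
  {π : ∀ k, Q (k + 1) →ₗ[B] Q k} {μ : Fin r → ∀ k, Q k →ₗ[B] Q (k + 1)}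

/-- **(G3)**: if the lower level is flat in degrees `≤ g` and the bound `g` holds at the upper
level, the kernels at the upper level are spanned by those of the lower level in all degrees. -/
theorem L_eq_span_of_bound (h : IsGrData Q π μ) (B₁ B₂ : Type u) [CommRing B₁] [CommRing B₂]
    [Algebra B B₁] [Algebra B B₂] [Algebra B₁ B₂] [IsScalarTower B B₁ B₂]
    (R₁ R₂ : Type u) [CommRing R₁] [CommRing R₂]
    [Algebra R₁ R₂] [Algebra R₁ B₁] [Algebra R₂ B₂] [Algebra R₁ B₂]
    [IsScalarTower R₁ B₁ B₂] [IsScalarTower R₁ R₂ B₂] [Algebra.IsPushout R₁ R₂ B₁ B₂]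
    (g : ℕ) (hflat : ∀ k, k ≤ g → Module.Flat R₁ (B₁ ⊗[B] Q k))
    (hb : ∀ k, g ≤ k → L h B₂ (k + 1) = U h B₂ k) (k : ℕ) :
    L h B₂ k = Submodule.span B₂
      (tr B B₁ B₂ (G Q π k) '' (L h B₁ k : Set (B₁ ⊗[B] G Q π k))) := by
  have hge : ∀ k, Submodule.span B₂
      (tr B B₁ B₂ (G Q π k) '' (L h B₁ k : Set (B₁ ⊗[B] G Q π k))) ≤ L h B₂ k := by
    intro k
    rw [Submodule.span_le]
    rintro _ ⟨x, hx, rfl⟩
    exact tr_mem_L h B₁ B₂ k x hx
  refine le_antisymm ?_ (hge k)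
  induction k with
  | zero =>
    haveI := hflat 0 (Nat.zero_le g)
    exact (L_eq_span h B₁ B₂ R₁ R₂ 0).le
  | succ k ih =>
    by_cases hk : k + 1 ≤ g
    · haveI := hflat (k + 1) hk
      exact (L_eq_span h B₁ B₂ R₁ R₂ (k + 1)).le
    · have hgk : g ≤ k := by omega
      rw [hb k hgk, U]
      refine iSup_le fun i => ?_
      set S := Submodule.span B₂
        (tr B B₁ B₂ (G Q π (k + 1)) '' (L h B₁ (k + 1) : Set (B₁ ⊗[B] G Q π (k + 1)))) with hS
      have key : ∀ y ∈ Submodule.span B₂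
          (tr B B₁ B₂ (G Q π k) '' (L h B₁ k : Set (B₁ ⊗[B] G Q π k))), σB h B₂ i k y ∈ S := by
        intro y hy'
        induction hy' using Submodule.span_induction with
        | mem z hz =>
          obtain ⟨w, hw, rfl⟩ := hz
          rw [← tr_σB]
          exact Submodule.subset_span ⟨_, L_map_le h B₁ i k ⟨w, hw, rfl⟩, rfl⟩
        | zero => rw [map_zero]; exact S.zero_mem
        | add a b _ _ ha hb => rw [map_add]; exact S.add_mem ha hb
        | smul c a _ ha => rw [map_smul]; exact S.smul_mem c ha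
      rintro _ ⟨y, hy, rfl⟩
      exact key y (ih hy)

/-- The transition maps are base changes. -/
lemma isBaseChange_tr (B₁ B₂ : Type u) [CommRing B₁] [CommRing B₂]
    [Algebra B B₁] [Algebra B B₂] [Algebra B₁ B₂] [IsScalarTower B B₁ B₂]
    (Y : Type u) [AddCommGroup Y] [Module B Y] : IsBaseChange B₂ (tr B B₁ B₂ Y) :=
  IsBaseChange.of_equiv (TensorProduct.AlgebraTensorModule.cancelBaseChange B B₁ B₂ B₂ Y)
    (fun x => by rw [cancel_tmul, one_smul])

/-- The graded piece at a level. -/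
noncomputable abbrev Gr (h : IsGrData Q π μ) (B' : Type u) [CommRing B'] [Algebra B B'] (k : ℕ) :
    Submodule B' (B' ⊗[B] Q (k + 1)) := LinearMap.range (ιB h B' k)

lemma tr_mem_Gr (h : IsGrData Q π μ) (B₁ B₂ : Type u) [CommRing B₁] [CommRing B₂]
    [Algebra B B₁] [Algebra B B₂] [Algebra B₁ B₂] [IsScalarTower B B₁ B₂] (k : ℕ)
    (y : B₁ ⊗[B] Q (k + 1)) (hy : y ∈ Gr h B₁ k) : tr B B₁ B₂ (Q (k + 1)) y ∈ Gr h B₂ k := by
  obtain ⟨x, rfl⟩ := hy
  refine ⟨tr B B₁ B₂ (G Q π k) x, ?_⟩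
  rw [ιB, ιB, tr_baseChange]

/-- The transition map on graded pieces. -/
noncomputable def trGr (h : IsGrData Q π μ) (B₁ B₂ : Type u) [CommRing B₁] [CommRing B₂]
    [Algebra B B₁] [Algebra B B₂] [Algebra B₁ B₂] [IsScalarTower B B₁ B₂] (k : ℕ) :
    Gr h B₁ k →ₗ[B₁] Gr h B₂ k where
  toFun y := ⟨tr B B₁ B₂ (Q (k + 1)) y.1, tr_mem_Gr h B₁ B₂ k y.1 y.2⟩
  map_add' a b := Subtype.ext (by simp)
  map_smul' c a := Subtype.ext (by simp)

lemma trGr_rangeRestrict (h : IsGrData Q π μ) (B₁ B₂ : Type u) [CommRing B₁] [CommRing B₂]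
    [Algebra B B₁] [Algebra B B₂] [Algebra B₁ B₂] [IsScalarTower B B₁ B₂] (k : ℕ)
    (x : B₁ ⊗[B] G Q π k) :
    trGr h B₁ B₂ k ((ιB h B₁ k).rangeRestrict x) =
      (ιB h B₂ k).rangeRestrict (tr B B₁ B₂ (G Q π k) x) := by
  apply Subtype.ext
  show tr B B₁ B₂ (Q (k + 1)) (ιB h B₁ k x) = ιB h B₂ k (tr B B₁ B₂ (G Q π k) x)
  rw [ιB, ιB, tr_baseChange]

/-- Base change of a quotient: abstract form. -/
theorem isBaseChange_of_ker_eq_span {B₁ B₂ : Type u} [CommRing B₁] [CommRing B₂] [Algebra B₁ B₂]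
    {X₁ X₂ Y₁ Y₂ : Type u} [AddCommGroup X₁] [Module B₁ X₁] [AddCommGroup X₂] [Module B₁ X₂]
    [Module B₂ X₂] [IsScalarTower B₁ B₂ X₂] [AddCommGroup Y₁] [Module B₁ Y₁]
    [AddCommGroup Y₂] [Module B₁ Y₂] [Module B₂ Y₂] [IsScalarTower B₁ B₂ Y₂]
    (t : X₁ →ₗ[B₁] X₂) (ht : IsBaseChange B₂ t)
    (g₁ : X₁ →ₗ[B₁] Y₁) (g₂ : X₂ →ₗ[B₂] Y₂) (hg₁ : Function.Surjective g₁)
    (hg₂ : Function.Surjective g₂) (c : Y₁ →ₗ[B₁] Y₂)
    (hc : ∀ x, c (g₁ x) = g₂ (t x))
    (hker : LinearMap.ker g₂ = Submodule.span B₂ (t '' (LinearMap.ker g₁ : Set X₁))) :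
    IsBaseChange B₂ c := by
  let f' : B₂ ⊗[B₁] (LinearMap.ker g₁) →ₗ[B₂] X₂ :=
    LinearMap.liftBaseChange B₂ (t ∘ₗ (LinearMap.ker g₁).subtype)
  have comm₁ : t.comp (LinearMap.ker g₁).subtype =
      (f'.restrictScalars B₁).comp (TensorProduct.mk B₁ B₂ (LinearMap.ker g₁) 1) := by
    ext x
    simp [f']
  have comm₂ : c.comp g₁ = (g₂.restrictScalars B₁).comp t := LinearMap.ext hc
  have exact₁ : Function.Exact (LinearMap.ker g₁).subtype g₁ := LinearMap.exact_subtype_ker_map g₁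
  have hrange : LinearMap.range f' = Submodule.span B₂ (t '' (LinearMap.ker g₁ : Set X₁)) := by
    apply le_antisymm
    · rintro _ ⟨z, rfl⟩
      induction z using TensorProduct.induction_on with
      | zero => rw [map_zero]; exact Submodule.zero_mem _
      | tmul b x =>
        simp only [f', LinearMap.liftBaseChange_tmul, LinearMap.comp_apply,
          Submodule.subtype_apply]
        exact Submodule.smul_mem _ b (Submodule.subset_span ⟨x, x.2, rfl⟩)
      | add a c ha hc => rw [map_add]; exact Submodule.add_mem _ ha hc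
    · rw [Submodule.span_le]
      rintro _ ⟨x, hx, rfl⟩
      exact ⟨1 ⊗ₜ ⟨x, hx⟩, by simp [f']⟩
  have exact₂ : Function.Exact f' g₂ := by
    intro y
    rw [← LinearMap.mem_ker, hker, ← hrange]
    rfl
  exact IsBaseChange.of_right_exact B₂ (TensorProduct.mk B₁ B₂ (LinearMap.ker g₁) 1)
    t c comm₁ comm₂ (TensorProduct.isBaseChange B₁ (LinearMap.ker g₁) B₂) ht exact₁ hg₁ exact₂ hg₂

/-- Under (G3) the graded piece at the upper level is the base change of the one at the lower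
level. -/
theorem isBaseChange_trGr (h : IsGrData Q π μ) (B₁ B₂ : Type u) [CommRing B₁] [CommRing B₂]
    [Algebra B B₁] [Algebra B B₂] [Algebra B₁ B₂] [IsScalarTower B B₁ B₂] (k : ℕ)
    (hspan : L h B₂ k = Submodule.span B₂
      (tr B B₁ B₂ (G Q π k) '' (L h B₁ k : Set (B₁ ⊗[B] G Q π k)))) :
    IsBaseChange B₂ (trGr h B₁ B₂ k) := by
  have hbc := isBaseChange_tr (B := B) B₁ B₂ (G Q π k)
  have h1 := @isBaseChange_of_ker_eq_span B₁ B₂ _ _ _ (B₁ ⊗[B] G Q π k) (B₂ ⊗[B] G Q π k)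
    (Gr h B₁ k) (Gr h B₂ k) _ _ _ _ _ _ _ _ _ _ _ _ (tr B B₁ B₂ (G Q π k)) hbc
  have h2 := h1 (ιB h B₁ k).rangeRestrict (ιB h B₂ k).rangeRestrict
    (LinearMap.surjective_rangeRestrict _) (LinearMap.surjective_rangeRestrict _)
  have h3 := h2 (trGr h B₁ B₂ k)
  have h4 := h3 (trGr_rangeRestrict h B₁ B₂ k)
  have hk1 : LinearMap.ker (ιB h B₂ k).rangeRestrict = L h B₂ k := LinearMap.ker_rangeRestrict _
  have hk2 : LinearMap.ker (ιB h B₁ k).rangeRestrict = L h B₁ k := LinearMap.ker_rangeRestrict _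
  apply h4
  rw [hk1, hk2]
  exact hspan

/-- From flatness of all graded pieces to flatness of all truncations. -/
theorem flat_trunc_of_flat_gr (h : IsGrData Q π μ) (B' : Type u) [CommRing B'] [Algebra B B']
    (R' : Type u) [CommRing R'] [Algebra R' B']
    (hgr : ∀ k, Module.Flat R' (Gr h B' k)) (k : ℕ) : Module.Flat R' (B' ⊗[B] Q k) := by
  induction k with
  | zero =>
    haveI := h.zero
    haveI : Subsingleton (B' ⊗[B] Q 0) := by
      refine ⟨fun a b => ?_⟩
      have : ∀ z : B' ⊗[B] Q 0, z = 0 := by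
        intro z
        induction z using TensorProduct.induction_on with
        | zero => rfl
        | tmul x y => rw [Subsingleton.elim y 0, tmul_zero]
        | add a b ha hb => rw [ha, hb, add_zero]
      rw [this a, this b]
    infer_instance
  | succ k ih =>
    haveI := ih
    haveI := hgr k
    have hinj : Function.Injective ((Gr h B' k).subtype.restrictScalars R') :=
      Submodule.injective_subtype (Gr h B' k)
    have hsurj : Function.Surjective (((π k).baseChange B').restrictScalars R') :=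
      LinearMap.baseChange_surjective B' (h.surj k)
    refine Groth.Agent.H73.flat_of_exact (R := R') (M := Gr h B' k) (N := B' ⊗[B] Q (k + 1))
      (P := B' ⊗[B] Q k)
      ((Gr h B' k).subtype.restrictScalars R') (((π k).baseChange B').restrictScalars R')
      hinj hsurj ?_
    intro y
    show (π k).baseChange B' y = 0 ↔ y ∈ Set.range (Gr h B' k).subtype
    constructor
    · intro hy
      refine ⟨⟨y, ?_⟩, rfl⟩
      show y ∈ LinearMap.range (ιB h B' k)
      rw [range_ιB]; exact hy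
    · rintro ⟨z, rfl⟩
      have h1 : (z : B' ⊗[B] Q (k + 1)) ∈ LinearMap.range (ιB h B' k) := z.2
      rw [range_ιB] at h1
      exact h1

end Groth.Agent.H48.GrLim
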