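import Mathlib
import Groth.Agent.H48.GrLimCore1
import Groth.Agent.H48.FlatLimitCol

/-!
# Descent of flatness of the graded pieces to a finitely generated subalgebra (helper48)
-/

set_option autoImplicit false
set_option linter.style.haveILetI false

universe u

open TensorProduct DirectSum

namespace Groth.Agent.H48.GrLim

open Groth.Agent.H48.GrLimOmega

section General

/-- The base change along a pushout, in terms of the base rings. -/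
noncomputable def equivOfPushout (R₁ R₂ : Type u) {B₁ B₂ : Type u} [CommRing R₁] [CommRing R₂]
    [CommRing B₁] [CommRing B₂]
    [Algebra R₁ R₂] [Algebra R₁ B₁] [Algebra R₂ B₂] [Algebra B₁ B₂] [Algebra R₁ B₂]
    [IsScalarTower R₁ B₁ B₂] [IsScalarTower R₁ R₂ B₂] [Algebra.IsPushout R₁ R₂ B₁ B₂]
    {Y₁ Y₂ : Type u} [AddCommGroup Y₁] [Module B₁ Y₁] [Module R₁ Y₁] [IsScalarTower R₁ B₁ Y₁]
    [AddCommGroup Y₂] [Module B₂ Y₂] [Module B₁ Y₂] [IsScalarTower B₁ B₂ Y₂] [Module R₂ Y₂]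
    [IsScalarTower R₂ B₂ Y₂] (c : Y₁ →ₗ[B₁] Y₂) (hc : IsBaseChange B₂ c) :
    R₂ ⊗[R₁] Y₁ ≃ₗ[R₂] Y₂ :=
  (Algebra.IsPushout.cancelBaseChange R₁ R₂ B₁ B₂ Y₁).symm ≪≫ₗ hc.equiv.restrictScalars R₂

lemma equivOfPushout_tmul (R₁ R₂ : Type u) {B₁ B₂ : Type u} [CommRing R₁] [CommRing R₂]
    [CommRing B₁] [CommRing B₂]
    [Algebra R₁ R₂] [Algebra R₁ B₁] [Algebra R₂ B₂] [Algebra B₁ B₂] [Algebra R₁ B₂]
    [IsScalarTower R₁ B₁ B₂] [IsScalarTower R₁ R₂ B₂] [Algebra.IsPushout R₁ R₂ B₁ B₂]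
    {Y₁ Y₂ : Type u} [AddCommGroup Y₁] [Module B₁ Y₁] [Module R₁ Y₁] [IsScalarTower R₁ B₁ Y₁]
    [AddCommGroup Y₂] [Module B₂ Y₂] [Module B₁ Y₂] [IsScalarTower B₁ B₂ Y₂] [Module R₂ Y₂]
    [IsScalarTower R₂ B₂ Y₂] (c : Y₁ →ₗ[B₁] Y₂) (hc : IsBaseChange B₂ c) (r : R₂) (y : Y₁) :
    equivOfPushout R₁ R₂ c hc (r ⊗ₜ y) = r • c y := by
  simp only [equivOfPushout, LinearEquiv.trans_apply,
    Algebra.IsPushout.cancelBaseChange_symm_tmul, LinearEquiv.restrictScalars_apply,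
    IsBaseChange.equiv_tmul, algebraMap_smul]

lemma span_range_eq_top_of_pushout (R₁ R₂ : Type u) {B₁ B₂ : Type u} [CommRing R₁] [CommRing R₂]
    [CommRing B₁] [CommRing B₂]
    [Algebra R₁ R₂] [Algebra R₁ B₁] [Algebra R₂ B₂] [Algebra B₁ B₂] [Algebra R₁ B₂]
    [IsScalarTower R₁ B₁ B₂] [IsScalarTower R₁ R₂ B₂] [Algebra.IsPushout R₁ R₂ B₁ B₂]
    {Y₁ Y₂ : Type u} [AddCommGroup Y₁] [Module B₁ Y₁] [Module R₁ Y₁] [IsScalarTower R₁ B₁ Y₁]
    [AddCommGroup Y₂] [Module B₂ Y₂] [Module B₁ Y₂] [IsScalarTower B₁ B₂ Y₂] [Module R₂ Y₂]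
    [IsScalarTower R₂ B₂ Y₂] (c : Y₁ →ₗ[B₁] Y₂) (hc : IsBaseChange B₂ c) :
    Submodule.span R₂ (Set.range c) = ⊤ := by
  rw [eq_top_iff]
  intro y _
  obtain ⟨z, rfl⟩ := (equivOfPushout R₁ R₂ c hc).surjective y
  induction z using TensorProduct.induction_on with
  | zero => rw [map_zero]; exact Submodule.zero_mem _
  | tmul r x =>
    rw [equivOfPushout_tmul]
    exact Submodule.smul_mem _ r (Submodule.subset_span ⟨x, rfl⟩)
  | add a b ha hb => rw [map_add]; exact Submodule.add_mem _ (ha trivial) (hb trivial)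

/-- **Subring trick**: descent of a base change isomorphism to an intermediate ring over which
the base change is flat. -/
theorem flat_of_subring {R₁ R₂ R₃ : Type u} [CommRing R₁] [CommRing R₂] [CommRing R₃]
    [Algebra R₁ R₂] [Algebra R₂ R₃] [Algebra R₁ R₃] [IsScalarTower R₁ R₂ R₃]
    (hinj : Function.Injective (algebraMap R₂ R₃))
    {Y₁ Y₂ Y₃ : Type u} [AddCommGroup Y₁] [Module R₁ Y₁]
    [AddCommGroup Y₂] [Module R₂ Y₂] [Module R₁ Y₂] [IsScalarTower R₁ R₂ Y₂]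
    [AddCommGroup Y₃] [Module R₃ Y₃] [Module R₂ Y₃] [IsScalarTower R₂ R₃ Y₃]
    (c₁₂ : Y₁ →ₗ[R₁] Y₂) (c₂₃ : Y₂ →ₗ[R₂] Y₃) (E : R₃ ⊗[R₁] Y₁ ≃ₗ[R₃] Y₃)
    (hE : ∀ (r : R₃) (y : Y₁), E (r ⊗ₜ y) = r • c₂₃ (c₁₂ y))
    (hspan : Submodule.span R₂ (Set.range c₁₂) = ⊤) [Module.Flat R₂ (R₂ ⊗[R₁] Y₁)] :
    Module.Flat R₂ Y₂ := by
  let γ : R₂ ⊗[R₁] Y₁ →ₗ[R₂] Y₂ := LinearMap.liftBaseChange R₂ c₁₂
  have hγsurj : Function.Surjective γ := by
    rw [← LinearMap.range_eq_top, eq_top_iff, ← hspan, Submodule.span_le]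
    rintro _ ⟨y, rfl⟩
    exact ⟨1 ⊗ₜ y, by simp [γ]⟩
  -- the map to `R₃ ⊗ Y₁`
  have hj : Function.Injective (tr R₁ R₂ R₃ Y₁) := by
    have h1 : Function.Injective ((Algebra.linearMap R₂ R₃).rTensor (R₂ ⊗[R₁] Y₁)) :=
      Module.Flat.rTensor_preserves_injective_linearMap _ hinj
    intro a b hab
    have h2 : ∀ x : R₂ ⊗[R₁] Y₁, tr R₁ R₂ R₃ Y₁ x =
        TensorProduct.AlgebraTensorModule.cancelBaseChange R₁ R₂ R₃ R₃ Y₁
          ((Algebra.linearMap R₂ R₃).rTensor (R₂ ⊗[R₁] Y₁) ((1 : R₂) ⊗ₜ x)) := by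
      intro x
      rw [LinearMap.rTensor_tmul, Algebra.linearMap_apply, map_one, cancel_tmul, one_smul]
    rw [h2, h2] at hab
    have h3 := h1 ((TensorProduct.AlgebraTensorModule.cancelBaseChange R₁ R₂ R₃ R₃ Y₁).injective hab)
    have h4 := congrArg (TensorProduct.lid R₂ (R₂ ⊗[R₁] Y₁)) h3
    simpa using h4
  have hcomm : ∀ x : R₂ ⊗[R₁] Y₁, c₂₃ (γ x) = E (tr R₁ R₂ R₃ Y₁ x) := by
    intro x
    induction x using TensorProduct.induction_on with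
    | zero => simp
    | tmul r y =>
      simp only [γ, LinearMap.liftBaseChange_tmul, map_smul, tr_tmul, hE, algebraMap_smul]
    | add a b ha hb => simp only [map_add, ha, hb]
  have hγinj : Function.Injective γ := by
    rw [injective_iff_map_eq_zero]
    intro x hx
    have h1 : E (tr R₁ R₂ R₃ Y₁ x) = 0 := by rw [← hcomm, hx, map_zero]
    have h2 : tr R₁ R₂ R₃ Y₁ x = 0 := by simpa using h1
    exact hj (h2.trans (map_zero _).symm)
  exact Module.Flat.of_linearEquiv (LinearEquiv.ofBijective γ ⟨hγinj, hγsurj⟩).symm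

/-- **(γ)**: descent of flatness of all members of a graded family generated in degree zero to a
finitely generated subalgebra. -/
theorem exists_fg_flat_family {R₁ B₁ : Type u} [CommRing R₁] [IsNoetherianRing R₁] [CommRing B₁]
    [Algebra R₁ B₁] [Algebra.FiniteType R₁ B₁] {r : ℕ}
    (Y : ℕ → Type u) [∀ k, AddCommGroup (Y k)] [∀ k, Module B₁ (Y k)] [∀ k, Module R₁ (Y k)]
    [∀ k, IsScalarTower R₁ B₁ (Y k)]
    (σ : Fin r → ∀ k, Y k →ₗ[B₁] Y (k + 1))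
    (hcomm : ∀ i j k, (σ i (k + 1)) ∘ₗ (σ j k) = (σ j (k + 1)) ∘ₗ (σ i k))
    (hgen : ∀ k, (⨆ i, LinearMap.range (σ i k)) = ⊤) [Module.Finite B₁ (Y 0)]
    (T : Type u) [CommRing T] [Algebra R₁ T] (hT : ∀ k, Module.Flat T (T ⊗[R₁] Y k)) :
    ∃ S₁ : Subalgebra R₁ T, S₁.FG ∧ ∀ S : Subalgebra R₁ T, S₁ ≤ S → S.FG →
      ∀ k, Module.Flat S (S ⊗[R₁] Y k) := by
  classical
  letI modP : Module (MvPolynomial (Fin r) B₁) (⨁ k, Y k) := GrLimTot.polyModule Y σ hcomm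
  haveI : Module.Finite (MvPolynomial (Fin r) B₁) (⨁ k, Y k) :=
    GrLimTot.finite_poly Y σ hcomm hgen
  haveI tB : IsScalarTower B₁ (MvPolynomial (Fin r) B₁) (⨁ k, Y k) :=
    GrLimTot.isScalarTower_poly Y σ hcomm
  haveI : IsScalarTower R₁ (MvPolynomial (Fin r) B₁) (⨁ k, Y k) := ⟨fun c p y => by
    rw [← algebraMap_smul B₁ c p, smul_assoc, algebraMap_smul]⟩
  haveI : Algebra.FiniteType R₁ (MvPolynomial (Fin r) B₁) :=
    Algebra.FiniteType.trans (inferInstance : Algebra.FiniteType R₁ B₁) inferInstance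
  haveI : Module.Flat T (T ⊗[R₁] ⨁ k, Y k) := by
    haveI := hT
    exact Module.Flat.of_linearEquiv (TensorProduct.directSumRight R₁ T T Y)
  obtain ⟨S₁, hS₁, hflat⟩ :=
    FlatLimit.exists_fg_flat_module' R₁ (MvPolynomial (Fin r) B₁) (⨁ k, Y k) T
  refine ⟨S₁, hS₁, fun S hle hfg k => ?_⟩
  haveI := hflat S hle hfg
  have h1 : Module.Flat S (⨁ k, S ⊗[R₁] Y k) :=
    Module.Flat.of_linearEquiv (TensorProduct.directSumRight R₁ S S Y).symm
  exact Module.Flat.directSum_iff.mp h1 k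

end General

end Groth.Agent.H48.GrLim
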