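import Mathlib
import Groth.Agent.H48.GrLimCore2

/-!
# The graded pieces at a level as a graded family; descent steps (helper48)
-/

set_option autoImplicit false
set_option linter.style.haveILetI false

universe u

open TensorProduct DirectSum

namespace Groth.Agent.H48.GrLim

open Groth.Agent.H48.GrLimOmega

variable {B : Type u} [CommRing B] {r : ℕ}
  {Q : ℕ → Type u} [∀ k, AddCommGroup (Q k)] [∀ k, Module B (Q k)]
  {π : ∀ k, Q (k + 1) →ₗ[B] Q k} {μ : Fin r → ∀ k, Q k →ₗ[B] Q (k + 1)}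

section Family

variable (h : IsGrData Q π μ) (B' : Type u) [CommRing B'] [Algebra B B']

lemma baseChange_μ_mem_Gr (i : Fin r) (k : ℕ) (y : B' ⊗[B] Q (k + 1)) (hy : y ∈ Gr h B' k) :
    (μ i (k + 1)).baseChange B' y ∈ Gr h B' (k + 1) := by
  obtain ⟨x, rfl⟩ := hy
  exact ⟨σB h B' i k x, ιB_σB h B' i k x⟩

/-- The degree-one maps on the graded pieces at a level. -/
noncomputable def τ (i : Fin r) (k : ℕ) : Gr h B' k →ₗ[B'] Gr h B' (k + 1) :=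
  ((μ i (k + 1)).baseChange B').restrict (baseChange_μ_mem_Gr h B' i k)

lemma τ_coe (i : Fin r) (k : ℕ) (y : Gr h B' k) :
    (τ h B' i k y : B' ⊗[B] Q (k + 1 + 1)) = (μ i (k + 1)).baseChange B' y := rfl

lemma τ_comm (i j : Fin r) (k : ℕ) :
    τ h B' i (k + 1) ∘ₗ τ h B' j k = τ h B' j (k + 1) ∘ₗ τ h B' i k := by
  apply LinearMap.ext
  intro y
  apply Subtype.ext
  simp only [LinearMap.comp_apply, τ_coe]
  rw [← LinearMap.comp_apply, ← LinearMap.comp_apply, ← LinearMap.baseChange_comp,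
    ← LinearMap.baseChange_comp, h.comm_μ i j (k + 1)]

lemma τ_gen (k : ℕ) : (⨆ i, LinearMap.range (τ h B' i k)) = ⊤ := by
  rw [eq_top_iff]
  rintro ⟨y, x, rfl⟩ -
  have hx : x ∈ (⨆ i, LinearMap.range (σB h B' i k)) := by rw [σB_gen h B' k]; trivial
  have key : ∀ x ∈ (⨆ i, LinearMap.range (σB h B' i k)), ∀ hx' : ιB h B' (k + 1) x ∈ Gr h B' (k + 1),
      (⟨ιB h B' (k + 1) x, hx'⟩ : Gr h B' (k + 1)) ∈ (⨆ i, LinearMap.range (τ h B' i k)) := by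
    intro x hx
    induction hx using Submodule.iSup_induction' with
    | mem i z hz =>
      obtain ⟨w, rfl⟩ := hz
      intro hx'
      refine Submodule.mem_iSup_of_mem i ⟨⟨ιB h B' k w, ⟨w, rfl⟩⟩, ?_⟩
      apply Subtype.ext
      rw [τ_coe]
      exact (ιB_σB h B' i k w).symm
    | zero =>
      intro hx'
      have : (⟨ιB h B' (k + 1) 0, hx'⟩ : Gr h B' (k + 1)) = 0 := Subtype.ext (map_zero _)
      rw [this]; exact Submodule.zero_mem _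
    | add a b _ _ ha hb =>
      intro hx'
      have : (⟨ιB h B' (k + 1) (a + b), hx'⟩ : Gr h B' (k + 1)) =
          ⟨ιB h B' (k + 1) a, ⟨a, rfl⟩⟩ + ⟨ιB h B' (k + 1) b, ⟨b, rfl⟩⟩ :=
        Subtype.ext (map_add _ _ _)
      rw [this]
      exact Submodule.add_mem _ (ha _) (hb _)
  exact key x hx _

instance finite_Gr_zero [Module.Finite B (G Q π 0)] : Module.Finite B' (Gr h B' 0) :=
  Module.Finite.range (ιB h B' 0)

/-- **(γ)** for the graded pieces at a level. -/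
theorem exists_fg_flat_gr (R₁ : Type u) [CommRing R₁] [IsNoetherianRing R₁] [Algebra R₁ B']
    [Algebra.FiniteType R₁ B'] [Module.Finite B (G Q π 0)]
    (T : Type u) [CommRing T] [Algebra R₁ T]
    (hT : ∀ k, Module.Flat T (T ⊗[R₁] Gr h B' k)) :
    ∃ S₁ : Subalgebra R₁ T, S₁.FG ∧ ∀ S : Subalgebra R₁ T, S₁ ≤ S → S.FG →
      ∀ k, Module.Flat S (S ⊗[R₁] Gr h B' k) :=
  exists_fg_flat_family (fun k => Gr h B' k) (τ h B') (τ_comm h B') (τ_gen h B') T hT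

end Family

section Descend

variable (h : IsGrData Q π μ) (B₁ B₃ : Type u) [CommRing B₁] [CommRing B₃]
  [Algebra B B₁] [Algebra B B₃] [Algebra B₁ B₃] [IsScalarTower B B₁ B₃]
  (R₁ R₃ : Type u) [CommRing R₁] [CommRing R₃]
  [Algebra R₁ R₃] [Algebra R₁ B₁] [Algebra R₃ B₃] [Algebra R₁ B₃]
  [IsScalarTower R₁ B₁ B₃] [IsScalarTower R₁ R₃ B₃] [Algebra.IsPushout R₁ R₃ B₁ B₃]

lemma exists_equiv_gr (k : ℕ)
    (hspan : L h B₃ k = Submodule.span B₃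
      (tr B B₁ B₃ (G Q π k) '' (L h B₁ k : Set (B₁ ⊗[B] G Q π k)))) :
    ∃ e : R₃ ⊗[R₁] Gr h B₁ k ≃ₗ[R₃] Gr h B₃ k,
      ∀ (r : R₃) (y : Gr h B₁ k), e (r ⊗ₜ y) = r • trGr h B₁ B₃ k y :=
  ⟨equivOfPushout R₁ R₃ (B₁ := B₁) (B₂ := B₃) (Y₁ := Gr h B₁ k) (Y₂ := Gr h B₃ k)
    (trGr h B₁ B₃ k) (isBaseChange_trGr h B₁ B₃ k hspan), fun r y => by
   have := equivOfPushout_tmul R₁ R₃ (B₁ := B₁) (B₂ := B₃) (Y₁ := Gr h B₁ k) (Y₂ := Gr h B₃ k)
    (trGr h B₁ B₃ k) (isBaseChange_trGr h B₁ B₃ k hspan) r y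
   convert this using 1⟩

/-- Flatness of the base change of the graded piece at the lower level, under (G3). -/
theorem flat_baseChange_gr (k : ℕ)
    (hspan : L h B₃ k = Submodule.span B₃
      (tr B B₁ B₃ (G Q π k) '' (L h B₁ k : Set (B₁ ⊗[B] G Q π k))))
    [Module.Flat R₃ (B₃ ⊗[B] Q (k + 1))] [Module.Flat R₃ (B₃ ⊗[B] Q k)] :
    Module.Flat R₃ (R₃ ⊗[R₁] Gr h B₁ k) := by
  haveI : Module.Flat R₃ (Gr h B₃ k) := flat_range_ιB h B₃ R₃ k
  have e := equivOfPushout R₁ R₃ (B₁ := B₁) (B₂ := B₃) (Y₁ := Gr h B₁ k) (Y₂ := Gr h B₃ k)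
    (trGr h B₁ B₃ k) (isBaseChange_trGr h B₁ B₃ k hspan)
  exact Module.Flat.of_linearEquiv e

end Descend

section Three

variable (h : IsGrData Q π μ) (B₁ B₂ B₃ : Type u) [CommRing B₁] [CommRing B₂] [CommRing B₃]
  [Algebra B B₁] [Algebra B B₂] [Algebra B B₃] [Algebra B₁ B₂] [Algebra B₂ B₃] [Algebra B₁ B₃]
  [IsScalarTower B B₁ B₂] [IsScalarTower B B₂ B₃] [IsScalarTower B B₁ B₃]
  [IsScalarTower B₁ B₂ B₃]

lemma tr_tr (Y : Type u) [AddCommGroup Y] [Module B Y] (y : B₁ ⊗[B] Y) :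
    tr B B₂ B₃ Y (tr B B₁ B₂ Y y) = tr B B₁ B₃ Y y := by
  induction y using TensorProduct.induction_on with
  | zero => simp
  | tmul b q => rw [tr_tmul, tr_tmul, tr_tmul, ← IsScalarTower.algebraMap_apply]
  | add a b ha hb => simp only [map_add, ha, hb]

lemma trGr_trGr (k : ℕ) (y : Gr h B₁ k) :
    trGr h B₂ B₃ k (trGr h B₁ B₂ k y) = trGr h B₁ B₃ k y :=
  Subtype.ext (tr_tr B₁ B₂ B₃ (Q (k + 1)) y.1)

variable (R₁ R₂ R₃ : Type u) [CommRing R₁] [CommRing R₂] [CommRing R₃]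
  [Algebra R₁ R₂] [Algebra R₂ R₃] [Algebra R₁ R₃] [IsScalarTower R₁ R₂ R₃]
  [Algebra R₁ B₁] [Algebra R₂ B₂] [Algebra R₃ B₃] [Algebra R₁ B₂] [Algebra R₁ B₃] [Algebra R₂ B₃]
  [IsScalarTower R₁ B₁ B₂] [IsScalarTower R₁ R₂ B₂] [Algebra.IsPushout R₁ R₂ B₁ B₂]
  [IsScalarTower R₁ B₁ B₃] [IsScalarTower R₁ R₃ B₃] [Algebra.IsPushout R₁ R₃ B₁ B₃]
  [IsScalarTower R₂ B₂ B₃] [IsScalarTower R₂ R₃ B₃]

/-- **Subring trick for the graded pieces.** -/
theorem descend_flat_gr (hinj : Function.Injective (algebraMap R₂ R₃)) (k : ℕ)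
    (hspan : L h B₃ k = Submodule.span B₃
      (tr B B₁ B₃ (G Q π k) '' (L h B₁ k : Set (B₁ ⊗[B] G Q π k))))
    [Module.Flat R₂ (R₂ ⊗[R₁] Gr h B₁ k)] :
    Module.Flat R₂ (Gr h B₂ k) := by
  obtain ⟨e, he⟩ := exists_equiv_gr h B₁ B₃ R₁ R₃ k hspan
  let c₁₂ : Gr h B₁ k →ₗ[R₁] Gr h B₂ k := (trGr h B₁ B₂ k).restrictScalars R₁
  let c₂₃ : Gr h B₂ k →ₗ[R₂] Gr h B₃ k := (trGr h B₂ B₃ k).restrictScalars R₂
  have hspan' : Submodule.span R₂ (Set.range c₁₂) = ⊤ := by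
    rw [eq_top_iff]
    have h1 : Submodule.span R₂ (Set.range (tr B B₁ B₂ (G Q π k))) = ⊤ :=
      span_range_eq_top_of_pushout R₁ R₂ (B₁ := B₁) (B₂ := B₂) (Y₁ := B₁ ⊗[B] G Q π k)
        (Y₂ := B₂ ⊗[B] G Q π k) (tr B B₁ B₂ (G Q π k)) (isBaseChange_tr (B := B) B₁ B₂ (G Q π k))
    have key : ∀ x ∈ Submodule.span R₂ (Set.range (tr B B₁ B₂ (G Q π k))),
        (ιB h B₂ k).rangeRestrict x ∈ Submodule.span R₂ (Set.range c₁₂) := by
      intro x hx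
      induction hx using Submodule.span_induction with
      | mem z hz =>
        obtain ⟨w, rfl⟩ := hz
        rw [← trGr_rangeRestrict]
        exact Submodule.subset_span ⟨(ιB h B₁ k).rangeRestrict w, rfl⟩
      | zero => rw [map_zero]; exact Submodule.zero_mem _
      | add a b _ _ ha hb => rw [map_add]; exact Submodule.add_mem _ ha hb
      | smul c a _ ha =>
        rw [LinearMap.map_smul_of_tower]; exact Submodule.smul_mem _ c ha
    rintro ⟨y, x, rfl⟩ -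
    exact key x (by rw [h1]; trivial)
  have hE : ∀ (r : R₃) (y : Gr h B₁ k), e (r ⊗ₜ y) = r • c₂₃ (c₁₂ y) := by
    intro r y
    rw [he]
    congr 1
    exact (trGr_trGr h B₁ B₂ B₃ k y).symm
  exact flat_of_subring (R₁ := R₁) (R₂ := R₂) (R₃ := R₃) hinj (Y₁ := Gr h B₁ k)
    (Y₂ := Gr h B₂ k) (Y₃ := Gr h B₃ k) c₁₂ c₂₃ e hE hspan'

end Three

end Groth.Agent.H48.GrLim
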