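import Mathlib
import Groth.Agent.H48.GrLimCore3
import Groth.Agent.H48.GrLimBd2

/-!
# The core descent theorem for flatness of all truncations (helper48)
-/

set_option autoImplicit false
set_option linter.style.haveILetI false

universe u

open TensorProduct

namespace Groth.Agent.H48.GrLimLevel

attribute [local instance] Algebra.TensorProduct.rightAlgebra

variable (C B : Type u) [CommRing C] [CommRing B] [Algebra C B]
  (R₁ R₂ R₃ : Type u) [CommRing R₁] [CommRing R₂] [CommRing R₃]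
  [Algebra C R₁] [Algebra C R₂] [Algebra C R₃] [Algebra R₁ R₂] [Algebra R₂ R₃] [Algebra R₁ R₃]
  [IsScalarTower C R₁ R₂] [IsScalarTower C R₂ R₃] [IsScalarTower C R₁ R₃]
  [IsScalarTower R₁ R₂ R₃]

lemma level_tower_levels :
    letI := levelAlgebra C B R₁ R₂
    letI := levelAlgebra C B R₂ R₃
    letI := levelAlgebra C B R₁ R₃
    IsScalarTower (R₁ ⊗[C] B) (R₂ ⊗[C] B) (R₃ ⊗[C] B) := by
  letI := levelAlgebra C B R₁ R₂
  letI := levelAlgebra C B R₂ R₃
  letI := levelAlgebra C B R₁ R₃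
  refine IsScalarTower.of_algebraMap_eq fun x => ?_
  induction x using TensorProduct.induction_on with
  | zero => simp
  | tmul a b =>
    rw [levelAlgebra_apply, levelAlgebra_apply, levelAlgebra_apply,
      Algebra.TensorProduct.map_tmul, Algebra.TensorProduct.map_tmul,
      Algebra.TensorProduct.map_tmul]
    simp [IsScalarTower.algebraMap_apply R₁ R₂ R₃]
  | add x y hx hy => rw [map_add, map_add, map_add, hx, hy]

end Groth.Agent.H48.GrLimLevel

namespace Groth.Agent.H48.GrLim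

open Groth.Agent.H48.GrLimOmega Groth.Agent.H48.GrLimLevel

attribute [local instance] Algebra.TensorProduct.rightAlgebra

variable {C B : Type u} [CommRing C] [CommRing B] [Algebra C B]

/-- The two forms of the base change to a level. -/
lemma flat_level_iff (R : Type u) [CommRing R] [Algebra C R] (Y : Type u) [AddCommGroup Y]
    [Module B Y] [Module C Y] [IsScalarTower C B Y] :
    Module.Flat R ((R ⊗[C] B) ⊗[B] Y) ↔ Module.Flat R (R ⊗[C] Y) := by
  have e : (R ⊗[C] B) ⊗[B] Y ≃ₗ[R] R ⊗[C] Y :=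
    Algebra.IsPushout.cancelBaseChange C R B (R ⊗[C] B) Y
  exact ⟨fun _ => Module.Flat.of_linearEquiv e.symm, fun _ => Module.Flat.of_linearEquiv e⟩

/-- Simultaneous descent of flatness of finitely many truncations. -/
theorem exists_fg_flat_upto [IsNoetherianRing C] [Algebra.FiniteType C B]
    (Q : ℕ → Type u) [∀ k, AddCommGroup (Q k)] [∀ k, Module B (Q k)]
    [∀ k, Module.Finite B (Q k)] [∀ k, Module C (Q k)] [∀ k, IsScalarTower C B (Q k)]
    (T : Type u) [CommRing T] [Algebra C T] (hT : ∀ k, Module.Flat T (T ⊗[C] Q k)) (g : ℕ) :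
    ∃ S₁ : Subalgebra C T, S₁.FG ∧ ∀ S : Subalgebra C T, S₁ ≤ S → S.FG →
      ∀ k, k ≤ g → Module.Flat S (S ⊗[C] Q k) := by
  induction g with
  | zero =>
    haveI := hT 0
    obtain ⟨S₁, h1, h2⟩ := Groth.Agent.H48.FlatLimit.exists_fg_flat_module' C B (Q 0) T
    refine ⟨S₁, h1, fun S hS hfg k hk => ?_⟩
    obtain rfl : k = 0 := by omega
    exact h2 S hS hfg
  | succ g ih =>
    obtain ⟨S₁, h1, h2⟩ := ih
    haveI := hT (g + 1)
    obtain ⟨S₂, h3, h4⟩ := Groth.Agent.H48.FlatLimit.exists_fg_flat_module' C B (Q (g + 1)) T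
    refine ⟨S₁ ⊔ S₂, h1.sup h3, fun S hS hfg k hk => ?_⟩
    by_cases hk' : k ≤ g
    · exact h2 S (le_sup_left.trans hS) hfg k hk'
    · obtain rfl : k = g + 1 := by omega
      exact h4 S (le_sup_right.trans hS) hfg

variable {r : ℕ} {Q : ℕ → Type u} [∀ k, AddCommGroup (Q k)] [∀ k, Module B (Q k)]
  {π : ∀ k, Q (k + 1) →ₗ[B] Q k} {μ : Fin r → ∀ k, Q k →ₗ[B] Q (k + 1)}

/-- Last step: the subring trick at the levels of `R₁ → R₂ → T`. -/
theorem core_step3 (h : IsGrData Q π μ)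
    [∀ k, Module C (Q k)] [∀ k, IsScalarTower C B (Q k)]
    (R₁ R₂ T : Type u) [CommRing R₁] [CommRing R₂] [CommRing T] [Algebra C R₁] [Algebra C R₂]
    [Algebra C T] [Algebra R₁ R₂] [Algebra R₂ T] [Algebra R₁ T]
    [IsScalarTower C R₁ R₂] [IsScalarTower C R₂ T] [IsScalarTower C R₁ T]
    [IsScalarTower R₁ R₂ T] (hinj : Function.Injective (algebraMap R₂ T))
    (hspan : letI := levelAlgebra C B R₁ T
      haveI := level_tower_B C B R₁ T
      ∀ k, L h (T ⊗[C] B) k = Submodule.span (T ⊗[C] B)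
        (tr B (R₁ ⊗[C] B) (T ⊗[C] B) (G Q π k) '' (L h (R₁ ⊗[C] B) k : Set _)))
    (hflat : ∀ k, Module.Flat R₂ (R₂ ⊗[R₁] Gr h (R₁ ⊗[C] B) k)) :
    ∀ k, Module.Flat R₂ (R₂ ⊗[C] Q k) := by
  letI a13 := levelAlgebra C B R₁ T
  haveI t13B := level_tower_B C B R₁ T
  haveI t13R := level_tower_R C B R₁ T
  haveI p13 := level_pushout C B R₁ T
  letI a12 := levelAlgebra C B R₁ R₂
  haveI t12B := level_tower_B C B R₁ R₂
  haveI t12R := level_tower_R C B R₁ R₂
  haveI p12 := level_pushout C B R₁ R₂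
  letI a23 := levelAlgebra C B R₂ T
  haveI t23B := level_tower_B C B R₂ T
  haveI t23R := level_tower_R C B R₂ T
  haveI t123 := level_tower_levels C B R₁ R₂ T
  have hgr : ∀ k, Module.Flat R₂ (Gr h (R₂ ⊗[C] B) k) := fun k => by
    haveI := hflat k
    exact descend_flat_gr h (R₁ ⊗[C] B) (R₂ ⊗[C] B) (T ⊗[C] B) R₁ R₂ T hinj k (hspan k)
  intro k
  exact (flat_level_iff R₂ (Q k)).mp (flat_trunc_of_flat_gr h (R₂ ⊗[C] B) R₂ hgr k)

/-- Second step: from flatness in degrees `≤ g` at a Noetherian level and the bound `g` at the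
top level to a further finitely generated level where all truncations are flat. -/
theorem core_step2 (h : IsGrData Q π μ) [IsNoetherianRing C] [Algebra.FiniteType C B]
    [∀ k, Module.Finite B (Q k)] [∀ k, Module C (Q k)] [∀ k, IsScalarTower C B (Q k)]
    (R₁ T : Type u) [CommRing R₁] [CommRing T] [Algebra C R₁] [Algebra C T] [Algebra R₁ T]
    [IsScalarTower C R₁ T] [Algebra.FiniteType C R₁] (g : ℕ)
    (hflat₁ : ∀ k, k ≤ g → Module.Flat R₁ ((R₁ ⊗[C] B) ⊗[B] Q k))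
    (hg : ∀ k, g ≤ k → L h (T ⊗[C] B) (k + 1) = U h (T ⊗[C] B) k)
    (hT' : ∀ k, Module.Flat T ((T ⊗[C] B) ⊗[B] Q k)) :
    ∃ (R : Type u) (_ : CommRing R) (_ : Algebra C R), Algebra.FiniteType C R ∧
      Nonempty (R →ₐ[C] T) ∧ ∀ k, Module.Flat R (R ⊗[C] Q k) := by
  classical
  letI a13 := levelAlgebra C B R₁ T
  haveI t13B := level_tower_B C B R₁ T
  haveI t13R := level_tower_R C B R₁ T
  haveI p13 := level_pushout C B R₁ T
  have hspan : ∀ k, L h (T ⊗[C] B) k = Submodule.span (T ⊗[C] B)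
      (tr B (R₁ ⊗[C] B) (T ⊗[C] B) (G Q π k) '' (L h (R₁ ⊗[C] B) k : Set _)) := fun k =>
    L_eq_span_of_bound h (R₁ ⊗[C] B) (T ⊗[C] B) R₁ T g hflat₁ hg k
  have hflat₃ : ∀ k, Module.Flat T (T ⊗[R₁] Gr h (R₁ ⊗[C] B) k) := fun k => by
    haveI := hT' (k + 1)
    haveI := hT' k
    exact flat_baseChange_gr h (R₁ ⊗[C] B) (T ⊗[C] B) R₁ T k (hspan k)
  haveI : IsNoetherianRing R₁ := Algebra.FiniteType.isNoetherianRing C R₁
  haveI : IsNoetherianRing B := Algebra.FiniteType.isNoetherianRing C B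
  haveI : Module.Finite B (G Q π 0) :=
    (inferInstance : Module.Finite B (LinearMap.ker (π 0)))
  obtain ⟨S₂, hS₂fg, hS₂⟩ := exists_fg_flat_gr h (R₁ ⊗[C] B) R₁ T hflat₃
  have hflat := hS₂ S₂ le_rfl hS₂fg
  haveI : Algebra.FiniteType R₁ S₂ := S₂.fg_iff_finiteType.mp hS₂fg
  refine ⟨S₂, inferInstance, inferInstance,
    Algebra.FiniteType.trans (inferInstance : Algebra.FiniteType C R₁) inferInstance,
    ⟨S₂.val.restrictScalars C⟩, ?_⟩
  exact core_step3 h R₁ S₂ T Subtype.val_injective hspan hflat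

/-- **Core descent theorem**: flatness of all truncations over `T` descends to a finitely
generated `C`-subalgebra (in two steps). -/
theorem core (h : IsGrData Q π μ) [IsNoetherianRing C] [Algebra.FiniteType C B]
    [∀ k, Module.Finite B (Q k)] [∀ k, Module C (Q k)] [∀ k, IsScalarTower C B (Q k)]
    (hgood : ∀ (p : Ideal C) [p.IsPrime], ∃ f₀ : C, f₀ ∉ p ∧ ∀ g : C, ∀ k,
      Module.Flat (Localization.Away (Ideal.Quotient.mk p (f₀ * g)))
        ((Localization.Away (Ideal.Quotient.mk p (f₀ * g)) ⊗[C] B) ⊗[B] Q k))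
    (T : Type u) [CommRing T] [Algebra C T] (hT : ∀ k, Module.Flat T (T ⊗[C] Q k)) :
    ∃ (R : Type u) (_ : CommRing R) (_ : Algebra C R), Algebra.FiniteType C R ∧
      Nonempty (R →ₐ[C] T) ∧ ∀ k, Module.Flat R (R ⊗[C] Q k) := by
  classical
  have hT' : ∀ k, Module.Flat T ((T ⊗[C] B) ⊗[B] Q k) := fun k =>
    (flat_level_iff T (Q k)).mpr (hT k)
  obtain ⟨g, hg⟩ := exists_bound_of_flat h hgood T hT'
  obtain ⟨S₁, hS₁fg, hS₁⟩ := exists_fg_flat_upto (B := B) Q T hT g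
  have hflat₁ : ∀ k, k ≤ g → Module.Flat S₁ ((S₁ ⊗[C] B) ⊗[B] Q k) := fun k hk =>
    (flat_level_iff S₁ (Q k)).mpr (hS₁ S₁ le_rfl hS₁fg k hk)
  haveI : Algebra.FiniteType C S₁ := S₁.fg_iff_finiteType.mp hS₁fg
  exact core_step2 h S₁ T g hflat₁ hg hT'

end Groth.Agent.H48.GrLim
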