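import Mathlib
import Groth.Agent.H48.FlatLimitMod2
import Groth.Agent.H48.GrLimCore2
import Groth.Agent.H48.FlatLimitCol

/-!
# Models over finite type `ℤ`-algebras including generators of an ideal; base change of the
truncations `M ⧸ I M` (helper48)
-/

set_option autoImplicit false
set_option linter.style.haveILetI false

open TensorProduct

namespace Groth.Agent.H48.GrLimModel

universe u

open Groth.Agent.H48.FlatLimit

section Model

attribute [local instance] Algebra.TensorProduct.rightAlgebra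

theorem model_data_aux' (R S M : Type u) [CommRing R] [CommRing S] [Algebra R S]
    [AddCommGroup M] [Module S M] {a b : ℕ} (P : Algebra.Presentation R S (Fin a) (Fin b))
    (C : Type u) [CommRing C] [Algebra C R] [Algebra C S] [IsScalarTower C R S] [P.HasCoeffs C]
    [Algebra.FiniteType ℤ C] {n m : ℕ} (f : (Fin n → S) →ₗ[S] M)
    (g : (Fin m → S) →ₗ[S] (Fin n → S)) (hf : Function.Surjective f) (hfg : Function.Exact g f)
    (q : Fin n → Fin m → MvPolynomial (Fin a) C)
    (hq : ∀ i j, MvPolynomial.aeval P.val (q i j) = LinearMap.toMatrix' g i j)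
    {r : ℕ} (t : Fin r → S) (qt : Fin r → MvPolynomial (Fin a) C)
    (hqt : ∀ i, MvPolynomial.aeval P.val (qt i) = t i) :
    ∃ (C : Type u) (_ : CommRing C) (_ : Algebra C R) (_ : Algebra.FiniteType ℤ C)
      (S₀ : Type u) (_ : CommRing S₀) (_ : Algebra C S₀) (_ : Algebra S₀ S) (_ : Algebra C S)
      (_ : IsScalarTower C R S) (_ : IsScalarTower C S₀ S) (_ : Algebra.FiniteType C S₀)
      (_ : Algebra.IsPushout C R S₀ S) (M₀ : Type u) (_ : AddCommGroup M₀) (_ : Module S₀ M₀)
      (_ : Module C M₀) (_ : IsScalarTower C S₀ M₀) (_ : Module S₀ M) (_ : IsScalarTower S₀ S M)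
      (_ : Module.Finite S₀ M₀) (h : M₀ →ₗ[S₀] M) (t₀ : Fin r → S₀),
      IsBaseChange S h ∧ ∀ i, algebraMap S₀ S (t₀ i) = t i := by
  classical
  let A₀ : Matrix (Fin n) (Fin m) (P.ModelOfHasCoeffs C) := fun i j => Ideal.Quotient.mk _ (q i j)
  let ψ : P.ModelOfHasCoeffs C →ₐ[C] S :=
    ((P.tensorModelOfHasCoeffsEquiv C).toAlgHom.restrictScalars C).comp
      Algebra.TensorProduct.includeRight
  letI algS₀S : Algebra (P.ModelOfHasCoeffs C) S := ψ.toRingHom.toAlgebra
  have hψ : ∀ x, algebraMap (P.ModelOfHasCoeffs C) S x = ψ x := fun _ => rfl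
  have e1 : ∀ x : C, algebraMap C S x =
      algebraMap (P.ModelOfHasCoeffs C) S (algebraMap C (P.ModelOfHasCoeffs C) x) := by
    intro x
    rw [hψ, AlgHom.commutes]
  haveI t1 : IsScalarTower C (P.ModelOfHasCoeffs C) S := IsScalarTower.of_algebraMap_eq e1
  haveI po : Algebra.IsPushout C R (P.ModelOfHasCoeffs C) S :=
    Algebra.IsPushout.of_equiv (h := (TensorProduct.isPushout :
      Algebra.IsPushout C R (P.ModelOfHasCoeffs C) (R ⊗[C] P.ModelOfHasCoeffs C)))
      (P.tensorModelOfHasCoeffsEquiv C) (RingHom.ext fun x => rfl)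
  have hA : A₀.map (algebraMap (P.ModelOfHasCoeffs C) S) = LinearMap.toMatrix' g := by
    ext i j
    rw [Matrix.map_apply, hψ, ← hq i j]
    simp only [ψ, A₀, AlgHom.comp_apply, Algebra.TensorProduct.includeRight_apply]
    change (P.tensorModelOfHasCoeffsEquiv C) (1 ⊗ₜ (Ideal.Quotient.mk _ (q i j))) = _
    rw [Algebra.Presentation.tensorModelOfHasCoeffsEquiv_tmul, map_one, one_mul]
  have ht : ∀ i, algebraMap (P.ModelOfHasCoeffs C) S (Ideal.Quotient.mk _ (qt i)) = t i := by
    intro i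
    rw [hψ, ← hqt i]
    simp only [ψ, AlgHom.comp_apply, Algebra.TensorProduct.includeRight_apply]
    change (P.tensorModelOfHasCoeffsEquiv C) (1 ⊗ₜ (Ideal.Quotient.mk _ (qt i))) = _
    rw [Algebra.Presentation.tensorModelOfHasCoeffsEquiv_tmul, map_one, one_mul]
  letI modS₀M : Module (P.ModelOfHasCoeffs C) M :=
    Module.compHom M (algebraMap (P.ModelOfHasCoeffs C) S)
  haveI t2 : IsScalarTower (P.ModelOfHasCoeffs C) S M := ⟨fun a b m => by
    rw [Algebra.smul_def, mul_smul]; rfl⟩
  exact ⟨C, inferInstance, inferInstance, inferInstance, P.ModelOfHasCoeffs C, inferInstance,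
    inferInstance, algS₀S, inferInstance, inferInstance, t1, inferInstance, po, ModelMod A₀,
    inferInstance, inferInstance, inferInstance, inferInstance, modS₀M, t2, inferInstance,
    modelMap f g hfg A₀ hA, fun i => Ideal.Quotient.mk _ (qt i),
    isBaseChange_modelMap f g hfg A₀ hA hf, ht⟩

/-- A model of `(S, M, t)` over a finite type `ℤ`-algebra. -/
theorem exists_model_data' (R S M : Type u) [CommRing R] [CommRing S] [Algebra R S]
    [Algebra.FinitePresentation R S] [AddCommGroup M] [Module S M]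
    [Module.FinitePresentation S M] {r : ℕ} (t : Fin r → S) :
    ∃ (C : Type u) (_ : CommRing C) (_ : Algebra C R) (_ : Algebra.FiniteType ℤ C)
      (S₀ : Type u) (_ : CommRing S₀) (_ : Algebra C S₀) (_ : Algebra S₀ S) (_ : Algebra C S)
      (_ : IsScalarTower C R S) (_ : IsScalarTower C S₀ S) (_ : Algebra.FiniteType C S₀)
      (_ : Algebra.IsPushout C R S₀ S) (M₀ : Type u) (_ : AddCommGroup M₀) (_ : Module S₀ M₀)
      (_ : Module C M₀) (_ : IsScalarTower C S₀ M₀) (_ : Module S₀ M) (_ : IsScalarTower S₀ S M)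
      (_ : Module.Finite S₀ M₀) (h : M₀ →ₗ[S₀] M) (t₀ : Fin r → S₀),
      IsBaseChange S h ∧ ∀ i, algebraMap S₀ S (t₀ i) = t i := by
  classical
  let P := Algebra.Presentation.ofFinitePresentation R S
  obtain ⟨n, m, f, g, hf, hfg⟩ := Module.FinitePresentation.exists_fin' S M
  have hsurj : Function.Surjective (algebraMap P.Ring S) := P.algebraMap_surjective
  choose p hp using fun i j => hsurj (LinearMap.toMatrix' g i j)
  choose pt hpt using fun i => hsurj (t i)
  let s : Set R := (⋃ i, ⋃ j, ((p i j).coeffs : Set R)) ∪ ⋃ i, ((pt i).coeffs : Set R)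
  have hs : s.Finite := Set.Finite.union
    (Set.finite_iUnion fun i => Set.finite_iUnion fun j => Finset.finite_toSet _)
    (Set.finite_iUnion fun i => Finset.finite_toSet _)
  haveI : Algebra.FiniteType P.Core (Algebra.adjoin P.Core s) :=
    Algebra.FiniteType.adjoin_of_finite hs
  haveI ftC : Algebra.FiniteType ℤ (Algebra.adjoin P.Core s) :=
    Algebra.FiniteType.trans (S := P.Core) inferInstance inferInstance
  have hq : ∀ i j, p i j ∈ Set.range
      (MvPolynomial.map (algebraMap (Algebra.adjoin P.Core s) R)) := by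
    intro i j
    rw [MvPolynomial.mem_range_map_iff_coeffs_subset]
    intro x hx
    have hxs : x ∈ s := Or.inl (Set.mem_iUnion.mpr ⟨i, Set.mem_iUnion.mpr ⟨j, hx⟩⟩)
    exact ⟨⟨x, Algebra.subset_adjoin hxs⟩, rfl⟩
  have hqt : ∀ i, pt i ∈ Set.range
      (MvPolynomial.map (algebraMap (Algebra.adjoin P.Core s) R)) := by
    intro i
    rw [MvPolynomial.mem_range_map_iff_coeffs_subset]
    intro x hx
    have hxs : x ∈ s := Or.inr (Set.mem_iUnion.mpr ⟨i, hx⟩)
    exact ⟨⟨x, Algebra.subset_adjoin hxs⟩, rfl⟩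
  choose q hq using hq
  choose qt hqt using hqt
  refine model_data_aux' R S M P (Algebra.adjoin P.Core s) f g hf hfg q ?_ t qt ?_
  · intro i j
    rw [← hp i j, ← hq i j, Algebra.Generators.algebraMap_apply,
      MvPolynomial.aeval_map_algebraMap]
  · intro i
    rw [← hpt i, ← hqt i, Algebra.Generators.algebraMap_apply,
      MvPolynomial.aeval_map_algebraMap]

end Model

section Quot

variable {B' B₀ : Type u} [CommRing B'] [CommRing B₀] [Algebra B' B₀]
  {M' M₀ : Type u} [AddCommGroup M'] [Module B' M'] [AddCommGroup M₀] [Module B₀ M₀]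
  [Module B' M₀] [IsScalarTower B' B₀ M₀]
  (h : M' →ₗ[B'] M₀) (hbc : IsBaseChange B₀ h) (I' : Ideal B')

include hbc in
lemma map_smul_top_eq_span :
    ((I'.map (algebraMap B' B₀)) • ⊤ : Submodule B₀ M₀) =
      Submodule.span B₀ (h '' ((I' • ⊤ : Submodule B' M') : Set M')) := by
  set W : Submodule B₀ M₀ := Submodule.span B₀ (h '' ((I' • ⊤ : Submodule B' M') : Set M'))
    with hW
  apply le_antisymm
  · rw [Submodule.smul_le]
    have key : ∀ r ∈ Ideal.span ((algebraMap B' B₀) '' (I' : Set B')), ∀ n : M₀, r • n ∈ W := by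
      intro r hr
      induction hr using Submodule.span_induction with
      | mem r hr =>
        obtain ⟨r', hr', rfl⟩ := hr
        intro n
        refine hbc.inductionOn n (fun n => algebraMap B' B₀ r' • n ∈ W) ?_ ?_ ?_ ?_
        · rw [smul_zero]; exact W.zero_mem
        · intro m
          rw [algebraMap_smul, ← map_smul]
          exact Submodule.subset_span ⟨r' • m, Submodule.smul_mem_smul hr' trivial, rfl⟩
        · intro s n hn
          rw [smul_comm]
          exact W.smul_mem s hn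
        · intro n₁ n₂ h₁ h₂
          rw [smul_add]; exact W.add_mem h₁ h₂
      | zero => intro n; rw [zero_smul]; exact W.zero_mem
      | add c d _ _ hc hd => intro n; rw [add_smul]; exact W.add_mem (hc n) (hd n)
      | smul c d _ hd => intro n; rw [smul_eq_mul, mul_smul]; exact W.smul_mem c (hd n)
    intro r hr n _
    exact key r hr n
  · rw [hW, Submodule.span_le]
    rintro _ ⟨x, hx, rfl⟩
    refine Submodule.smul_induction_on hx (fun r hr m _ => ?_) (fun x y hx hy => ?_)
    · rw [map_smul, ← algebraMap_smul B₀ r (h m)]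
      exact Submodule.smul_mem_smul (Ideal.mem_map_of_mem _ hr) trivial
    · rw [map_add]; exact Submodule.add_mem _ hx hy

/-- The comparison map of the truncations. -/
noncomputable def quotMap :
    (M' ⧸ (I' • ⊤ : Submodule B' M')) →ₗ[B']
      (M₀ ⧸ ((I'.map (algebraMap B' B₀)) • ⊤ : Submodule B₀ M₀)) :=
  Submodule.liftQ _
    ((((I'.map (algebraMap B' B₀)) • ⊤ : Submodule B₀ M₀).mkQ.restrictScalars B') ∘ₗ h) (by
    intro x hx
    rw [LinearMap.mem_ker, LinearMap.comp_apply]
    show Submodule.Quotient.mk (h x) = 0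
    rw [Submodule.Quotient.mk_eq_zero]
    refine Submodule.smul_induction_on hx (fun r hr m _ => ?_) (fun x y hx hy => ?_)
    · rw [map_smul, ← algebraMap_smul B₀ r (h m)]
      exact Submodule.smul_mem_smul (Ideal.mem_map_of_mem _ hr) trivial
    · rw [map_add]; exact Submodule.add_mem _ hx hy)

lemma quotMap_mk (m : M') :
    quotMap (B₀ := B₀) h I' (Submodule.Quotient.mk m) = Submodule.Quotient.mk (h m) := rfl

include hbc in
theorem isBaseChange_quotMap : IsBaseChange B₀ (quotMap (B₀ := B₀) h I') := by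
  have h1 := @Groth.Agent.H48.GrLim.isBaseChange_of_ker_eq_span B' B₀ _ _ _ M' M₀
    (M' ⧸ (I' • ⊤ : Submodule B' M'))
    (M₀ ⧸ ((I'.map (algebraMap B' B₀)) • ⊤ : Submodule B₀ M₀)) _ _ _ _ _ _ _ _ _ _ _ _ h hbc
  have h2 := h1 (I' • ⊤ : Submodule B' M').mkQ
    ((I'.map (algebraMap B' B₀)) • ⊤ : Submodule B₀ M₀).mkQ
    (Submodule.mkQ_surjective _) (Submodule.mkQ_surjective _) (quotMap (B₀ := B₀) h I')
    (fun x => rfl)
  apply h2
  rw [Submodule.ker_mkQ, Submodule.ker_mkQ]
  exact map_smul_top_eq_span h hbc I'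

end Quot

section Trunc

variable {C A₀ B' B₀ : Type u} [CommRing C] [CommRing A₀] [CommRing B'] [CommRing B₀]
  [Algebra C A₀] [Algebra C B'] [Algebra A₀ B₀] [Algebra B' B₀] [Algebra C B₀]
  [IsScalarTower C B' B₀] [IsScalarTower C A₀ B₀] [Algebra.IsPushout C A₀ B' B₀]
  {M' M₀ : Type u} [AddCommGroup M'] [Module B' M'] [Module C M'] [IsScalarTower C B' M']
  [AddCommGroup M₀] [Module B₀ M₀] [Module B' M₀] [IsScalarTower B' B₀ M₀] [Module A₀ M₀]
  [IsScalarTower A₀ B₀ M₀]
  (h : M' →ₗ[B'] M₀) (hbc : IsBaseChange B₀ h)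

include hbc in
theorem exists_equiv_trunc (I' : Ideal B') (I₀ : Ideal B₀)
    (hI : I'.map (algebraMap B' B₀) = I₀) :
    Nonempty ((M₀ ⧸ (I₀ • ⊤ : Submodule B₀ M₀)) ≃ₗ[A₀]
      A₀ ⊗[C] (M' ⧸ (I' • ⊤ : Submodule B' M'))) := by
  subst hI
  have e := Groth.Agent.H48.GrLim.equivOfPushout C A₀ (B₁ := B') (B₂ := B₀)
    (Y₁ := M' ⧸ (I' • ⊤ : Submodule B' M'))
    (Y₂ := M₀ ⧸ ((I'.map (algebraMap B' B₀)) • ⊤ : Submodule B₀ M₀))
    (quotMap (B₀ := B₀) h I') (isBaseChange_quotMap h hbc I')
  exact ⟨e.symm⟩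

include hbc in
theorem flat_trunc_iff (T : Type u) [CommRing T] [Algebra A₀ T] [Algebra C T]
    [IsScalarTower C A₀ T] (I' : Ideal B') (I₀ : Ideal B₀)
    (hI : I'.map (algebraMap B' B₀) = I₀) :
    Module.Flat T (T ⊗[A₀] (M₀ ⧸ (I₀ • ⊤ : Submodule B₀ M₀))) ↔
      Module.Flat T (T ⊗[C] (M' ⧸ (I' • ⊤ : Submodule B' M'))) := by
  obtain ⟨e⟩ := exists_equiv_trunc (C := C) (A₀ := A₀) h hbc I' I₀ hI
  exact Groth.Agent.H48.FlatLimit.flat_tensor_iff_of_model e

end Trunc

end Groth.Agent.H48.GrLimModel
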