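import Mathlib
import Groth.Agent.H48.GrLimCore4
import Groth.Agent.H48.GrLimConc
import Groth.Agent.H48.GrLimModel

/-!
# Flatness of all truncations `M ⧸ J^k M`: reduction to a Noetherian model and descent (helper48)
-/

set_option autoImplicit false
set_option linter.style.haveILetI false

open TensorProduct

namespace Groth.Agent.H48.GrLimMain

universe u

open Groth.Agent.H48.GrLim Groth.Agent.H48.GrLimConc Groth.Agent.H48.GrLimModel

section Good

attribute [local instance] Algebra.TensorProduct.rightAlgebra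

/-- The hypothesis `hgood` of the core theorem for the concrete data. -/
theorem hgood_conc {C B : Type u} [CommRing C] [CommRing B] [Algebra C B] {r : ℕ} (a : Fin r → B)
    (M : Type u) [AddCommGroup M] [Module B M] [Module C M] [IsScalarTower C B M]
    [IsNoetherianRing C] [Algebra.FiniteType C B] [Module.Finite B M]
    (p : Ideal C) [p.IsPrime] :
    ∃ f₀ : C, f₀ ∉ p ∧ ∀ g : C, ∀ k,
      Module.Flat (Localization.Away (Ideal.Quotient.mk p (f₀ * g)))
        ((Localization.Away (Ideal.Quotient.mk p (f₀ * g)) ⊗[C] B) ⊗[B] Q a M k) := by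
  obtain ⟨f₀, hf₀, h⟩ := exists_flat_trunc a M C p
  exact ⟨f₀, hf₀, fun g k => (flat_level_iff _ (Q a M k)).mpr (h g k)⟩

end Good

/-- **Main reduction**: a Noetherian model of the truncations and the descent of their flatness
to a finite type algebra. -/
theorem exists_model_trunc {A₀ B₀ : Type u} [CommRing A₀] [CommRing B₀] [Algebra A₀ B₀]
    [Algebra.FinitePresentation A₀ B₀] {r : ℕ} (a : Fin r → B₀) (M₀ : Type u) [AddCommGroup M₀]
    [Module B₀ M₀] [Module A₀ M₀] [IsScalarTower A₀ B₀ M₀] [Module.FinitePresentation B₀ M₀] :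
    ∃ (C : Type u) (_ : CommRing C) (_ : Algebra C A₀) (_ : IsNoetherianRing C)
      (Q' : ℕ → Type u) (_ : ∀ k, AddCommGroup (Q' k)) (_ : ∀ k, Module C (Q' k)),
      (∀ (T : Type u) [CommRing T] [Algebra A₀ T] [Algebra C T] [IsScalarTower C A₀ T] (k : ℕ),
        Module.Flat T ((T ⊗[A₀] M₀) ⧸ V a M₀ A₀ T k) ↔ Module.Flat T (T ⊗[C] Q' k)) ∧
      (∀ (T : Type u) [CommRing T] [Algebra C T], (∀ k, Module.Flat T (T ⊗[C] Q' k)) →
        ∃ (R : Type u) (_ : CommRing R) (_ : Algebra C R), Algebra.FiniteType C R ∧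
          Nonempty (R →ₐ[C] T) ∧ ∀ k, Module.Flat R (R ⊗[C] Q' k)) := by
  obtain ⟨C, _, _, _, B', _, _, _, _, _, _, _, _, M', _, _, _, _, _, _, _, h, a', hbc, ha'⟩ :=
    exists_model_data' A₀ B₀ M₀ a
  haveI : IsNoetherianRing C := Algebra.FiniteType.isNoetherianRing ℤ C
  have hJ : (J a').map (algebraMap B' B₀) = J a := by
    rw [J, J, Ideal.map_span, ← Set.range_comp]
    congr 2
    funext i
    exact ha' i
  refine ⟨C, inferInstance, inferInstance, inferInstance, Q a' M', inferInstance, inferInstance,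
    ?_, ?_⟩
  · intro T _ _ _ _ k
    rw [flat_quot_V_iff a M₀ A₀ T k]
    exact flat_trunc_iff h hbc T ((J a') ^ k) ((J a) ^ k) (by rw [Ideal.map_pow, hJ])
  · intro T _ _ hT
    exact core (isGrData a' M') (fun p _ => hgood_conc a' M' p) T hT

end Groth.Agent.H48.GrLimMain
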