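import Mathlib
import Groth.Agent.H48.GrLimMain
import Groth.Agent.H48.GrFlatKrull
import Groth.Agent.H57.FlatAtBC

/-!
# Flatness along `V(J)` from flatness of the truncations, finitely presented case (helper48)
-/

set_option autoImplicit false
set_option linter.style.haveILetI false

open TensorProduct

namespace Groth.Agent.H48.GrLimLoc

universe u

open Groth.Agent.H48.GrLim Groth.Agent.H48.GrLimConc Groth.Agent.H48.GrLimModel

attribute [local instance] Algebra.TensorProduct.rightAlgebra

section Level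

variable {C B' : Type u} [CommRing C] [CommRing B'] [Algebra C B'] {r : ℕ} (a' : Fin r → B')
  (M' : Type u) [AddCommGroup M'] [Module B' M'] [Module C M'] [IsScalarTower C B' M']
  (R : Type u) [CommRing R] [Algebra C R]

/-- Flatness along `V(J)` at a Noetherian level. -/
theorem flat_localized_level [IsNoetherianRing R] [Algebra.FiniteType C B'] [Module.Finite B' M']
    (hR : ∀ k, Module.Flat R (R ⊗[C] Q a' M' k))
    (q : Ideal (R ⊗[C] B')) [q.IsPrime]
    (hq : (J a').map (algebraMap B' (R ⊗[C] B')) ≤ q) :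
    Module.Flat R (LocalizedModule q.primeCompl ((R ⊗[C] B') ⊗[B'] M')) := by
  haveI : IsNoetherianRing (R ⊗[C] B') := Algebra.FiniteType.isNoetherianRing R (R ⊗[C] B')
  refine Groth.Agent.H48.GrFlatKrull.flat_localizedModule_of_forall_flat_quot (A := R)
    (B := R ⊗[C] B') ((J a').map (algebraMap B' (R ⊗[C] B'))) ((R ⊗[C] B') ⊗[B'] M')
    (fun k => ?_) q hq
  obtain ⟨e⟩ := exists_equiv_trunc (C := C) (A₀ := R) (B' := B') (B₀ := R ⊗[C] B')
    (M' := M') (M₀ := (R ⊗[C] B') ⊗[B'] M')
    (TensorProduct.mk B' (R ⊗[C] B') M' 1) (TensorProduct.isBaseChange B' M' (R ⊗[C] B'))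
    ((J a') ^ k) (((J a').map (algebraMap B' (R ⊗[C] B'))) ^ k) (Ideal.map_pow _ _ _)
  haveI := hR k
  exact Module.Flat.of_linearEquiv e

end Level

section BaseChange

variable {C R A B' B : Type u} [CommRing C] [CommRing R] [CommRing A] [CommRing B'] [CommRing B]
  [Algebra C R] [Algebra C A] [Algebra R A] [IsScalarTower C R A] [Algebra C B'] [Algebra A B]
  [Algebra B' B] [Algebra C B] [IsScalarTower C A B] [IsScalarTower C B' B]
  [Algebra.IsPushout C A B' B]
  {M' M : Type u} [AddCommGroup M'] [Module B' M'] [AddCommGroup M] [Module B M] [Module A M]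
  [IsScalarTower A B M] [Module B' M] [IsScalarTower B' B M]

/-- Transfer of flatness at primes from a level `R` of the model to the original algebra. -/
theorem flat_localized_of_level (h : M' →ₗ[B'] M) (hbc : IsBaseChange B h) (I' : Ideal B')
    (hloc : ∀ (qR : Ideal (R ⊗[C] B')) [qR.IsPrime],
      I'.map (algebraMap B' (R ⊗[C] B')) ≤ qR →
      Module.Flat R (LocalizedModule qR.primeCompl ((R ⊗[C] B') ⊗[B'] M')))
    (q : Ideal B) [q.IsPrime] (hq : I'.map (algebraMap B' B) ≤ q) :
    Module.Flat A (LocalizedModule q.primeCompl M) := by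
  letI algRB : Algebra R B := ((algebraMap A B).comp (algebraMap R A)).toAlgebra
  haveI tRAB : IsScalarTower R A B := IsScalarTower.of_algebraMap_eq (fun _ => rfl)
  haveI tCRB : IsScalarTower C R B := IsScalarTower.of_algebraMap_eq (fun c => by
    show algebraMap C B c = algebraMap A B (algebraMap R A (algebraMap C R c))
    rw [← IsScalarTower.algebraMap_apply C R A, ← IsScalarTower.algebraMap_apply C A B])
  let φ : (R ⊗[C] B') →ₐ[C] B :=
    Algebra.TensorProduct.lift (IsScalarTower.toAlgHom C R B)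
      (IsScalarTower.toAlgHom C B' B) (fun _ _ => Commute.all _ _)
  letI algS₁S : Algebra (R ⊗[C] B') B := φ.toRingHom.toAlgebra
  have hφ : ∀ x, algebraMap (R ⊗[C] B') B x = φ x := fun _ => rfl
  have e1 : ∀ x : R, algebraMap R B x =
      algebraMap (R ⊗[C] B') B (algebraMap R (R ⊗[C] B') x) := by
    intro x
    rw [hφ, Algebra.TensorProduct.algebraMap_apply]
    simp [φ]
  haveI t1 : IsScalarTower R (R ⊗[C] B') B := IsScalarTower.of_algebraMap_eq e1
  have e2 : ∀ x : B', algebraMap B' B x =
      algebraMap (R ⊗[C] B') B (algebraMap B' (R ⊗[C] B') x) := by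
    intro x
    rw [hφ]
    simp [φ, Algebra.TensorProduct.right_algebraMap_apply]
  haveI t2 : IsScalarTower B' (R ⊗[C] B') B := IsScalarTower.of_algebraMap_eq e2
  have e3 : ∀ x : C, algebraMap C B x =
      algebraMap (R ⊗[C] B') B (algebraMap C (R ⊗[C] B') x) := by
    intro x
    rw [hφ, AlgHom.commutes]
  haveI t3 : IsScalarTower C (R ⊗[C] B') B := IsScalarTower.of_algebraMap_eq e3
  haveI po1 : Algebra.IsPushout R A (R ⊗[C] B') B :=
    (Algebra.IsPushout.comp_iff C R B' (S' := R ⊗[C] B') (T := A) (T' := B)).mp inferInstance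
  haveI po2 : Algebra.IsPushout R (R ⊗[C] B') A B := Algebra.IsPushout.symm po1
  letI modS₁M : Module (R ⊗[C] B') M := Module.compHom M (algebraMap (R ⊗[C] B') B)
  haveI t4 : IsScalarTower (R ⊗[C] B') B M := ⟨fun a b m => by
    rw [Algebra.smul_def, mul_smul]; rfl⟩
  haveI t5 : IsScalarTower B' (R ⊗[C] B') M := ⟨fun a b m => by
    change algebraMap _ B (a • b) • m = a • (algebraMap _ B b • m)
    rw [Algebra.smul_def, map_mul, mul_smul, ← IsScalarTower.algebraMap_apply,
      algebraMap_smul]⟩
  letI modRM : Module R M := Module.compHom M (algebraMap R A)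
  haveI t6 : IsScalarTower R A M := ⟨fun a b m => by
    rw [Algebra.smul_def, mul_smul]; rfl⟩
  haveI t7 : IsScalarTower R (R ⊗[C] B') M := ⟨fun a b m => by
    change algebraMap _ B (a • b) • m = algebraMap R A a • (algebraMap _ B b • m)
    rw [Algebra.smul_def, map_mul, mul_smul, ← IsScalarTower.algebraMap_apply,
      ← algebraMap_smul B (algebraMap R A a), ← IsScalarTower.algebraMap_apply]⟩
  let f₁ : (R ⊗[C] B') ⊗[B'] M' →ₗ[R ⊗[C] B'] M :=
    (TensorProduct.isBaseChange B' M' (R ⊗[C] B')).lift h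
  have hf₁ : (f₁.restrictScalars B') ∘ₗ (TensorProduct.mk B' (R ⊗[C] B') M' 1) = h :=
    (TensorProduct.isBaseChange B' M' (R ⊗[C] B')).lift_comp h
  have bc : IsBaseChange B f₁ := by
    refine IsBaseChange.of_comp (TensorProduct.isBaseChange B' M' (R ⊗[C] B')) ?_
    rw [hf₁]
    exact hbc
  have hqR : I'.map (algebraMap B' (R ⊗[C] B')) ≤ q.comap (algebraMap (R ⊗[C] B') B) := by
    rw [Ideal.map_le_iff_le_comap, Ideal.comap_comap, ← IsScalarTower.algebraMap_eq,
      ← Ideal.map_le_iff_le_comap]
    exact hq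
  haveI := hloc (q.comap (algebraMap (R ⊗[C] B') B)) hqR
  exact Groth.Agent.H57.flat_localizedModule_baseChange (R := R) (S := R ⊗[C] B') (R' := A)
    (S' := B) f₁ bc q

end BaseChange

/-- **Flatness along `V(J)` from flatness of the truncations**, finitely presented case. -/
theorem flat_localized_of_flat_trunc {A B : Type u} [CommRing A] [CommRing B] [Algebra A B]
    [Algebra.FinitePresentation A B] {r : ℕ} (a : Fin r → B) (M : Type u) [AddCommGroup M]
    [Module B M] [Module A M] [IsScalarTower A B M] [Module.FinitePresentation B M]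
    (hflat : ∀ k : ℕ, Module.Flat A (M ⧸ ((J a) ^ k • ⊤ : Submodule B M)))
    (q : Ideal B) [q.IsPrime] (hq : J a ≤ q) :
    Module.Flat A (LocalizedModule q.primeCompl M) := by
  obtain ⟨C, _, _, _, B', _, _, _, _, _, _, _, _, M', _, _, _, _, _, _, _, h, a', hbc, ha'⟩ :=
    exists_model_data' A B M a
  haveI : IsNoetherianRing C := Algebra.FiniteType.isNoetherianRing ℤ C
  have hJ : (J a').map (algebraMap B' B) = J a := by
    rw [J, J, Ideal.map_span, ← Set.range_comp]
    congr 2
    funext i
    exact ha' i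
  have hA : ∀ k, Module.Flat A (A ⊗[C] Q a' M' k) := by
    intro k
    haveI := hflat k
    have h1 : Module.Flat A (A ⊗[A] (M ⧸ ((J a) ^ k • ⊤ : Submodule B M))) :=
      Module.Flat.of_linearEquiv (TensorProduct.lid A _)
    exact (flat_trunc_iff (C := C) (A₀ := A) h hbc A ((J a') ^ k) ((J a) ^ k)
      (by rw [Ideal.map_pow, hJ])).mp h1
  obtain ⟨R, _, _, hft, ⟨φ⟩, hR⟩ := core (isGrData a' M')
    (fun p _ => Groth.Agent.H48.GrLimMain.hgood_conc a' M' p) A hA
  letI algRA : Algebra R A := φ.toRingHom.toAlgebra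
  haveI : IsScalarTower C R A := IsScalarTower.of_algebraMap_eq (fun c => (φ.commutes c).symm)
  haveI : IsNoetherianRing R := Algebra.FiniteType.isNoetherianRing C R
  refine flat_localized_of_level (C := C) (R := R) h hbc (J a')
    (fun qR _ hqR => flat_localized_level a' M' R hR qR hqR) q ?_
  rw [hJ]
  exact hq

end Groth.Agent.H48.GrLimLoc
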