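import Mathlib
import Groth.Agent.H48.GrLimTot
import Groth.Agent.H57.FlatPt6

/-!
# Openness of the simultaneous flat locus of a graded family (helper48)
-/

set_option autoImplicit false
set_option linter.style.haveILetI false

open TensorProduct DirectSum

namespace Groth.Agent.H48.GrNF

universe u

/-- Transport of flatness of a localization along a linear equivalence. -/
lemma flat_localizedModule_congr {R₀ R : Type u} [CommRing R₀] [CommRing R] [Algebra R₀ R]
    (S : Submonoid R)
    {X X' : Type u} [AddCommGroup X] [Module R X] [AddCommGroup X'] [Module R X']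
    (e : X ≃ₗ[R] X') [Module R₀ X] [IsScalarTower R₀ R X] [Module R₀ X'] [IsScalarTower R₀ R X'] :
    Module.Flat R₀ (LocalizedModule S X) ↔ Module.Flat R₀ (LocalizedModule S X') := by
  have e' : LocalizedModule S X ≃ₗ[R] LocalizedModule S X' :=
    IsLocalizedModule.iso S ((LocalizedModule.mkLinearMap S X') ∘ₗ e.toLinearMap)
  have e'' : LocalizedModule S X ≃ₗ[R₀] LocalizedModule S X' := e'.restrictScalars R₀
  exact ⟨fun _ => Module.Flat.of_linearEquiv e''.symm, fun _ => Module.Flat.of_linearEquiv e''⟩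

/-- Localization and flatness of a direct sum. -/
lemma flat_localizedModule_directSum_iff {R : Type u} [CommRing R] (S : Submonoid R)
    (X : ℕ → Type u) [∀ k, AddCommGroup (X k)] [∀ k, Module R (X k)] :
    Module.Flat R (LocalizedModule S (⨁ k, X k)) ↔
      ∀ k, Module.Flat R (LocalizedModule S (X k)) := by
  classical
  have e1 : LocalizedModule S (⨁ k, X k) ≃ₗ[R] ⨁ k, Localization S ⊗[R] X k :=
    ((LocalizedModule.equivTensorProduct S (⨁ k, X k)).restrictScalars R) ≪≫ₗ
      TensorProduct.directSumRight R R (Localization S) X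
  have e2 : ∀ k, LocalizedModule S (X k) ≃ₗ[R] Localization S ⊗[R] X k := fun k =>
    (LocalizedModule.equivTensorProduct S (X k)).restrictScalars R
  constructor
  · intro h k
    have h1 : Module.Flat R (⨁ k, Localization S ⊗[R] X k) := Module.Flat.of_linearEquiv e1.symm
    have h2 := Module.Flat.directSum_iff.mp h1 k
    exact Module.Flat.of_linearEquiv (e2 k)
  · intro h
    have h2 : ∀ k, Module.Flat R (Localization S ⊗[R] X k) := fun k =>
      Module.Flat.of_linearEquiv (e2 k).symm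
    have h1 : Module.Flat R (⨁ k, Localization S ⊗[R] X k) := Module.Flat.directSum_iff.mpr h2
    exact Module.Flat.of_linearEquiv e1

section Open

attribute [local instance] Algebra.TensorProduct.rightAlgebra

/-- **Openness of the simultaneous flat locus** of the base change of a graded family generated
in degree zero over a Noetherian ring. -/
theorem isOpen_forall_flat_localized {R₀ : Type u} [CommRing R₀] [IsNoetherianRing R₀] {r : ℕ}
    (Y : ℕ → Type u) [∀ k, AddCommGroup (Y k)] [∀ k, Module R₀ (Y k)]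
    (σ : Fin r → ∀ k, Y k →ₗ[R₀] Y (k + 1))
    (hcomm : ∀ i j k, (σ i (k + 1)) ∘ₗ (σ j k) = (σ j (k + 1)) ∘ₗ (σ i k))
    (hgen : ∀ k, (⨆ i, LinearMap.range (σ i k)) = ⊤) [Module.Finite R₀ (Y 0)]
    (B₂ : Type u) [CommRing B₂] [Algebra R₀ B₂] :
    IsOpen {q : PrimeSpectrum B₂ | ∀ k,
      Module.Flat B₂ (LocalizedModule q.asIdeal.primeCompl (B₂ ⊗[R₀] Y k))} := by
  classical
  letI modP : Module (MvPolynomial (Fin r) R₀) (⨁ k, Y k) := GrLimTot.polyModule Y σ hcomm
  haveI : Module.Finite (MvPolynomial (Fin r) R₀) (⨁ k, Y k) :=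
    GrLimTot.finite_poly Y σ hcomm hgen
  haveI tB : IsScalarTower R₀ (MvPolynomial (Fin r) R₀) (⨁ k, Y k) :=
    GrLimTot.isScalarTower_poly Y σ hcomm
  haveI : Module.FinitePresentation (MvPolynomial (Fin r) R₀) (⨁ k, Y k) :=
    Module.finitePresentation_of_finite _ _
  have hopen := Groth.Agent.H57.FlatPt.isOpen_flat_module_locus_tower (A := B₂) (B := B₂)
    (C := B₂ ⊗[R₀] MvPolynomial (Fin r) R₀)
    ((B₂ ⊗[R₀] MvPolynomial (Fin r) R₀) ⊗[MvPolynomial (Fin r) R₀] (⨁ k, Y k))
  have e : ((B₂ ⊗[R₀] MvPolynomial (Fin r) R₀) ⊗[MvPolynomial (Fin r) R₀] (⨁ k, Y k)) ≃ₗ[B₂]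
      ⨁ k, B₂ ⊗[R₀] Y k :=
    (Algebra.IsPushout.cancelBaseChange R₀ B₂ (MvPolynomial (Fin r) R₀)
      (B₂ ⊗[R₀] MvPolynomial (Fin r) R₀) (⨁ k, Y k)) ≪≫ₗ
      TensorProduct.directSumRight R₀ B₂ B₂ Y
  convert hopen using 2
  ext q
  have h1 := flat_localizedModule_congr (R₀ := B₂) (R := B₂) q.asIdeal.primeCompl
    (X := (B₂ ⊗[R₀] MvPolynomial (Fin r) R₀) ⊗[MvPolynomial (Fin r) R₀] (⨁ k, Y k))
    (X' := ⨁ k, B₂ ⊗[R₀] Y k) e
  rw [h1, flat_localizedModule_directSum_iff]

end Open

section Quot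

variable {B : Type u} [CommRing B] (I : Ideal B)

lemma algebraMapSubmonoid_primeCompl (q' : Ideal (B ⧸ I)) [q'.IsPrime] :
    Algebra.algebraMapSubmonoid (B ⧸ I) (q'.comap (Ideal.Quotient.mk I)).primeCompl =
      q'.primeCompl := by
  ext x
  constructor
  · rintro ⟨s, hs, rfl⟩
    exact hs
  · intro hx
    obtain ⟨s, rfl⟩ := Ideal.Quotient.mk_surjective x
    exact ⟨s, hx, rfl⟩

/-- Tensoring the localization of a module at a prime containing `I` with `B ⧸ I` gives the
localization of the reduction at the corresponding prime of the quotient. -/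
theorem flat_quot_tensor_localized_iff (q' : Ideal (B ⧸ I)) [q'.IsPrime] (X : Type u)
    [AddCommGroup X] [Module B X] (X' : Type u) [AddCommGroup X'] [Module (B ⧸ I) X']
    (e : (B ⧸ I) ⊗[B] X ≃ₗ[B ⧸ I] X') :
    Module.Flat (B ⧸ I)
        ((B ⧸ I) ⊗[B] LocalizedModule (q'.comap (Ideal.Quotient.mk I)).primeCompl X) ↔
      Module.Flat (B ⧸ I) (LocalizedModule q'.primeCompl X') := by
  set S := (q'.comap (Ideal.Quotient.mk I)).primeCompl with hS
  let g : X →ₗ[B] LocalizedModule S X := LocalizedModule.mkLinearMap S X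
  let f : (B ⧸ I) ⊗[B] X →ₗ[B ⧸ I] (B ⧸ I) ⊗[B] LocalizedModule S X := g.baseChange (B ⧸ I)
  haveI h1 : IsLocalizedModule S (f.restrictScalars B) := by
    have h2 : f.restrictScalars B = (TensorProduct.comm B (LocalizedModule S X) (B ⧸ I)).toLinearMap ∘ₗ
        ((TensorProduct.AlgebraTensorModule.rTensor B (B ⧸ I) g) ∘ₗ
          (TensorProduct.comm B (B ⧸ I) X).toLinearMap) := by
      apply TensorProduct.ext'
      intro b x
      rfl
    rw [h2]
    infer_instance
  haveI h3 : IsLocalizedModule (Algebra.algebraMapSubmonoid (B ⧸ I) S) f :=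
    IsLocalizedModule.of_restrictScalars S f
  rw [algebraMapSubmonoid_primeCompl] at h3
  haveI h4 : IsLocalizedModule q'.primeCompl (f ∘ₗ e.symm.toLinearMap) := inferInstance
  have e' : LocalizedModule q'.primeCompl X' ≃ₗ[B ⧸ I] (B ⧸ I) ⊗[B] LocalizedModule S X :=
    IsLocalizedModule.iso q'.primeCompl (f ∘ₗ e.symm.toLinearMap)
  exact ⟨fun _ => Module.Flat.of_linearEquiv e', fun _ => Module.Flat.of_linearEquiv e'.symm⟩

end Quot

end Groth.Agent.H48.GrNF
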