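import Mathlib
import Groth.Agent.H48.GrLimCore1
import Groth.Agent.H48.GrLimConc
import Groth.Agent.H48.GrLimModel

/-!
# The graded pieces of the `J`-adic filtration as base changes from a model (helper48)
-/

set_option autoImplicit false
set_option linter.style.haveILetI false

open TensorProduct

namespace Groth.Agent.H48.GrNF

universe u

open Groth.Agent.H48.GrLim Groth.Agent.H48.GrLimConc Groth.Agent.H48.GrLimModel

/-- A subquotient `K / K₁` as the kernel of `M / K₁ → M / K`. -/
noncomputable def quotComapEquivKer {B M : Type u} [CommRing B] [AddCommGroup M] [Module B M]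
    (K K₁ : Submodule B M) (hle : K₁ ≤ K) :
    (↥K ⧸ Submodule.comap K.subtype K₁) ≃ₗ[B] LinearMap.ker (Submodule.factor hle) :=
  have hker : LinearMap.ker (K₁.mkQ ∘ₗ K.subtype) = Submodule.comap K.subtype K₁ := by
    rw [LinearMap.ker_comp, Submodule.ker_mkQ]
  have hrange : LinearMap.range (K₁.mkQ ∘ₗ K.subtype) = LinearMap.ker (Submodule.factor hle) := by
    ext y
    obtain ⟨m, rfl⟩ := Submodule.Quotient.mk_surjective _ y
    have h0 : Submodule.factor hle (Submodule.Quotient.mk m) = Submodule.Quotient.mk m := rfl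
    rw [LinearMap.mem_ker, h0, Submodule.Quotient.mk_eq_zero]
    constructor
    · rintro ⟨x, hx⟩
      have h1 : (Submodule.Quotient.mk (x : M) : M ⧸ K₁) = Submodule.Quotient.mk m := hx
      rw [Submodule.Quotient.eq] at h1
      have : m = (x : M) - ((x : M) - m) := by abel
      rw [this]
      exact K.sub_mem x.2 (hle h1)
    · intro hm
      exact ⟨⟨m, hm⟩, rfl⟩
  (Submodule.quotEquivOfEq _ _ hker.symm) ≪≫ₗ (K₁.mkQ ∘ₗ K.subtype).quotKerEquivRange ≪≫ₗ
    LinearEquiv.ofEq _ _ hrange

section Model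

variable {B' B : Type u} [CommRing B'] [CommRing B] [Algebra B' B] {r : ℕ}
  (a' : Fin r → B') (a : Fin r → B)
  {M' M : Type u} [AddCommGroup M'] [Module B' M'] [AddCommGroup M] [Module B M] [Module B' M]
  [IsScalarTower B' B M]
  (h₀ : M' →ₗ[B'] M) (hbc : IsBaseChange B h₀) (hJ : (J a').map (algebraMap B' B) = J a)

include hbc hJ in
/-- The truncations upstairs as base changes of the truncations of the model. -/
theorem exists_truncEquiv (k : ℕ) :
    ∃ E : B ⊗[B'] Q a' M' k ≃ₗ[B] Q a M k,
      ∀ (b : B) (m : M'), E (b ⊗ₜ (Submodule.Quotient.mk m : Q a' M' k)) =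
        b • (Submodule.Quotient.mk (h₀ m) : Q a M k) := by
  have hI : ((J a') ^ k).map (algebraMap B' B) = (J a) ^ k := by rw [Ideal.map_pow, hJ]
  have hI' : ((((J a') ^ k).map (algebraMap B' B)) • ⊤ : Submodule B M) = F a M k := by rw [hI]
  refine ⟨(isBaseChange_quotMap h₀ hbc ((J a') ^ k)).equiv ≪≫ₗ Submodule.quotEquivOfEq _ _ hI',
    fun b m => ?_⟩
  rw [LinearEquiv.trans_apply, IsBaseChange.equiv_tmul, map_smul, quotMap_mk]
  rfl

include hbc hJ in
/-- **The graded pieces upstairs** are the graded pieces of the model data at the level `B`. -/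
theorem exists_grEquiv (k : ℕ) :
    Nonempty (Gr (isGrData a' M') B k ≃ₗ[B]
      (↥(F a M k) ⧸ Submodule.comap (F a M k).subtype (F a M (k + 1)))) := by
  obtain ⟨E₁, hE₁⟩ := exists_truncEquiv a' a h₀ hbc hJ (k + 1)
  obtain ⟨E₀, hE₀⟩ := exists_truncEquiv a' a h₀ hbc hJ k
  have hcomm : ∀ y : B ⊗[B'] Q a' M' (k + 1),
      E₀ ((GrLimConc.π a' M' k).baseChange B y) = GrLimConc.π a M k (E₁ y) := by
    intro y
    induction y using TensorProduct.induction_on with
    | zero => simp
    | tmul b q =>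
      obtain ⟨m, rfl⟩ := Submodule.Quotient.mk_surjective _ q
      rw [LinearMap.baseChange_tmul, π_mk, hE₀, hE₁, map_smul, π_mk]
    | add x y hx hy => simp only [map_add, hx, hy]
  have hmap : (Gr (isGrData a' M') B k).map E₁.toLinearMap = LinearMap.ker (GrLimConc.π a M k) := by
    rw [show Gr (isGrData a' M') B k = LinearMap.ker ((GrLimConc.π a' M' k).baseChange B) from
      range_ιB (isGrData a' M') B k]
    ext x
    constructor
    · rintro ⟨y, hy, rfl⟩
      rw [SetLike.mem_coe, LinearMap.mem_ker] at hy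
      rw [LinearMap.mem_ker, LinearEquiv.coe_coe, ← hcomm, hy, map_zero]
    · intro hx
      rw [LinearMap.mem_ker] at hx
      refine ⟨E₁.symm x, ?_, by simp⟩
      rw [SetLike.mem_coe, LinearMap.mem_ker]
      apply E₀.injective
      rw [hcomm, LinearEquiv.apply_symm_apply, hx, map_zero]
  exact ⟨(LinearEquiv.ofSubmodules E₁ _ _ hmap) ≪≫ₗ
    (quotComapEquivKer (F a M k) (F a M (k + 1)) (F_anti a M k)).symm⟩

end Model

end Groth.Agent.H48.GrNF
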