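import Mathlib
import Groth.Agent.H48.GrNF1
import Groth.Agent.H48.GrNF2
import Groth.Agent.H48.GrLimMain

/-!
# Openness of the locus of normal flatness along `V(J)`, finitely presented case (helper48)
-/

set_option autoImplicit false
set_option linter.style.haveILetI false

open TensorProduct

namespace Groth.Agent.H48.GrNF

universe u

open Groth.Agent.H48.GrLim Groth.Agent.H48.GrLimConc Groth.Agent.H48.GrLimModel
  Groth.Agent.H48.GrLimOmega

attribute [local instance] Algebra.TensorProduct.rightAlgebra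

section Level

variable {C R B' B : Type u} [CommRing C] [CommRing R] [CommRing B'] [CommRing B]
  [Algebra C R] [Algebra C B']
  [Algebra B' B] [Algebra C B] [IsScalarTower C B' B]
  {M' M : Type u} [AddCommGroup M'] [Module B' M'] [Module C M'] [IsScalarTower C B' M']
  [AddCommGroup M] [Module B M] [Module B' M] [IsScalarTower B' B M]
  {r : ℕ} (a' : Fin r → B') (a : Fin r → B)

/-- Openness of the normally flat locus, given a Noetherian level of a model at which all
truncations are flat. -/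
theorem isOpen_normalFlat_of_level (A : Type u) [CommRing A] [Algebra C A] [Algebra R A]
    [IsScalarTower C R A] [Algebra A B] [IsScalarTower C A B] [Algebra.IsPushout C A B' B]
    [IsNoetherianRing C] [IsNoetherianRing R]
    [Algebra.FiniteType C B'] [Module.Finite B' M']
    (h₀ : M' →ₗ[B'] M) (hbc : IsBaseChange B h₀) (hJ : (J a').map (algebraMap B' B) = J a)
    (hR : ∀ k, Module.Flat R (R ⊗[C] Q a' M' k)) :
    IsOpen {q : PrimeSpectrum B | J a ≤ q.asIdeal → ∀ k : ℕ,
      Module.Flat (B ⧸ J a) ((B ⧸ J a) ⊗[B] LocalizedModule q.asIdeal.primeCompl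
        (↥(F a M k) ⧸ Submodule.comap (F a M k).subtype (F a M (k + 1))))} := by
  letI algRB : Algebra R B := ((algebraMap A B).comp (algebraMap R A)).toAlgebra
  haveI tRAB : IsScalarTower R A B := IsScalarTower.of_algebraMap_eq (fun _ => rfl)
  haveI tCRB : IsScalarTower C R B := IsScalarTower.of_algebraMap_eq (fun c => by
    show algebraMap C B c = algebraMap A B (algebraMap R A (algebraMap C R c))
    rw [← IsScalarTower.algebraMap_apply C R A, ← IsScalarTower.algebraMap_apply C A B])
  let φ : (R ⊗[C] B') →ₐ[C] B :=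
    Algebra.TensorProduct.lift (IsScalarTower.toAlgHom C R B)
      (IsScalarTower.toAlgHom C B' B) (fun _ _ => Commute.all _ _)
  letI algS₁S : Algebra (R ⊗[C] B') B := φ.toRingHom.toAlgebra
  have hφ : ∀ x, algebraMap (R ⊗[C] B') B x = φ x := fun _ => rfl
  have e1 : ∀ x : R, algebraMap R B x =
      algebraMap (R ⊗[C] B') B (algebraMap R (R ⊗[C] B') x) := by
    intro x
    rw [hφ, Algebra.TensorProduct.algebraMap_apply]
    simp [φ]
  haveI t1 : IsScalarTower R (R ⊗[C] B') B := IsScalarTower.of_algebraMap_eq e1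
  have e2 : ∀ x : B', algebraMap B' B x =
      algebraMap (R ⊗[C] B') B (algebraMap B' (R ⊗[C] B') x) := by
    intro x
    rw [hφ]
    simp [φ, Algebra.TensorProduct.right_algebraMap_apply]
  haveI t2 : IsScalarTower B' (R ⊗[C] B') B := IsScalarTower.of_algebraMap_eq e2
  have e3 : ∀ x : C, algebraMap C B x =
      algebraMap (R ⊗[C] B') B (algebraMap C (R ⊗[C] B') x) := by
    intro x
    rw [hφ, AlgHom.commutes]
  haveI t3 : IsScalarTower C (R ⊗[C] B') B := IsScalarTower.of_algebraMap_eq e3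
  haveI po1 : Algebra.IsPushout R A (R ⊗[C] B') B :=
    (Algebra.IsPushout.comp_iff C R B' (S' := R ⊗[C] B') (T := A) (T' := B)).mp inferInstance
  -- the graded data at the two levels
  have hflat₁ : ∀ k, Module.Flat R ((R ⊗[C] B') ⊗[B'] Q a' M' k) := fun k =>
    (flat_level_iff R (Q a' M' k)).mpr (hR k)
  have hspan : ∀ k, L (isGrData a' M') B k = Submodule.span B
      (tr B' (R ⊗[C] B') B (G (Q a' M') (GrLimConc.π a' M') k) ''
        (L (isGrData a' M') (R ⊗[C] B') k : Set _)) := fun k => by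
    haveI := hflat₁ k
    exact L_eq_span (isGrData a' M') (R ⊗[C] B') B R A k
  have hbcGr : ∀ k, IsBaseChange B (trGr (isGrData a' M') (R ⊗[C] B') B k) := fun k =>
    isBaseChange_trGr (isGrData a' M') (R ⊗[C] B') B k (hspan k)
  -- the reduction `B ⧸ J`
  have eBar : ∀ k, Nonempty (((B ⧸ J a) ⊗[B]
      (↥(F a M k) ⧸ Submodule.comap (F a M k).subtype (F a M (k + 1)))) ≃ₗ[B ⧸ J a]
      (B ⧸ J a) ⊗[R ⊗[C] B'] Gr (isGrData a' M') (R ⊗[C] B') k) := fun k => by
    obtain ⟨eG⟩ := exists_grEquiv a' a h₀ hbc hJ k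
    have e1 : B ⊗[R ⊗[C] B'] Gr (isGrData a' M') (R ⊗[C] B') k ≃ₗ[B]
        (↥(F a M k) ⧸ Submodule.comap (F a M k).subtype (F a M (k + 1))) :=
      (hbcGr k).equiv ≪≫ₗ eG
    exact ⟨(TensorProduct.AlgebraTensorModule.congr (LinearEquiv.refl (B ⧸ J a) (B ⧸ J a))
        e1.symm) ≪≫ₗ
      TensorProduct.AlgebraTensorModule.cancelBaseChange (R ⊗[C] B') B (B ⧸ J a) (B ⧸ J a)
        (Gr (isGrData a' M') (R ⊗[C] B') k)⟩
  -- openness at the Noetherian level
  haveI : IsNoetherianRing (R ⊗[C] B') := Algebra.FiniteType.isNoetherianRing R (R ⊗[C] B')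
  haveI : IsNoetherianRing B' := Algebra.FiniteType.isNoetherianRing C B'
  haveI : Module.Finite B' (G (Q a' M') (GrLimConc.π a' M') 0) :=
    (inferInstance : Module.Finite B' (LinearMap.ker (GrLimConc.π a' M' 0)))
  have hU := isOpen_forall_flat_localized (R₀ := R ⊗[C] B')
    (fun k => Gr (isGrData a' M') (R ⊗[C] B') k) (τ (isGrData a' M') (R ⊗[C] B'))
    (τ_comm (isGrData a' M') (R ⊗[C] B')) (τ_gen (isGrData a' M') (R ⊗[C] B')) (B ⧸ J a)
  -- translation
  have hT : ∀ q' : PrimeSpectrum (B ⧸ J a),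
      (∀ k : ℕ, Module.Flat (B ⧸ J a) ((B ⧸ J a) ⊗[B]
        LocalizedModule (q'.asIdeal.comap (Ideal.Quotient.mk (J a))).primeCompl
        (↥(F a M k) ⧸ Submodule.comap (F a M k).subtype (F a M (k + 1))))) ↔
      ∀ k, Module.Flat (B ⧸ J a) (LocalizedModule q'.asIdeal.primeCompl
        ((B ⧸ J a) ⊗[R ⊗[C] B'] Gr (isGrData a' M') (R ⊗[C] B') k)) := by
    intro q'
    refine forall_congr' fun k => ?_
    obtain ⟨e⟩ := eBar k
    exact flat_quot_tensor_localized_iff (J a) q'.asIdeal _ _ e
  -- topology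
  have hcl : Topology.IsClosedEmbedding (PrimeSpectrum.comap (Ideal.Quotient.mk (J a))) :=
    PrimeSpectrum.isClosedEmbedding_comap_of_surjective _ _ Ideal.Quotient.mk_surjective
  have hrange : Set.range (PrimeSpectrum.comap (Ideal.Quotient.mk (J a))) =
      PrimeSpectrum.zeroLocus (J a) := by
    rw [range_comap_of_surjective _ _ Ideal.Quotient.mk_surjective, Ideal.mk_ker]
  rw [← isClosed_compl_iff]
  have hset : {q : PrimeSpectrum B | J a ≤ q.asIdeal → ∀ k : ℕ,
      Module.Flat (B ⧸ J a) ((B ⧸ J a) ⊗[B] LocalizedModule q.asIdeal.primeCompl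
        (↥(F a M k) ⧸ Submodule.comap (F a M k).subtype (F a M (k + 1))))}ᶜ =
      (PrimeSpectrum.comap (Ideal.Quotient.mk (J a))) '' {q' : PrimeSpectrum (B ⧸ J a) | ∀ k,
        Module.Flat (B ⧸ J a) (LocalizedModule q'.asIdeal.primeCompl
        ((B ⧸ J a) ⊗[R ⊗[C] B'] Gr (isGrData a' M') (R ⊗[C] B') k))}ᶜ := by
    ext q
    simp only [Set.mem_compl_iff, Set.mem_ofPred_eq, Set.mem_image, Classical.not_imp]
    constructor
    · rintro ⟨hq, hnot⟩
      have hq' : q ∈ Set.range (PrimeSpectrum.comap (Ideal.Quotient.mk (J a))) := by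
        rw [hrange]; exact hq
      obtain ⟨q', rfl⟩ := hq'
      exact ⟨q', fun h => hnot ((hT q').mpr h), rfl⟩
    · rintro ⟨q', hq', rfl⟩
      refine ⟨?_, fun h => hq' ((hT q').mp h)⟩
      have : PrimeSpectrum.comap (Ideal.Quotient.mk (J a)) q' ∈
          Set.range (PrimeSpectrum.comap (Ideal.Quotient.mk (J a))) := ⟨q', rfl⟩
      rw [hrange] at this
      exact this
  rw [hset]
  exact hcl.isClosedMap _ hU.isClosed_compl

end Level

/-- **Openness of the locus of normal flatness along `V(J)`**: `B` finitely presented over `A`,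
`M` finitely presented over `B`, all truncations `M ⧸ J^k M` flat over `A`. -/
theorem isOpen_normalFlat {A B : Type u} [CommRing A] [CommRing B] [Algebra A B]
    [Algebra.FinitePresentation A B] {r : ℕ} (a : Fin r → B) (M : Type u) [AddCommGroup M]
    [Module B M] [Module A M] [IsScalarTower A B M] [Module.FinitePresentation B M]
    (hflat : ∀ k : ℕ, Module.Flat A (M ⧸ ((J a) ^ k • ⊤ : Submodule B M))) :
    IsOpen {q : PrimeSpectrum B | J a ≤ q.asIdeal → ∀ k : ℕ,
      Module.Flat (B ⧸ J a) ((B ⧸ J a) ⊗[B] LocalizedModule q.asIdeal.primeCompl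
        (↥(F a M k) ⧸ Submodule.comap (F a M k).subtype (F a M (k + 1))))} := by
  obtain ⟨C, _, _, _, B', _, _, _, _, _, _, _, _, M', _, _, _, _, _, _, _, h, a', hbc, ha'⟩ :=
    exists_model_data' A B M a
  haveI : IsNoetherianRing C := Algebra.FiniteType.isNoetherianRing ℤ C
  have hJ : (J a').map (algebraMap B' B) = J a := by
    rw [J, J, Ideal.map_span, ← Set.range_comp]
    congr 2
    funext i
    exact ha' i
  have hA : ∀ k, Module.Flat A (A ⊗[C] Q a' M' k) := by
    intro k
    haveI := hflat k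
    have h1 : Module.Flat A (A ⊗[A] (M ⧸ ((J a) ^ k • ⊤ : Submodule B M))) :=
      Module.Flat.of_linearEquiv (TensorProduct.lid A _)
    exact (flat_trunc_iff (C := C) (A₀ := A) h hbc A ((J a') ^ k) ((J a) ^ k)
      (by rw [Ideal.map_pow, hJ])).mp h1
  obtain ⟨R, _, _, hft, ⟨φ⟩, hR⟩ := core (isGrData a' M')
    (fun p _ => Groth.Agent.H48.GrLimMain.hgood_conc a' M' p) A hA
  letI algRA : Algebra R A := φ.toRingHom.toAlgebra
  haveI : IsScalarTower C R A := IsScalarTower.of_algebraMap_eq (fun c => (φ.commutes c).symm)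
  haveI : IsNoetherianRing R := Algebra.FiniteType.isNoetherianRing C R
  exact isOpen_normalFlat_of_level (C := C) (R := R) a' a A h hbc hJ hR

end Groth.Agent.H48.GrNF
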