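import Mathlib
import Groth.Prelude.Def_DDual2
set_option autoImplicit false
universe w₁ w₂ v₁ v₂ u₁ u₂ u
open CategoryTheory Limits
attribute [local instance] HasDerivedCategory.standard

namespace Groth.Agent.H48.Inv_ISO

/-- (ISO) `Dual.IsDualizing` is invariant under isomorphism in `D(A)`. -/
theorem ISO (A : Type u) [CommRing A] {ω ω' : Dual.D A} (e : ω ≅ ω')
    (hω : Dual.IsDualizing A ω) : Dual.IsDualizing A ω' := by
  refine ⟨hω.isNoetherianRing, ?_, ?_, ?_, ?_⟩
  · obtain ⟨a, b, h⟩ := hω.finite_injective_dimension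
    refine ⟨a, b, fun M _ _ i hi => ⟨fun f g => ?_⟩⟩
    rw [← cancel_mono ((shiftFunctor (Dual.D A) i).mapIso e).inv]
    exact (h M i hi).elim _ _
  · intro i
    haveI := hω.finite_cohomology i
    exact Module.Finite.equiv
      (((DerivedCategory.homologyFunctor (ModuleCat.{u} A) i).mapIso e).toLinearEquiv)
  · have hcomp : (fun a : A => a • (𝟙 ω')) = (fun f : ω ⟶ ω => e.inv ≫ f ≫ e.hom) ∘
        (fun a : A => a • (𝟙 ω)) := by
      funext a
      show a • 𝟙 ω' = e.inv ≫ (a • 𝟙 ω) ≫ e.hom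
      rw [Linear.smul_comp, Linear.comp_smul, Category.id_comp, e.inv_hom_id]
    rw [hcomp]
    refine Function.Bijective.comp ?_ hω.toEnd_bijective
    refine ⟨fun f g hfg => ?_, fun f => ⟨e.hom ≫ f ≫ e.inv, ?_⟩⟩
    · have h1 : e.inv ≫ f ≫ e.hom = e.inv ≫ g ≫ e.hom := hfg
      rwa [cancel_epi, cancel_mono] at h1
    · simp
  · intro i hi
    refine ⟨fun f g => ?_⟩
    rw [← cancel_epi e.hom, ← cancel_mono ((shiftFunctor (Dual.D A) i).mapIso e).inv]
    exact (hω.ext_self_subsingleton i hi).elim _ _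

end Groth.Agent.H48.Inv_ISO
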