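import Mathlib
import Groth.Prelude.Def_Flat
import Groth.Agent.S1353
import Groth.Agent.H59.LSF_LNNS

/-!
# S0442: local structure of a morphism locally of finite type (assembly)
-/

set_option autoImplicit false
universe u

open AlgebraicGeometry CategoryTheory Limits

namespace Groth.Agent.H48.LSF

theorem main {X S : Scheme.{u}} (f : X ⟶ S) [LocallyOfFiniteType f] (x : X) (n : ℕ)
    (hn : FlatMor.fibreDimAt f x = n) :
    ∃ (X' Y : Scheme.{u}) (g : X' ⟶ X) (π : X' ⟶ Y) (h : Y ⟶ S) (x' : X'), g ≫ f = π ≫ h ∧ Etale g ∧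
      g x' = x ∧ Function.Surjective (g.residueFieldMap x') ∧ IsFinite π ∧
      SmoothOfRelativeDimension n h ∧ ∀ z : ↑X', π z = π x' → z = x' := by
  obtain ⟨W, Y₀, j, π₀, h₀, w, hj, hjw, hsq, hsm, hft, hqf⟩ :=
    Groth.Agent.H59.LSF_LNNS.exists_local_quasiFinite f x n hn
  obtain ⟨U, ge, u, hnb, V, v, hvV, hfin, hvu, huniq, hvw, hbij⟩ :=
    Groth.Agent.S1353.result π₀ w (π₀.quasiFiniteAt w)
  haveI := hnb.etale
  refine ⟨V.toScheme, U, V.ι ≫ pullback.fst π₀ ge ≫ j, V.ι ≫ pullback.snd π₀ ge, ge ≫ h₀,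
    ⟨v, hvV⟩, ?_, ?_, ?_, ?_, hfin, ?_, ?_⟩
  · rw [Category.assoc, Category.assoc, ← hsq, pullback.condition_assoc, Category.assoc]
  · infer_instance
  · change j (pullback.fst π₀ ge (V.ι ⟨v, hvV⟩)) = x
    have : V.ι ⟨v, hvV⟩ = v := rfl
    rw [this, hvw, hjw]
  · rw [Scheme.residueFieldMap_comp, Scheme.residueFieldMap_comp]
    have h1 : Function.Bijective (j.residueFieldMap (pullback.fst π₀ ge (V.ι ⟨v, hvV⟩))) :=
      ConcreteCategory.bijective_of_isIso _
    have h2 : Function.Bijective ((pullback.fst π₀ ge).residueFieldMap (V.ι ⟨v, hvV⟩)) := hbij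
    have h3 : Function.Bijective (V.ι.residueFieldMap ⟨v, hvV⟩) :=
      ConcreteCategory.bijective_of_isIso _
    intro y
    obtain ⟨y₃, hy₃⟩ := h3.surjective y
    obtain ⟨y₂, hy₂⟩ := h2.surjective y₃
    obtain ⟨y₁, hy₁⟩ := h1.surjective y₂
    refine ⟨y₁, ?_⟩
    change (ConcreteCategory.hom (V.ι.residueFieldMap ⟨v, hvV⟩))
      ((ConcreteCategory.hom ((pullback.fst π₀ ge).residueFieldMap (V.ι ⟨v, hvV⟩)))
        ((ConcreteCategory.hom (j.residueFieldMap (pullback.fst π₀ ge (V.ι ⟨v, hvV⟩)))) y₁)) = y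
    rw [hy₁, hy₂, hy₃]
  · have : SmoothOfRelativeDimension (0 + n) (ge ≫ h₀) := inferInstance
    simpa using this
  · intro z hz
    have h1 : pullback.snd π₀ ge (V.ι z) = u := by
      have : (V.ι ≫ pullback.snd π₀ ge) z = (V.ι ≫ pullback.snd π₀ ge) ⟨v, hvV⟩ := hz
      rw [Scheme.Hom.comp_apply, Scheme.Hom.comp_apply] at this
      rw [this]
      exact hvu
    have h2 := huniq (V.ι z) z.2 h1
    exact Subtype.ext h2

end Groth.Agent.H48.LSF
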