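import Mathlib
import Groth.Agent.H48.FlatLimit6

/-!
# Noetherian approximation of flat finitely presented morphisms of affine schemes
-/

open TensorProduct AlgebraicGeometry CategoryTheory Limits

namespace Groth.Agent.H48.FlatLimit

universe u

/-- A flat finitely presented morphism of affine schemes is a base change of a flat finite type
morphism of affine schemes whose base is of finite type over `ℤ`. -/
theorem noetherian_approximation_flat {X S : Scheme.{u}} (f : X ⟶ S) [IsAffine X] [IsAffine S]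
    [LocallyOfFinitePresentation f] [Flat f] :
    ∃ (X₀ S₀ : Scheme.{u}) (f₀ : X₀ ⟶ S₀) (g : S ⟶ S₀) (g' : X ⟶ X₀), IsAffine X₀ ∧ IsAffine S₀ ∧
      IsPullback g' f f₀ g ∧ Algebra.FiniteType ℤ Γ(S₀, ⊤) ∧ LocallyOfFiniteType f₀ ∧ Flat f₀ := by
  have hfp : f.appTop.hom.FinitePresentation :=
    HasRingHomProperty.appTop @LocallyOfFinitePresentation f inferInstance
  have hfl : f.appTop.hom.Flat := HasRingHomProperty.appTop @Flat f inferInstance
  letI : Algebra Γ(S, ⊤) Γ(X, ⊤) := f.appTop.hom.toAlgebra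
  haveI : Algebra.FinitePresentation Γ(S, ⊤) Γ(X, ⊤) := hfp
  haveI : Module.Flat Γ(S, ⊤) Γ(X, ⊤) := hfl
  obtain ⟨A₀, B₀, _, _, _, _, hft, hfp₀, hfl₀, ⟨e⟩⟩ :=
    exists_model_flat Γ(S, ⊤) Γ(X, ⊤)
  let φA : CommRingCat.of A₀ ⟶ Γ(S, ⊤) := CommRingCat.ofHom (algebraMap A₀ Γ(S, ⊤))
  let φB : CommRingCat.of A₀ ⟶ CommRingCat.of B₀ := CommRingCat.ofHom (algebraMap A₀ B₀)
  let ψ : CommRingCat.of B₀ ⟶ Γ(X, ⊤) := CommRingCat.ofHom
    ((e.symm : Γ(S, ⊤) ⊗[A₀] B₀ →+* Γ(X, ⊤)).comp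
      (Algebra.TensorProduct.includeRight : B₀ →ₐ[A₀] Γ(S, ⊤) ⊗[A₀] B₀).toRingHom)
  have hpo : IsPushout φA φB f.appTop ψ := by
    refine (CommRingCat.isPushout_tensorProduct A₀ Γ(S, ⊤) B₀).of_iso (Iso.refl _) (Iso.refl _)
      (Iso.refl _) (e.symm.toRingEquiv.toCommRingCatIso) ?_ ?_ ?_ ?_
    · simp [φA]
    · simp [φB]
    · ext a
      show e.symm (a ⊗ₜ[A₀] (1 : B₀)) = f.appTop.hom a
      have h1 : (a ⊗ₜ[A₀] (1 : B₀)) = algebraMap Γ(S, ⊤) (Γ(S, ⊤) ⊗[A₀] B₀) a := by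
        rw [Algebra.TensorProduct.algebraMap_apply]; rfl
      rw [h1, e.symm.commutes]; rfl
    · ext b
      rfl
  have hpb : IsPullback (Spec.map ψ) (Spec.map f.appTop) (Spec.map φB) (Spec.map φA) :=
    (isPullback_SpecMap_of_isPushout φA φB f.appTop ψ hpo).flip
  refine ⟨Spec (.of B₀), Spec (.of A₀), Spec.map φB, S.isoSpec.hom ≫ Spec.map φA,
    X.isoSpec.hom ≫ Spec.map ψ, inferInstance, inferInstance, ?_, ?_, ?_, ?_⟩
  · refine hpb.of_iso X.isoSpec.symm (Iso.refl _) S.isoSpec.symm (Iso.refl _) ?_ ?_ ?_ ?_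
    · simp
    · simp [Scheme.isoSpec_inv_naturality]
    · simp
    · simp
  · exact Algebra.FiniteType.equiv hft
      ((Scheme.ΓSpecIso (.of A₀)).symm.commRingCatIsoToRingEquiv.toIntAlgEquiv)
  · exact (HasRingHomProperty.Spec_iff (P := @LocallyOfFiniteType)).mpr
      (RingHom.finiteType_algebraMap.mpr inferInstance)
  · exact (HasRingHomProperty.Spec_iff (P := @Flat)).mpr (RingHom.flat_algebraMap_iff.mpr hfl₀)

end Groth.Agent.H48.FlatLimit
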