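import Mathlib
import Groth.Agent.H48.FlatLimitMod2
import Groth.Agent.H48.ExtTilde
import Groth.Agent.H8.FPAffine
import Groth.Agent.H8.FlatAffine
import Groth.Agent.S9826
import Groth.Agent.S2394

/-!
# Noetherian approximation of flat finitely presented modules on affine schemes
-/

set_option backward.isDefEq.respectTransparency false
open TensorProduct AlgebraicGeometry CategoryTheory Limits
open AlgebraicGeometry.Scheme.Modules

namespace Groth.Agent.H48.FlatLimit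

universe u

theorem noetherian_approximation_flat_module {X S : Scheme.{u}} (f : X ⟶ S) [IsAffine X]
    [IsAffine S] [LocallyOfFinitePresentation f] (F : X.Modules) [F.IsQuasicoherent]
    (hF : SheafOfModules.IsFinitePresentation (R := X.ringCatSheaf) F)
    (hfl : FlatMod.IsFlatOver f F) :
    ∃ (X₀ S₀ : Scheme.{u}) (f₀ : X₀ ⟶ S₀) (g : S ⟶ S₀) (g' : X ⟶ X₀), IsAffine X₀ ∧ IsAffine S₀ ∧
      IsPullback g' f f₀ g ∧ Algebra.FiniteType ℤ Γ(S₀, ⊤) ∧ LocallyOfFiniteType f₀ ∧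
      ∃ F₀ : X₀.Modules, (SheafOfModules.IsQuasicoherent F₀ ∧ SheafOfModules.IsFiniteType F₀) ∧
        FlatMod.IsFlatOver f₀ F₀ ∧
        Nonempty ((Scheme.Modules.pullback g').obj F₀ ≅ F) := by
  have hfp : f.appTop.hom.FinitePresentation :=
    HasRingHomProperty.appTop @LocallyOfFinitePresentation f inferInstance
  letI : Algebra Γ(S, ⊤) Γ(X, ⊤) := f.appTop.hom.toAlgebra
  haveI : Algebra.FinitePresentation Γ(S, ⊤) Γ(X, ⊤) := hfp
  have hU : IsAffineOpen (⊤ : X.Opens) := isAffineOpen_top X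
  have hV : IsAffineOpen (⊤ : S.Opens) := isAffineOpen_top S
  have hUV : (⊤ : X.Opens) ≤ f ⁻¹ᵁ ⊤ := le_of_eq rfl
  let j : Spec Γ(X, ⊤) ⟶ X := hU.fromSpec
  let F' : (Spec Γ(X, ⊤)).Modules := F.restrict j
  haveI : F'.IsQuasicoherent := Scheme.Modules.isQuasicoherent_restrictFunctor j F
  let M' : ModuleCat.{u} Γ(X, ⊤) := (modulesSpecToSheaf.obj F').presheaf.obj (.op ⊤)
  haveI : Module.FinitePresentation Γ(X, ⊤) Γ(F, ⊤) :=
    Groth.Agent.H8.finitePresentation_sections_of_isAffineOpen F hU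
  haveI hM' : Module.FinitePresentation Γ(X, ⊤) M' :=
    Module.FinitePresentation.of_equiv (Groth.Agent.H8.sectionsRestrictEquiv hU F).symm
  -- flatness of the sections
  have h3 : f.appLE ⊤ ⊤ hUV = f.appTop := by
    rw [Scheme.Hom.appTop, Scheme.Hom.app_eq_appLE]
    rfl
  letI mS : Module Γ(S, ⊤) Γ(F, ⊤) := Module.compHom Γ(F, ⊤) (f.appLE ⊤ ⊤ hUV).hom
  have hflΓ : Module.Flat Γ(S, ⊤) Γ(F, ⊤) :=
    Groth.Agent.H8.flat_sections_of_isFlatOverAt f F hU hV hUV (fun x _ => hfl x)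
  letI mS' : Module Γ(S, ⊤) M' := Module.compHom M' (algebraMap Γ(S, ⊤) Γ(X, ⊤))
  haveI tS' : IsScalarTower Γ(S, ⊤) Γ(X, ⊤) M' :=
    IsScalarTower.of_algebraMap_smul fun r m => rfl
  haveI tS : IsScalarTower Γ(S, ⊤) Γ(X, ⊤) Γ(F, ⊤) :=
    IsScalarTower.of_algebraMap_smul fun r m => by
      show (f.appTop.hom r) • m = (f.appLE ⊤ ⊤ hUV).hom r • m
      rw [h3]
  haveI hflM' : Module.Flat Γ(S, ⊤) M' :=
    Module.Flat.of_linearEquiv
      ((Groth.Agent.H8.sectionsRestrictEquiv hU F).restrictScalars Γ(S, ⊤))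
  obtain ⟨C, _, _, B₀, _, _, _, _, _, _, M₀, _, _, _, _, _, _, h, hft, hftB, hfin, hfl₀, hpo, hbc⟩ :=
    exists_int_model_flat_module Γ(S, ⊤) Γ(X, ⊤) M'
  let φA : CommRingCat.of C ⟶ Γ(S, ⊤) := CommRingCat.ofHom (algebraMap C Γ(S, ⊤))
  let φB : CommRingCat.of C ⟶ CommRingCat.of B₀ := CommRingCat.ofHom (algebraMap C B₀)
  let ψ : CommRingCat.of B₀ ⟶ Γ(X, ⊤) := CommRingCat.ofHom (algebraMap B₀ Γ(X, ⊤))
  have hpo' : IsPushout φA φB f.appTop ψ :=
    CommRingCat.isPushout_of_isPushout C Γ(S, ⊤) B₀ Γ(X, ⊤)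
  have hpb : IsPullback (Spec.map ψ) (Spec.map f.appTop) (Spec.map φB) (Spec.map φA) :=
    (isPullback_SpecMap_of_isPushout φA φB f.appTop ψ hpo').flip
  let F₀ : (Spec (CommRingCat.of B₀)).Modules := tilde (ModuleCat.of B₀ M₀)
  refine ⟨Spec (.of B₀), Spec (.of C), Spec.map φB, S.isoSpec.hom ≫ Spec.map φA,
    X.isoSpec.hom ≫ Spec.map ψ, inferInstance, inferInstance, ?_, ?_, ?_, F₀, ⟨?_, ?_⟩, ?_, ?_⟩
  · refine hpb.of_iso X.isoSpec.symm (Iso.refl _) S.isoSpec.symm (Iso.refl _) ?_ ?_ ?_ ?_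
    · simp
    · simp [Scheme.isoSpec_inv_naturality]
    · simp
    · simp
  · exact Algebra.FiniteType.equiv hft
      ((Scheme.ΓSpecIso (.of C)).symm.commRingCatIsoToRingEquiv.toIntAlgEquiv)
  · exact (HasRingHomProperty.Spec_iff (P := @LocallyOfFiniteType)).mpr
      (RingHom.finiteType_algebraMap.mpr hftB)
  · infer_instance
  · exact (Groth.Agent.S9826.result (.of B₀) (ModuleCat.of B₀ M₀)).mpr hfin
  · exact (Groth.Agent.S2394.result C B₀ M₀).mpr hfl₀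
  · have hj : X.isoSpec.hom ≫ j = 𝟙 X := by
      show X.isoSpec.hom ≫ hU.fromSpec = 𝟙 X
      rw [IsAffineOpen.fromSpec_top, Iso.hom_inv_id]
    let i2 : (Scheme.Modules.pullback (Spec.map ψ)).obj F₀ ≅
        tilde ((ModuleCat.extendScalars.{u, u, u} ψ.hom).obj (ModuleCat.of B₀ M₀)) :=
      ((ExtTilde.extTildeIso ψ).app (ModuleCat.of B₀ M₀)).symm
    let i3' := ExtTilde.extendScalarsIsoOfIsBaseChange h hbc
    let i3 : (ModuleCat.extendScalars.{u, u, u} ψ.hom).obj (ModuleCat.of B₀ M₀) ≅ M' :=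
      i3' ≪≫ (Iso.refl M' : ModuleCat.of Γ(X, ⊤) M' ≅ M')
    haveI : IsIso F'.fromTildeΓ := Scheme.Modules.isIso_fromTildeΓ_of_isQuasicoherent F'
    let i4 : tilde M' ≅ F' := asIso F'.fromTildeΓ
    let i5 : F' ≅ (Scheme.Modules.pullback j).obj F := (restrictFunctorIsoPullback j).app F
    let i345 : (Scheme.Modules.pullback (Spec.map ψ)).obj F₀ ≅ (Scheme.Modules.pullback j).obj F :=
      i2 ≪≫ (tilde.functor _).mapIso i3 ≪≫ i4 ≪≫ i5
    exact ⟨((pullbackComp X.isoSpec.hom (Spec.map ψ)).app F₀).symm ≪≫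
      (Scheme.Modules.pullback X.isoSpec.hom).mapIso i345 ≪≫
      (pullbackComp X.isoSpec.hom j).app F ≪≫ (pullbackCongr hj).app F ≪≫ (pullbackId X).app F⟩

end Groth.Agent.H48.FlatLimit
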