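import Mathlib
import Groth.Agent.H48.QFCover3

/-!
# fppf covers are étale-locally refined by finite flat covers (scheme form)
-/
open AlgebraicGeometry CategoryTheory Limits

namespace Groth.Agent.H48.QFCoverSch
universe u

/-- An fppf cover is, étale locally on the base, dominated by a surjective finite flat finitely
presented morphism. -/
theorem exists_etale_finite_flat_refinement {S₁ S : Scheme.{u}} (g : S₁ ⟶ S) [Flat g]
    [LocallyOfFinitePresentation g] [Surjective g] (s : S) :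
    ∃ (S' V : Scheme.{u}) (e : S' ⟶ S) (π : V ⟶ S'), Etale e ∧ s ∈ Set.range ⇑e ∧ Surjective π ∧
      IsFinite π ∧ Flat π ∧ LocallyOfFinitePresentation π ∧
      ∀ v : ↑V, ∃ (W : V.Opens) (r : ↑W ⟶ S₁), v ∈ W ∧ r ≫ g = W.ι ≫ π ≫ e := by
  obtain ⟨x, rfl⟩ := g.surjective s
  obtain ⟨_, ⟨U, hU : IsAffineOpen U, rfl⟩, hxU, -⟩ :=
    (S.isBasis_affineOpens).exists_subset_of_mem_open (Set.mem_univ (g x)) isOpen_univ
  obtain ⟨_, ⟨V, hV : IsAffineOpen V, rfl⟩, hxV, hVU⟩ :=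
    (S₁.isBasis_affineOpens).exists_subset_of_mem_open (show x ∈ (g ⁻¹ᵁ U : Set S₁) from hxU)
      (g ⁻¹ᵁ U).isOpen
  have e : V ≤ g ⁻¹ᵁ U := hVU
  let φ := g.appLE U V e
  have hflat : φ.hom.Flat := HasRingHomProperty.appLE (P := @Flat) g inferInstance ⟨U, hU⟩ ⟨V, hV⟩ e
  have hfp : φ.hom.FinitePresentation :=
    HasRingHomProperty.appLE (P := @LocallyOfFinitePresentation) g inferInstance ⟨U, hU⟩ ⟨V, hV⟩ e
  letI : Algebra Γ(S, U) Γ(S₁, V) := φ.hom.toAlgebra
  haveI : Module.Flat Γ(S, U) Γ(S₁, V) := hflat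
  haveI : Algebra.FinitePresentation Γ(S, U) Γ(S₁, V) := hfp
  let p := hU.primeIdealOf ⟨g x, hxU⟩
  let y := hV.primeIdealOf ⟨x, hxV⟩
  have hsq := IsAffineOpen.SpecMap_appLE_fromSpec g hU hV e
  have hy : PrimeSpectrum.comap (algebraMap Γ(S, U) Γ(S₁, V)) y = p := by
    apply hU.fromSpec.isOpenEmbedding.injective
    have h1 : hU.fromSpec p = g x := hU.fromSpec_primeIdealOf ⟨g x, hxU⟩
    have h2 : hV.fromSpec y = x := hV.fromSpec_primeIdealOf ⟨x, hxV⟩
    rw [h1]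
    have h3 : (Spec.map φ ≫ hU.fromSpec) y = (hV.fromSpec ≫ g) y := by rw [hsq]
    rw [Scheme.Hom.comp_apply, Scheme.Hom.comp_apply, h2] at h3
    exact h3
  obtain ⟨R', _, _, B, _, _, _, _, k1, k2, k3, k4, k5, k6, ⟨χ⟩⟩ :=
    Groth.Agent.H48.QFCover.exists_etale_finite_flat (R := Γ(S, U)) (A := Γ(S₁, V)) p ⟨y, hy⟩
  let α : Γ(S, U) ⟶ CommRingCat.of R' := CommRingCat.ofHom (algebraMap Γ(S, U) R')
  let β : CommRingCat.of R' ⟶ CommRingCat.of B := CommRingCat.ofHom (algebraMap R' B)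
  let γ : Γ(S₁, V) ⟶ CommRingCat.of B := CommRingCat.ofHom χ.toRingHom
  have hcomm : φ ≫ γ = α ≫ β := by
    ext a
    change χ (algebraMap Γ(S, U) Γ(S₁, V) a) = algebraMap R' B (algebraMap Γ(S, U) R' a)
    rw [χ.commutes, ← IsScalarTower.algebraMap_apply]
  have hα : Etale (Spec.map α) := by
    rw [HasRingHomProperty.Spec_iff (P := @Etale)]
    exact RingHom.etale_algebraMap.mpr k1
  have hβ1 : Flat (Spec.map β) := by
    rw [HasRingHomProperty.Spec_iff (P := @Flat)]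
    exact RingHom.flat_algebraMap_iff.mpr k4
  have hβ2 : LocallyOfFinitePresentation (Spec.map β) := by
    rw [HasRingHomProperty.Spec_iff (P := @LocallyOfFinitePresentation)]
    exact RingHom.finitePresentation_algebraMap.mpr k5
  have hβ3 : IsFinite (Spec.map β) := by
    rw [IsFinite.SpecMap_iff]
    exact RingHom.finite_algebraMap.mpr k3
  have hβ4 : Surjective (Spec.map β) := ⟨k6⟩
  refine ⟨Spec (CommRingCat.of R'), Spec (CommRingCat.of B), Spec.map α ≫ hU.fromSpec, Spec.map β,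
    inferInstance, ?_, hβ4, hβ3, hβ1, hβ2, fun v => ⟨⊤, (⊤ : (Spec (CommRingCat.of B)).Opens).ι ≫
      Spec.map γ ≫ hV.fromSpec, trivial, ?_⟩⟩
  · obtain ⟨Q, hQ⟩ := k2
    refine ⟨Q, ?_⟩
    rw [Scheme.Hom.comp_apply]
    have : Spec.map α Q = p := hQ
    rw [this]
    exact hU.fromSpec_primeIdealOf ⟨g x, hxU⟩
  · rw [Category.assoc, Category.assoc, ← hsq, ← Category.assoc (Spec.map γ), ← Spec.map_comp,
      hcomm, Spec.map_comp, Category.assoc]

end Groth.Agent.H48.QFCoverSch
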