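import Mathlib
import Groth.Agent.H48.QFCoverSch

/-!
# fppf sheaves are detected by Zariski covers and quasi-finite fppf affine covers
-/

open AlgebraicGeometry CategoryTheory Limits

namespace Groth.Agent.H48.QFCoverSch
universe w u

instance lfp_isMultiplicative :
    MorphismProperty.IsMultiplicative @LocallyOfFinitePresentation.{u} where
  id_mem _ := inferInstance

/-- flat + lfp + lqf -/
abbrev Pqf : MorphismProperty Scheme.{u} :=
  @Flat ⊓ @LocallyOfFinitePresentation ⊓ @LocallyQuasiFinite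

lemma fppfTopology_le_propQCTopology_Pqf :
    Scheme.fppfTopology.{u} ≤ Scheme.propQCTopology Pqf.{u} := by
  rw [Precoverage.toGrothendieck_le_iff_le_toPrecoverage]
  refine Precoverage.le_of_zeroHypercover fun S E => ?_
  rw [GrothendieckTopology.mem_toPrecoverage_iff]
  have hE : E.presieve₀ ∈ Scheme.precoverage (@Flat ⊓ @LocallyOfFinitePresentation) S := E.mem₀
  rw [Scheme.presieve₀_mem_precoverage_iff] at hE
  obtain ⟨hcov, hprop⟩ := hE
  choose i y hy using hcov
  have hfl : ∀ s, Flat (E.f (i s)) := fun s => (hprop (i s)).1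
  have hlfp : ∀ s, LocallyOfFinitePresentation (E.f (i s)) := fun s => (hprop (i s)).2
  choose T g h hT hfg hflat hfp hqf hmem using fun s : S => exists_piece (E.f (i s)) (y s)
  let 𝒱 : Scheme.Cover.{u} (Scheme.precoverage Pqf.{u}) S :=
    { I₀ := S
      X := T
      f := g
      mem₀ := by
        rw [Scheme.presieve₀_mem_precoverage_iff]
        refine ⟨fun s => ⟨s, ?_⟩, fun s => ⟨⟨hflat s, hfp s⟩, hqf s⟩⟩
        have := hmem s
        rwa [hy s] at this }
  haveI : QuasiCompactCover 𝒱.1 := .of_isOpenMap fun s => (g s).isOpenMap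
  refine (Scheme.propQCTopology Pqf.{u}).superset_covering ?_ (Scheme.Cover.mem_propQCTopology 𝒱)
  rw [Sieve.ofArrows, Sieve.generate_le_iff]
  rintro _ _ ⟨s⟩
  refine ⟨_, h s, E.f (i s), ⟨i s⟩, hfg s⟩

/-- fppf sheaf iff Zariski sheaf and sheaf for quasi-finite fppf maps of affines. -/
theorem isSheaf_fppf_iff (F : Scheme.{u}ᵒᵖ ⥤ Type w) :
    Presheaf.IsSheaf Scheme.fppfTopology F ↔
      Presheaf.IsSheaf Scheme.zariskiTopology F ∧
        ∀ (T S : Scheme.{u}) [IsAffine T] [IsAffine S] (f : T ⟶ S)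
          [Flat f] [Surjective f] [LocallyOfFinitePresentation f] [LocallyQuasiFinite f],
          Presieve.IsSheafFor F (Presieve.singleton f) := by
  rw [isSheaf_iff_isSheaf_of_type, isSheaf_iff_isSheaf_of_type]
  constructor
  · intro hF
    refine ⟨Presieve.isSheaf_of_le _
      (Precoverage.toGrothendieck_mono Scheme.zariskiPrecoverage_le_fppfPrecoverage) hF, ?_⟩
    intro T S _ _ f _ _ _ _
    exact hF.isSheafFor _
      (Precoverage.generate_mem_toGrothendieck (Scheme.Hom.singleton_mem_fppfPrecoverage f))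
  · rintro ⟨hzar, haff⟩
    refine Presieve.isSheaf_of_le _ fppfTopology_le_propQCTopology_Pqf ?_
    rw [isSheaf_type_propQCTopology_iff]
    refine ⟨hzar, fun {R S} f hf hs => ?_⟩
    obtain ⟨⟨h1, h2⟩, h3⟩ := hf
    exact haff _ _ (Spec.map f)

end Groth.Agent.H48.QFCoverSch
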