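import Mathlib

open TensorProduct

namespace Groth.Agent.H48.QFDecomp
universe u

/-- In a Noetherian space there are only finitely many isolated points. -/
lemma finite_setOf_isOpen_singleton (Y : Type*) [TopologicalSpace Y]
    [TopologicalSpace.NoetherianSpace Y] : {y : Y | IsOpen ({y} : Set Y)}.Finite := by
  have hs : IsCompact {y : Y | IsOpen ({y} : Set Y)} :=
    TopologicalSpace.NoetherianSpace.isCompact _
  obtain ⟨t, ht⟩ := hs.elim_finite_subcover
    (fun y : {y : Y | IsOpen ({y} : Set Y)} => ({y.1} : Set Y)) (fun y => y.2)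
    (fun y hy => Set.mem_iUnion.mpr ⟨⟨y, hy⟩, rfl⟩)
  refine (t.finite_toSet.image Subtype.val).subset fun y hy => ?_
  obtain ⟨z, hz, hyz⟩ := Set.mem_iUnion₂.mp (ht hy)
  exact ⟨z, hz, hyz.symm⟩

variable {R S : Type u} [CommRing R] [CommRing S] [Algebra R S]

/-- The set of primes over `p` at which `S` is quasi-finite. -/
def qfSet (R : Type u) (S : Type u) [CommRing R] [CommRing S] [Algebra R S]
    (p : PrimeSpectrum R) : Set (PrimeSpectrum S) :=
  {q | PrimeSpectrum.comap (algebraMap R S) q = p ∧ Algebra.QuasiFiniteAt R q.asIdeal}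

lemma finite_qfSet [Algebra.FiniteType R S] (p : PrimeSpectrum R) : (qfSet R S p).Finite := by
  haveI : IsNoetherianRing (p.asIdeal.Fiber S) :=
    Algebra.FiniteType.isNoetherianRing p.asIdeal.ResidueField _
  haveI : TopologicalSpace.NoetherianSpace (PrimeSpectrum.comap (algebraMap R S) ⁻¹' {p}) :=
    (TopologicalSpace.noetherianSpace_iff_of_homeomorph
      (PrimeSpectrum.preimageHomeomorphFiber R S p)).mpr inferInstance
  refine ((finite_setOf_isOpen_singleton
    (PrimeSpectrum.comap (algebraMap R S) ⁻¹' {p})).image Subtype.val).subset ?_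
  rintro q ⟨rfl, hq⟩
  exact ⟨⟨q, rfl⟩, (Algebra.quasiFiniteAt_iff_isOpen_singleton_fiber q).mp hq, rfl⟩

/-- Isolated points of the spectrum of a Noetherian Jacobson ring, order-theoretically. -/
lemma isOpen_singleton_iff_isMax_isMin {A : Type*} [CommRing A] [IsNoetherianRing A]
    [IsJacobsonRing A] (x : PrimeSpectrum A) :
    IsOpen ({x} : Set (PrimeSpectrum A)) ↔ IsMax x ∧ IsMin x := by
  have h02 : IsOpen ({x} : Set (PrimeSpectrum A)) ↔
      IsClosed ({x} : Set (PrimeSpectrum A)) ∧ StableUnderGeneralization ({x} : Set (PrimeSpectrum A)) :=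
    (PrimeSpectrum.isOpen_singleton_tfae_of_isNoetherian_of_isJacobsonRing x).out 0 2
  rw [h02, PrimeSpectrum.isClosed_singleton_iff_isMaximal, ← PrimeSpectrum.isMax_iff]
  refine and_congr_right fun _ => ⟨fun h y hy => ?_, fun h a b hab ha => ?_⟩
  · have : y ∈ ({x} : Set (PrimeSpectrum A)) :=
      h ((PrimeSpectrum.le_iff_specializes y x).mp hy) rfl
    exact (Set.mem_singleton_iff.mp this).ge
  · obtain rfl := Set.mem_singleton_iff.mp ha
    have hle : b ≤ a := (PrimeSpectrum.le_iff_specializes b a).mpr hab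
    exact Set.mem_singleton_iff.mpr (le_antisymm hle (h hle))

/-- Descent of quasi-finiteness at a prime along a base change with trivial residue field
extension. -/
lemma quasiFiniteAt_comap_of_bijective {R' : Type u} [CommRing R'] [Algebra R R']
    [Algebra.FiniteType R S]
    (p : Ideal R) [p.IsPrime] (P : Ideal R') [P.IsPrime] [P.LiesOver p]
    (hpP : Function.Bijective (Ideal.ResidueField.mapₐ p P (Algebra.ofId _ _) (P.over_def p)))
    (Q : Ideal (R' ⊗[R] S)) [Q.IsPrime] [Q.LiesOver P] [Algebra.QuasiFiniteAt R' Q] :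
    ∃ (h : (Q.comap (Algebra.TensorProduct.includeRight : S →ₐ[R] R' ⊗[R] S)).IsPrime),
      Algebra.QuasiFiniteAt R (Q.comap (Algebra.TensorProduct.includeRight : S →ₐ[R] R' ⊗[R] S)) := by
  let T := R' ⊗[R] S
  let α' := PrimeSpectrum.primesOverOrderIsoFiber R' T P
  let α := PrimeSpectrum.primesOverOrderIsoFiber R S p
  let β := Ideal.fiberIsoOfBijectiveResidueField (S := S) hpP
  let Q₀ : P.primesOver T := ⟨Q, inferInstance, inferInstance⟩
  let x' := α' Q₀
  have hQx' : Q = x'.asIdeal.comap Algebra.TensorProduct.includeRight.toRingHom :=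
    congr($(α'.symm_apply_apply Q₀).1).symm
  haveI : Algebra.QuasiFiniteAt P.ResidueField x'.asIdeal :=
    Algebra.QuasiFiniteAt.baseChange Q x'.asIdeal hQx'
  haveI : IsNoetherianRing (P.Fiber T) := Algebra.FiniteType.isNoetherianRing P.ResidueField _
  haveI : IsJacobsonRing (P.Fiber T) := isJacobsonRing_of_finiteType (A := P.ResidueField)
  haveI : IsNoetherianRing (p.Fiber S) := Algebra.FiniteType.isNoetherianRing p.ResidueField _
  haveI : IsJacobsonRing (p.Fiber S) := isJacobsonRing_of_finiteType (A := p.ResidueField)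
  have hx' : IsOpen ({x'} : Set (PrimeSpectrum (P.Fiber T))) :=
    (Algebra.QuasiFiniteAt.isClopen_singleton (R := P.ResidueField) x').isOpen
  rw [isOpen_singleton_iff_isMax_isMin] at hx'
  let G : PrimeSpectrum (P.Fiber T) ≃o PrimeSpectrum (p.Fiber S) := α'.symm.trans (β.trans α)
  let x := G x'
  have hx : IsOpen ({x} : Set (PrimeSpectrum (p.Fiber S))) := by
    rw [isOpen_singleton_iff_isMax_isMin]
    exact ⟨(G.isMax_apply).mpr hx'.1, (G.isMin_apply).mpr hx'.2⟩
  haveI : Algebra.QuasiFiniteAt p.ResidueField x.asIdeal :=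
    Algebra.QuasiFiniteAt.of_isOpen_singleton x hx
  have hxQ : x.asIdeal.comap Algebra.TensorProduct.includeRight.toRingHom =
      Q.comap (Algebra.TensorProduct.includeRight : S →ₐ[R] R' ⊗[R] S) := by
    have h1 : (α.symm x).1 = (β Q₀).1 := by
      change (α.symm (α (β (α'.symm (α' Q₀))))).1 = _
      rw [α.symm_apply_apply, α'.symm_apply_apply]
    rw [Ideal.comap_fiberIsoOfBijectiveResidueField_apply] at h1
    exact h1
  haveI hprime : (x.asIdeal.comap Algebra.TensorProduct.includeRight.toRingHom).IsPrime :=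
    Ideal.comap_isPrime _ _
  haveI : (x.asIdeal.comap Algebra.TensorProduct.includeRight.toRingHom).LiesOver p :=
    (α.symm x).2.2
  have := Algebra.QuasiFiniteAt.of_quasiFiniteAt_residueField (R := R) p
    (x.asIdeal.comap Algebra.TensorProduct.includeRight.toRingHom) x.asIdeal rfl
  exact hxQ ▸ ⟨hprime, this⟩

/-- Quasi-finiteness at a prime of the quotient by an idempotent lifts to the ring. -/
lemma quasiFiniteAt_comap_mk_of_isIdempotentElem {R' T : Type u} [CommRing R'] [CommRing T]
    [Algebra R' T] (e : T) (he : IsIdempotentElem e) (Q₁ : Ideal (T ⧸ Ideal.span {e}))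
    [Q₁.IsPrime] [Algebra.QuasiFiniteAt R' Q₁] :
    Algebra.QuasiFiniteAt R' (Q₁.comap (Ideal.Quotient.mk (Ideal.span {e}))) := by
  haveI hloc : IsLocalization.Away (1 - e) (T ⧸ Ideal.span {e}) := by
    refine IsLocalization.away_of_isIdempotentElem he.one_sub ?_ Ideal.Quotient.mk_surjective
    rw [sub_sub_cancel]
    exact Ideal.mk_ker
  haveI : IsLocalization.AtPrime (Localization.AtPrime Q₁)
      (Q₁.comap (algebraMap T (T ⧸ Ideal.span {e}))) :=
    IsLocalization.isLocalization_isLocalization_atPrime_isLocalization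
      (Submonoid.powers (1 - e)) (Localization.AtPrime Q₁) Q₁
  let eqv : Localization.AtPrime (Q₁.comap (Ideal.Quotient.mk (Ideal.span {e}))) ≃ₐ[T]
      Localization.AtPrime Q₁ :=
    IsLocalization.algEquiv (Q₁.comap (Ideal.Quotient.mk (Ideal.span {e}))).primeCompl _ _
  exact (Algebra.QuasiFinite.iff_of_algEquiv (eqv.restrictScalars R')).mpr inferInstance

end Groth.Agent.H48.QFDecomp
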