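import Mathlib
import Groth.Agent.H48.QFDecomp1

open TensorProduct

namespace Groth.Agent.H48.QFDecomp
universe u

/-- decomposition data for an `R'`-algebra `T` at a prime `P` of `R'`. -/
structure IsDecomp (R' : Type u) [CommRing R'] (T : Type u) [CommRing T] [Algebra R' T]
    (P : Ideal R') (ι : Type) (F : Option ι → Ideal T) : Prop where
  cop : Pairwise (Function.onFun IsCoprime F)
  inf : ⨅ o, F o = ⊥
  fin : ∀ i, Module.Finite R' (T ⧸ F (some i))
  uniq : ∀ i, ∃! Q : Ideal T, Q.IsPrime ∧ F (some i) ≤ Q ∧ Q.comap (algebraMap R' T) = P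
  nqf : ∀ (q : Ideal (T ⧸ F none)) [q.IsPrime], q.comap (algebraMap R' (T ⧸ F none)) = P →
    ¬ Algebra.QuasiFiniteAt R' q

variable {R' : Type u} [CommRing R'] {T : Type u} [CommRing T] [Algebra R' T]

/-- primes of a quotient over `P` versus primes containing the ideal. -/
lemma existsUnique_prime_quotient (P : Ideal R') (I : Ideal T)
    (h : ∃! Q : Ideal T, Q.IsPrime ∧ I ≤ Q ∧ Q.comap (algebraMap R' T) = P) :
    ∃! r : Ideal (T ⧸ I), r.IsPrime ∧ r.comap (algebraMap R' (T ⧸ I)) = P := by
  obtain ⟨Q, ⟨hQ, hIQ, hQP⟩, huniq⟩ := h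
  have hker : RingHom.ker (Ideal.Quotient.mk I) ≤ Q := by rwa [Ideal.mk_ker]
  have hcm : (Q.map (Ideal.Quotient.mk I)).comap (Ideal.Quotient.mk I) = Q := by
    rw [Ideal.comap_map_of_surjective _ Ideal.Quotient.mk_surjective, ← RingHom.ker_eq_comap_bot]
    exact sup_eq_left.mpr hker
  refine ⟨Q.map (Ideal.Quotient.mk I),
    ⟨Ideal.map_isPrime_of_surjective Ideal.Quotient.mk_surjective hker, ?_⟩, ?_⟩
  · rw [IsScalarTower.algebraMap_eq R' T (T ⧸ I), ← Ideal.comap_comap]
    change Ideal.comap (algebraMap R' T) (Ideal.comap (Ideal.Quotient.mk I) _) = P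
    rw [hcm, hQP]
  · rintro r ⟨hr, hrP⟩
    have : r.comap (Ideal.Quotient.mk I) = Q := by
      apply huniq
      refine ⟨Ideal.comap_isPrime _ _, ?_, ?_⟩
      · intro x hx
        rw [Ideal.mem_comap, Ideal.Quotient.eq_zero_iff_mem.mpr hx]
        exact r.zero_mem
      · rw [Ideal.comap_comap]
        exact hrP
    rw [← this, Ideal.map_comap_of_surjective _ Ideal.Quotient.mk_surjective]

lemma IsDecomp.exists_equiv {P : Ideal R'} {ι : Type} [Fintype ι] {F : Option ι → Ideal T}
    (h : IsDecomp R' T P ι F) :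
    ∃ (n : ℕ) (A : Fin n → Type u) (_ : ∀ i, CommRing (A i)) (_ : ∀ i, Algebra R' (A i))
      (B : Type u) (_ : CommRing B) (_ : Algebra R' B),
      Nonempty (T ≃ₐ[R'] ((∀ i, A i) × B)) ∧
      (∀ i, Module.Finite R' (A i) ∧
        ∃! r : Ideal (A i), r.IsPrime ∧ r.comap (algebraMap R' (A i)) = P) ∧
      ∀ (q : Ideal B) [q.IsPrime], q.comap (algebraMap R' B) = P →
        ¬ Algebra.QuasiFiniteAt R' q := by
  classical
  let ε : ι ≃ Fin (Fintype.card ι) := Fintype.equivFin ι
  let A : Fin (Fintype.card ι) → Type u := fun i => T ⧸ F (some (ε.symm i))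
  let Ψ : T →ₐ[R'] ((∀ i, A i) × (T ⧸ F none)) :=
    AlgHom.prod (AlgHom.pi (fun i => Ideal.Quotient.mkₐ R' (F (some (ε.symm i)))))
      (Ideal.Quotient.mkₐ R' (F none))
  have hΨ : Function.Bijective Ψ := by
    constructor
    · rw [injective_iff_map_eq_zero]
      intro x hx
      have h1 : ∀ i, x ∈ F (some (ε.symm i)) := fun i => by
        have := congrFun (congrArg Prod.fst hx) i
        exact Ideal.Quotient.eq_zero_iff_mem.mp this
      have h2 : x ∈ F none := Ideal.Quotient.eq_zero_iff_mem.mp (congrArg Prod.snd hx)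
      have : x ∈ ⨅ o, F o := by
        rw [Ideal.mem_iInf]
        rintro (_ | j)
        · exact h2
        · have := h1 (ε j)
          rwa [ε.symm_apply_apply] at this
      rw [h.inf] at this
      exact this
    · rintro ⟨a, b⟩
      choose a' ha' using fun i => Ideal.Quotient.mk_surjective (a i)
      obtain ⟨b', hb'⟩ := Ideal.Quotient.mk_surjective b
      obtain ⟨r, hr⟩ := Ideal.exists_forall_sub_mem_ideal h.cop
        (fun o => o.elim b' (fun j => a' (ε j)))
      refine ⟨r, Prod.ext (funext fun i => ?_) ?_⟩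
      · change Ideal.Quotient.mk _ r = a i
        rw [← ha' i]
        have := hr (some (ε.symm i))
        simp only [Option.elim_some, Equiv.apply_symm_apply] at this
        exact (Ideal.Quotient.eq).mpr this
      · change Ideal.Quotient.mk _ r = b
        rw [← hb']
        exact (Ideal.Quotient.eq).mpr (hr none)
  refine ⟨Fintype.card ι, A, inferInstance, inferInstance, T ⧸ F none, inferInstance, inferInstance,
    ⟨AlgEquiv.ofBijective Ψ hΨ⟩, fun i => ⟨h.fin _, existsUnique_prime_quotient P _ (h.uniq _)⟩,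
    fun q _ hq => h.nqf q hq⟩

end Groth.Agent.H48.QFDecomp
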