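import Mathlib
import Groth.Agent.H48.QFDecomp2

open TensorProduct

namespace Groth.Agent.H48.QFDecomp
universe u

lemma eq_zero_of_mem_span_of_mem_span {T : Type*} [CommRing T] {E x : T} (hE : IsIdempotentElem E)
    (h1 : x ∈ Ideal.span {1 - E}) (h2 : x ∈ Ideal.span {E}) : x = 0 := by
  obtain ⟨a, rfl⟩ := Ideal.mem_span_singleton'.mp h1
  obtain ⟨b, hb⟩ := Ideal.mem_span_singleton'.mp h2
  have h3 : a * (1 - E) * E = 0 := by
    rw [mul_assoc, sub_mul, one_mul, hE.eq, sub_self, mul_zero]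
  have h4 : b * E * E = b * E := by rw [mul_assoc, hE.eq]
  rw [hb] at h4
  rw [← h4, h3]

theorem step_decomp_abstract {R'' T'' T₁ : Type u} [CommRing R''] [CommRing T''] [CommRing T₁]
    [Algebra R'' T''] [Algebra R'' T₁] (θ : T'' →ₐ[R''] T₁) (hθs : Function.Surjective θ)
    (E : T'') (hEi : IsIdempotentElem E) (hθker : ∀ x, θ x = 0 ↔ x ∈ Ideal.span {E})
    (P'' : Ideal R'') (ι : Type) (F₁ : Option ι → Ideal T₁)
    (hdec : IsDecomp R'' T₁ P'' ι F₁)
    (hfin0 : Module.Finite R'' (T'' ⧸ Ideal.span {1 - E}))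
    (huniq0 : ∃! Q : Ideal T'', Q.IsPrime ∧ Ideal.span {1 - E} ≤ Q ∧
      Q.comap (algebraMap R'' T'') = P'') :
    ∃ F : Option (Option ι) → Ideal T'', IsDecomp R'' T'' P'' (Option ι) F := by
  classical
  have hθE : θ E = 0 := (hθker E).mpr (Ideal.mem_span_singleton_self E)
  let Kt : Ideal T₁ → Ideal T'' := fun K => K.comap θ
  have hKt : ∀ K x, x ∈ Kt K ↔ θ x ∈ K := fun K x => Ideal.mem_comap
  have hkerKt : ∀ K, RingHom.ker θ ≤ Kt K := fun K x hx => by
    rw [hKt, (RingHom.mem_ker).mp hx]; exact K.zero_mem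
  let F : Option (Option ι) → Ideal T'' := fun o =>
    match o with
    | none => Kt (F₁ none)
    | some none => Ideal.span {1 - E}
    | some (some j) => Kt (F₁ (some j))
  have c1 : ∀ K, IsCoprime (Ideal.span {1 - E}) (Kt K) := fun K => by
    rw [Ideal.isCoprime_iff_exists]
    refine ⟨1 - E, Ideal.mem_span_singleton_self _, E, ?_, by ring⟩
    rw [hKt, hθE]; exact K.zero_mem
  have c2 : ∀ K K', IsCoprime K K' → IsCoprime (Kt K) (Kt K') := fun K K' h => by
    rw [Ideal.isCoprime_iff_exists] at h ⊢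
    obtain ⟨a, ha, b, hb, hab⟩ := h
    obtain ⟨a', rfl⟩ := hθs a
    refine ⟨a', (hKt K a').mpr ha, 1 - a', ?_, by ring⟩
    rw [hKt, map_sub, map_one, ← hab, add_sub_cancel_left]
    exact hb
  -- the quotient isomorphisms
  let qe : ∀ K : Ideal T₁, (T'' ⧸ Kt K) ≃ₐ[R''] (T₁ ⧸ K) := fun K =>
    AlgEquiv.ofBijective (Ideal.quotientMapₐ K θ le_rfl)
      ⟨fun a b hab => Ideal.quotientMap_injective (I := K) (f := (θ : T'' →+* T₁)) hab,
        fun x => Ideal.quotientMap_surjective (J := Kt K) (I := K) (f := (θ : T'' →+* T₁))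
          (H := le_rfl) hθs x⟩
  -- transport of the unique prime
  have hu : ∀ K : Ideal T₁,
      (∃! Q : Ideal T₁, Q.IsPrime ∧ K ≤ Q ∧ Q.comap (algebraMap R'' T₁) = P'') →
      ∃! Q : Ideal T'', Q.IsPrime ∧ Kt K ≤ Q ∧ Q.comap (algebraMap R'' T'') = P'' := by
    rintro K ⟨Q₁, ⟨hQ₁, hKQ₁, hQ₁P⟩, huniq⟩
    refine ⟨Q₁.comap θ, ⟨Ideal.comap_isPrime _ _, Ideal.comap_mono hKQ₁, ?_⟩, ?_⟩
    · rw [← hQ₁P]
      ext r
      simp only [Ideal.mem_comap, AlgHom.commutes]
    · rintro Q ⟨hQ, hKQ, hQP⟩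
      have hker : RingHom.ker θ ≤ Q := (hkerKt K).trans hKQ
      have hcm : (Q.map θ).comap θ = Q := by
        rw [Ideal.comap_map_of_surjective _ hθs]
        exact sup_eq_left.mpr (by rwa [← RingHom.ker_eq_comap_bot])
      have : Q.map θ = Q₁ := by
        apply huniq
        refine ⟨Ideal.map_isPrime_of_surjective hθs hker, ?_, ?_⟩
        · rw [← Ideal.map_comap_of_surjective _ hθs K]
          exact Ideal.map_mono hKQ
        · rw [← hQP]
          conv_rhs => rw [← hcm]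
          ext r
          simp only [Ideal.mem_comap, AlgHom.commutes]
      rw [← this, hcm]
  refine ⟨F, ?_, ?_, ?_, ?_, ?_⟩
  · -- pairwise coprime
    intro o o' hne
    rcases o with _ | _ | j <;> rcases o' with _ | _ | j'
    · exact absurd rfl hne
    · exact (c1 _).symm
    · exact c2 _ _ (hdec.cop (by simp))
    · exact c1 _
    · exact absurd rfl hne
    · exact c1 _
    · exact c2 _ _ (hdec.cop (by simp))
    · exact (c1 _).symm
    · exact c2 _ _ (hdec.cop (fun h => hne (by rw [h])))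
  · -- zero intersection
    rw [eq_bot_iff]
    intro x hx
    rw [Ideal.mem_iInf] at hx
    have h1 : x ∈ Ideal.span {1 - E} := hx (some none)
    have h2 : θ x ∈ ⨅ o, F₁ o := by
      rw [Ideal.mem_iInf]
      rintro (_ | j)
      · exact (hKt _ x).mp (hx none)
      · exact (hKt _ x).mp (hx (some (some j)))
    rw [hdec.inf] at h2
    have h3 : x ∈ Ideal.span {E} := (hθker x).mp h2
    exact eq_zero_of_mem_span_of_mem_span hEi h1 h3
  · rintro (_ | j)
    · exact hfin0
    · haveI := hdec.fin j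
      exact Module.Finite.equiv (qe (F₁ (some j))).symm.toLinearEquiv
  · rintro (_ | j)
    · exact huniq0
    · exact hu _ (hdec.uniq j)
  · intro q hq hqP hqf
    let q₁ : Ideal (T₁ ⧸ F₁ none) := q.comap (qe (F₁ none)).symm.toRingHom
    haveI : Algebra.QuasiFiniteAt R'' q₁ :=
      Algebra.QuasiFiniteAt.comap_algEquiv q (qe (F₁ none)).symm
    refine hdec.nqf q₁ ?_ ‹_›
    rw [← hqP]
    change Ideal.comap (algebraMap R'' (T₁ ⧸ F₁ none))
      (Ideal.comap (qe (F₁ none)).symm.toRingHom q) = _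
    rw [Ideal.comap_comap]
    congr 1
    ext r
    exact (qe (F₁ none)).symm.commutes r

end Groth.Agent.H48.QFDecomp
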