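import Mathlib
import Groth.Agent.H48.QFDecomp3

open TensorProduct

namespace Groth.Agent.H48.QFDecomp
universe u

section step

variable {R R' R'' S : Type u} [CommRing R] [CommRing R'] [CommRing R''] [CommRing S]
  [Algebra R R'] [Algebra R R''] [Algebra R' R''] [IsScalarTower R R' R''] [Algebra R S]

/-- finiteness of the idempotent piece after base change -/
lemma finite_quotient_one_sub (e : R' ⊗[R] S) (he : IsIdempotentElem e)
    (hfin : Module.Finite R' (Localization.Away e)) :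
    Module.Finite R'' ((R'' ⊗[R] S) ⧸ Ideal.span
      {1 - (Algebra.TensorProduct.rTensor S (Algebra.ofId R' R'') : R' ⊗[R] S →ₐ[R'] R'' ⊗[R] S) e}) := by
  haveI : IsLocalization.Away e ((R' ⊗[R] S) ⧸ Ideal.span {1 - e}) :=
    IsLocalization.Away.quotient_of_isIdempotentElem he
  let eqv : Localization.Away e ≃ₐ[R' ⊗[R] S] ((R' ⊗[R] S) ⧸ Ideal.span {1 - e}) :=
    IsLocalization.algEquiv (Submonoid.powers e) _ _
  haveI : Module.Finite R' ((R' ⊗[R] S) ⧸ Ideal.span {1 - e}) :=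
    Module.Finite.equiv (eqv.restrictScalars R').toLinearEquiv
  have hφ : (Algebra.TensorProduct.rTensor S (Algebra.ofId R' R'') :
      R' ⊗[R] S →ₐ[R'] R'' ⊗[R] S) (1 - e) =
      1 - (Algebra.TensorProduct.rTensor S (Algebra.ofId R' R'') :
        R' ⊗[R] S →ₐ[R'] R'' ⊗[R] S) e := by
    rw [map_sub, map_one]
  rw [← hφ]
  exact Module.Finite.equiv (Algebra.tensorQuotientTensorEquiv R'' (1 - e)).toLinearEquiv

/-- the unique prime of the idempotent piece after base change -/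
lemma existsUnique_prime_one_sub (p : Ideal R) [p.IsPrime] (P : Ideal R') [P.IsPrime]
    [P.LiesOver p] (P'' : Ideal R'') [P''.IsPrime] [P''.LiesOver P] [P''.LiesOver p]
    (hpP : Function.Bijective (Ideal.ResidueField.mapₐ p P (Algebra.ofId _ _) (P.over_def p)))
    (hpP'' : Function.Bijective
      (Ideal.ResidueField.mapₐ p P'' (Algebra.ofId _ _) (P''.over_def p)))
    (e : R' ⊗[R] S) (he : IsIdempotentElem e)
    (P' : Ideal (R' ⊗[R] S)) [P'.IsPrime] [P'.LiesOver P] (heP' : e ∉ P')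
    (H : ∀ Q : Ideal (R' ⊗[R] S), Q.IsPrime → Q.LiesOver P → e ∉ Q → Q = P') :
    ∃! Q : Ideal (R'' ⊗[R] S), Q.IsPrime ∧
      Ideal.span {1 - (Algebra.TensorProduct.rTensor S (Algebra.ofId R' R'') :
        R' ⊗[R] S →ₐ[R'] R'' ⊗[R] S) e} ≤ Q ∧
      Q.comap (algebraMap R'' (R'' ⊗[R] S)) = P'' := by
  set φ : R' ⊗[R] S →ₐ[R'] R'' ⊗[R] S :=
    Algebra.TensorProduct.rTensor S (Algebra.ofId R' R'') with hφ
  have hEi : IsIdempotentElem (φ e) := he.map φ
  -- general facts about `comap φ`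
  have hover : ∀ Q : Ideal (R'' ⊗[R] S), Q.comap (algebraMap R'' (R'' ⊗[R] S)) = P'' →
      (Q.comap φ).comap (algebraMap R' (R' ⊗[R] S)) = P := by
    intro Q hQ
    rw [P''.over_def P, Ideal.under_def, ← hQ]
    ext r
    simp only [Ideal.mem_comap, AlgHom.commutes]
    rw [IsScalarTower.algebraMap_apply R' R'' (R'' ⊗[R] S)]
  have hinc : ∀ Q : Ideal (R'' ⊗[R] S),
      (Q.comap φ).comap (Algebra.TensorProduct.includeRight : S →ₐ[R] R' ⊗[R] S) =
      Q.comap (Algebra.TensorProduct.includeRight : S →ₐ[R] R'' ⊗[R] S) := by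
    intro Q
    ext s
    simp only [Ideal.mem_comap, Algebra.TensorProduct.includeRight_apply]
    rw [hφ, Algebra.TensorProduct.map_tmul, map_one, AlgHom.id_apply]
  have hmem : ∀ Q : Ideal (R'' ⊗[R] S), Q.IsPrime → (φ e ∉ Q ↔ 1 - φ e ∈ Q) := by
    intro Q hQ
    constructor
    · intro h
      have : φ e * (1 - φ e) ∈ Q := by
        rw [mul_sub, mul_one, hEi.eq, sub_self]; exact Q.zero_mem
      exact (hQ.mem_or_mem this).resolve_left h
    · intro h h'
      exact hQ.ne_top ((Ideal.eq_top_iff_one _).mpr (by simpa using Q.add_mem h h'))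
  -- the prime of `S`
  set q : Ideal S := P'.comap (Algebra.TensorProduct.includeRight : S →ₐ[R] R' ⊗[R] S) with hq
  haveI : q.IsPrime := Ideal.comap_isPrime _ _
  haveI : q.LiesOver p := ⟨by
    rw [Ideal.under_def, hq, P.over_def p, P'.over_def P, Ideal.under_def, Ideal.under_def]
    ext r
    simp only [Ideal.mem_comap, AlgHom.commutes]
    rw [IsScalarTower.algebraMap_apply R R' (R' ⊗[R] S)]⟩
  let Q₀' := (Ideal.fiberIsoOfBijectiveResidueField (S := S) hpP'').symm ⟨q, inferInstance, inferInstance⟩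
  set Q₀ : Ideal (R'' ⊗[R] S) := Q₀'.1 with hQ₀
  haveI hQ₀p : Q₀.IsPrime := Q₀'.2.1
  haveI hQ₀o : Q₀.LiesOver P'' := Q₀'.2.2
  have hQ₀q : Q₀.comap (Algebra.TensorProduct.includeRight : S →ₐ[R] R'' ⊗[R] S) = q :=
    Ideal.comap_fiberIsoOfBijectiveResidueField_symm hpP'' ⟨q, inferInstance, inferInstance⟩
  have hQ₀P'' : Q₀.comap (algebraMap R'' (R'' ⊗[R] S)) = P'' := (Q₀.over_def P'').symm
  have key : ∀ Q : Ideal (R'' ⊗[R] S), Q.IsPrime → Q.comap (algebraMap R'' (R'' ⊗[R] S)) = P'' →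
      Q.comap (Algebra.TensorProduct.includeRight : S →ₐ[R] R'' ⊗[R] S) = q → Q.comap φ = P' := by
    intro Q hQ hQP hQq
    haveI : (Q.comap φ).IsPrime := Ideal.comap_isPrime _ _
    haveI : (Q.comap φ).LiesOver P := ⟨(hover Q hQP).symm⟩
    exact Ideal.eq_of_comap_eq_comap_of_bijective_residueFieldMap hpP (Q.comap φ) P'
      ((hinc Q).trans hQq)
  refine ⟨Q₀, ⟨hQ₀p, ?_, hQ₀P''⟩, ?_⟩
  · rw [Ideal.span_singleton_le_iff_mem, ← hmem Q₀ hQ₀p]
    intro h
    have : e ∈ Q₀.comap φ := h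
    rw [key Q₀ hQ₀p hQ₀P'' hQ₀q] at this
    exact heP' this
  · rintro Q ⟨hQ, hEQ, hQP⟩
    rw [Ideal.span_singleton_le_iff_mem, ← hmem Q hQ] at hEQ
    haveI : (Q.comap φ).IsPrime := Ideal.comap_isPrime _ _
    haveI : (Q.comap φ).LiesOver P := ⟨(hover Q hQP).symm⟩
    have h1 : Q.comap φ = P' := H _ inferInstance inferInstance hEQ
    haveI : Q.LiesOver P'' := ⟨hQP.symm⟩
    refine Ideal.eq_of_comap_eq_comap_of_bijective_residueFieldMap hpP'' Q Q₀ ?_
    change Q.comap (Algebra.TensorProduct.includeRight : S →ₐ[R] R'' ⊗[R] S) =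
      Q₀.comap (Algebra.TensorProduct.includeRight : S →ₐ[R] R'' ⊗[R] S)
    rw [hQ₀q, ← hinc Q, h1]

end step

end Groth.Agent.H48.QFDecomp
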