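import Mathlib
import Groth.Agent.H48.QFDecomp2

open TensorProduct

namespace Groth.Agent.H48.QFDecomp
universe u

/-- base case -/
lemma isDecomp_of_qfSet_eq_empty (R S : Type u) [CommRing R] [CommRing S] [Algebra R S]
    (p : Ideal R) [p.IsPrime] (hempty : qfSet R S ⟨p, inferInstance⟩ = ∅) :
    IsDecomp R (R ⊗[R] S) p Empty (fun _ => ⊥) := by
  refine ⟨?_, ?_, fun i => i.elim, fun i => i.elim, ?_⟩
  · intro o o' hne
    rcases o with _ | j
    · rcases o' with _ | j'
      · exact absurd rfl hne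
      · exact j'.elim
    · exact j.elim
  · exact le_bot_iff.mp (iInf_le _ none)
  · intro q hq hqp hqf
    let eqv : S ≃ₐ[R] (R ⊗[R] S) ⧸ (⊥ : Ideal (R ⊗[R] S)) :=
      (Algebra.TensorProduct.lid R S).symm.trans (AlgEquiv.quotientBot R _).symm
    haveI : Algebra.QuasiFiniteAt R (q.comap eqv.toRingHom) :=
      Algebra.QuasiFiniteAt.comap_algEquiv q eqv
    have hmem : (⟨q.comap eqv.toRingHom, inferInstance⟩ : PrimeSpectrum S) ∈
        qfSet R S ⟨p, inferInstance⟩ := by
      refine ⟨?_, ‹_›⟩
      ext1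
      change Ideal.comap (algebraMap R S) (Ideal.comap eqv.toRingHom q) = p
      rw [Ideal.comap_comap, ← hqp]
      congr 1
      ext r
      exact eqv.commutes r
    rw [hempty] at hmem
    exact hmem

end Groth.Agent.H48.QFDecomp
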