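import Mathlib
import Groth.Agent.H48.QFDecomp4
import Groth.Agent.H48.QFDecomp5

open TensorProduct

namespace Groth.Agent.H48.QFDecomp
universe u

theorem exists_isDecomp (R S : Type u) [CommRing R] [CommRing S] [Algebra R S]
    [Algebra.FiniteType R S] (p : Ideal R) [p.IsPrime] :
    ∃ (R' : Type u) (_ : CommRing R') (_ : Algebra R R') (_ : Algebra.Etale R R') (P : Ideal R')
      (_ : P.IsPrime) (_ : P.LiesOver p),
      Function.Bijective (Ideal.ResidueField.mapₐ p P (Algebra.ofId _ _) (P.over_def p)) ∧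
      ∃ (ι : Type) (_ : Fintype ι) (F : Option ι → Ideal (R' ⊗[R] S)),
        IsDecomp R' (R' ⊗[R] S) P ι F := by
  induction h : (qfSet R S ⟨p, inferInstance⟩).ncard using Nat.strong_induction_on
    generalizing R S with
  | h N IH =>
    by_cases hempty : qfSet R S ⟨p, inferInstance⟩ = ∅
    · refine ⟨R, inferInstance, inferInstance, inferInstance, p, inferInstance, ⟨rfl⟩, ?_,
        Empty, inferInstance, fun _ => ⊥, isDecomp_of_qfSet_eq_empty R S p hempty⟩
      rw! [Algebra.ofId_self, Ideal.ResidueField.mapₐ_id]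
      exact Function.bijective_id
    · obtain ⟨q, hq⟩ := Set.nonempty_iff_ne_empty.mpr hempty
      haveI : q.asIdeal.LiesOver p := ⟨congrArg PrimeSpectrum.asIdeal hq.1.symm⟩
      haveI : Algebra.QuasiFiniteAt R q.asIdeal := hq.2
      obtain ⟨R', _, _, _, P, _, _, e, he, P', _, _, hP'q, heP', hpP, hfin, H⟩ :=
        Algebra.exists_etale_isIdempotentElem_forall_liesOver_eq p q.asIdeal
      -- the complementary piece
      have hincl : ∀ Q : Ideal (R' ⊗[R] S),
          (Q.comap (Algebra.TensorProduct.includeRight : S →ₐ[R] R' ⊗[R] S)).comap (algebraMap R S) =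
            Q.comap (algebraMap R (R' ⊗[R] S)) := by
        intro Q
        ext r
        simp only [Ideal.mem_comap, AlgHom.commutes]
      have hQover : ∀ Q₁ : PrimeSpectrum ((R' ⊗[R] S) ⧸ Ideal.span {e}),
          PrimeSpectrum.comap (algebraMap R' ((R' ⊗[R] S) ⧸ Ideal.span {e})) Q₁ = ⟨P, inferInstance⟩ →
          (Q₁.asIdeal.comap (Ideal.Quotient.mk (Ideal.span {e}))).LiesOver P := by
        intro Q₁ hQ₁
        constructor
        exact (congrArg PrimeSpectrum.asIdeal hQ₁).symm
      have hlt : (qfSet R' ((R' ⊗[R] S) ⧸ Ideal.span {e}) ⟨P, inferInstance⟩).ncard < N := by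
        let ρ : S →+* (R' ⊗[R] S) ⧸ Ideal.span {e} :=
          (Ideal.Quotient.mk (Ideal.span {e})).comp
            (Algebra.TensorProduct.includeRight : S →ₐ[R] R' ⊗[R] S).toRingHom
        have hmaps : ∀ Q₁ ∈ qfSet R' ((R' ⊗[R] S) ⧸ Ideal.span {e}) ⟨P, inferInstance⟩,
            PrimeSpectrum.comap ρ Q₁ ∈ qfSet R S ⟨p, inferInstance⟩ \ {q} := by
          intro Q₁ hQ₁
          haveI : Algebra.QuasiFiniteAt R' Q₁.asIdeal := hQ₁.2
          haveI := quasiFiniteAt_comap_mk_of_isIdempotentElem (R' := R') e he Q₁.asIdeal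
          haveI := hQover Q₁ hQ₁.1
          obtain ⟨hprime, hqf⟩ := quasiFiniteAt_comap_of_bijective p P hpP
            (Q₁.asIdeal.comap (Ideal.Quotient.mk (Ideal.span {e})))
          refine ⟨⟨?_, hqf⟩, ?_⟩
          · ext1
            change Ideal.comap (algebraMap R S) (Ideal.comap (Algebra.TensorProduct.includeRight :
              S →ₐ[R] R' ⊗[R] S) (Q₁.asIdeal.comap (Ideal.Quotient.mk (Ideal.span {e})))) = p
            rw [hincl]
            haveI : (Q₁.asIdeal.comap (Ideal.Quotient.mk (Ideal.span {e}))).LiesOver p :=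
              .trans _ P _
            exact ((Q₁.asIdeal.comap (Ideal.Quotient.mk (Ideal.span {e}))).over_def p).symm
          · intro hmem
            have hmem' : PrimeSpectrum.comap ρ Q₁ = q := hmem
            have h1 : (Q₁.asIdeal.comap (Ideal.Quotient.mk (Ideal.span {e}))).comap
                (Algebra.TensorProduct.includeRight : S →ₐ[R] R' ⊗[R] S).toRingHom =
                P'.comap (Algebra.TensorProduct.includeRight : S →ₐ[R] R' ⊗[R] S).toRingHom := by
              rw [hP'q, ← hmem']
              rfl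
            have h2 := Ideal.eq_of_comap_eq_comap_of_bijective_residueFieldMap hpP _ P' h1
            apply heP'
            rw [← h2, Ideal.mem_comap, Ideal.Quotient.eq_zero_iff_mem.mpr
              (Ideal.mem_span_singleton_self e)]
            exact Q₁.asIdeal.zero_mem
        have hinj : Set.InjOn (PrimeSpectrum.comap ρ)
            (qfSet R' ((R' ⊗[R] S) ⧸ Ideal.span {e}) ⟨P, inferInstance⟩) := by
          intro Q₁ hQ₁ Q₂ hQ₂ h12
          haveI := hQover Q₁ hQ₁.1
          haveI := hQover Q₂ hQ₂.1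
          have h1 : (Q₁.asIdeal.comap (Ideal.Quotient.mk (Ideal.span {e}))).comap
              (Algebra.TensorProduct.includeRight : S →ₐ[R] R' ⊗[R] S).toRingHom =
              (Q₂.asIdeal.comap (Ideal.Quotient.mk (Ideal.span {e}))).comap
              (Algebra.TensorProduct.includeRight : S →ₐ[R] R' ⊗[R] S).toRingHom :=
            congrArg PrimeSpectrum.asIdeal h12
          have h2 := Ideal.eq_of_comap_eq_comap_of_bijective_residueFieldMap hpP _ _ h1
          exact PrimeSpectrum.ext
            (Ideal.comap_injective_of_surjective _ Ideal.Quotient.mk_surjective h2)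
        calc (qfSet R' ((R' ⊗[R] S) ⧸ Ideal.span {e}) ⟨P, inferInstance⟩).ncard
            ≤ (qfSet R S ⟨p, inferInstance⟩ \ {q}).ncard :=
              Set.ncard_le_ncard_of_injOn _ hmaps hinj ((finite_qfSet _).sdiff)
          _ < N := h ▸ Set.ncard_sdiff_singleton_lt_of_mem hq (finite_qfSet _)
      obtain ⟨R'', _, _, hét, P'', _, _, hPP'', ι, _, F₁, hdec⟩ :=
        IH _ hlt R' ((R' ⊗[R] S) ⧸ Ideal.span {e}) P rfl
      letI : Algebra R R'' := .compHom _ (algebraMap R R')
      haveI : IsScalarTower R R' R'' := .of_algebraMap_eq' rfl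
      haveI : Algebra.Etale R R'' := Algebra.Etale.comp R R' R''
      haveI : P''.LiesOver p := .trans P'' P p
      have hpP'' : Function.Bijective
          (Ideal.ResidueField.mapₐ p P'' (Algebra.ofId _ _) (P''.over_def p)) := by
        convert hPP''.comp hpP
        rw [← @AlgHom.coe_restrictScalars' R R', ← AlgHom.coe_comp]; congr 1; ext
      let φ : R' ⊗[R] S →ₐ[R'] R'' ⊗[R] S :=
        Algebra.TensorProduct.rTensor S (Algebra.ofId R' R'')
      let e₁ := Algebra.tensorQuotientTensorEquiv R'' e
      let θ : R'' ⊗[R] S →ₐ[R''] R'' ⊗[R'] ((R' ⊗[R] S) ⧸ Ideal.span {e}) :=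
        e₁.symm.toAlgHom.comp (Ideal.Quotient.mkₐ R'' (Ideal.span {φ e}))
      have hθs : Function.Surjective θ :=
        e₁.symm.surjective.comp Ideal.Quotient.mk_surjective
      have hθker : ∀ x, θ x = 0 ↔ x ∈ Ideal.span {φ e} := fun x => by
        change e₁.symm (Ideal.Quotient.mk _ x) = 0 ↔ _
        rw [map_eq_zero_iff _ e₁.symm.injective, Ideal.Quotient.eq_zero_iff_mem]
      obtain ⟨F, hF⟩ := step_decomp_abstract θ hθs (φ e) (he.map φ) hθker P'' ι F₁ hdec
        (finite_quotient_one_sub e he hfin)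
        (existsUnique_prime_one_sub p P P'' hpP hpP'' e he P' heP'
          (fun Q h₁ h₂ h₃ => H Q h₁ h₂ h₃))
      exact ⟨R'', inferInstance, inferInstance, inferInstance, P'', inferInstance, inferInstance,
        hpP'', Option ι, inferInstance, F, hF⟩

end Groth.Agent.H48.QFDecomp
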