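import Mathlib
import Groth.Agent.H48.QFDecomp6

open TensorProduct

namespace Groth.Agent.H48.QFDecomp
universe u

lemma closure_range_eq_top_of_bijective {R R' : Type u} [CommRing R] [CommRing R'] [Algebra R R']
    (p : Ideal R) [p.IsPrime] (P : Ideal R') [P.IsPrime] [P.LiesOver p]
    (hpP : Function.Bijective (Ideal.ResidueField.mapₐ p P (Algebra.ofId _ _) (P.over_def p))) :
    Subfield.closure (Set.range (algebraMap R P.ResidueField)) = ⊤ := by
  rw [eq_top_iff]
  rintro z -
  obtain ⟨w, rfl⟩ := hpP.2 z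
  obtain ⟨a, b, -, rfl⟩ := IsFractionRing.div_surjective (A := R ⧸ p) w
  obtain ⟨a, rfl⟩ := Ideal.Quotient.mk_surjective a
  obtain ⟨b, rfl⟩ := Ideal.Quotient.mk_surjective b
  rw [map_div₀]
  have key : ∀ r : R, (Ideal.ResidueField.mapₐ p P (Algebra.ofId _ _) (P.over_def p))
      (algebraMap (R ⧸ p) p.ResidueField (Ideal.Quotient.mk p r)) =
      algebraMap R P.ResidueField r := by
    intro r
    have : algebraMap (R ⧸ p) p.ResidueField (Ideal.Quotient.mk p r) =
        algebraMap R p.ResidueField r := rfl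
    rw [this, AlgHom.commutes]
  rw [key, key]
  exact div_mem (Subfield.subset_closure ⟨a, rfl⟩) (Subfield.subset_closure ⟨b, rfl⟩)

theorem exists_etale_decomp (R : Type u) [CommRing R]
    (S : Type u) [CommRing S] [Algebra R S] [Algebra.FiniteType R S] (p : Ideal R) [p.IsPrime] :
    ∃ (R' : Type u) (_ : CommRing R') (_ : Algebra R R') (_ : Algebra.Etale R R') (p' : Ideal R')
      (_ : p'.IsPrime) (_ : p'.LiesOver p) (n : ℕ) (A : Fin n → Type u) (_ : ∀ i, CommRing (A i))
      (_ : ∀ i, Algebra R' (A i)) (B : Type u) (_ : CommRing B) (_ : Algebra R' B),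
      Subfield.closure (Set.range (algebraMap R p'.ResidueField)) = ⊤ ∧
      Nonempty ((R' ⊗[R] S) ≃ₐ[R'] ((∀ i, A i) × B)) ∧
        (∀ i, Module.Finite R' (A i) ∧
          ∃! r : Ideal (A i), r.IsPrime ∧ r.comap (algebraMap R' (A i)) = p') ∧
        ∀ (q : Ideal B) [q.IsPrime], q.comap (algebraMap R' B) = p' →
          ¬ Algebra.QuasiFiniteAt R' q := by
  obtain ⟨R', _, _, _, P, _, _, hpP, ι, _, F, hF⟩ := exists_isDecomp R S p
  obtain ⟨n, A, _, _, B, _, _, hequiv, hA, hB⟩ := hF.exists_equiv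
  exact ⟨R', inferInstance, inferInstance, inferInstance, P, inferInstance, inferInstance, n, A,
    inferInstance, inferInstance, B, inferInstance, inferInstance,
    closure_range_eq_top_of_bijective p P hpP, hequiv, hA, hB⟩

end Groth.Agent.H48.QFDecomp
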