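import Mathlib
import Groth.Agent.H48.SmulHom
import Groth.Agent.H49.InjCokerOpen
import Groth.Agent.S4863
import Groth.Agent.S4850

/-!
# Openness of the locus where a sequence of sections is fibrewise weakly regular (helper48)
-/

set_option autoImplicit false
universe u
open CategoryTheory CategoryTheory.Limits AlgebraicGeometry TopologicalSpace Opposite Pointwise

namespace Groth.Agent.H48.RegOpen

/-- `(N/JN)/a(N/JN) ≅ N₁/JN₁` when `N₁ = N/aN`. -/
noncomputable def quotSMulTopQuotEquiv {S N N₁ : Type u} [CommRing S] [AddCommGroup N] [Module S N]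
    [AddCommGroup N₁] [Module S N₁] (J : Ideal S) (a : S) (π₁ : N →ₗ[S] N₁)
    (hπ₁ : Function.Surjective π₁) (hker : LinearMap.ker π₁ = a • (⊤ : Submodule S N)) :
    QuotSMulTop a (N ⧸ (J • ⊤ : Submodule S N)) ≃ₗ[S] N₁ ⧸ (J • ⊤ : Submodule S N₁) := by
  let ρ : (N ⧸ (J • ⊤ : Submodule S N)) →ₗ[S] N₁ ⧸ (J • ⊤ : Submodule S N₁) :=
    Submodule.mapQ _ _ π₁ (Submodule.smul_top_le_comap_smul_top J π₁)
  have hρ : Function.Surjective ρ := by
    intro z
    obtain ⟨z, rfl⟩ := Submodule.Quotient.mk_surjective _ z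
    obtain ⟨y, rfl⟩ := hπ₁ z
    exact ⟨Submodule.Quotient.mk y, rfl⟩
  have hmap : (J • ⊤ : Submodule S N₁) = (J • ⊤ : Submodule S N).map π₁ := by
    rw [Submodule.map_smul'', Submodule.map_top, LinearMap.range_eq_top.mpr hπ₁]
  have hkerρ : LinearMap.ker ρ = a • (⊤ : Submodule S (N ⧸ (J • ⊤ : Submodule S N))) := by
    apply le_antisymm
    · intro z hz
      obtain ⟨x, rfl⟩ := Submodule.Quotient.mk_surjective _ z
      rw [LinearMap.mem_ker] at hz
      change Submodule.Quotient.mk (π₁ x) = 0 at hz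
      rw [Submodule.Quotient.mk_eq_zero, hmap] at hz
      obtain ⟨y, hy, hyx⟩ := hz
      have h1 : x - y ∈ LinearMap.ker π₁ := by
        rw [LinearMap.mem_ker, map_sub, hyx, sub_self]
      rw [hker] at h1
      obtain ⟨w, -, hw⟩ := (Submodule.mem_smul_pointwise_iff_exists _ _ _).mp h1
      have h2 : (Submodule.Quotient.mk x : N ⧸ (J • ⊤ : Submodule S N)) =
          a • Submodule.Quotient.mk w := by
        rw [← Submodule.Quotient.mk_smul, hw, Submodule.Quotient.eq]
        have : x - (x - y) = y := by abel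
        rw [this]
        exact hy
      rw [h2]
      exact Submodule.smul_mem_pointwise_smul _ a ⊤ Submodule.mem_top
    · intro z hz
      obtain ⟨w, -, rfl⟩ := (Submodule.mem_smul_pointwise_iff_exists _ _ _).mp hz
      obtain ⟨x, rfl⟩ := Submodule.Quotient.mk_surjective _ w
      rw [LinearMap.mem_ker, map_smul]
      change a • Submodule.Quotient.mk (π₁ x) = 0
      rw [← Submodule.Quotient.mk_smul, ← map_smul]
      have : a • x ∈ LinearMap.ker π₁ := by
        rw [hker]
        exact Submodule.smul_mem_pointwise_smul _ a ⊤ Submodule.mem_top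
      rw [LinearMap.mem_ker.mp this]
      rfl
  exact (Submodule.quotEquivOfEq _ _ hkerρ.symm) ≪≫ₗ ρ.quotKerEquivOfSurjective hρ

open Groth.Agent.H48.SmulHom Groth.Agent.H8 RingTheory.Sequence in
/-- the pointwise step. -/
theorem step_iff {X Y : Scheme.{u}} (f : X ⟶ Y) [LocallyOfFinitePresentation f]
    (F : X.Modules) [F.IsQuasicoherent] (hF : CohB1.IsFP F) (a : Γ(X, ⊤)) (l : List Γ(X, ⊤)) (x : X)
    (hflat : FlatMod.IsFlatOverAt f F x) :
    IsWeaklyRegular
        (↑(F.presheaf.stalk x) ⧸ (Ideal.map (f.stalkMap x).hom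
          (IsLocalRing.maximalIdeal ↑(Y.presheaf.stalk (f x))) •
          (⊤ : Submodule ↑(X.presheaf.stalk x) ↑(F.presheaf.stalk x))))
        ((a :: l).map (X.presheaf.germ ⊤ x trivial)) ↔
      (Function.Injective ((TopCat.Presheaf.stalkFunctor Ab x).map
          (Scheme.Modules.Hom.mapPresheaf (smulHom F a))) ∧
        FlatMod.IsFlatOverAt f (cokernel (smulHom F a)) x) ∧
      IsWeaklyRegular
        (↑((cokernel (smulHom F a)).presheaf.stalk x) ⧸ (Ideal.map (f.stalkMap x).hom
          (IsLocalRing.maximalIdeal ↑(Y.presheaf.stalk (f x))) •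
          (⊤ : Submodule ↑(X.presheaf.stalk x) ↑((cokernel (smulHom F a)).presheaf.stalk x))))
        (l.map (X.presheaf.germ ⊤ x trivial)) := by
  set S := X.presheaf.stalk x
  set J : Ideal S := Ideal.map (f.stalkMap x).hom
    (IsLocalRing.maximalIdeal ↑(Y.presheaf.stalk (f x))) with hJ
  set μ := smulHom F a with hμ
  let aₓ : S := X.presheaf.germ ⊤ x trivial a
  let π₁ : F.presheaf.stalk x →ₗ[S] (cokernel μ).presheaf.stalk x :=
    Groth.Agent.H17.StalkSeq.stalkMapₗ (cokernel.π μ) x
  have hπ₁ : Function.Surjective π₁ :=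
    Groth.Agent.H17.StalkSeq.stalkMap_surjective_of_epi (cokernel.π μ) x
  have hex : Function.Exact (Groth.Agent.H17.StalkSeq.stalkMapₗ μ x) π₁ :=
    Groth.Agent.H17.StalkSeq.stalkMap_exact
      (ShortComplex.mk μ (cokernel.π μ) (cokernel.condition μ))
      (ShortComplex.exact_cokernel μ) x
  have hker : LinearMap.ker π₁ = aₓ • (⊤ : Submodule S (F.presheaf.stalk x)) := by
    rw [hex.linearMap_ker_eq]
    ext y
    rw [Submodule.mem_smul_pointwise_iff_exists]
    constructor
    · rintro ⟨t, rfl⟩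
      exact ⟨t, Submodule.mem_top, (stalkMap_smulHom F a x t).symm⟩
    · rintro ⟨t, -, rfl⟩
      exact ⟨t, stalkMap_smulHom F a x t⟩
  let e := quotSMulTopQuotEquiv J aₓ π₁ hπ₁ hker
  rw [List.map_cons, isWeaklyRegular_cons_iff, e.isWeaklyRegular_congr]
  refine and_congr_left fun _ => ?_
  rw [isSMulRegular_quotient_iff_mem_of_smul_mem]
  have h4850 := Groth.Agent.S4850.result f F F hF hF μ x hflat
  rw [h4850]
  have e1 : ∀ m : F.presheaf.stalk x, (ConcreteCategory.hom ((TopCat.Presheaf.stalkFunctor Ab x).map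
      (Scheme.Modules.Hom.mapPresheaf μ))) m = aₓ • m := fun m => stalkMap_smulHom F a x m
  constructor
  · intro h m hm
    rw [e1 m] at hm
    exact h m hm
  · intro h m hm
    refine h m ?_
    rw [e1 m]
    exact hm

open Groth.Agent.H48.SmulHom RingTheory.Sequence in
/-- **EGA IV 11.3.8 / 12.1-type openness**: for `f` locally of finite presentation and `F`
quasi-coherent of finite presentation, the set of points where `F` is `f`-flat and a given sequence
of global sections is weakly regular on the fibre module is open. -/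
theorem isOpen_flat_and_weaklyRegular {X Y : Scheme.{u}} (f : X ⟶ Y)
    [LocallyOfFinitePresentation f] (l : List Γ(X, ⊤)) :
    ∀ (F : X.Modules) [F.IsQuasicoherent] (_ : CohB1.IsFP F),
      IsOpen {x : X | FlatMod.IsFlatOverAt f F x ∧ IsWeaklyRegular
        (↑(F.presheaf.stalk x) ⧸ (Ideal.map (f.stalkMap x).hom
          (IsLocalRing.maximalIdeal ↑(Y.presheaf.stalk (f x))) •
          (⊤ : Submodule ↑(X.presheaf.stalk x) ↑(F.presheaf.stalk x))))
        (l.map (X.presheaf.germ ⊤ x trivial))} := by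
  induction l with
  | nil =>
    intro F _ hF
    have h1 := Groth.Agent.S4863.result f F hF
    have : {x : X | FlatMod.IsFlatOverAt f F x ∧ IsWeaklyRegular
        (↑(F.presheaf.stalk x) ⧸ (Ideal.map (f.stalkMap x).hom
          (IsLocalRing.maximalIdeal ↑(Y.presheaf.stalk (f x))) •
          (⊤ : Submodule ↑(X.presheaf.stalk x) ↑(F.presheaf.stalk x))))
        (([] : List Γ(X, ⊤)).map (X.presheaf.germ ⊤ x trivial))} =
        {x : X | FlatMod.IsFlatOverAt f F x} := by
      ext x
      simp only [Set.mem_ofPred_eq, List.map_nil, and_iff_left_iff_imp]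
      intro _
      exact IsWeaklyRegular.nil _ _
    rw [this]
    exact h1
  | cons a l ih =>
    intro F _ hF
    have hF₁ : CohB1.IsFP (cokernel (smulHom F a)) :=
      Groth.Agent.H49.InjCoker.isFP_cokernel (smulHom F a) hF hF
    have h1 := Groth.Agent.S4863.result f F hF
    have h2 := Groth.Agent.H49.InjCoker.isOpen_setOf_injective_and_coker_flat (smulHom F a) f hF hF
    have h3 := ih (cokernel (smulHom F a)) hF₁
    have hset : {x : X | FlatMod.IsFlatOverAt f F x ∧ IsWeaklyRegular
        (↑(F.presheaf.stalk x) ⧸ (Ideal.map (f.stalkMap x).hom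
          (IsLocalRing.maximalIdeal ↑(Y.presheaf.stalk (f x))) •
          (⊤ : Submodule ↑(X.presheaf.stalk x) ↑(F.presheaf.stalk x))))
        ((a :: l).map (X.presheaf.germ ⊤ x trivial))} =
        {x : X | FlatMod.IsFlatOverAt f F x} ∩
        ({x : X | Function.Injective ((TopCat.Presheaf.stalkFunctor Ab x).map
          (Scheme.Modules.Hom.mapPresheaf (smulHom F a))) ∧
          FlatMod.IsFlatOverAt f (cokernel (smulHom F a)) x} ∩
        {x : X | FlatMod.IsFlatOverAt f (cokernel (smulHom F a)) x ∧ IsWeaklyRegular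
        (↑((cokernel (smulHom F a)).presheaf.stalk x) ⧸ (Ideal.map (f.stalkMap x).hom
          (IsLocalRing.maximalIdeal ↑(Y.presheaf.stalk (f x))) •
          (⊤ : Submodule ↑(X.presheaf.stalk x) ↑((cokernel (smulHom F a)).presheaf.stalk x))))
        (l.map (X.presheaf.germ ⊤ x trivial))}) := by
      ext x
      constructor
      · rintro ⟨hfl, hw⟩
        obtain ⟨hA, hB⟩ := (step_iff f F hF a l x hfl).mp hw
        exact ⟨hfl, hA, hA.2, hB⟩
      · rintro ⟨hfl, hA, _, hB⟩
        exact ⟨hfl, (step_iff f F hF a l x hfl).mpr ⟨hA, hB⟩⟩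
    rw [hset]
    exact h1.inter (h2.inter h3)

end Groth.Agent.H48.RegOpen
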