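import Mathlib
import Groth.Agent.H48.FlatOpen

/-!
# Étale covers are dominated by finite free covers (Zariski locally)

`exists_root_same_kernel`: matching a root of a monic `f` modulo a prime `q` with a root in a ring
where `f` splits, modulo a prime `q'` over the same prime of the base.
`exists_splits_list`: a finite free nontrivial extension splitting finitely many monic polynomials.
`exists_finite_flat_cover_of_etale`: Stacks-type lemma: étale + surjective on spectra is dominated,
Zariski locally, by a finite free algebra.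
-/

open Polynomial

namespace Groth.Agent.H48.Split
universe u

variable {R S S' : Type u} [CommRing R] [CommRing S] [CommRing S'] [Algebra R S] [Algebra R S']

/-- **Matching roots.** If `f` splits in `S'` and `x` is a root of `f` modulo `q`, then some root
`a` of `f` in `S'` satisfies the same polynomial relations modulo `q'` as `x` modulo `q`. -/
lemma exists_root_same_kernel (p : Ideal R) [p.IsPrime] (q : Ideal S) [q.IsPrime] [q.LiesOver p]
    (q' : Ideal S') [q'.IsPrime] [q'.LiesOver p] (f : R[X]) (hf : f.Monic) (x : S)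
    (hx : aeval x f ∈ q) (hsplit : (f.map (algebraMap R S')).Splits) :
    ∃ a : S', aeval a f = 0 ∧ ∀ h : R[X], aeval x h ∈ q ↔ aeval a h ∈ q' := by
  letI := Localization.AtPrime.algebraOfLiesOver p q
  letI := Localization.AtPrime.algebraOfLiesOver p q'
  set k := p.ResidueField
  set L := q.ResidueField
  set K := q'.ResidueField
  obtain ⟨m, hm⟩ := splits_iff_exists_multiset.mp hsplit
  rw [(hf.map _).leadingCoeff, C_1, one_mul] at hm
  set α : L := algebraMap S L x with hα
  have key1 : ∀ h : R[X], aeval x h ∈ q ↔ aeval α (h.map (algebraMap R k)) = 0 := by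
    intro h
    rw [aeval_map_algebraMap, hα, aeval_algebraMap_apply, Ideal.algebraMap_residueField_eq_zero]
  have key2 : ∀ (a : S') (h : R[X]), aeval a h ∈ q' ↔
      aeval (algebraMap S' K a) (h.map (algebraMap R k)) = 0 := by
    intro a h
    rw [aeval_map_algebraMap, aeval_algebraMap_apply, Ideal.algebraMap_residueField_eq_zero]
  have hαf : aeval α (f.map (algebraMap R k)) = 0 := (key1 f).mp hx
  have hint : IsIntegral k α := ⟨f.map (algebraMap R k), hf.map _, hαf⟩
  have hdvd : minpoly k α ∣ f.map (algebraMap R k) := minpoly.dvd k α hαf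
  -- in `K`
  have hK : (f.map (algebraMap R k)).map (algebraMap k K) =
      (m.map (fun a => X - C (algebraMap S' K a))).prod := by
    rw [Polynomial.map_map, ← IsScalarTower.algebraMap_eq, IsScalarTower.algebraMap_eq R S' K,
      ← Polynomial.map_map, hm, Polynomial.map_multiset_prod, Multiset.map_map]
    congr 1
    refine Multiset.map_congr rfl fun a _ => ?_
    simp
  have hsplitK : ((f.map (algebraMap R k)).map (algebraMap k K)).Splits := by
    rw [hK]
    exact Splits.multisetProd (by simp [Splits.X_sub_C])
  have hne : (f.map (algebraMap R k)).map (algebraMap k K) ≠ 0 :=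
    ((hf.map _).map _).ne_zero
  have hsplitm : ((minpoly k α).map (algebraMap k K)).Splits :=
    hsplitK.of_dvd hne (Polynomial.map_dvd _ hdvd)
  have hdeg : ((minpoly k α).map (algebraMap k K)).degree ≠ 0 := by
    rw [degree_map]
    exact (minpoly.degree_pos hint).ne'
  obtain ⟨β, hβ⟩ := hsplitm.exists_eval_eq_zero hdeg
  have hβf : eval β ((f.map (algebraMap R k)).map (algebraMap k K)) = 0 := by
    obtain ⟨c, hc⟩ := Polynomial.map_dvd (algebraMap k K) hdvd
    rw [hc, eval_mul, hβ, zero_mul]
  rw [hK, eval_multiset_prod, Multiset.map_map, Multiset.prod_eq_zero_iff] at hβf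
  obtain ⟨a, ha, hβa⟩ := Multiset.mem_map.mp hβf
  simp only [Function.comp_apply, eval_sub, eval_X, eval_C, sub_eq_zero] at hβa
  refine ⟨a, ?_, fun h => ?_⟩
  · rw [← eval_map_algebraMap, hm, eval_multiset_prod, Multiset.map_map]
    exact Multiset.prod_eq_zero (Multiset.mem_map.mpr ⟨a, ha, by simp⟩)
  · have hmin : minpoly k α = minpoly k (algebraMap S' K a) := by
      refine minpoly.eq_of_irreducible_of_monic (minpoly.irreducible hint) ?_ (minpoly.monic hint)
      rw [← hβa, ← eval_map_algebraMap, hβ]
    rw [key1, key2, ← minpoly.dvd_iff, ← minpoly.dvd_iff, hmin]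

/-- A finite free nontrivial extension splitting finitely many monic polynomials. -/
lemma exists_splits_list {R : Type u} [CommRing R] [Nontrivial R] (l : List R[X])
    (hl : ∀ f ∈ l, f.Monic) :
    ∃ (S' : Type u) (_ : CommRing S') (_ : Algebra R S') (_ : Module.Finite R S')
      (_ : Module.Free R S') (_ : Nontrivial S'), ∀ f ∈ l, (f.map (algebraMap R S')).Splits := by
  induction l with
  | nil => exact ⟨R, inferInstance, inferInstance, inferInstance, inferInstance, inferInstance, by simp⟩
  | cons f l IH =>
    obtain ⟨S₁, _, _, _, _, _, h₁⟩ := IH fun g hg => hl g (List.mem_cons_of_mem _ hg)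
    have hf : (f.map (algebraMap R S₁)).Monic := (hl f List.mem_cons_self).map _
    obtain ⟨S', _, _, _, _, _, h'⟩ := hf.exists_splits_map
    algebraize [(algebraMap S₁ S').comp (algebraMap R S₁)]
    refine ⟨S', inferInstance, inferInstance, .trans S₁ _, .trans (S := S₁), inferInstance, ?_⟩
    intro g hg
    rw [IsScalarTower.algebraMap_eq R S₁ S', ← Polynomial.map_map]
    rcases List.mem_cons.mp hg with rfl | hg
    · exact h'
    · exact (h₁ g hg).map _

open Groth.Agent.H48.FlatOpen in
/-- An étale algebra surjective on spectra is dominated, Zariski locally, by a finite free algebra. -/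
theorem exists_finite_flat_cover_of_etale (R : Type u) [CommRing R]
    (S : Type u) [CommRing S] [Algebra R S] [Algebra.Etale R S]
    (hs : Function.Surjective (PrimeSpectrum.comap (algebraMap R S))) :
    ∃ (S' : Type u) (_ : CommRing S') (_ : Algebra R S'),
      Module.Finite R S' ∧ Algebra.FinitePresentation R S' ∧ Module.Flat R S' ∧
        Function.Surjective (PrimeSpectrum.comap (algebraMap R S')) ∧
        ∀ (q' : Ideal S') [q'.IsPrime], ∃ (g' : S') (_ : g' ∉ q'),
          Nonempty (S →ₐ[R] Localization.Away g') := by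
  classical
  rcases subsingleton_or_nontrivial R with hR | hR
  · refine ⟨R, inferInstance, inferInstance, inferInstance, inferInstance, inferInstance,
      fun x => ?_, fun q' hq' => ?_⟩
    · exact absurd (Subsingleton.elim (0 : R) 1 ▸ x.asIdeal.zero_mem)
        (x.asIdeal.ne_top_iff_one.mp x.2.ne_top)
    · exact absurd (Subsingleton.elim (0 : R) 1 ▸ q'.zero_mem) (q'.ne_top_iff_one.mp hq'.ne_top)
  -- standard étale cover of `Spec S`
  have hstd : ∀ Q : PrimeSpectrum S, ∃ s : S, s ∉ Q.asIdeal ∧
      Algebra.IsStandardEtale R (Localization.Away s) := fun Q =>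
    Algebra.IsEtaleAt.exists_isStandardEtale (R := R) Q.asIdeal
  choose s hsQ hsstd using hstd
  obtain ⟨t, ht⟩ := isCompact_univ.elim_finite_subcover
    (fun Q : PrimeSpectrum S => (PrimeSpectrum.basicOpen (s Q) : Set (PrimeSpectrum S)))
    (fun Q => (PrimeSpectrum.basicOpen (s Q)).isOpen)
    (fun Q _ => Set.mem_iUnion.mpr ⟨Q, hsQ Q⟩)
  let Pr : ∀ Q : PrimeSpectrum S, StandardEtalePresentation R (Localization.Away (s Q)) := fun Q =>
    (hsstd Q).nonempty_standardEtalePresentation.some
  obtain ⟨S', _, _, hfin, hfree, hnt, hsplit⟩ := exists_splits_list (t.toList.map fun Q => (Pr Q).f)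
    (by
      intro f hf
      obtain ⟨Q, -, rfl⟩ := List.mem_map.mp hf
      exact (Pr Q).monic_f)
  haveI : Module.FinitePresentation R S' := Module.finitePresentation_of_projective R S'
  refine ⟨S', inferInstance, inferInstance, hfin, inferInstance, inferInstance,
    PrimeSpectrum.comap_surjective_of_faithfullyFlat, fun q' hq' => ?_⟩
  -- the prime of `R` and a prime of `S` above it
  set p := q'.under R with hp
  haveI : q'.LiesOver p := ⟨rfl⟩
  obtain ⟨P, hP⟩ := hs ⟨p, inferInstance⟩
  obtain ⟨Q, hQt, hPQ⟩ := Set.mem_iUnion₂.mp (ht (Set.mem_univ P))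
  have hsP : s Q ∉ P.asIdeal := hPQ
  set P₁ := P.asIdeal.map (algebraMap S (Localization.Away (s Q))) with hP₁
  haveI : P₁.IsPrime := isPrime_map_away (s Q) P.asIdeal hsP
  haveI : P₁.LiesOver p := by
    constructor
    rw [Ideal.under_def, IsScalarTower.algebraMap_eq R S (Localization.Away (s Q)),
      ← Ideal.comap_comap, comap_map_away (s Q) P.asIdeal hsP]
    exact congrArg PrimeSpectrum.asIdeal hP.symm
  have hsp : ((Pr Q).f.map (algebraMap R S')).Splits :=
    hsplit _ (List.mem_map.mpr ⟨Q, Finset.mem_toList.mpr hQt, rfl⟩)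
  obtain ⟨a, ha0, hker⟩ := exists_root_same_kernel p P₁ q' (Pr Q).f (Pr Q).monic_f (Pr Q).x
    (by rw [(Pr Q).hasMap.1]; exact P₁.zero_mem) hsp
  have hg' : aeval a (Pr Q).g ∉ q' := by
    rw [← hker]
    intro hmem
    exact ‹P₁.IsPrime›.ne_top (Ideal.eq_top_of_isUnit_mem _ hmem (Pr Q).hasMap.2)
  refine ⟨aeval a (Pr Q).g, hg', ⟨?_⟩⟩
  have hmap : (Pr Q).P.HasMap (algebraMap S' (Localization.Away (aeval a (Pr Q).g)) a) := by
    refine ⟨?_, ?_⟩
    · rw [aeval_algebraMap_apply, ha0, map_zero]
    · rw [aeval_algebraMap_apply]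
      exact IsLocalization.Away.algebraMap_isUnit _
  exact (((Pr Q).P.lift _ hmap).comp (Pr Q).equivRing.toAlgHom).comp
    (IsScalarTower.toAlgHom R S (Localization.Away (s Q)))

end Groth.Agent.H48.Split
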