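import Mathlib
import Groth.Agent.H48.Split
open Polynomial

namespace Groth.Agent.H48.Split
universe u
open Groth.Agent.H48.FlatOpen

/-- Standard étale algebras are dominated by finite free algebras, compatibly with primes. -/
theorem exists_finite_flat_cover_of_isStandardEtale (R : Type u) [CommRing R] (S : Type u)
    [CommRing S] [Algebra R S] [Algebra.IsStandardEtale R S] :
    ∃ (S' : Type u) (_ : CommRing S') (_ : Algebra R S'),
      Module.Finite R S' ∧ Algebra.FinitePresentation R S' ∧ Module.Flat R S' ∧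
        Function.Surjective (PrimeSpectrum.comap (algebraMap R S')) ∧
        ∀ (q : Ideal S) [q.IsPrime] (q' : Ideal S') [q'.IsPrime], q'.under R = q.under R →
          ∃ (g' : S') (_ : g' ∉ q') (φ : S →ₐ[R] Localization.Away g'),
            (q'.map (algebraMap S' (Localization.Away g'))).comap φ = q := by
  classical
  rcases subsingleton_or_nontrivial R with hR | hR
  · refine ⟨R, inferInstance, inferInstance, inferInstance, inferInstance, inferInstance,
      fun x => ?_, fun q hq q' hq' => ?_⟩
    · exact absurd (Subsingleton.elim (0 : R) 1 ▸ x.asIdeal.zero_mem)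
        (x.asIdeal.ne_top_iff_one.mp x.2.ne_top)
    · exact absurd (Subsingleton.elim (0 : R) 1 ▸ q'.zero_mem) (q'.ne_top_iff_one.mp hq'.ne_top)
  let Pr : StandardEtalePresentation R S :=
    (inferInstance : Algebra.IsStandardEtale R S).nonempty_standardEtalePresentation.some
  obtain ⟨S', _, _, hfin, hfree, hnt, hsplit⟩ := exists_splits_list [Pr.f]
    (by intro f hf; rw [List.mem_singleton] at hf; subst hf; exact Pr.monic_f)
  haveI : Module.FinitePresentation R S' := Module.finitePresentation_of_projective R S'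
  refine ⟨S', inferInstance, inferInstance, hfin, inferInstance, inferInstance,
    PrimeSpectrum.comap_surjective_of_faithfullyFlat, fun q hq q' hq' hqq' => ?_⟩
  set p := q.under R with hp
  haveI : q.LiesOver p := ⟨rfl⟩
  haveI : q'.LiesOver p := ⟨hqq'.symm⟩
  have hsp : (Pr.f.map (algebraMap R S')).Splits := hsplit _ (List.mem_singleton.mpr rfl)
  obtain ⟨a, ha0, hker⟩ := exists_root_same_kernel p q q' Pr.f Pr.monic_f Pr.x
    (by rw [Pr.hasMap.1]; exact q.zero_mem) hsp
  have hg' : aeval a Pr.g ∉ q' := by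
    rw [← hker]
    intro hmem
    exact hq.ne_top (Ideal.eq_top_of_isUnit_mem _ hmem Pr.hasMap.2)
  have hmap : Pr.P.HasMap (algebraMap S' (Localization.Away (aeval a Pr.g)) a) := by
    refine ⟨?_, ?_⟩
    · rw [aeval_algebraMap_apply, ha0, map_zero]
    · rw [aeval_algebraMap_apply]
      exact IsLocalization.Away.algebraMap_isUnit _
  let φ : S →ₐ[R] Localization.Away (aeval a Pr.g) := (Pr.P.lift _ hmap).comp Pr.equivRing.toAlgHom
  have hφx : φ Pr.x = algebraMap S' (Localization.Away (aeval a Pr.g)) a := by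
    change Pr.P.lift _ hmap (Pr.equivRing Pr.x) = _
    rw [Pr.equivRing_x, StandardEtalePair.lift_X]
  refine ⟨aeval a Pr.g, hg', φ, ?_⟩
  ext y
  obtain ⟨h, n, hy⟩ := Pr.exists_mul_aeval_x_g_pow_eq_aeval_x y
  have hu : IsUnit (aeval Pr.x Pr.g ^ n) := Pr.hasMap.2.pow n
  have h1 : y ∈ q ↔ aeval Pr.x h ∈ q := by
    rw [← hy]
    exact (Ideal.mul_unit_mem_iff_mem q hu).symm
  have h2 : φ y ∈ q'.map (algebraMap S' (Localization.Away (aeval a Pr.g))) ↔
      φ (aeval Pr.x h) ∈ q'.map (algebraMap S' (Localization.Away (aeval a Pr.g))) := by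
    rw [← hy, map_mul]
    exact (Ideal.mul_unit_mem_iff_mem _ (hu.map φ)).symm
  have h3 : φ (aeval Pr.x h) = algebraMap S' (Localization.Away (aeval a Pr.g)) (aeval a h) := by
    rw [← aeval_algHom_apply, hφx, aeval_algebraMap_apply]
  have h4 : algebraMap S' (Localization.Away (aeval a Pr.g)) (aeval a h) ∈
      q'.map (algebraMap S' (Localization.Away (aeval a Pr.g))) ↔ aeval a h ∈ q' := by
    rw [← Ideal.mem_comap, comap_map_away _ q' hg']
  rw [Ideal.mem_comap, h2, h3, h4, h1, hker]

end Groth.Agent.H48.Split
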