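import Mathlib
import Groth.Agent.H48.Split2
open Polynomial

namespace Groth.Agent.H48.Split
universe u
open Groth.Agent.H48.FlatOpen

theorem exists_finite_faithfullyFlat_factor (R : Type u) [CommRing R] [IsLocalRing R] (T : Type u)
    [CommRing T] [Algebra R T]
    [Algebra.Etale R T] (q : Ideal T) [q.IsPrime] (S : Type u) [CommRing S] [IsLocalRing S]
    [Algebra T S] [IsLocalization.AtPrime S q] [Algebra R S] [IsScalarTower R T S]
    [IsLocalHom (algebraMap R S)] :
    ∃ (S' : Type u) (_ : CommRing S') (_ : Algebra R S'),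
      Module.Finite R S' ∧ Algebra.FinitePresentation R S' ∧ Module.FaithfullyFlat R S' ∧
        ∀ (m' : Ideal S') [m'.IsMaximal], Nonempty (S →ₐ[R] Localization.AtPrime m') := by
  classical
  obtain ⟨f, hfq, hstd⟩ := Algebra.IsEtaleAt.exists_isStandardEtale (R := R) q
  let Pr : StandardEtalePresentation R (Localization.Away f) :=
    hstd.nonempty_standardEtalePresentation.some
  obtain ⟨S', _, _, hfin, hfree, hnt, hsplit⟩ := exists_splits_list [Pr.f]
    (by intro f hf; rw [List.mem_singleton] at hf; subst hf; exact Pr.monic_f)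
  haveI : Module.FinitePresentation R S' := Module.finitePresentation_of_projective R S'
  refine ⟨S', inferInstance, inferInstance, hfin, inferInstance, inferInstance, fun m' hm' => ?_⟩
  haveI : m'.IsPrime := hm'.isPrime
  -- both primes lie over the maximal ideal of `R`
  set p := IsLocalRing.maximalIdeal R with hp
  haveI : m'.LiesOver p := by
    constructor
    have : (m'.under R).IsMaximal := Ideal.isMaximal_comap_of_isIntegral_of_isMaximal m'
    exact (IsLocalRing.eq_maximalIdeal this).symm
  set q₁ := q.map (algebraMap T (Localization.Away f)) with hq₁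
  haveI : q₁.IsPrime := isPrime_map_away f q hfq
  have hqR : q.under R = p := by
    have h1 : q = (IsLocalRing.maximalIdeal S).comap (algebraMap T S) :=
      (IsLocalization.AtPrime.under_maximalIdeal S q).symm
    rw [Ideal.under_def, h1, Ideal.comap_comap, ← IsScalarTower.algebraMap_eq]
    exact ((IsLocalRing.local_hom_TFAE (algebraMap R S)).out 0 4 rfl rfl).mp inferInstance
  haveI : q₁.LiesOver p := by
    constructor
    rw [Ideal.under_def, IsScalarTower.algebraMap_eq R T (Localization.Away f), ← Ideal.comap_comap,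
      comap_map_away f q hfq]
    exact hqR.symm
  have hsp : (Pr.f.map (algebraMap R S')).Splits := hsplit _ (List.mem_singleton.mpr rfl)
  obtain ⟨a, ha0, hker⟩ := exists_root_same_kernel p q₁ m' Pr.f Pr.monic_f Pr.x
    (by rw [Pr.hasMap.1]; exact q₁.zero_mem) hsp
  have hg' : aeval a Pr.g ∉ m' := by
    rw [← hker]
    intro hmem
    exact ‹q₁.IsPrime›.ne_top (Ideal.eq_top_of_isUnit_mem _ hmem Pr.hasMap.2)
  have hmap : Pr.P.HasMap (algebraMap S' (Localization.AtPrime m') a) := by
    refine ⟨?_, ?_⟩
    · rw [aeval_algebraMap_apply, ha0, map_zero]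
    · rw [aeval_algebraMap_apply]
      exact IsLocalization.map_units (M := m'.primeCompl) _ ⟨_, hg'⟩
  let φ : Localization.Away f →ₐ[R] Localization.AtPrime m' :=
    (Pr.P.lift _ hmap).comp Pr.equivRing.toAlgHom
  have hφx : φ Pr.x = algebraMap S' (Localization.AtPrime m') a := by
    change Pr.P.lift _ hmap (Pr.equivRing Pr.x) = _
    rw [Pr.equivRing_x, StandardEtalePair.lift_X]
  have hcomap : ∀ y, φ y ∈ IsLocalRing.maximalIdeal (Localization.AtPrime m') ↔ y ∈ q₁ := by
    intro y
    obtain ⟨h, n, hy⟩ := Pr.exists_mul_aeval_x_g_pow_eq_aeval_x y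
    have hu : IsUnit (aeval Pr.x Pr.g ^ n) := Pr.hasMap.2.pow n
    have h1 : y ∈ q₁ ↔ aeval Pr.x h ∈ q₁ := by
      rw [← hy]
      exact (Ideal.mul_unit_mem_iff_mem q₁ hu).symm
    have h2 : φ y ∈ IsLocalRing.maximalIdeal (Localization.AtPrime m') ↔
        φ (aeval Pr.x h) ∈ IsLocalRing.maximalIdeal (Localization.AtPrime m') := by
      rw [← hy, map_mul]
      exact (Ideal.mul_unit_mem_iff_mem _ (hu.map φ)).symm
    have h3 : φ (aeval Pr.x h) = algebraMap S' (Localization.AtPrime m') (aeval a h) := by
      rw [← aeval_algHom_apply, hφx, aeval_algebraMap_apply]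
    rw [h2, h3, IsLocalization.AtPrime.to_map_mem_maximal_iff (Localization.AtPrime m') m', h1, hker]
  -- the map from `T`
  let ψ : T →ₐ[R] Localization.AtPrime m' := φ.comp (IsScalarTower.toAlgHom R T (Localization.Away f))
  have hunit : ∀ y : q.primeCompl, IsUnit (ψ.toRingHom y) := by
    rintro ⟨y, hy⟩
    change IsUnit (φ (algebraMap T (Localization.Away f) y))
    rw [← IsLocalRing.notMem_maximalIdeal, hcomap, ← Ideal.mem_comap, comap_map_away f q hfq]
    exact hy
  refine ⟨{ toRingHom := IsLocalization.lift (M := q.primeCompl) (S := S) hunit, commutes' := ?_ }⟩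
  intro r
  change IsLocalization.lift hunit (algebraMap R S r) = _
  rw [IsScalarTower.algebraMap_apply R T S, IsLocalization.lift_eq]
  exact ψ.commutes r

end Groth.Agent.H48.Split
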