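import Mathlib
import Groth.Agent.H48.Split3
open Polynomial

namespace Groth.Agent.H48.Split
universe u
open Groth.Agent.H48.FlatOpen

/-- Étale algebras are, locally around a prime, dominated by finite free algebras. -/
theorem exists_finite_flat_cover_at_prime (R : Type u) [CommRing R] (A : Type u) [CommRing A]
    [Algebra R A] [Algebra.Etale R A] (q : Ideal A) [q.IsPrime] :
    ∃ (S' : Type u) (_ : CommRing S') (_ : Algebra R S'),
      Module.Finite R S' ∧ Algebra.FinitePresentation R S' ∧ Module.Flat R S' ∧
        Function.Surjective (PrimeSpectrum.comap (algebraMap R S')) ∧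
        ∀ (q' : Ideal S') [q'.IsPrime], q'.under R = q.under R →
          ∃ (g' : S') (_ : g' ∉ q') (φ : A →ₐ[R] Localization.Away g'),
            (q'.map (algebraMap S' (Localization.Away g'))).comap φ = q := by
  classical
  obtain ⟨f, hfq, hstd⟩ := Algebra.IsEtaleAt.exists_isStandardEtale (R := R) q
  obtain ⟨S', _, _, h1, h2, h3, h4, h5⟩ :=
    exists_finite_flat_cover_of_isStandardEtale R (Localization.Away f)
  refine ⟨S', inferInstance, inferInstance, h1, h2, h3, h4, fun q' hq' hqq' => ?_⟩
  set q₁ := q.map (algebraMap A (Localization.Away f)) with hq₁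
  haveI : q₁.IsPrime := isPrime_map_away f q hfq
  have hq₁R : q₁.under R = q.under R := by
    rw [Ideal.under_def, IsScalarTower.algebraMap_eq R A (Localization.Away f), ← Ideal.comap_comap,
      comap_map_away f q hfq]
  obtain ⟨g', hg', φ, hφ⟩ := h5 q₁ q' (hqq'.trans hq₁R.symm)
  refine ⟨g', hg', φ.comp (IsScalarTower.toAlgHom R A (Localization.Away f)), ?_⟩
  rw [show Ideal.comap (φ.comp (IsScalarTower.toAlgHom R A (Localization.Away f)))
      (q'.map (algebraMap S' (Localization.Away g'))) =
      Ideal.comap (algebraMap A (Localization.Away f)) (Ideal.comap φ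
        (q'.map (algebraMap S' (Localization.Away g')))) from rfl, hφ, comap_map_away f q hfq]

end Groth.Agent.H48.Split
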