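import Mathlib
import Groth.Agent.H48.Split4

open AlgebraicGeometry CategoryTheory Limits

namespace Groth.Agent.H48.Split
universe u

theorem etale_nbhd_dominated {U S : Scheme.{u}} (e : U ⟶ S) [Etale e] (u : U) (s : S) (hu : e u = s) :
    ∃ (V : S.Opens) (T : Scheme.{u}) (π : T ⟶ (V : Scheme.{u})), s ∈ V ∧ IsAffineOpen V ∧
      Surjective π ∧ IsFinite π ∧ Flat π ∧ LocallyOfFinitePresentation π ∧
      ∀ t : T, V.ι (π t) = s → ∃ (W : T.Opens) (h : (W : Scheme.{u}) ⟶ U), t ∈ W ∧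
        h ≫ e = W.ι ≫ π ≫ V.ι ∧ ∀ ht : t ∈ W, h ⟨t, ht⟩ = u := by
  subst hu
  obtain ⟨_, ⟨V, hV : IsAffineOpen V, rfl⟩, hsV, -⟩ :=
    (S.isBasis_affineOpens).exists_subset_of_mem_open (Set.mem_univ (e u)) isOpen_univ
  obtain ⟨_, ⟨U₀, hU₀ : IsAffineOpen U₀, rfl⟩, huU₀, hle'⟩ :=
    (U.isBasis_affineOpens).exists_subset_of_mem_open (show u ∈ (e ⁻¹ᵁ V : Set U) from hsV)
      (e ⁻¹ᵁ V).isOpen
  have hle : U₀ ≤ e ⁻¹ᵁ V := hle'
  let φ := e.appLE V U₀ hle
  have het : φ.hom.Etale := HasRingHomProperty.appLE (P := @Etale) e inferInstance ⟨V, hV⟩ ⟨U₀, hU₀⟩ hle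
  letI : Algebra Γ(S, V) Γ(U, U₀) := φ.hom.toAlgebra
  haveI : Algebra.Etale Γ(S, V) Γ(U, U₀) := het
  let p := hV.primeIdealOf ⟨e u, hsV⟩
  let y := hU₀.primeIdealOf ⟨u, huU₀⟩
  have hsq := IsAffineOpen.SpecMap_appLE_fromSpec e hV hU₀ hle
  have h1 : hV.fromSpec p = e u := hV.fromSpec_primeIdealOf ⟨e u, hsV⟩
  have h2 : hU₀.fromSpec y = u := hU₀.fromSpec_primeIdealOf ⟨u, huU₀⟩
  have hy : PrimeSpectrum.comap (algebraMap Γ(S, V) Γ(U, U₀)) y = p := by
    apply hV.fromSpec.isOpenEmbedding.injective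
    rw [h1]
    have h3 : (Spec.map φ ≫ hV.fromSpec) y = (hU₀.fromSpec ≫ e) y := by rw [hsq]
    rw [Scheme.Hom.comp_apply, Scheme.Hom.comp_apply, h2] at h3
    exact h3
  obtain ⟨S', _, _, k1, k2, k3, k4, k5⟩ :=
    exists_finite_flat_cover_at_prime Γ(S, V) Γ(U, U₀) y.asIdeal
  let α : Γ(S, V) ⟶ CommRingCat.of S' := CommRingCat.ofHom (algebraMap Γ(S, V) S')
  have hα1 : Flat (Spec.map α) := by
    rw [HasRingHomProperty.Spec_iff (P := @Flat)]
    exact RingHom.flat_algebraMap_iff.mpr k3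
  have hα2 : LocallyOfFinitePresentation (Spec.map α) := by
    rw [HasRingHomProperty.Spec_iff (P := @LocallyOfFinitePresentation)]
    exact RingHom.finitePresentation_algebraMap.mpr k2
  have hα3 : IsFinite (Spec.map α) := by
    rw [IsFinite.SpecMap_iff]
    exact RingHom.finite_algebraMap.mpr k1
  have hα4 : Surjective (Spec.map α) := ⟨k4⟩
  refine ⟨V, Spec (CommRingCat.of S'), Spec.map α ≫ hV.isoSpec.inv, hsV, hV, inferInstance,
    inferInstance, inferInstance, inferInstance, fun t ht => ?_⟩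
  -- the point `t` as a prime of `S'`
  have hπ : (Spec.map α ≫ hV.isoSpec.inv) ≫ Scheme.Opens.ι V = Spec.map α ≫ hV.fromSpec := by
    rw [Category.assoc]; rfl
  have ht' : hV.fromSpec (Spec.map α t) = e u := by
    have : ((Spec.map α ≫ hV.isoSpec.inv) ≫ Scheme.Opens.ι V) t = e u := by
      rw [Scheme.Hom.comp_apply]; exact ht
    rw [hπ, Scheme.Hom.comp_apply] at this
    exact this
  have htp : Spec.map α t = p := hV.fromSpec.isOpenEmbedding.injective (ht'.trans h1.symm)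
  have hunder : t.asIdeal.under Γ(S, V) = y.asIdeal.under Γ(S, V) := by
    have e1 : (PrimeSpectrum.comap (algebraMap Γ(S, V) S') t).asIdeal = p.asIdeal :=
      congrArg PrimeSpectrum.asIdeal htp
    have e2 : (PrimeSpectrum.comap (algebraMap Γ(S, V) Γ(U, U₀)) y).asIdeal = p.asIdeal :=
      congrArg PrimeSpectrum.asIdeal hy
    exact e1.trans e2.symm
  obtain ⟨g', hg', ψ, hψ⟩ := k5 t.asIdeal hunder
  let ι' := Spec.map (CommRingCat.ofHom (algebraMap S' (Localization.Away g')))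
  let β : Γ(U, U₀) ⟶ CommRingCat.of (Localization.Away g') := CommRingCat.ofHom ψ.toRingHom
  have hαβ : φ ≫ β = α ≫ CommRingCat.ofHom (algebraMap S' (Localization.Away g')) := by
    ext a
    exact (ψ.commutes a).trans (IsScalarTower.algebraMap_apply _ _ _ a)
  -- the point of `Spec S'_{g'}` above `t`
  haveI : (t.asIdeal.map (algebraMap S' (Localization.Away g'))).IsPrime :=
    Groth.Agent.H48.FlatOpen.isPrime_map_away g' t.asIdeal hg'
  let t' : Spec (CommRingCat.of (Localization.Away g')) :=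
    ⟨t.asIdeal.map (algebraMap S' (Localization.Away g')), inferInstance⟩
  have ht't : ι' t' = t := by
    apply PrimeSpectrum.ext
    exact Groth.Agent.H48.FlatOpen.comap_map_away g' t.asIdeal hg'
  refine ⟨ι'.opensRange, ι'.isoOpensRange.inv ≫ Spec.map β ≫ hU₀.fromSpec, ⟨t', ht't⟩, ?_, ?_⟩
  · rw [hπ, Category.assoc, Category.assoc, ← hsq, ← Category.assoc (Spec.map β), ← Spec.map_comp,
      hαβ, Spec.map_comp, Category.assoc, ← Category.assoc ι'.isoOpensRange.inv,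
      Scheme.Hom.isoOpensRange_inv_comp]
  · intro htW
    have e1 : ι'.isoOpensRange.inv ⟨t, htW⟩ = t' := by
      apply ι'.isOpenEmbedding.injective
      rw [ht't, ← Scheme.Hom.comp_apply, Scheme.Hom.isoOpensRange_inv_comp]
      rfl
    rw [Scheme.Hom.comp_apply, Scheme.Hom.comp_apply, e1]
    have e2 : Spec.map β t' = y := by
      apply PrimeSpectrum.ext
      exact hψ
    rw [e2, h2]

end Groth.Agent.H48.Split
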