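import Mathlib
import Groth.Agent.H48.Split4
import Groth.Agent.H48.QFCover3
open TensorProduct

namespace Groth.Agent.H48.Split
universe u
open Groth.Agent.H48.FlatOpen Groth.Agent.H48.QFCover

/-- Ring form of the four-step refinement of an fppf covering (Zariski, finite locally free,
Zariski, finite locally free). -/
theorem exists_tower {R A : Type u} [CommRing R] [CommRing A] [Algebra R A]
    [Module.Flat R A] [Algebra.FinitePresentation R A] (p : PrimeSpectrum R)
    (hp : p ∈ Set.range (PrimeSpectrum.comap (algebraMap R A))) :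
    ∃ f : R, f ∉ p.asIdeal ∧ ∀ (R₁ : Type u) [CommRing R₁] [Algebra R R₁] [IsLocalization.Away f R₁],
      ∃ (S' : Type u) (_ : CommRing S') (_ : Algebra R₁ S'),
        Module.Finite R₁ S' ∧ Algebra.FinitePresentation R₁ S' ∧ Module.Flat R₁ S' ∧
        Function.Surjective (PrimeSpectrum.comap (algebraMap R₁ S')) ∧
        ∀ (q' : Ideal S') [q'.IsPrime], ∃ (g' : S') (_ : g' ∉ q') (C : Type u) (_ : CommRing C)
          (_ : Algebra (Localization.Away g') C),
          Module.Finite (Localization.Away g') C ∧
          Algebra.FinitePresentation (Localization.Away g') C ∧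
          Module.Flat (Localization.Away g') C ∧
          Function.Surjective (PrimeSpectrum.comap (algebraMap (Localization.Away g') C)) ∧
          ∃ ψ : A →+* C, ψ.comp (algebraMap R A) =
            (algebraMap (Localization.Away g') C).comp ((algebraMap S' (Localization.Away g')).comp
              ((algebraMap R₁ S').comp (algebraMap R R₁))) := by
  classical
  obtain ⟨R', _, _, B, _, _, _, _, hR', hpR', hB1, hB2, hB3, hB4, ⟨θ⟩⟩ :=
    exists_etale_finite_flat p hp
  have hopen : IsOpen (Set.range (PrimeSpectrum.comap (algebraMap R R'))) :=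
    (PrimeSpectrum.isOpenMap_comap_of_hasGoingDown_of_finitePresentation).isOpen_range
  obtain ⟨_, ⟨f, rfl⟩, hpf, hfU⟩ :=
    PrimeSpectrum.isTopologicalBasis_basic_opens.exists_subset_of_mem_open hpR' hopen
  refine ⟨f, hpf, fun R₁ _ _ _ => ?_⟩
  have hs : Function.Surjective (PrimeSpectrum.comap (algebraMap R₁ (R₁ ⊗[R] R'))) := by
    intro P
    refine mem_range_comap_tensor P (hfU ?_)
    change f ∉ (PrimeSpectrum.comap (algebraMap R R₁) P).asIdeal
    intro hr
    have : algebraMap R R₁ f ∈ P.asIdeal := hr
    exact P.2.ne_top (Ideal.eq_top_of_isUnit_mem _ this (IsLocalization.Away.algebraMap_isUnit f))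
  obtain ⟨S', _, _, k1, k2, k3, k4, k5⟩ := exists_finite_flat_cover_of_etale R₁ (R₁ ⊗[R] R') hs
  refine ⟨S', inferInstance, inferInstance, k1, k2, k3, k4, fun q' hq' => ?_⟩
  obtain ⟨g', hg', ⟨χ⟩⟩ := k5 q'
  let κ : R' →+* Localization.Away g' :=
    χ.toRingHom.comp (Algebra.TensorProduct.includeRight : R' →ₐ[R] R₁ ⊗[R] R').toRingHom
  letI : Algebra R' (Localization.Away g') := κ.toAlgebra
  haveI : Module.FaithfullyFlat R' B := Module.FaithfullyFlat.of_comap_surjective hB4
  refine ⟨g', hg', Localization.Away g' ⊗[R'] B, inferInstance, inferInstance, inferInstance,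
    inferInstance, inferInstance, PrimeSpectrum.comap_surjective_of_faithfullyFlat,
    (Algebra.TensorProduct.includeRight : B →ₐ[R'] Localization.Away g' ⊗[R'] B).toRingHom.comp
      θ.toRingHom, ?_⟩
  ext r
  have e1 : κ (algebraMap R R' r) =
      algebraMap S' (Localization.Away g') (algebraMap R₁ S' (algebraMap R R₁ r)) := by
    change χ ((1 : R₁) ⊗ₜ[R] (algebraMap R R' r)) = _
    rw [Algebra.algebraMap_eq_smul_one, ← TensorProduct.smul_tmul, ← Algebra.algebraMap_eq_smul_one,
      ← IsScalarTower.algebraMap_apply R₁ S' (Localization.Away g')]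
    have : (algebraMap R R₁ r) ⊗ₜ[R] (1 : R') = algebraMap R₁ (R₁ ⊗[R] R') (algebraMap R R₁ r) := by
      rw [Algebra.TensorProduct.algebraMap_apply]; rfl
    rw [this, χ.commutes]
  change (1 : Localization.Away g') ⊗ₜ[R'] θ (algebraMap R A r) =
    algebraMap (Localization.Away g') (Localization.Away g' ⊗[R'] B)
      (algebraMap S' (Localization.Away g') (algebraMap R₁ S' (algebraMap R R₁ r)))
  rw [θ.commutes, IsScalarTower.algebraMap_apply R R' B, Algebra.algebraMap_eq_smul_one (A := B),
    ← TensorProduct.smul_tmul, Algebra.smul_def, mul_one, Algebra.TensorProduct.algebraMap_apply,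
    ← e1]
  rfl

end Groth.Agent.H48.Split
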