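import Mathlib
import Groth.Agent.H48.Split6
import Groth.Prelude

open AlgebraicGeometry CategoryTheory Limits

namespace Groth.Agent.H48.Split
universe u w

theorem fppf_tower {S : Scheme.{u}} (E : PreZeroHypercover.{w} S)
    (hflat : ∀ i, Flat (E.f i)) (hfp : ∀ i, LocallyOfFinitePresentation (E.f i))
    (hsurj : ∀ s : S, ∃ (i : E.I₀) (x : E.X i), E.f i x = s) (s : S) :
    ∃ (U : S.Opens) (W : Scheme.{u}) (π : W ⟶ U.toScheme), s ∈ U ∧ Mor2.IsFinLocFree π ∧ Surjective π ∧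
      ∀ w : W, ∃ (W' : W.Opens) (T : Scheme.{u}) (ρ : T ⟶ W'.toScheme) (i : E.I₀) (r : T ⟶ E.X i),
        w ∈ W' ∧ Mor2.IsFinLocFree ρ ∧ Surjective ρ ∧ r ≫ E.f i = ρ ≫ W'.ι ≫ π ≫ U.ι := by
  obtain ⟨i, x, rfl⟩ := hsurj s
  haveI := hflat i
  haveI := hfp i
  obtain ⟨_, ⟨U₀, hU₀ : IsAffineOpen U₀, rfl⟩, hsU₀, -⟩ :=
    (S.isBasis_affineOpens).exists_subset_of_mem_open (Set.mem_univ (E.f i x)) isOpen_univ
  obtain ⟨_, ⟨X₀, hX₀ : IsAffineOpen X₀, rfl⟩, hxX₀, hle'⟩ :=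
    ((E.X i).isBasis_affineOpens).exists_subset_of_mem_open
      (show x ∈ ((E.f i) ⁻¹ᵁ U₀ : Set (E.X i)) from hsU₀) ((E.f i) ⁻¹ᵁ U₀).isOpen
  have hle : X₀ ≤ (E.f i) ⁻¹ᵁ U₀ := hle'
  let φ := (E.f i).appLE U₀ X₀ hle
  have hφflat : φ.hom.Flat :=
    HasRingHomProperty.appLE (P := @Flat) (E.f i) inferInstance ⟨U₀, hU₀⟩ ⟨X₀, hX₀⟩ hle
  have hφfp : φ.hom.FinitePresentation :=
    HasRingHomProperty.appLE (P := @LocallyOfFinitePresentation) (E.f i) inferInstance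
      ⟨U₀, hU₀⟩ ⟨X₀, hX₀⟩ hle
  letI : Algebra Γ(S, U₀) Γ(E.X i, X₀) := φ.hom.toAlgebra
  haveI : Module.Flat Γ(S, U₀) Γ(E.X i, X₀) := hφflat
  haveI : Algebra.FinitePresentation Γ(S, U₀) Γ(E.X i, X₀) := hφfp
  let p := hU₀.primeIdealOf ⟨E.f i x, hsU₀⟩
  let y := hX₀.primeIdealOf ⟨x, hxX₀⟩
  have hsq := IsAffineOpen.SpecMap_appLE_fromSpec (E.f i) hU₀ hX₀ hle
  have h1 : hU₀.fromSpec p = E.f i x := hU₀.fromSpec_primeIdealOf ⟨E.f i x, hsU₀⟩
  have h2 : hX₀.fromSpec y = x := hX₀.fromSpec_primeIdealOf ⟨x, hxX₀⟩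
  have hy : PrimeSpectrum.comap (algebraMap Γ(S, U₀) Γ(E.X i, X₀)) y = p := by
    apply hU₀.fromSpec.isOpenEmbedding.injective
    rw [h1]
    have h3 : (Spec.map φ ≫ hU₀.fromSpec) y = (hX₀.fromSpec ≫ E.f i) y := by rw [hsq]
    rw [Scheme.Hom.comp_apply, Scheme.Hom.comp_apply, h2] at h3
    exact h3
  obtain ⟨f, hfp', hR₁⟩ := exists_tower (R := Γ(S, U₀)) (A := Γ(E.X i, X₀)) p ⟨y, hy⟩
  have hU : IsAffineOpen (S.basicOpen f) := hU₀.basicOpen f
  haveI : IsLocalization.Away f Γ(S, S.basicOpen f) := hU₀.isLocalization_basicOpen f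
  obtain ⟨S', _, _, k1, k2, k3, k4, k5⟩ := hR₁ Γ(S, S.basicOpen f)
  have hsU : E.f i x ∈ S.basicOpen f := by
    have : p ∈ hU₀.fromSpec ⁻¹ᵁ S.basicOpen f := by
      rw [hU₀.fromSpec_preimage_basicOpen]
      exact hfp'
    have h3 : hU₀.fromSpec p ∈ S.basicOpen f := this
    rwa [h1] at h3
  let α : Γ(S, S.basicOpen f) ⟶ CommRingCat.of S' :=
    CommRingCat.ofHom (algebraMap Γ(S, S.basicOpen f) S')
  have hα1 : Flat (Spec.map α) := by
    rw [HasRingHomProperty.Spec_iff (P := @Flat)]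
    exact RingHom.flat_algebraMap_iff.mpr k3
  have hα2 : LocallyOfFinitePresentation (Spec.map α) := by
    rw [HasRingHomProperty.Spec_iff (P := @LocallyOfFinitePresentation)]
    exact RingHom.finitePresentation_algebraMap.mpr k2
  have hα3 : IsFinite (Spec.map α) := by
    rw [IsFinite.SpecMap_iff]
    exact RingHom.finite_algebraMap.mpr k1
  have hα4 : Surjective (Spec.map α) := ⟨k4⟩
  refine ⟨S.basicOpen f, Spec (CommRingCat.of S'), Spec.map α ≫ hU.isoSpec.inv, hsU,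
    ⟨inferInstance, inferInstance, inferInstance⟩, inferInstance, fun t => ?_⟩
  obtain ⟨g', hg', C, _, _, c1, c2, c3, c4, ψ, hψ⟩ := k5 t.asIdeal
  let loc : CommRingCat.of S' ⟶ CommRingCat.of (Localization.Away g') :=
    CommRingCat.ofHom (algebraMap S' (Localization.Away g'))
  let ι' := Spec.map loc
  let γ : CommRingCat.of (Localization.Away g') ⟶ CommRingCat.of C :=
    CommRingCat.ofHom (algebraMap (Localization.Away g') C)
  have hγ1 : Flat (Spec.map γ) := by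
    rw [HasRingHomProperty.Spec_iff (P := @Flat)]
    exact RingHom.flat_algebraMap_iff.mpr c3
  have hγ2 : LocallyOfFinitePresentation (Spec.map γ) := by
    rw [HasRingHomProperty.Spec_iff (P := @LocallyOfFinitePresentation)]
    exact RingHom.finitePresentation_algebraMap.mpr c2
  have hγ3 : IsFinite (Spec.map γ) := by
    rw [IsFinite.SpecMap_iff]
    exact RingHom.finite_algebraMap.mpr c1
  have hγ4 : Surjective (Spec.map γ) := ⟨c4⟩
  let res : Γ(S, U₀) ⟶ Γ(S, S.basicOpen f) := S.presheaf.map (homOfLE (S.basicOpen_le f)).op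
  have hres : Spec.map res ≫ hU₀.fromSpec = hU.fromSpec := hU₀.map_fromSpec hU _
  have hcomp : φ ≫ CommRingCat.ofHom ψ = res ≫ α ≫ loc ≫ γ := by
    ext a
    exact congrArg (fun h : Γ(S, U₀) →+* C => h a) hψ
  haveI : (t.asIdeal.map (algebraMap S' (Localization.Away g'))).IsPrime :=
    Groth.Agent.H48.FlatOpen.isPrime_map_away g' t.asIdeal hg'
  let t' : Spec (CommRingCat.of (Localization.Away g')) :=
    ⟨t.asIdeal.map (algebraMap S' (Localization.Away g')), inferInstance⟩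
  have ht't : ι' t' = t := by
    apply PrimeSpectrum.ext
    exact Groth.Agent.H48.FlatOpen.comap_map_away g' t.asIdeal hg'
  have hπ : (Spec.map α ≫ hU.isoSpec.inv) ≫ Scheme.Opens.ι (S.basicOpen f) =
      Spec.map α ≫ hU.fromSpec := by
    rw [Category.assoc]; rfl
  refine ⟨ι'.opensRange, Spec (CommRingCat.of C), Spec.map γ ≫ ι'.isoOpensRange.hom, i,
    Spec.map (CommRingCat.ofHom ψ) ≫ hX₀.fromSpec, ⟨t', ht't⟩,
    ⟨inferInstance, inferInstance, inferInstance⟩, inferInstance, ?_⟩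
  rw [hπ, Category.assoc, Category.assoc, ← hsq, ← Category.assoc (Spec.map (CommRingCat.ofHom ψ)),
    ← Spec.map_comp, hcomp, ← Category.assoc ι'.isoOpensRange.hom,
    Scheme.Hom.isoOpensRange_hom_ι, ← hres]
  simp only [Spec.map_comp, Category.assoc]
  rfl

end Groth.Agent.H48.Split
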