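import Mathlib

/-!
# (A) for S1114: chain-level adjunction `Tot(- ⊗ E) ⊣ Tot(- ⊗ D)` from termwise adjunctions
-/

set_option autoImplicit false
set_option linter.unusedSectionVars false
set_option linter.unusedVariables false
open CategoryTheory CategoryTheory.Limits HomologicalComplex

namespace Groth.Agent.TotAdjA

variable {𝒜 : Type*} [Category 𝒜] [Preadditive 𝒜] (F : 𝒜 ⥤ 𝒜 ⥤ 𝒜) [F.Additive] [∀ X, (F.obj X).Additive]
  [∀ K₁ K₂ : CochainComplex 𝒜 ℤ, HasMapBifunctor K₁ K₂ F (ComplexShape.up ℤ)]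

section data

variable (B : ℤ → 𝒜) (t : ∀ q : ℤ, B (q + 1) ⟶ B q) (htt : ∀ q : ℤ, t (q + 1) ≫ t q = 0)

/-- the transition maps with general indices. -/
def tt (q q' : ℤ) (h : q + 1 = q') : B q' ⟶ B q := eqToHom (by rw [h]) ≫ t q

include htt in
theorem tt_comp (q q' q'' : ℤ) (h : q + 1 = q') (h' : q' + 1 = q'') :
    tt B t q' q'' h' ≫ tt B t q q' h = 0 := by
  subst h h'
  simp [tt, htt]

/-- the dual complex. -/
noncomputable abbrev D : CochainComplex 𝒜 ℤ where
  X i := B (-i)
  d i j := if h : i + 1 = j then j.negOnePow • tt B t (-j) (-i) (by omega) else 0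
  shape i j hij := dif_neg hij
  d_comp_d' i j k hij hjk := by
    have hij' : i + 1 = j := hij
    have hjk' : j + 1 = k := hjk
    rw [dif_pos hij', dif_pos hjk']
    simp only [Linear.units_smul_comp, Linear.comp_units_smul]
    rw [tt_comp B t htt, smul_zero, smul_zero]

theorem D_d (i j : ℤ) (h : i + 1 = j) :
    (D B t htt).d i j = j.negOnePow • tt B t (-j) (-i) (by omega) := dif_pos h

end data

section mates

variable (E : CochainComplex 𝒜 ℤ) (B : ℤ → 𝒜)
  (adj : ∀ q : ℤ, F.flip.obj (E.X q) ⊣ F.flip.obj (B q))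
  (t : ∀ q : ℤ, B (q + 1) ⟶ B q)
  (ht : ∀ q : ℤ, conjugateEquiv (adj (q + 1)) (adj q) (F.flip.map (E.d q (q + 1))) = F.flip.map (t q))

include ht in
/-- mate identity, unit form. -/
theorem mate_unit (q q' : ℤ) (h : q + 1 = q') (X : 𝒜) :
    (adj q').unit.app X ≫ (F.obj ((F.obj X).obj (E.X q'))).map (tt B t q q' h) =
      (adj q).unit.app X ≫ (F.map ((F.obj X).map (E.d q q'))).app (B q) := by
  subst h
  have := unit_conjugateEquiv (adj (q + 1)) (adj q) (F.flip.map (E.d q (q + 1))) X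
  rw [ht q] at this
  simpa [tt] using this

include ht in
/-- mate identity, counit form. -/
theorem mate_counit (q q' : ℤ) (h : q + 1 = q') (Y : 𝒜) :
    (F.map ((F.obj Y).map (tt B t q q' h))).app (E.X q) ≫ (adj q).counit.app Y =
      (F.obj ((F.obj Y).obj (B q'))).map (E.d q q') ≫ (adj q').counit.app Y := by
  subst h
  have := conjugateEquiv_counit (adj (q + 1)) (adj q) (F.flip.map (E.d q (q + 1))) Y
  rw [ht q] at this
  simpa [tt] using this

end mates

theorem πe (a b c : ℤ) (h : a + b = c) :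
    ComplexShape.π (ComplexShape.up ℤ) (ComplexShape.up ℤ) (ComplexShape.up ℤ) (a, b) = c := h

section proj

variable (K₁ K₂ : CochainComplex 𝒜 ℤ)

/-- projection of the total complex onto the summand `(m, e)`. -/
noncomputable def pr (n e m : ℤ) (h : m + e = n) :
    (mapBifunctor K₁ K₂ F (ComplexShape.up ℤ)).X n ⟶ (F.obj (K₁.X m)).obj (K₂.X e) :=
  mapBifunctorDesc (fun m' e' h' =>
    if he : e' = e then eqToHom (by
      have h'' : m' + e' = n := h'
      subst he
      obtain rfl : m' = m := by omega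
      rfl) else 0)

theorem ι_pr (n e m : ℤ) (h : m + e = n) (m' e' : ℤ) (h' : m' + e' = n) :
    ιMapBifunctor K₁ K₂ F (ComplexShape.up ℤ) m' e' n h' ≫ pr F K₁ K₂ n e m h =
      if he : e' = e then eqToHom (by
        subst he
        obtain rfl : m' = m := by omega
        rfl) else 0 := by
  simp [pr]

theorem ι_pr_self (n e m : ℤ) (h : m + e = n) :
    ιMapBifunctor K₁ K₂ F (ComplexShape.up ℤ) m e n h ≫ pr F K₁ K₂ n e m h = 𝟙 _ := by
  rw [ι_pr, dif_pos rfl, eqToHom_refl]

theorem ι_pr_ne (n e m : ℤ) (h : m + e = n) (m' e' : ℤ) (h' : m' + e' = n) (hne : e' ≠ e) :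
    ιMapBifunctor K₁ K₂ F (ComplexShape.up ℤ) m' e' n h' ≫ pr F K₁ K₂ n e m h = 0 := by
  rw [ι_pr, dif_neg hne]

theorem ι_eq_zero_of_isZero (m e n : ℤ) (h : m + e = n) (hz : IsZero (K₂.X e)) :
    ιMapBifunctor K₁ K₂ F (ComplexShape.up ℤ) m e n h = 0 :=
  ((F.obj (K₁.X m)).map_isZero hz).eq_of_src _ _

theorem pr_eq_zero_of_isZero (m e n : ℤ) (h : m + e = n) (hz : IsZero (K₂.X e)) :
    pr F K₁ K₂ n e m h = 0 :=
  ((F.obj (K₁.X m)).map_isZero hz).eq_of_tgt _ _

/-- decomposition of the identity when `K₂` is bounded. -/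
theorem sum_pr_ι (lo hi : ℤ) (hK : ∀ i : ℤ, i < lo ∨ hi < i → IsZero (K₂.X i)) (n : ℤ) :
    ∑ e ∈ Finset.Icc lo hi, pr F K₁ K₂ n e (n + -e) (by omega) ≫
      ιMapBifunctor K₁ K₂ F (ComplexShape.up ℤ) (n + -e) e n (πe _ _ _ (by omega)) = 𝟙 _ := by
  apply mapBifunctor.hom_ext
  intro m' e' h'
  have h'' : m' + e' = n := h'
  rw [Preadditive.comp_sum, Category.comp_id]
  by_cases he' : e' ∈ Finset.Icc lo hi
  · rw [Finset.sum_eq_single e']
    · obtain rfl : m' = n + -e' := by omega
      rw [← Category.assoc, ι_pr_self, Category.id_comp]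
    · intro e _ hne
      rw [← Category.assoc, ι_pr_ne F K₁ K₂ n e _ _ m' e' h'' (Ne.symm hne), zero_comp]
    · intro h; exact absurd he' h
  · have hz : IsZero (K₂.X e') := by
      apply hK
      rw [Finset.mem_Icc] at he'
      omega
    rw [ι_eq_zero_of_isZero F K₁ K₂ m' e' n h'' hz]
    simp

/-- the differential of the total complex on a summand. -/
theorem ι_d (i₁ i₂ n n' i₁' i₂' : ℤ) (h : i₁ + i₂ = n) (hn : n + 1 = n') (h1 : i₁ + 1 = i₁')
    (h2 : i₂ + 1 = i₂') :
    ιMapBifunctor K₁ K₂ F (ComplexShape.up ℤ) i₁ i₂ n (πe _ _ _ h) ≫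
        (mapBifunctor K₁ K₂ F (ComplexShape.up ℤ)).d n n' =
      (F.map (K₁.d i₁ i₁')).app (K₂.X i₂) ≫
          ιMapBifunctor K₁ K₂ F (ComplexShape.up ℤ) i₁' i₂ n' (πe _ _ _ (by omega)) +
        i₁.negOnePow • ((F.obj (K₁.X i₁)).map (K₂.d i₂ i₂') ≫
          ιMapBifunctor K₁ K₂ F (ComplexShape.up ℤ) i₁ i₂' n' (πe _ _ _ (by omega))) := by
  rw [mapBifunctor.d_eq, Preadditive.comp_add, mapBifunctor.ι_D₁, mapBifunctor.ι_D₂,
    mapBifunctor.d₁_eq K₁ K₂ F _ (show (ComplexShape.up ℤ).Rel i₁ i₁' from h1) i₂ _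
      (πe _ _ _ (by omega)),
    mapBifunctor.d₂_eq K₁ K₂ F _ i₁ (show (ComplexShape.up ℤ).Rel i₂ i₂' from h2) _
      (πe _ _ _ (by omega))]
  simp

/-- the components of the differential of the total complex. -/
theorem d_pr (n n' m m' e' e : ℤ) (h1 : m + 1 = m') (h2 : e' + 1 = e) (h3 : m + e = n)
    (h4 : n + 1 = n') :
    (mapBifunctor K₁ K₂ F (ComplexShape.up ℤ)).d n n' ≫ pr F K₁ K₂ n' e m' (by omega) =
      pr F K₁ K₂ n e m h3 ≫ (F.map (K₁.d m m')).app (K₂.X e) +
        m'.negOnePow • (pr F K₁ K₂ n e' m' (by omega) ≫ (F.obj (K₁.X m')).map (K₂.d e' e)) := by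
  subst h1 h2 h3 h4
  apply mapBifunctor.hom_ext
  intro a c hac
  have hac' : a + c = m + (e' + 1) := hac
  rw [Preadditive.comp_add, mapBifunctor.d_eq, Preadditive.add_comp, Preadditive.comp_add,
    mapBifunctor.ι_D₁_assoc, mapBifunctor.ι_D₂_assoc,
    mapBifunctor.d₁_eq K₁ K₂ F _ (show (ComplexShape.up ℤ).Rel a (a + 1) from rfl) c _
      (πe _ _ _ (by omega)),
    mapBifunctor.d₂_eq K₁ K₂ F _ a (show (ComplexShape.up ℤ).Rel c (c + 1) from rfl) _
      (πe _ _ _ (by omega))]
  simp only [Linear.units_smul_comp, Linear.comp_units_smul, Category.assoc]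
  by_cases hc : c = e' + 1
  · subst hc
    obtain rfl : a = m := by omega
    rw [ι_pr_self, ι_pr_ne F K₁ K₂ _ _ _ _ _ _ _ (by omega), ← Category.assoc (ιMapBifunctor _ _ _ _ _ _ _ _),
      ι_pr_self, ← Category.assoc (ιMapBifunctor _ _ _ _ _ _ _ _),
      ι_pr_ne F K₁ K₂ _ _ _ _ _ _ _ (by omega)]
    simp
  · by_cases hc' : c = e'
    · subst hc'
      obtain rfl : a = m + 1 := by omega
      rw [ι_pr_ne F K₁ K₂ _ _ _ _ _ _ _ (by omega), ι_pr_self,
        ← Category.assoc (ιMapBifunctor _ _ _ _ _ _ _ _),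
        ι_pr_ne F K₁ K₂ _ _ _ _ _ _ _ (by omega), ← Category.assoc (ιMapBifunctor _ _ _ _ _ _ _ _),
        ι_pr_self]
      simp
    · rw [ι_pr_ne F K₁ K₂ _ _ _ _ _ _ _ hc, ι_pr_ne F K₁ K₂ _ _ _ _ _ _ _ (by omega),
        ← Category.assoc (ιMapBifunctor _ _ _ _ _ _ _ _),
        ι_pr_ne F K₁ K₂ _ _ _ _ _ _ _ hc, ← Category.assoc (ιMapBifunctor _ _ _ _ _ _ _ _),
        ι_pr_ne F K₁ K₂ _ _ _ _ _ _ _ hc']
      simp

/-- naturality of the projections in the first variable. -/
theorem map_pr {L₁ : CochainComplex 𝒜 ℤ} (g : K₁ ⟶ L₁) (n e m : ℤ) (h : m + e = n) :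
    (mapBifunctorMap g (𝟙 K₂) F (ComplexShape.up ℤ)).f n ≫ pr F L₁ K₂ n e m h =
      pr F K₁ K₂ n e m h ≫ (F.map (g.f m)).app (K₂.X e) := by
  apply mapBifunctor.hom_ext
  intro a c hac
  have hac' : a + c = n := hac
  rw [ι_mapBifunctorMap_assoc]
  by_cases hc : c = e
  · subst hc
    obtain rfl : a = m := by omega
    rw [ι_pr_self, ← Category.assoc (ιMapBifunctor _ _ _ _ _ _ _ _), ι_pr_self]
    simp
  · rw [ι_pr_ne F L₁ K₂ _ _ _ _ _ _ _ hc, ← Category.assoc (ιMapBifunctor _ _ _ _ _ _ _ _),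
      ι_pr_ne F K₁ K₂ _ _ _ _ _ _ _ hc]
    simp

end proj

section main

variable (E : CochainComplex 𝒜 ℤ) (a b : ℤ) (hE : ∀ i : ℤ, i < a ∨ b < i → IsZero (E.X i))
  (B : ℤ → 𝒜) (hB : ∀ q : ℤ, q < a ∨ b < q → IsZero (B q))
  (adj : ∀ q : ℤ, F.flip.obj (E.X q) ⊣ F.flip.obj (B q))
  (t : ∀ q : ℤ, B (q + 1) ⟶ B q) (htt : ∀ q : ℤ, t (q + 1) ≫ t q = 0)
  (ht : ∀ q : ℤ, conjugateEquiv (adj (q + 1)) (adj q) (F.flip.map (E.d q (q + 1))) = F.flip.map (t q))

/-- `Tot(P ⊗ E)`. -/
noncomputable abbrev GE (P : CochainComplex 𝒜 ℤ) : CochainComplex 𝒜 ℤ :=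
  mapBifunctor P E F (ComplexShape.up ℤ)

/-- `Tot(M ⊗ D)`. -/
noncomputable abbrev GD (M : CochainComplex 𝒜 ℤ) : CochainComplex 𝒜 ℤ :=
  mapBifunctor M (D B t htt) F (ComplexShape.up ℤ)

/-- unit naturality, unfolded. -/
theorem unit_nat (q : ℤ) {X Y : 𝒜} (f : X ⟶ Y) :
    f ≫ (adj q).unit.app Y =
      (adj q).unit.app X ≫ (F.map ((F.map f).app (E.X q))).app (B q) := by
  have := (adj q).unit.naturality f
  simpa using this

/-- counit naturality, unfolded. -/
theorem counit_nat (q : ℤ) {X Y : 𝒜} (f : X ⟶ Y) :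
    (F.map ((F.map f).app (B q))).app (E.X q) ≫ (adj q).counit.app Y =
      (adj q).counit.app X ≫ f := by
  have := (adj q).counit.naturality f
  simpa using this

/-- left triangle, unfolded. -/
theorem left_tri (q : ℤ) (X : 𝒜) :
    (F.map ((adj q).unit.app X)).app (E.X q) ≫
      (adj q).counit.app ((F.obj X).obj (E.X q)) = 𝟙 _ := by
  have := (adj q).left_triangle_components X
  simpa using this

/-- right triangle, unfolded. -/
theorem right_tri (q : ℤ) (Y : 𝒜) :
    (adj q).unit.app ((F.obj Y).obj (B q)) ≫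
      (F.map ((adj q).counit.app Y)).app (B q) = 𝟙 _ := by
  have := (adj q).right_triangle_components Y
  simpa using this

/-- a general term built from the unit. -/
noncomputable def vTerm (P : CochainComplex 𝒜 ℤ) (e n p : ℤ) (h : n + e = p) (X : 𝒜)
    (f : (F.obj X).obj (E.X (-e)) ⟶ (GE F E P).X n) :
    X ⟶ (GD F B t htt (GE F E P)).X p :=
  (adj (-e)).unit.app X ≫ (F.map f).app (B (-e)) ≫
    ιMapBifunctor (GE F E P) (D B t htt) F (ComplexShape.up ℤ) n e p (πe _ _ _ h)

theorem vTerm_add (P : CochainComplex 𝒜 ℤ) (e n p : ℤ) (h : n + e = p) (X : 𝒜)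
    (f g : (F.obj X).obj (E.X (-e)) ⟶ (GE F E P).X n) :
    vTerm F E B adj t htt P e n p h X (f + g) =
      vTerm F E B adj t htt P e n p h X f + vTerm F E B adj t htt P e n p h X g := by
  simp [vTerm]

theorem vTerm_smul (P : CochainComplex 𝒜 ℤ) (e n p : ℤ) (h : n + e = p) (X : 𝒜) (u : ℤˣ)
    (f : (F.obj X).obj (E.X (-e)) ⟶ (GE F E P).X n) :
    vTerm F E B adj t htt P e n p h X (u • f) = u • vTerm F E B adj t htt P e n p h X f := by
  simp [vTerm, Functor.map_units_smul]

theorem comp_vTerm (P : CochainComplex 𝒜 ℤ) (e n p : ℤ) (h : n + e = p) {X Y : 𝒜} (g : X ⟶ Y)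
    (f : (F.obj Y).obj (E.X (-e)) ⟶ (GE F E P).X n) :
    g ≫ vTerm F E B adj t htt P e n p h Y f =
      vTerm F E B adj t htt P e n p h X ((F.map g).app (E.X (-e)) ≫ f) := by
  simp only [vTerm]
  rw [← Category.assoc, unit_nat F E B adj (-e) g]
  simp

theorem vTerm_eq_zero (P : CochainComplex 𝒜 ℤ) (e n p : ℤ) (h : n + e = p) (X : 𝒜)
    (f : (F.obj X).obj (E.X (-e)) ⟶ (GE F E P).X n) (hz : IsZero (B (-e))) :
    vTerm F E B adj t htt P e n p h X f = 0 := by
  have : (adj (-e)).unit.app X = 0 :=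
    ((F.obj ((F.obj X).obj (E.X (-e)))).map_isZero hz).eq_of_tgt _ _
  simp [vTerm, this]

/-- the terms of the unit. -/
noncomputable def uTerm (P : CochainComplex 𝒜 ℤ) (p e n : ℤ) (h : n + e = p) :
    P.X p ⟶ (GD F B t htt (GE F E P)).X p :=
  vTerm F E B adj t htt P e n p h (P.X p)
    (ιMapBifunctor P E F (ComplexShape.up ℤ) p (-e) n (πe _ _ _ (by omega)))

theorem uTerm_congr (P : CochainComplex 𝒜 ℤ) (p e n n' : ℤ) (h : n + e = p) (h' : n' + e = p) :
    uTerm F E B adj t htt P p e n h = uTerm F E B adj t htt P p e n' h' := by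
  obtain rfl : n = n' := by omega
  rfl

/-- the cross terms. -/
noncomputable def wTerm (P : CochainComplex 𝒜 ℤ) (p e₀ e₁ n p' : ℤ) (h01 : e₀ + 1 = e₁)
    (hn : n + e₀ = p) (hp' : n + e₁ = p') : P.X p ⟶ (GD F B t htt (GE F E P)).X p' :=
  (adj (-e₀)).unit.app (P.X p) ≫
    (F.map (ιMapBifunctor P E F (ComplexShape.up ℤ) p (-e₀) n (πe _ _ _ (by omega)))).app
      (B (-e₀)) ≫
    (F.obj ((GE F E P).X n)).map (tt B t (-e₁) (-e₀) (by omega)) ≫
      ιMapBifunctor (GE F E P) (D B t htt) F (ComplexShape.up ℤ) n e₁ p' (πe _ _ _ hp')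

theorem wTerm_congr (P : CochainComplex 𝒜 ℤ) (p e₀ e₁ n n' p' : ℤ) (h01 : e₀ + 1 = e₁)
    (hn : n + e₀ = p) (hp' : n + e₁ = p') (hn' : n' + e₀ = p) (hp'' : n' + e₁ = p') :
    wTerm F E B adj t htt P p e₀ e₁ n p' h01 hn hp' =
      wTerm F E B adj t htt P p e₀ e₁ n' p' h01 hn' hp'' := by
  obtain rfl : n = n' := by omega
  rfl

theorem wTerm_eq_zero_left (P : CochainComplex 𝒜 ℤ) (p e₀ e₁ n p' : ℤ) (h01 : e₀ + 1 = e₁)
    (hn : n + e₀ = p) (hp' : n + e₁ = p') (hz : IsZero (B (-e₀))) :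
    wTerm F E B adj t htt P p e₀ e₁ n p' h01 hn hp' = 0 := by
  have : (adj (-e₀)).unit.app (P.X p) = 0 :=
    ((F.obj ((F.obj (P.X p)).obj (E.X (-e₀)))).map_isZero hz).eq_of_tgt _ _
  simp [wTerm, this]

theorem wTerm_eq_zero_right (P : CochainComplex 𝒜 ℤ) (p e₀ e₁ n p' : ℤ) (h01 : e₀ + 1 = e₁)
    (hn : n + e₀ = p) (hp' : n + e₁ = p') (hz : IsZero (B (-e₁))) :
    wTerm F E B adj t htt P p e₀ e₁ n p' h01 hn hp' = 0 := by
  have : tt B t (-e₁) (-e₀) (by omega) = 0 := hz.eq_of_tgt _ _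
  simp [wTerm, this]

include ht in
/-- the differential applied to a term of the unit. -/
theorem uTerm_d (P : CochainComplex 𝒜 ℤ) (p p' e e' n n' : ℤ) (hp : p + 1 = p') (h : n + e = p)
    (hn : n + 1 = n') (he : e' + 1 = e) :
    uTerm F E B adj t htt P p e n h ≫ (GD F B t htt (GE F E P)).d p p' =
      P.d p p' ≫ uTerm F E B adj t htt P p' e n' (by omega) +
        p.negOnePow • wTerm F E B adj t htt P p e' e n' p' he (by omega) (by omega) +
        (n.negOnePow * (e + 1).negOnePow) •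
          wTerm F E B adj t htt P p e (e + 1) n p' rfl h (by omega) := by
  subst hp hn
  obtain rfl : e = e' + 1 := he.symm
  simp only [uTerm, vTerm, Category.assoc]
  rw [ι_d F (GE F E P) (D B t htt) n (e' + 1) p (p + 1) (n + 1) (e' + 1 + 1) h rfl rfl rfl]
  rw [Preadditive.comp_add, Preadditive.comp_add]
  -- first part
  have h1 : (F.map (ιMapBifunctor P E F (ComplexShape.up ℤ) p (-(e' + 1)) n
        (πe _ _ _ (by omega)))).app (B (-(e' + 1))) ≫
      (F.map ((GE F E P).d n (n + 1))).app ((D B t htt).X (e' + 1)) =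
      (F.map ((F.map (P.d p (p + 1))).app (E.X (-(e' + 1))) ≫
        ιMapBifunctor P E F (ComplexShape.up ℤ) (p + 1) (-(e' + 1)) (n + 1)
          (πe _ _ _ (by omega)))).app (B (-(e' + 1))) +
      p.negOnePow • (F.map ((F.obj (P.X p)).map (E.d (-(e' + 1)) (-e')) ≫
        ιMapBifunctor P E F (ComplexShape.up ℤ) p (-e') (n + 1)
          (πe _ _ _ (by omega)))).app (B (-(e' + 1))) := by
    change _ ≫ (F.map ((GE F E P).d n (n + 1))).app (B (-(e' + 1))) = _
    rw [← NatTrans.comp_app, ← F.map_comp,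
      ι_d F P E p (-(e' + 1)) n (n + 1) (p + 1) (-e') (by omega) rfl rfl (by omega)]
    simp [Functor.map_units_smul]
  rw [← Category.assoc ((F.map _).app _) ((F.map _).app _), h1]
  simp only [Preadditive.add_comp, Preadditive.comp_add, Linear.units_smul_comp,
    Linear.comp_units_smul, Category.assoc]
  congr 1
  · congr 1
    · -- A term
      rw [← Category.assoc (P.d p (p + 1)), unit_nat F E B adj (-(e' + 1)) (P.d p (p + 1))]
      simp
    · -- B term
      congr 1
      simp only [wTerm, Functor.map_comp, NatTrans.comp_app, Category.assoc]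
      have hm := (mate_unit F E B adj t ht (-(e' + 1)) (-e') (by omega) (P.X p)).symm
      rw [reassoc_of% hm]
      congr 1
      exact (F.map (ιMapBifunctor P E F (ComplexShape.up ℤ) p (-e') (n + 1)
        (πe _ _ _ (by omega)))).naturality_assoc (tt B t (-(e' + 1)) (-e') (by omega)) _
  · -- C term
    simp only [wTerm, ↓reduceDIte, Functor.map_units_smul, Linear.units_smul_comp,
      Linear.comp_units_smul, smul_smul]

theorem wTerm_congr' (P : CochainComplex 𝒜 ℤ) (p e₀ e₁ e₁' n n' p' : ℤ) (h01 : e₀ + 1 = e₁)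
    (h01' : e₀ + 1 = e₁')
    (hn : n + e₀ = p) (hp' : n + e₁ = p') (hn' : n' + e₀ = p) (hp'' : n' + e₁' = p') :
    wTerm F E B adj t htt P p e₀ e₁ n p' h01 hn hp' =
      wTerm F E B adj t htt P p e₀ e₁' n' p' h01' hn' hp'' := by
  obtain rfl : n = n' := by omega
  obtain rfl : e₁ = e₁' := by omega
  rfl

/-- the degree `p` component of the unit. -/
noncomputable def unitF (P : CochainComplex 𝒜 ℤ) (p : ℤ) :
    P.X p ⟶ (GD F B t htt (GE F E P)).X p :=
  ∑ e ∈ Finset.Icc (-b) (-a), uTerm F E B adj t htt P p e (p + -e) (by omega)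

include hB in
theorem wsum (P : CochainComplex 𝒜 ℤ) (p p' : ℤ) (hp : p + 1 = p') :
    ∑ e ∈ Finset.Icc (-b) (-a),
        wTerm F E B adj t htt P p (e - 1) e (p + -e + 1) p' (by omega) (by omega) (by omega) =
      ∑ e ∈ Finset.Icc (-b) (-a),
        wTerm F E B adj t htt P p e (e + 1) (p + -e) p' rfl (by omega) (by omega) := by
  have h1 : ∑ e ∈ Finset.Icc (-b) (-a),
        wTerm F E B adj t htt P p (e - 1) e (p + -e + 1) p' (by omega) (by omega) (by omega) =
      ∑ e ∈ Finset.Icc (-b - 1) (-a - 1),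
        wTerm F E B adj t htt P p e (e + 1) (p + -e) p' rfl (by omega) (by omega) := by
    refine Finset.sum_nbij' (fun e => e - 1) (fun e => e + 1) ?_ ?_ ?_ ?_ ?_
    · intro e he; rw [Finset.mem_Icc] at he ⊢; omega
    · intro e he; rw [Finset.mem_Icc] at he ⊢; omega
    · intro e _; show e - 1 + 1 = e; omega
    · intro e _; show e + 1 - 1 = e; omega
    · intro e _
      exact wTerm_congr' F E B adj t htt P p (e - 1) e (e - 1 + 1) _ _ p' _ _ _ _ _ _
  have h2 : ∑ e ∈ Finset.Icc (-b) (-a - 1),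
        wTerm F E B adj t htt P p e (e + 1) (p + -e) p' rfl (by omega) (by omega) =
      ∑ e ∈ Finset.Icc (-b - 1) (-a - 1),
        wTerm F E B adj t htt P p e (e + 1) (p + -e) p' rfl (by omega) (by omega) := by
    refine Finset.sum_subset (Finset.Icc_subset_Icc (by omega) le_rfl) ?_
    intro e he he'
    rw [Finset.mem_Icc] at he he'
    exact wTerm_eq_zero_left F E B adj t htt P p e (e + 1) _ p' _ _ _ (hB _ (by omega))
  have h3 : ∑ e ∈ Finset.Icc (-b) (-a - 1),
        wTerm F E B adj t htt P p e (e + 1) (p + -e) p' rfl (by omega) (by omega) =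
      ∑ e ∈ Finset.Icc (-b) (-a),
        wTerm F E B adj t htt P p e (e + 1) (p + -e) p' rfl (by omega) (by omega) := by
    refine Finset.sum_subset (Finset.Icc_subset_Icc le_rfl (by omega)) ?_
    intro e he he'
    rw [Finset.mem_Icc] at he he'
    exact wTerm_eq_zero_right F E B adj t htt P p e (e + 1) _ p' _ _ _ (hB _ (by omega))
  rw [h1, ← h2, h3]

include hB ht in
theorem unitF_comm (P : CochainComplex 𝒜 ℤ) (p p' : ℤ) (hp : p + 1 = p') :
    unitF F E a b B adj t htt P p ≫ (GD F B t htt (GE F E P)).d p p' =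
      P.d p p' ≫ unitF F E a b B adj t htt P p' := by
  simp only [unitF, Preadditive.sum_comp, Preadditive.comp_sum]
  have key : ∀ e : ℤ, uTerm F E B adj t htt P p e (p + -e) (by omega) ≫
        (GD F B t htt (GE F E P)).d p p' =
      P.d p p' ≫ uTerm F E B adj t htt P p' e (p' + -e) (by omega) +
        p.negOnePow • wTerm F E B adj t htt P p (e - 1) e (p + -e + 1) p' (by omega) (by omega)
          (by omega) -
        p.negOnePow • wTerm F E B adj t htt P p e (e + 1) (p + -e) p' rfl (by omega)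
          (by omega) := by
    intro e
    rw [uTerm_d F E B adj t htt ht P p p' e (e - 1) (p + -e) (p + -e + 1) hp (by omega) rfl
      (by omega)]
    have hs : (p + -e).negOnePow * (e + 1).negOnePow = -p.negOnePow := by
      rw [← Int.negOnePow_add]
      have : p + -e + (e + 1) = p + 1 := by omega
      rw [this, Int.negOnePow_succ]
    rw [hs, Units.neg_smul, ← sub_eq_add_neg]
    congr 2
    rw [uTerm_congr F E B adj t htt P p' e (p + -e + 1) (p' + -e)]
  rw [Finset.sum_congr rfl (fun e _ => key e), Finset.sum_sub_distrib, Finset.sum_add_distrib,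
    ← Finset.smul_sum, ← Finset.smul_sum, wsum F E a b B hB adj t htt P p p' hp]
  abel

theorem uTerm_nat {P P' : CochainComplex 𝒜 ℤ} (f : P ⟶ P') (p e n : ℤ) (h : n + e = p) :
    f.f p ≫ uTerm F E B adj t htt P' p e n h =
      uTerm F E B adj t htt P p e n h ≫
        (mapBifunctorMap (mapBifunctorMap f (𝟙 E) F (ComplexShape.up ℤ)) (𝟙 (D B t htt)) F
          (ComplexShape.up ℤ)).f p := by
  simp only [uTerm]
  rw [comp_vTerm]
  simp only [vTerm, Category.assoc]
  rw [ι_mapBifunctorMap]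
  simp only [HomologicalComplex.id_f, CategoryTheory.Functor.map_id, Category.id_comp]
  rw [← NatTrans.comp_app_assoc, ← F.map_comp, ι_mapBifunctorMap]
  simp

theorem unitF_nat {P P' : CochainComplex 𝒜 ℤ} (f : P ⟶ P') (p : ℤ) :
    f.f p ≫ unitF F E a b B adj t htt P' p =
      unitF F E a b B adj t htt P p ≫
        (mapBifunctorMap (mapBifunctorMap f (𝟙 E) F (ComplexShape.up ℤ)) (𝟙 (D B t htt)) F
          (ComplexShape.up ℤ)).f p := by
  simp only [unitF, Preadditive.sum_comp, Preadditive.comp_sum]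
  exact Finset.sum_congr rfl (fun e _ => uTerm_nat F E B adj t htt f p e _ _)

/-! ### the counit -/

/-- the component of the counit on the summand `(n, -e)`. -/
noncomputable def cTerm (M : CochainComplex 𝒜 ℤ) (n e m : ℤ) (h : n + -e = m) :
    (F.obj ((GD F B t htt M).X n)).obj (E.X (-e)) ⟶ M.X m :=
  (F.map (pr F M (D B t htt) n e m (by omega))).app (E.X (-e)) ≫ (adj (-e)).counit.app (M.X m)

theorem cTerm_cast (M : CochainComplex 𝒜 ℤ) (n e e' m : ℤ) (h : n + -e = m) (he : e' = e) :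
    (F.obj ((GD F B t htt M).X n)).map (eqToHom (by rw [he]) : E.X (-e) ⟶ E.X (-e')) ≫
      cTerm F E B adj t htt M n e' m (by omega) = cTerm F E B adj t htt M n e m h := by
  subst he
  simp

/-- the degree `m` component of the counit. -/
noncomputable def counitF (M : CochainComplex 𝒜 ℤ) (m : ℤ) :
    (GE F E (GD F B t htt M)).X m ⟶ M.X m :=
  mapBifunctorDesc (fun n q hq =>
    (F.obj ((GD F B t htt M).X n)).map (eqToHom (by rw [neg_neg]) : E.X q ⟶ E.X (-(-q))) ≫
      cTerm F E B adj t htt M n (-q) m (by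
        have : n + q = m := hq
        omega))

@[reassoc]
theorem ι_counitF (M : CochainComplex 𝒜 ℤ) (n e m : ℤ) (h : n + -e = m) :
    ιMapBifunctor (GD F B t htt M) E F (ComplexShape.up ℤ) n (-e) m (πe _ _ _ h) ≫
      counitF F E B adj t htt M m = cTerm F E B adj t htt M n e m h := by
  rw [counitF, ι_mapBifunctorDesc]
  exact cTerm_cast F E B adj t htt M n e (-(-e)) m h (neg_neg e)

theorem hom_ext_neg {K₁ : CochainComplex 𝒜 ℤ} {Y : 𝒜} {j : ℤ}
    {f g : (mapBifunctor K₁ E F (ComplexShape.up ℤ)).X j ⟶ Y}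
    (h : ∀ (n e : ℤ) (h : n + -e = j),
      ιMapBifunctor K₁ E F (ComplexShape.up ℤ) n (-e) j (πe _ _ _ h) ≫ f =
        ιMapBifunctor K₁ E F (ComplexShape.up ℤ) n (-e) j (πe _ _ _ h) ≫ g) : f = g := by
  apply mapBifunctor.hom_ext
  intro n q hq
  obtain ⟨e, rfl⟩ : ∃ e, q = -e := ⟨-q, (neg_neg q).symm⟩
  exact h n e hq

theorem counitF_nat {M M' : CochainComplex 𝒜 ℤ} (g : M ⟶ M') (m : ℤ) :
    (mapBifunctorMap (mapBifunctorMap g (𝟙 (D B t htt)) F (ComplexShape.up ℤ)) (𝟙 E) F
        (ComplexShape.up ℤ)).f m ≫ counitF F E B adj t htt M' m =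
      counitF F E B adj t htt M m ≫ g.f m := by
  apply hom_ext_neg
  intro n e h
  rw [ι_mapBifunctorMap_assoc, ι_counitF F E B adj t htt M' n e m h,
    ι_counitF_assoc F E B adj t htt M n e m h]
  simp only [HomologicalComplex.id_f, CategoryTheory.Functor.map_id, Category.id_comp, cTerm,
    Category.assoc]
  rw [← NatTrans.comp_app_assoc, ← F.map_comp, map_pr, F.map_comp, NatTrans.comp_app,
    Category.assoc]
  congr 1
  exact counit_nat F E B adj (-e) (g.f m)

include ht in
theorem counitF_comm (M : CochainComplex 𝒜 ℤ) (m m' : ℤ) (hm : m + 1 = m') :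
    counitF F E B adj t htt M m ≫ M.d m m' =
      (GE F E (GD F B t htt M)).d m m' ≫ counitF F E B adj t htt M m' := by
  apply hom_ext_neg
  intro n e h
  obtain ⟨e', rfl⟩ : ∃ e', e = e' + 1 := ⟨e - 1, by omega⟩
  subst hm
  rw [ι_counitF_assoc F E B adj t htt M n (e' + 1) m h, ← Category.assoc,
    ι_d F (GD F B t htt M) E n (-(e' + 1)) m (m + 1) (n + 1) (-e') h rfl rfl (by omega),
    Preadditive.add_comp, Category.assoc, Linear.units_smul_comp, Category.assoc,
    ι_counitF F E B adj t htt M (n + 1) (e' + 1) (m + 1) (by omega),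
    ι_counitF F E B adj t htt M n e' (m + 1) (by omega)]
  simp only [cTerm, Category.assoc]
  -- left side
  have hL : (adj (-(e' + 1))).counit.app (M.X m) ≫ M.d m (m + 1) =
      (F.map ((F.map (M.d m (m + 1))).app (B (-(e' + 1))))).app (E.X (-(e' + 1))) ≫
        (adj (-(e' + 1))).counit.app (M.X (m + 1)) :=
    (counit_nat F E B adj (-(e' + 1)) (M.d m (m + 1))).symm
  rw [hL]
  -- right side, first term
  have hR1 : (F.map ((GD F B t htt M).d n (n + 1))).app (E.X (-(e' + 1))) ≫
      (F.map (pr F M (D B t htt) (n + 1) (e' + 1) (m + 1) (by omega))).app (E.X (-(e' + 1))) =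
      (F.map (pr F M (D B t htt) n (e' + 1) m (by omega))).app (E.X (-(e' + 1))) ≫
        (F.map ((F.map (M.d m (m + 1))).app (B (-(e' + 1))))).app (E.X (-(e' + 1))) +
      ((m + 1).negOnePow * (e' + 1).negOnePow) •
        ((F.map (pr F M (D B t htt) n e' (m + 1) (by omega))).app (E.X (-(e' + 1))) ≫
          (F.map ((F.obj (M.X (m + 1))).map (tt B t (-(e' + 1)) (-e') (by omega)))).app
            (E.X (-(e' + 1)))) := by
    rw [← NatTrans.comp_app, ← F.map_comp,
      d_pr F M (D B t htt) n (n + 1) m (m + 1) e' (e' + 1) rfl rfl (by omega) rfl]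
    simp only [↓reduceDIte, Functor.map_add, NatTrans.app_add, Functor.map_comp,
      NatTrans.comp_app, Functor.map_units_smul, NatTrans.app_units_zsmul,
      Linear.comp_units_smul, smul_smul]
  -- right side, second term
  have hR2 : (F.obj ((GD F B t htt M).X n)).map (E.d (-(e' + 1)) (-e')) ≫
      (F.map (pr F M (D B t htt) n e' (m + 1) (by omega))).app (E.X (-e')) ≫
        (adj (-e')).counit.app (M.X (m + 1)) =
      (F.map (pr F M (D B t htt) n e' (m + 1) (by omega))).app (E.X (-(e' + 1))) ≫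
        (F.map ((F.obj (M.X (m + 1))).map (tt B t (-(e' + 1)) (-e') (by omega)))).app
            (E.X (-(e' + 1))) ≫ (adj (-(e' + 1))).counit.app (M.X (m + 1)) := by
    rw [← Category.assoc,
      (F.map (pr F M (D B t htt) n e' (m + 1) (by omega))).naturality (E.d (-(e' + 1)) (-e')),
      Category.assoc]
    congr 1
    exact (mate_counit F E B adj t ht (-(e' + 1)) (-e') (by omega) (M.X (m + 1))).symm
  rw [reassoc_of% hR1, hR2]
  simp only [Preadditive.add_comp, Category.assoc, Linear.units_smul_comp]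
  have hs : (m + 1).negOnePow * (e' + 1).negOnePow = -n.negOnePow := by
    rw [← Int.negOnePow_add]
    have : m + 1 + (e' + 1) = n + 1 := by omega
    rw [this, Int.negOnePow_succ]
  rw [hs, Units.neg_smul]
  abel

/-! ### assembling -/

/-- the unit as a morphism of complexes. -/
noncomputable def unitHom (P : CochainComplex 𝒜 ℤ) : P ⟶ GD F B t htt (GE F E P) where
  f p := unitF F E a b B adj t htt P p
  comm' p p' h := unitF_comm F E a b B hB adj t htt ht P p p' h

/-- the counit as a morphism of complexes. -/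
noncomputable def counitHom (M : CochainComplex 𝒜 ℤ) : GE F E (GD F B t htt M) ⟶ M where
  f m := counitF F E B adj t htt M m
  comm' m m' h := counitF_comm F E B adj t htt ht M m m' h

/-- a term of the unit followed by the counit. -/
theorem uTerm_counit (M : CochainComplex 𝒜 ℤ) (p e n : ℤ) (h : n + e = p) :
    uTerm F E B adj t htt (GD F B t htt M) p e n h ≫
        (mapBifunctorMap (counitHom F E B adj t htt ht M) (𝟙 (D B t htt)) F
          (ComplexShape.up ℤ)).f p =
      pr F M (D B t htt) p e n h ≫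
        ιMapBifunctor M (D B t htt) F (ComplexShape.up ℤ) n e p (πe _ _ _ h) := by
  simp only [uTerm, vTerm, Category.assoc]
  rw [ι_mapBifunctorMap]
  simp only [HomologicalComplex.id_f, CategoryTheory.Functor.map_id, Category.id_comp]
  rw [← NatTrans.comp_app_assoc, ← F.map_comp]
  change (adj (-e)).unit.app _ ≫ (F.map (ιMapBifunctor (GD F B t htt M) E F (ComplexShape.up ℤ)
    p (-e) n _ ≫ counitF F E B adj t htt M n)).app (B (-e)) ≫ _ = _
  rw [ι_counitF F E B adj t htt M p e n (by omega)]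
  simp only [cTerm, Functor.map_comp, NatTrans.comp_app, Category.assoc]
  have h1 := unit_nat F E B adj (-e) (pr F M (D B t htt) p e n h)
  rw [← reassoc_of% h1]
  have h2 := right_tri F E B adj (-e) (M.X n)
  rw [reassoc_of% h2]

include hB in
/-- the right triangle identity. -/
theorem right_triangle (M : CochainComplex 𝒜 ℤ) (p : ℤ) :
    unitF F E a b B adj t htt (GD F B t htt M) p ≫
        (mapBifunctorMap (counitHom F E B adj t htt ht M) (𝟙 (D B t htt)) F
          (ComplexShape.up ℤ)).f p = 𝟙 _ := by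
  simp only [unitF, Preadditive.sum_comp]
  rw [Finset.sum_congr rfl (fun e _ => uTerm_counit F E B adj t htt ht M p e _ _)]
  exact sum_pr_ι F M (D B t htt) (-b) (-a) (fun i hi => hB _ (by omega)) p

/-- the unit followed by a projection. -/
theorem unitF_pr (P : CochainComplex 𝒜 ℤ) (p e n : ℤ) (h : n + e = p)
    (he : e ∈ Finset.Icc (-b) (-a)) :
    unitF F E a b B adj t htt P p ≫ pr F (GE F E P) (D B t htt) p e n h =
      (adj (-e)).unit.app (P.X p) ≫
        (F.map (ιMapBifunctor P E F (ComplexShape.up ℤ) p (-e) n (πe _ _ _ (by omega)))).app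
          (B (-e)) := by
  simp only [unitF, Preadditive.sum_comp]
  rw [Finset.sum_eq_single e]
  · rw [uTerm_congr F E B adj t htt P p e (p + -e) n (by omega) h]
    simp only [uTerm, vTerm, Category.assoc]
    rw [ι_pr_self]
    simp
  · intro e' _ hne
    simp only [uTerm, vTerm, Category.assoc]
    rw [ι_pr_ne F (GE F E P) (D B t htt) p e n h _ e' (by omega) hne]
    simp
  · intro h'; exact absurd he h'

include hE in
/-- the left triangle identity. -/
theorem left_triangle (P : CochainComplex 𝒜 ℤ) (n : ℤ) :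
    (mapBifunctorMap (unitHom F E a b B hB adj t htt ht P) (𝟙 E) F (ComplexShape.up ℤ)).f n ≫
      counitF F E B adj t htt (GE F E P) n = 𝟙 _ := by
  apply hom_ext_neg
  intro p e h
  by_cases he : e ∈ Finset.Icc (-b) (-a)
  · rw [ι_mapBifunctorMap_assoc]
    simp only [HomologicalComplex.id_f, CategoryTheory.Functor.map_id, Category.id_comp,
      Category.comp_id]
    rw [ι_counitF F E B adj t htt (GE F E P) p e n h]
    simp only [cTerm]
    rw [← NatTrans.comp_app_assoc, ← F.map_comp]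
    change (F.map (unitF F E a b B adj t htt P p ≫ _)).app _ ≫ _ = _
    rw [unitF_pr F E a b B adj t htt P p e n (by omega) he, F.map_comp, NatTrans.comp_app,
      Category.assoc]
    have h1 := counit_nat F E B adj (-e)
      (ιMapBifunctor P E F (ComplexShape.up ℤ) p (-e) n (πe _ _ _ h))
    rw [h1]
    have h2 := left_tri F E B adj (-e) (P.X p)
    rw [reassoc_of% h2]
  · have hz : IsZero (E.X (-e)) := by
      apply hE
      rw [Finset.mem_Icc] at he
      omega
    rw [ι_eq_zero_of_isZero F P E p (-e) n h hz]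
    simp

end main

theorem exists_adjunction
    (E : CochainComplex 𝒜 ℤ) (a b : ℤ) (hE : ∀ i : ℤ, i < a ∨ b < i → IsZero (E.X i))
    (B : ℤ → 𝒜) (hB : ∀ q : ℤ, q < a ∨ b < q → IsZero (B q))
    (adj : ∀ q : ℤ, F.flip.obj (E.X q) ⊣ F.flip.obj (B q))
    (t : ∀ q : ℤ, B (q + 1) ⟶ B q) (htt : ∀ q : ℤ, t (q + 1) ≫ t q = 0)
    (ht : ∀ q : ℤ, conjugateEquiv (adj (q + 1)) (adj q) (F.flip.map (E.d q (q + 1))) = F.flip.map (t q)) :
    ∃ D : CochainComplex 𝒜 ℤ, (∀ i : ℤ, Nonempty (D.X i ≅ B (-i))) ∧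
      Nonempty (F.map₂CochainComplex.flip.obj E ⊣ F.map₂CochainComplex.flip.obj D) := by
  refine ⟨D B t htt, fun i => ⟨Iso.refl _⟩, ⟨Adjunction.mkOfUnitCounit
    { unit :=
        { app := fun P => unitHom F E a b B hB adj t htt ht P
          naturality := ?_ }
      counit :=
        { app := fun M => counitHom F E B adj t htt ht M
          naturality := ?_ }
      left_triangle := ?_
      right_triangle := ?_ }⟩⟩
  · intro P P' f
    ext p
    exact unitF_nat F E a b B adj t htt f p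
  · intro M M' g
    ext m
    exact counitF_nat F E B adj t htt g m
  · ext P n
    simp only [Functor.comp_obj, NatTrans.comp_app, Functor.whiskerRight_app,
      Functor.associator_hom_app, Functor.whiskerLeft_app, Category.id_comp,
      HomologicalComplex.comp_f, NatTrans.id_app', HomologicalComplex.id_f]
    exact left_triangle F E a b hE B hB adj t htt ht P n
  · ext M p
    simp only [Functor.comp_obj, NatTrans.comp_app, Functor.whiskerRight_app,
      Functor.associator_inv_app, Functor.whiskerLeft_app, Category.id_comp,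
      HomologicalComplex.comp_f, NatTrans.id_app', HomologicalComplex.id_f]
    exact right_triangle F E a b B hB adj t htt ht M p

end Groth.Agent.TotAdjA
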